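import Cfsg.Agent.Lib.Blocks.LocalRing

/-!
Existence of a `p`-modular ideal.
-/

set_option autoImplicit false

namespace Cfsg.Agent.Lib.Blocks

open Cfsg

theorem exists_isPModular {p : ℕ} (hp : p.Prime) : ∃ M : Ideal AlgInt, IsPModular p M := by
  have hne : Ideal.span {(p : AlgInt)} ≠ ⊤ := by
    intro h
    rw [Ideal.span_singleton_eq_top, isUnit_iff_exists_inv] at h
    obtain ⟨b, hb⟩ := h
    have hb' : (p : ℂ) * (b : ℂ) = 1 := by
      have := congrArg Subtype.val hb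
      push_cast at this
      exact this
    have hq : IsIntegral ℤ ((((p : ℚ)⁻¹ : ℚ)) : ℂ) := by
      have : (((p : ℚ)⁻¹ : ℚ) : ℂ) = (b : ℂ) := by
        push_cast
        exact inv_eq_of_mul_eq_one_right hb'
      rw [this]; exact b.2
    have hq' : IsIntegral ℤ ((p : ℚ)⁻¹) :=
      (isIntegral_algHom_iff (Rat.castHom ℂ).toIntAlgHom (Rat.castHom ℂ).injective).1 hq
    obtain ⟨z, hz⟩ := IsIntegrallyClosed.isIntegral_iff.1 hq'
    rw [eq_intCast] at hz
    have hp0 : (p : ℚ) ≠ 0 := by exact_mod_cast hp.ne_zero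
    have h1 : (z : ℚ) * p = 1 := by rw [hz, inv_mul_cancel₀ hp0]
    have h2 : z * (p : ℤ) = 1 := by exact_mod_cast h1
    exact hp.not_dvd_one (by
      exact_mod_cast (Dvd.intro_left z h2 : (p : ℤ) ∣ 1))
  obtain ⟨M, hM, hle⟩ := Ideal.exists_le_maximal _ hne
  exact ⟨M, hp, hM, hle (Ideal.mem_span_singleton_self _)⟩

end Cfsg.Agent.Lib.Blocks
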