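import Cfsg.Agent.Lib.Blocks.Sections
import Mathlib.GroupTheory.Sylow

/-!
# Defect groups, the min-max theorem, degrees in a block
-/

set_option autoImplicit false
set_option linter.unusedSectionVars false
set_option linter.style.haveILetI false

namespace Cfsg.Agent.Lib.Blocks

open Cfsg Cfsg.Agent.Lib.Characters
open scoped ComplexConjugate

universe u

/-! ### Sylow subgroups of subgroups -/

section Sylow

variable {G : Type u} [Group G] {p : ℕ}

/-- A Sylow subgroup of a subgroup, as a subgroup of `G`. -/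
abbrev sylowSub {H : Subgroup G} (P : Sylow p H) : Subgroup G :=
  (P : Subgroup H).map H.subtype

theorem sylowSub_le {H : Subgroup G} (P : Sylow p H) : sylowSub P ≤ H :=
  Subgroup.map_subtype_le _

theorem isPGroup_sylowSub {H : Subgroup G} (P : Sylow p H) : IsPGroup p (sylowSub P) :=
  P.isPGroup'.map _

theorem card_sylowSub [Finite G] [Fact p.Prime] {H : Subgroup G} (P : Sylow p H) :
    Nat.card (sylowSub P) = p ^ (Nat.card H).factorization p := by
  rw [← P.card_eq_multiplicity]
  exact Nat.card_congr ((P : Subgroup H).equivMapOfInjective _ H.subtype_injective).symm.toEquiv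

/-- `R` is conjugate to a subgroup of `Q`. -/
def IsConjLE (R Q : Subgroup G) : Prop := ∃ g : G, R.map (MulAut.conj g).toMonoidHom ≤ Q

theorem isConjLE_of_le {R Q : Subgroup G} (h : R ≤ Q) : IsConjLE R Q :=
  ⟨1, by rintro _ ⟨x, hx, rfl⟩; simpa using h hx⟩

theorem IsConjLE.trans {R Q S : Subgroup G} (h : IsConjLE R Q) (h' : IsConjLE Q S) :
    IsConjLE R S := by
  obtain ⟨a, ha⟩ := h
  obtain ⟨b, hb⟩ := h'
  refine ⟨b * a, ?_⟩
  rintro _ ⟨x, hx, rfl⟩
  refine hb ⟨a * x * a⁻¹, ha ⟨x, hx, rfl⟩, ?_⟩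
  simp [mul_assoc]

theorem isConjLE_of_map_conj {R Q : Subgroup G} (a : G)
    (h : R ≤ Q.map (MulAut.conj a).toMonoidHom) : IsConjLE R Q := by
  refine ⟨a⁻¹, ?_⟩
  rintro _ ⟨x, hx, rfl⟩
  obtain ⟨y, hy, rfl⟩ := h hx
  simpa [mul_assoc] using hy

theorem card_map_conj (R : Subgroup G) (a : G) :
    Nat.card (R.map (MulAut.conj a).toMonoidHom) = Nat.card R :=
  (Nat.card_congr (R.equivMapOfInjective _ (MulAut.conj a).injective).toEquiv).symm

theorem IsConjLE.card_le [Finite G] {R Q : Subgroup G} (h : IsConjLE R Q) :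
    Nat.card R ≤ Nat.card Q := by
  obtain ⟨a, ha⟩ := h
  rw [← card_map_conj R a]
  exact Subgroup.card_le_of_le ha

theorem IsConjLE.exists_eq [Finite G] {R Q : Subgroup G} (h : IsConjLE R Q)
    (hc : Nat.card Q ≤ Nat.card R) : ∃ a : G, R.map (MulAut.conj a).toMonoidHom = Q := by
  obtain ⟨a, ha⟩ := h
  exact ⟨a, Subgroup.eq_of_le_of_card_ge ha (by rwa [card_map_conj])⟩

/-- A `p`-subgroup of `H` is conjugate into any Sylow subgroup of `H`. -/
theorem exists_conj_le_sylowSub [Finite G] [Fact p.Prime] {H : Subgroup G} (P : Sylow p H)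
    {R : Subgroup G} (hR : IsPGroup p R) (hRH : R ≤ H) :
    ∃ h ∈ H, R.map (MulAut.conj h).toMonoidHom ≤ sylowSub P := by
  have hR' : IsPGroup p (R.subgroupOf H) :=
    hR.of_equiv (Subgroup.subgroupOfEquivOfLe hRH).symm
  obtain ⟨Q, hQ⟩ := hR'.exists_le_sylow
  obtain ⟨h, hh⟩ := MulAction.exists_smul_eq H Q P
  refine ⟨h, h.2, ?_⟩
  rintro _ ⟨x, hx, rfl⟩
  refine ⟨h * ⟨x, hRH hx⟩ * h⁻¹, ?_, rfl⟩
  rw [← hh, Sylow.coe_subgroup_smul]
  exact ⟨⟨x, hRH hx⟩, hQ (Subgroup.mem_subgroupOf.2 hx), by simp⟩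

theorem isConjLE_sylowSub [Finite G] [Fact p.Prime] {H : Subgroup G} (P : Sylow p H)
    {R : Subgroup G} (hR : IsPGroup p R) (hRH : R ≤ H) : IsConjLE R (sylowSub P) :=
  let ⟨h, _, hh⟩ := exists_conj_le_sylowSub P hR hRH
  ⟨h, hh⟩

theorem le_centralizer_singleton_iff {R : Subgroup G} {g : G} :
    R ≤ Subgroup.centralizer ({g} : Set G) ↔ g ∈ Subgroup.centralizer (R : Set G) := by
  simp only [SetLike.le_def, Subgroup.mem_centralizer_iff, Set.mem_singleton_iff, forall_eq,
    SetLike.mem_coe]
  exact ⟨fun h a ha => (h ha).symm, fun h a ha => (h a ha).symm⟩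

theorem mem_centralizer_sylowSub {g : G}
    (P : Sylow p (Subgroup.centralizer ({g} : Set G))) :
    g ∈ Subgroup.centralizer (sylowSub P : Set G) :=
  le_centralizer_singleton_iff.1 (sylowSub_le P)

/-- If a conjugate of `g` centralises the `p`-group `R` then `R` is conjugate into a Sylow
subgroup of `C(g)`. -/
theorem isConjLE_of_conj_centralizes [Finite G] [Fact p.Prime] {g x : G}
    (P : Sylow p (Subgroup.centralizer ({g} : Set G))) {R : Subgroup G} (hR : IsPGroup p R)
    (hgx : IsConj g x) (hx : x ∈ Subgroup.centralizer (R : Set G)) : IsConjLE R (sylowSub P) := by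
  obtain ⟨c, rfl⟩ := isConj_iff.1 hgx
  have hle : R.map (MulAut.conj c⁻¹).toMonoidHom ≤ Subgroup.centralizer ({g} : Set G) := by
    rw [le_centralizer_singleton_iff, Subgroup.mem_centralizer_iff]
    rintro _ ⟨a, ha, rfl⟩
    have h := congrArg (fun t => c⁻¹ * t * c) (Subgroup.mem_centralizer_iff.1 hx a ha)
    simp only [mul_assoc, inv_mul_cancel_left] at h
    simp only [MulEquiv.coe_toMonoidHom, MulAut.conj_apply, inv_inv, mul_assoc]
    simpa using h
  exact (IsConjLE.trans ⟨c⁻¹, le_rfl⟩ (isConjLE_sylowSub P (hR.map _) hle))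

end Sylow

variable {G : Type u} [Group G] [Fintype G] {M : Ideal AlgInt} [hMp : M.IsPrime] {p : ℕ}

/-! ### Functions supported below a `p`-subgroup -/

/-- `f` vanishes modulo `M` on the centraliser of every `p`-subgroup not conjugate into `Q`. -/
def SupportedBelow (p : ℕ) (M : Ideal AlgInt) (Q : Subgroup G) (f : G → ℂ) : Prop :=
  ∀ R : Subgroup G, IsPGroup p R → ¬ IsConjLE R Q →
    ∀ x ∈ Subgroup.centralizer (R : Set G), MemLocalIdeal M (f x)

theorem supportedBelow_classIndicator [Fact p.Prime] (g : G)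
    (P : Sylow p (Subgroup.centralizer ({g} : Set G))) :
    SupportedBelow p M (sylowSub P) (classIndicator g) := by
  intro R hR hn x hx
  unfold classIndicator
  rw [if_neg (fun h => hn (isConjLE_of_conj_centralizes P hR h hx))]
  exact memLocalIdeal_zero

theorem SupportedBelow.conv_right (hM : IsPModular p M) {Q : Subgroup G} {f f' : G → ℂ}
    (hs : SupportedBelow p M Q f) (hf : IsRCentral M f) (hf' : IsRCentral M f') :
    SupportedBelow p M Q (conv f f') := by
  classical
  intro R hR hn y hy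
  have h := trunc_conv_congr hM R hR hf.2 hf'.2 (isPInv_of_isClassFunction R hf.1)
    (isPInv_of_isClassFunction R hf'.1) y
  rw [trunc_of_mem hy] at h
  refine (memLocalIdeal_iff_of_sub h).2 (memLocalIdeal_sum _ fun x _ => ?_)
  refine memLocalIdeal_mul_right ?_ (memLocalRing_trunc hf'.2 _)
  by_cases hx : x ∈ Subgroup.centralizer (R : Set G)
  · rw [trunc_of_mem hx]; exact hs R hR hn x hx
  · rw [trunc_of_notMem hx]; exact memLocalIdeal_zero

/-- **Min-max principle**: the idempotent of `B` is supported below the defect group of any class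
with nonzero central character. -/
theorem supportedBelow_blockCoeff (hM : IsPModular p M) {B : Set (IrrCharacter G)}
    (hB : IsPBlock M B) {Q : Subgroup G} {f : G → ℂ} (hf : IsRCentral M f)
    (hs : SupportedBelow p M Q f) {χ₀ : IrrCharacter G} (hχ₀ : χ₀ ∈ B)
    (hω : ¬ MemLocalIdeal M (omega (χ₀ : G → ℂ) f)) :
    SupportedBelow p M Q (blockCoeff B) := by
  classical
  set e := blockCoeff B with he_def
  have he := isRCentral_blockCoeff hM hB
  set w := omega (χ₀ : G → ℂ) f with hw
  have hwR := memLocalRing_omega hf χ₀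
  let q : G → ℂ := w⁻¹ • conv f e
  have hq : IsRCentral M q := (hf.conv he).smul (memLocalRing_inv hwR hω)
  have hqs : SupportedBelow p M Q q := fun R hR hn x hx =>
    memLocalIdeal_mul_left (memLocalRing_inv hwR hω)
      (SupportedBelow.conv_right hM hs hf he R hR hn x hx)
  let z : G → ℂ := e - q
  have hz : IsRCentral M z := he.sub hq
  have hωz : ∀ η : IrrCharacter G, omega (η : G → ℂ) z =
      (if η ∈ B then 1 else 0) * (1 - w⁻¹ * omega (η : G → ℂ) f) := by
    intro η
    rw [omega_sub, omega_smul, omega_conv η.2 hf.1, omega_blockCoeff]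
    split_ifs <;> ring
  obtain ⟨N, hN⟩ := exists_convPow_memLocalIdeal hM hz fun η => by
    rw [hωz]
    split_ifs with hη
    · rw [one_mul, show (1 : ℂ) - w⁻¹ * omega (η : G → ℂ) f =
          w⁻¹ * (w - omega (η : G → ℂ) f) by
        rw [mul_sub, inv_mul_cancel₀ (ne_zero_of_not_memLocalIdeal hω)]]
      exact memLocalIdeal_mul_left (memLocalRing_inv hwR hω)
        (omega_congr_of_sameBlock (IsPBlock.sameBlock hB hχ₀ hη) hf)
    · rw [zero_mul]; exact memLocalIdeal_zero
  let s : G → ℂ := ∑ i ∈ Finset.range N, convPow z i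
  have hsR : IsRCentral M s := IsRCentral.sum _ fun i _ => isRCentral_convPow hz i
  have hdecomp : e = conv q s + conv (convPow z N) e := by
    have hzN := isRCentral_convPow hz N
    refine ext_omega he.1 ((hq.conv hsR).add (hzN.conv he)).1 fun η => ?_
    rw [omega_add, omega_conv η.2 hq.1, omega_conv η.2 hzN.1, omega_sum,
      omega_convPow η.2 hz.1]
    simp only [omega_convPow η.2 hz.1, hωz, q, omega_smul, omega_conv η.2 hf.1, he_def,
      omega_blockCoeff]
    split_ifs with hη
    · simp only [one_mul, mul_one]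
      have hgs := mul_geom_sum (1 - w⁻¹ * omega (η : G → ℂ) f) N
      linear_combination hgs
    · simp
  intro R hR hn x hx
  rw [hdecomp, Pi.add_apply]
  refine memLocalIdeal_add (SupportedBelow.conv_right hM hqs hq hsR R hR hn x hx)
    (memLocalIdeal_sum _ fun y _ => ?_)
  exact memLocalIdeal_mul_right (hN N le_rfl y) (he.2 _)

theorem supportedBelow_sylowSub_of_omega (hM : IsPModular p M) {B : Set (IrrCharacter G)}
    (hB : IsPBlock M B) {h : G} (P : Sylow p (Subgroup.centralizer ({h} : Set G)))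
    {χ : IrrCharacter G} (hχ : χ ∈ B) (hω : ¬ MemLocalIdeal M (centralChar (χ : G → ℂ) h)) :
    SupportedBelow p M (sylowSub P) (blockCoeff B) := by
  haveI := Fact.mk hM.1
  refine supportedBelow_blockCoeff hM hB (isRCentral_classIndicator h)
    (supportedBelow_classIndicator h P) hχ ?_
  rwa [omega_classIndicator (irr_isClassFunction χ)]

/-- A class with unit coefficient has defect group inside the one of a defect class. -/
theorem isConjLE_of_coeff (hM : IsPModular p M) {B : Set (IrrCharacter G)} (hB : IsPBlock M B)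
    {g : G} (hg : IsDefectClass M B g) (D : Sylow p (Subgroup.centralizer ({g} : Set G)))
    {h : G} {R : Subgroup G} (hR : IsPGroup p R) (hRh : h ∈ Subgroup.centralizer (R : Set G))
    (hh : ¬ MemLocalIdeal M (blockCoeff B h)) : IsConjLE R (sylowSub D) := by
  obtain ⟨χ, hχ⟩ := IsPBlock.nonempty hB
  by_contra hn
  exact hh (supportedBelow_sylowSub_of_omega hM hB D hχ (hg.2.2 χ hχ) R hR hn h hRh)

/-- The defect group of a defect class lies in that of a class with nonzero central character. -/
theorem isConjLE_of_omega (hM : IsPModular p M) {B : Set (IrrCharacter G)} (hB : IsPBlock M B)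
    {g : G} (hg : IsDefectClass M B g) (D : Sylow p (Subgroup.centralizer ({g} : Set G)))
    {h : G} (Q : Sylow p (Subgroup.centralizer ({h} : Set G)))
    {χ : IrrCharacter G} (hχ : χ ∈ B) (hω : ¬ MemLocalIdeal M (centralChar (χ : G → ℂ) h)) :
    IsConjLE (sylowSub D) (sylowSub Q) := by
  by_contra hn
  exact hg.2.1 (supportedBelow_sylowSub_of_omega hM hB Q hχ hω _ (isPGroup_sylowSub D) hn g
    (mem_centralizer_sylowSub D))

/-- Defect groups exist. -/
theorem exists_isDefectGroup (hM : IsPModular p M) {B : Set (IrrCharacter G)}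
    (hB : IsPBlock M B) : ∃ D : Subgroup G, IsDefectGroup p M B D := by
  obtain ⟨g, hg⟩ := exists_isDefectClass hM hB
  obtain ⟨P⟩ : Nonempty (Sylow p (Subgroup.centralizer ({g} : Set G))) := inferInstance
  exact ⟨_, g, hg, P, rfl⟩

theorem IsDefectGroup.isPGroup {B : Set (IrrCharacter G)} {D : Subgroup G}
    (hD : IsDefectGroup p M B D) : IsPGroup p D := by
  obtain ⟨g, -, P, rfl⟩ := hD
  exact isPGroup_sylowSub P

theorem IsDefectGroup.isConjLE (hM : IsPModular p M) {B : Set (IrrCharacter G)}
    (hB : IsPBlock M B) {D E : Subgroup G} (hD : IsDefectGroup p M B D)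
    (hE : IsDefectGroup p M B E) : IsConjLE D E := by
  obtain ⟨g, hg, P, rfl⟩ := hD
  obtain ⟨h, hh, Q, rfl⟩ := hE
  exact isConjLE_of_coeff hM hB hh Q (isPGroup_sylowSub P) (mem_centralizer_sylowSub P) hg.2.1

theorem IsDefectGroup.exists_map_conj_eq (hM : IsPModular p M) {B : Set (IrrCharacter G)}
    (hB : IsPBlock M B) {D E : Subgroup G} (hD : IsDefectGroup p M B D)
    (hE : IsDefectGroup p M B E) : ∃ a : G, D.map (MulAut.conj a).toMonoidHom = E :=
  (IsDefectGroup.isConjLE hM hB hD hE).exists_eq (IsDefectGroup.isConjLE hM hB hE hD).card_le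

theorem centralizer_conj_singleton (a g : G) :
    Subgroup.centralizer ({a * g * a⁻¹} : Set G) =
      (Subgroup.centralizer ({g} : Set G)).map (MulAut.conj a).toMonoidHom := by
  ext x
  simp only [Subgroup.mem_map, Subgroup.mem_centralizer_iff, Set.mem_singleton_iff, forall_eq,
    MulEquiv.coe_toMonoidHom, MulAut.conj_apply]
  constructor
  · intro h
    refine ⟨a⁻¹ * x * a, ?_, by group⟩
    have h' := congrArg (fun t => a⁻¹ * t * a) h
    simp only [mul_assoc, inv_mul_cancel_left] at h'
    simpa [mul_assoc] using h'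
  · rintro ⟨y, hy, rfl⟩
    rw [show a * g * a⁻¹ * (a * y * a⁻¹) = a * (g * y) * a⁻¹ by group, hy]
    group

theorem centralChar_conj (χ : IrrCharacter G) (a g : G) :
    centralChar (χ : G → ℂ) (a * g * a⁻¹) = centralChar (χ : G → ℂ) g := by
  rw [← omega_classIndicator (irr_isClassFunction χ),
    ← omega_classIndicator (irr_isClassFunction χ)]
  congr 1
  funext x
  have : IsConj (a * g * a⁻¹) x ↔ IsConj g x :=
    ⟨fun h => (isConj_iff.2 ⟨a, rfl⟩ : IsConj g _).trans h,
      fun h => (isConj_iff.2 ⟨a, rfl⟩ : IsConj g _).symm.trans h⟩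
  simp only [classIndicator]
  split_ifs with h1 h2 h2 <;> first | rfl | exact absurd (this.1 h1) h2 | exact absurd (this.2 h2) h1

theorem IsDefectClass.conjugate {B : Set (IrrCharacter G)} {g : G} (hg : IsDefectClass M B g)
    (a : G) : IsDefectClass M B (a * g * a⁻¹) := by
  refine ⟨?_, ?_, fun χ hχ => ?_⟩
  · rw [isClassFunction_blockCoeff B g a]; exact hg.1
  · rw [isClassFunction_blockCoeff B g a]; exact hg.2.1
  · rw [centralChar_conj]; exact hg.2.2 χ hχ

theorem IsDefectGroup.map_conj [Fact p.Prime] {B : Set (IrrCharacter G)} {D : Subgroup G}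
    (hD : IsDefectGroup p M B D) (a : G) :
    IsDefectGroup p M B (D.map (MulAut.conj a).toMonoidHom) := by
  obtain ⟨g, hg, P, rfl⟩ := hD
  refine ⟨a * g * a⁻¹, IsDefectClass.conjugate hg a, ?_⟩
  set D' := (sylowSub P).map (MulAut.conj a).toMonoidHom
  have hle : D' ≤ Subgroup.centralizer ({a * g * a⁻¹} : Set G) := by
    rw [centralizer_conj_singleton]
    exact Subgroup.map_mono (sylowSub_le P)
  obtain ⟨Q⟩ : Nonempty (Sylow p (Subgroup.centralizer ({a * g * a⁻¹} : Set G))) := inferInstance
  have hpg : IsPGroup p D' := (isPGroup_sylowSub P).map _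
  obtain ⟨Q', hQ'⟩ := (hpg.of_equiv (Subgroup.subgroupOfEquivOfLe hle).symm).exists_le_sylow
  refine ⟨Q', Subgroup.eq_of_le_of_card_ge ?_ ?_⟩
  · intro x hx
    exact ⟨⟨x, hle hx⟩, hQ' (Subgroup.mem_subgroupOf.2 hx), rfl⟩
  · show Nat.card (sylowSub Q') ≤ Nat.card D'
    rw [card_sylowSub, card_map_conj, card_sylowSub, centralizer_conj_singleton, card_map_conj]

/-! ### Degrees -/

theorem charDegree_eq (χ : IrrCharacter G) :
    ((charDegree (χ : G → ℂ) : ℕ) : ℂ) = (χ : G → ℂ) 1 := by
  obtain ⟨n, -, hn, -⟩ := IsIrrCharacter.exists_degree_dvd χ.2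
  rw [charDegree, hn, Complex.natCast_re, Nat.floor_natCast]

theorem charDegree_pos (χ : IrrCharacter G) : 0 < charDegree (χ : G → ℂ) := by
  obtain ⟨n, hn0, hn, -⟩ := IsIrrCharacter.exists_degree_dvd χ.2
  rw [charDegree, hn, Complex.natCast_re, Nat.floor_natCast]
  exact hn0

theorem charDegree_dvd_card (χ : IrrCharacter G) : charDegree (χ : G → ℂ) ∣ Nat.card G := by
  obtain ⟨n, -, hn, hd⟩ := IsIrrCharacter.exists_degree_dvd χ.2
  rw [charDegree, hn, Complex.natCast_re, Nat.floor_natCast]
  exact hd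

/-- A natural number is a power of `p` times a natural number prime to `p`. -/
theorem exists_eq_pow_mul (hp : p.Prime) {n : ℕ} (hn : n ≠ 0) :
    ∃ k : ℕ, n = p ^ n.factorization p * k ∧ ¬ p ∣ k :=
  ⟨n / p ^ n.factorization p, (Nat.ordProj_mul_ordCompl_eq_self n p).symm,
    Nat.not_dvd_ordCompl hp hn⟩

/-- A nonzero central character at `g` bounds the `p`-part of the class size by the degree, and
the value is a unit when they are equal. -/
theorem degree_class_valuation (hM : IsPModular p M) (χ : IrrCharacter G) {g : G}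
    (hω : ¬ MemLocalIdeal M (centralChar (χ : G → ℂ) g)) :
    (Subgroup.centralizer ({g} : Set G)).index.factorization p ≤
        (charDegree (χ : G → ℂ)).factorization p ∧
      ((charDegree (χ : G → ℂ)).factorization p ≤
          (Subgroup.centralizer ({g} : Set G)).index.factorization p →
        ¬ MemLocalIdeal M ((χ : G → ℂ) g)) := by
  obtain ⟨k, hk, hkp⟩ :=
    exists_eq_pow_mul hM.1 (Subgroup.centralizer ({g} : Set G)).index_ne_zero_of_finite
  obtain ⟨u, hu, hup⟩ := exists_eq_pow_mul hM.1 (charDegree_pos χ).ne'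
  set m := (Subgroup.centralizer ({g} : Set G)).index.factorization p
  set v := (charDegree (χ : G → ℂ)).factorization p
  have hp0 : (p : ℂ) ≠ 0 := Nat.cast_ne_zero.2 hM.1.ne_zero
  have h1 : centralChar (χ : G → ℂ) g * ((p : ℂ) ^ v * u) = (p : ℂ) ^ m * k * (χ : G → ℂ) g := by
    have : ((p : ℂ) ^ v * u) = (χ : G → ℂ) 1 := by
      rw [← charDegree_eq χ, hu]; push_cast; rfl
    rw [this, centralChar, div_mul_cancel₀ _ (IsIrrCharacter.apply_one_ne_zero χ.2), hk]
    push_cast; rfl
  have hωR := memLocalRing_centralChar (M := M) χ g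
  have hχR : MemLocalRing M ((χ : G → ℂ) g) := memLocalRing_of_isIntegral' (isIntegral_char χ g)
  have hu' : ¬ MemLocalIdeal M ((u : ℕ) : ℂ) := fun h =>
    hup ((memLocalIdeal_natCast_iff hM u).1 h)
  have hprod := not_memLocalIdeal_mul hωR (memLocalRing_natCast u) hω hu'
  constructor
  · by_contra hlt
    obtain ⟨d, hd⟩ := Nat.exists_eq_add_of_lt (not_le.1 hlt)
    refine hprod ?_
    have h2 : centralChar (χ : G → ℂ) g * u = (p : ℂ) * ((p : ℂ) ^ d * k * (χ : G → ℂ) g) := by
      apply mul_left_cancel₀ (pow_ne_zero v hp0)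
      rw [hd, pow_succ, pow_add] at h1
      linear_combination h1
    rw [h2]
    exact memLocalIdeal_of_p_mul hM (memLocalRing_mul (memLocalRing_mul
      (memLocalRing_pow (memLocalRing_natCast p) d) (memLocalRing_natCast k)) hχR)
  · intro hle hval
    obtain ⟨d, hd⟩ := Nat.exists_eq_add_of_le hle
    refine hprod ?_
    have h2 : centralChar (χ : G → ℂ) g * u = ((p : ℂ) ^ d * k) * (χ : G → ℂ) g := by
      apply mul_left_cancel₀ (pow_ne_zero v hp0)
      rw [hd, pow_add] at h1
      linear_combination h1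
    rw [h2]
    exact memLocalIdeal_mul_left (memLocalRing_mul (memLocalRing_pow (memLocalRing_natCast p) d)
      (memLocalRing_natCast k)) hval

/-- The average of a character over a coset `c D` with `c` centralising `D` is integral. -/
theorem isIntegral_sum_coset_div {χ : G → ℂ} (hχ : IsCharacter G χ) (D : Subgroup G)
    [Fintype D] {c : G} (hc : c ∈ Subgroup.centralizer (D : Set G)) :
    IsIntegral ℤ ((∑ d : D, χ (c * (d : G))) / (Nat.card D : ℂ)) := by
  classical
  obtain ⟨n, ρ, rfl⟩ := hχ
  let π : Module.End ℂ (Fin n → ℂ) := (Nat.card D : ℂ)⁻¹ • ∑ d : D, ρ (d : G)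
  have hD : (Nat.card D : ℂ) ≠ 0 := natCard_ne_zero_complex
  have hρπ : ∀ d : D, ρ (d : G) * π = π := by
    intro d
    simp only [π, mul_smul_comm, Finset.mul_sum, ← map_mul]
    congr 1
    exact Fintype.sum_equiv (Equiv.mulLeft d) _ _ fun x => by simp
  have hππ : π * π = π := by
    conv_lhs =>
      arg 1
      simp only [π]
    rw [smul_mul_assoc, Finset.sum_mul, Finset.sum_congr rfl fun d _ => hρπ d, Finset.sum_const,
      Finset.card_univ, ← Nat.cast_smul_eq_nsmul ℂ, smul_smul, ← Nat.card_eq_fintype_card,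
      inv_mul_cancel₀ hD, one_smul]
  have hfπ : ρ c * π = π * ρ c := by
    simp only [π, mul_smul_comm, smul_mul_assoc, Finset.mul_sum, Finset.sum_mul, ← map_mul]
    congr 1
    refine Finset.sum_congr rfl fun d _ => congrArg ρ ?_
    exact ((Subgroup.mem_centralizer_iff.1 hc) d d.2).symm
  have htr : LinearMap.trace ℂ _ (ρ c * π) =
      (∑ d : D, ρ.character (c * (d : G))) / (Nat.card D : ℂ) := by
    simp only [π, mul_smul_comm, Finset.mul_sum, map_smul, map_sum, ← map_mul, smul_eq_mul]
    rw [div_eq_inv_mul, Finset.mul_sum]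
    rfl
  rw [← htr]
  let T : Module.End ℂ (Fin n → ℂ) := ρ c * π + (1 - π)
  have hpowfac : ∀ k : ℕ, T ^ k = ρ c ^ k * π + (1 - π) := by
    intro k
    induction k with
    | zero => simp
    | succ k ih =>
      have hck : ρ c ^ k * π = π * ρ c ^ k := ((show Commute (ρ c) π from hfπ).pow_left k).eq
      have e1 : ρ c ^ k * π * (ρ c * π) = ρ c ^ (k + 1) * π := by
        rw [pow_succ, mul_assoc, ← mul_assoc π, ← hfπ, mul_assoc (ρ c), hππ, ← mul_assoc]
      have e2 : ρ c ^ k * π * (1 - π) = 0 := by rw [mul_assoc, mul_sub, mul_one, hππ, sub_self,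
        mul_zero]
      have e3 : (1 - π) * (ρ c * π) = 0 := by
        rw [sub_mul, one_mul, ← mul_assoc, ← hfπ, mul_assoc, hππ, sub_self]
      have e4 : (1 - π) * (1 - π) = 1 - π := by rw [mul_sub, mul_one, sub_mul, one_mul, hππ]; abel
      rw [pow_succ, ih, add_mul, mul_add, mul_add, e1, e2, e3, e4, add_zero, zero_add]
  have hint1 : IsIntegral ℤ (LinearMap.trace ℂ _ T) :=
    isIntegral_trace_of_pow_eq_one T (orderOf_pos c).ne' (by
      rw [hpowfac, ← map_pow, pow_orderOf_eq_one, map_one, one_mul]; abel)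
  have hproj : LinearMap.IsProj (LinearMap.range π) π :=
    ⟨fun x => LinearMap.mem_range_self π x, fun x ⟨y, hy⟩ => by
      rw [← hy, ← Module.End.mul_apply, hππ]⟩
  have hsplit : LinearMap.trace ℂ _ (ρ c * π) = LinearMap.trace ℂ _ T -
      ((n : ℂ) - (Module.finrank ℂ (LinearMap.range π) : ℂ)) := by
    rw [show T = ρ c * π + (1 - π) from rfl, map_add, map_sub, hproj.trace, LinearMap.trace_one,
      Module.finrank_fin_fun]
    ring
  rw [hsplit]
  refine hint1.sub (IsIntegral.sub ?_ ?_)
  · exact isIntegral_algebraMap (R := ℤ) (x := (n : ℤ))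
  · exact isIntegral_algebraMap (R := ℤ) (x := (Module.finrank ℂ (LinearMap.range π) : ℤ))

/-- Some degree in `B` has `p`-part at most that of the size of a class with unit coefficient. -/
theorem exists_degree_le_of_coeff (hM : IsPModular p M) {B : Set (IrrCharacter G)}
    (hB : IsPBlock M B) {g : G} (hg : ¬ MemLocalIdeal M (blockCoeff B g)) :
    ∃ η ∈ B, (charDegree (η : G → ℂ)).factorization p ≤
      (Subgroup.centralizer ({g} : Set G)).index.factorization p := by
  classical
  haveI := Fact.mk hM.1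
  haveI := Fintype.ofFinite (IrrCharacter G)
  by_contra hcon
  simp only [not_exists, not_and, not_le] at hcon
  have hreg : ¬ p ∣ orderOf g := fun h =>
    hg (by rw [blockCoeff_eq_zero_of_dvd hM hB h]; exact memLocalIdeal_zero)
  obtain ⟨P⟩ : Nonempty (Sylow p (Subgroup.centralizer ({g} : Set G))) := inferInstance
  set D := sylowSub P
  haveI := Fintype.ofFinite D
  have hgD : g ∈ Subgroup.centralizer (D : Set G) := mem_centralizer_sylowSub P
  have hS : ∑ d : D, blockCoeff B (g * (d : G)) = blockCoeff B g := by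
    rw [Finset.sum_eq_single (1 : D)]
    · simp
    · intro d _ hd
      apply blockCoeff_eq_zero_of_dvd hM hB
      have hcomm : Commute g (d : G) := (Subgroup.mem_centralizer_iff.1 hgD d d.2).symm
      obtain ⟨k, hk⟩ := IsPGroup.iff_orderOf.1 (isPGroup_sylowSub P) d
      have hk' : orderOf (d : G) = p ^ k := by rw [Subgroup.orderOf_coe]; exact hk
      have hk0 : k ≠ 0 := by
        rintro rfl
        rw [pow_zero, orderOf_eq_one_iff] at hk
        exact hd hk
      rw [hcomm.orderOf_mul_eq_mul_orderOf_of_coprime, hk']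
      · exact dvd_mul_of_dvd_right (dvd_pow_self p hk0) _
      · rw [hk']; exact ((hM.1.coprime_iff_not_dvd.2 hreg).symm).pow_right k
    · simp
  have hgi : g⁻¹ ∈ Subgroup.centralizer (D : Set G) := inv_mem hgD
  let a : IrrCharacter G → ℂ := fun η =>
    (∑ d : D, (η : G → ℂ) (g⁻¹ * (d : G))) / (Nat.card D : ℂ)
  have hD0 : (Nat.card D : ℂ) ≠ 0 := natCard_ne_zero_complex
  have hmain : (Nat.card G : ℂ) * blockCoeff B g =
      (Nat.card D : ℂ) * ∑ η : IrrCharacter G, (if η ∈ B then (η : G → ℂ) 1 * a η else 0) := by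
    rw [← hS]
    simp only [blockCoeff_eq_finsum_inv, finsum_irr_eq_sum_ite, Finset.mul_sum]
    rw [Finset.sum_comm]
    refine Finset.sum_congr rfl fun η _ => ?_
    split_ifs with hη
    · simp only [a]
      rw [← mul_assoc, mul_comm (Nat.card D : ℂ), mul_assoc, mul_div_cancel₀ _ hD0, Finset.mul_sum]
      refine Fintype.sum_equiv (Equiv.inv D) _ _ fun d => ?_
      rw [← mul_assoc, mul_inv_cancel₀ natCard_ne_zero_complex, one_mul]
      congr 1
      have hcomm := Subgroup.mem_centralizer_iff.1 hgD d d.2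
      congr 1
      simp only [Equiv.inv_apply, Subgroup.coe_inv]
      rw [← mul_inv_rev, hcomm]
    · simp
  obtain ⟨j, hj, hjp⟩ :=
    exists_eq_pow_mul hM.1 (Subgroup.centralizer ({g} : Set G)).index_ne_zero_of_finite
  obtain ⟨i, hi, hip⟩ := exists_eq_pow_mul hM.1
    (Nat.card_pos (α := Subgroup.centralizer ({g} : Set G))).ne'
  set m := (Subgroup.centralizer ({g} : Set G)).index.factorization p
  have hcardG : (Nat.card G : ℂ) = (p : ℂ) ^ m * j * ((Nat.card D : ℂ) * i) := by
    rw [← Subgroup.index_mul_card (Subgroup.centralizer ({g} : Set G)), hj,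
      show Nat.card D = p ^ (Nat.card (Subgroup.centralizer ({g} : Set G))).factorization p from
        card_sylowSub P, Nat.cast_mul, hi]
    push_cast
    rw [← hi]
  have hp0 : (p : ℂ) ≠ 0 := Nat.cast_ne_zero.2 hM.1.ne_zero
  have hstep : ((j * i : ℕ) : ℂ) * blockCoeff B g =
      ∑ η : IrrCharacter G, (if η ∈ B then (η : G → ℂ) 1 / (p : ℂ) ^ m * a η else 0) := by
    apply mul_left_cancel₀ (mul_ne_zero (pow_ne_zero m hp0) hD0)
    rw [Finset.mul_sum]
    rw [hcardG, Finset.mul_sum] at hmain
    push_cast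
    rw [← mul_assoc, show (p : ℂ) ^ m * (Nat.card D : ℂ) * ((j : ℂ) * (i : ℂ)) =
      (p : ℂ) ^ m * (j : ℂ) * ((Nat.card D : ℂ) * (i : ℂ)) by ring, hmain]
    refine Finset.sum_congr rfl fun η _ => ?_
    split_ifs
    · field_simp
    · simp
  have hL : ¬ MemLocalIdeal M (((j * i : ℕ) : ℂ) * blockCoeff B g) :=
    not_memLocalIdeal_mul (memLocalRing_natCast _) ((isRCentral_blockCoeff hM hB).2 g)
      (fun h => ((hM.1.dvd_mul).1 ((memLocalIdeal_natCast_iff hM _).1 h)).elim hjp hip) hg
  apply hL
  rw [hstep]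
  refine memLocalIdeal_sum _ fun η _ => ?_
  split_ifs with hη
  · obtain ⟨u, hu, -⟩ := exists_eq_pow_mul hM.1 (charDegree_pos η).ne'
    obtain ⟨d, hd⟩ := Nat.exists_eq_add_of_lt (hcon η hη)
    rw [hd] at hu
    have : (η : G → ℂ) 1 / (p : ℂ) ^ m = (p : ℂ) * ((p : ℂ) ^ d * u) := by
      rw [← charDegree_eq η, hu]
      push_cast
      field_simp
      ring
    rw [this]
    exact memLocalIdeal_mul_right (memLocalIdeal_of_p_mul hM
      (memLocalRing_mul (memLocalRing_pow (memLocalRing_natCast p) d) (memLocalRing_natCast u)))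
      (memLocalRing_of_isIntegral' (isIntegral_sum_coset_div (irr_isCharacter η) D hgi))
  · exact memLocalIdeal_zero

/-- The least `p`-part of a degree in `B` is that of the size of a defect class. -/
theorem sInf_degree_eq_of_defectClass (hM : IsPModular p M) {B : Set (IrrCharacter G)}
    (hB : IsPBlock M B) {g : G} (hg : IsDefectClass M B g) :
    sInf ((fun χ : IrrCharacter G => (charDegree (χ : G → ℂ)).factorization p) '' B) =
      (Subgroup.centralizer ({g} : Set G)).index.factorization p := by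
  obtain ⟨η, hη, hle⟩ := exists_degree_le_of_coeff hM hB hg.2.1
  apply le_antisymm
  · exact le_trans (Nat.sInf_le (Set.mem_image_of_mem _ hη)) hle
  · refine le_csInf ⟨_, Set.mem_image_of_mem _ hη⟩ ?_
    rintro _ ⟨χ, hχ, rfl⟩
    exact (degree_class_valuation hM χ (hg.2.2 χ hχ)).1

/-- The order of a defect group. -/
theorem IsDefectGroup.card_eq (hM : IsPModular p M) {B : Set (IrrCharacter G)}
    (hB : IsPBlock M B) {D : Subgroup G} (hD : IsDefectGroup p M B D) :
    Nat.card D = p ^ blockDefect p B := by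
  haveI := Fact.mk hM.1
  obtain ⟨g, hg, P, rfl⟩ := hD
  show Nat.card (sylowSub P) = _
  rw [card_sylowSub, blockDefect, sInf_degree_eq_of_defectClass hM hB hg,
    ← Subgroup.index_mul_card (Subgroup.centralizer ({g} : Set G)),
    Nat.factorization_mul (Subgroup.index_ne_zero_of_finite) Nat.card_pos.ne', Finsupp.add_apply,
    Nat.add_sub_cancel_left]

/-- Characters of height zero exist. -/
theorem exists_blockHeight_eq_zero {B : Set (IrrCharacter G)} (hB : IsPBlock M B) :
    ∃ χ ∈ B, blockHeight p B (χ : G → ℂ) = 0 := by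
  obtain ⟨χ, hχ, he⟩ := Nat.sInf_mem ((IsPBlock.nonempty hB).image
    (fun χ : IrrCharacter G => (charDegree (χ : G → ℂ)).factorization p))
  refine ⟨χ, hχ, ?_⟩
  dsimp only at he
  rw [blockHeight, he, Nat.sub_self]

/-- The degree of a height zero character. -/
theorem factorization_degree_of_height_zero (hM : IsPModular p M) {B : Set (IrrCharacter G)}
    (hB : IsPBlock M B) {g : G} (hg : IsDefectClass M B g) {χ : IrrCharacter G} (hχ : χ ∈ B)
    (h0 : blockHeight p B (χ : G → ℂ) = 0) :
    (charDegree (χ : G → ℂ)).factorization p =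
      (Subgroup.centralizer ({g} : Set G)).index.factorization p := by
  refine le_antisymm ?_ (degree_class_valuation hM χ (hg.2.2 χ hχ)).1
  rw [← sInf_degree_eq_of_defectClass hM hB hg]
  rw [blockHeight, Nat.sub_eq_zero_iff_le] at h0
  exact h0

/-- A height zero character is a unit at a defect class. -/
theorem not_memLocalIdeal_apply_of_height_zero (hM : IsPModular p M) {B : Set (IrrCharacter G)}
    (hB : IsPBlock M B) {g : G} (hg : IsDefectClass M B g) {χ : IrrCharacter G} (hχ : χ ∈ B)
    (h0 : blockHeight p B (χ : G → ℂ) = 0) : ¬ MemLocalIdeal M ((χ : G → ℂ) g) :=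
  (degree_class_valuation hM χ (hg.2.2 χ hχ)).2
    (factorization_degree_of_height_zero hM hB hg hχ h0).le

end Cfsg.Agent.Lib.Blocks
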