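import Cfsg.Agent.Lib.Blocks.Covering
import Cfsg.Agent.Lib.Blocks.Defect

/-!
# Blocks of defect zero
-/

set_option autoImplicit false
set_option linter.unusedSectionVars false
set_option linter.style.haveILetI false

namespace Cfsg.Agent.Lib.Blocks

open Cfsg Cfsg.Agent.Lib.Characters
open scoped ComplexConjugate

universe u

variable {G : Type u} [Group G] [Fintype G] {M : Ideal AlgInt} [hMp : M.IsPrime] {p : ℕ}

/-- A character vanishing on `p`-singular elements has degree divisible by the Sylow order. -/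
theorem card_sylow_dvd_degree_of_vanish [Fact p.Prime] (χ : IrrCharacter G)
    (hv : ∀ x : G, p ∣ orderOf x → (χ : G → ℂ) x = 0) (P : Sylow p G) :
    Nat.card P ∣ charDegree (χ : G → ℂ) := by
  haveI := Fintype.ofFinite (P : Subgroup G)
  obtain ⟨k, hk⟩ := IsCharacter.exists_classInner_nat
    (IsCharacter.restrict (irr_isCharacter χ) (P : Subgroup G))
    (irr_isCharacter (trivIrr ↥(P : Subgroup G)))
  refine ⟨k, ?_⟩
  have h : classInner (fun x : (P : Subgroup G) => (χ : G → ℂ) x)
      (trivIrr ↥(P : Subgroup G) : ↥(P : Subgroup G) → ℂ) =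
      (Nat.card P : ℂ)⁻¹ * (χ : G → ℂ) 1 := by
    rw [classInner, Finset.sum_eq_single (1 : (P : Subgroup G))]
    · simp
    · intro x _ hx
      obtain ⟨i, hi⟩ := IsPGroup.iff_orderOf.1 P.2 x
      have hi0 : i ≠ 0 := by
        rintro rfl
        rw [pow_zero, orderOf_eq_one_iff] at hi
        exact hx hi
      rw [hv (x : G) (by rw [Subgroup.orderOf_coe, hi]; exact dvd_pow_self p hi0), zero_mul]
    · simp
  rw [hk, eq_inv_mul_iff_mul_eq₀ natCard_ne_zero_complex, ← charDegree_eq χ] at h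
  exact_mod_cast h.symm

/-- A character with `p ∤ |G|/χ(1)` is alone in its block. -/
theorem blockOf_eq_singleton (hM : IsPModular p M) (χ : IrrCharacter G)
    (h : ¬ p ∣ Nat.card G / charDegree (χ : G → ℂ)) : blockOf M (χ : G → ℂ) = {χ} := by
  refine Set.Subset.antisymm (blockOf_subset_of_isRCentral ⟨isClassFunction_blockCoeff _,
    fun x => ?_⟩ rfl) (Set.singleton_subset_iff.2 (self_mem_blockOf χ))
  obtain ⟨n, hn⟩ := charDegree_dvd_card χ
  rw [hn, Nat.mul_div_cancel_left n (charDegree_pos χ)] at h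
  have hn0 : (n : ℂ) ≠ 0 := Nat.cast_ne_zero.2 fun h0 => h (h0 ▸ dvd_zero p)
  rw [blockCoeff_eq_finsum_inv, finsum_mem_singleton, hn, Nat.cast_mul, charDegree_eq,
    show ((χ : G → ℂ) 1 * (n : ℂ))⁻¹ * ((χ : G → ℂ) 1 * (χ : G → ℂ) x⁻¹) =
      (n : ℂ)⁻¹ * (χ : G → ℂ) x⁻¹ by
      have := IsIrrCharacter.apply_one_ne_zero χ.2
      field_simp]
  exact memLocalRing_mul (memLocalRing_inv_natCast hM h)
    (memLocalRing_of_isIntegral' (isIntegral_char χ _))

/-- A singleton block vanishes on `p`-singular elements. -/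
theorem eq_zero_of_blockOf_eq_singleton (hM : IsPModular p M) (χ : IrrCharacter G)
    (h : blockOf M (χ : G → ℂ) = {χ}) {x : G} (hx : p ∣ orderOf x) : (χ : G → ℂ) x = 0 := by
  have h1 := finsum_regular_singular_eq_zero hM (isPBlock_blockOf (M := M) χ) (g := (1 : G))
    (by rw [orderOf_one, Nat.dvd_one]; exact hM.1.ne_one) hx
  rw [h, finsum_mem_singleton] at h1
  simpa using (mul_eq_zero.1 h1).resolve_left (IsIrrCharacter.apply_one_ne_zero χ.2)

/-- A character vanishing on `p`-singular elements has `p ∤ |G|/χ(1)`. -/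
theorem not_dvd_card_div_of_vanish [hp : Fact p.Prime] (χ : IrrCharacter G)
    (hv : ∀ x : G, p ∣ orderOf x → (χ : G → ℂ) x = 0) :
    ¬ p ∣ Nat.card G / charDegree (χ : G → ℂ) := by
  obtain ⟨P⟩ : Nonempty (Sylow p G) := inferInstance
  intro hd
  obtain ⟨n, hn⟩ := charDegree_dvd_card χ
  rw [hn, Nat.mul_div_cancel_left n (charDegree_pos χ)] at hd
  obtain ⟨k, hk⟩ := card_sylow_dvd_degree_of_vanish χ hv P
  obtain ⟨j, rfl⟩ := hd
  rw [hk, Sylow.card_eq_multiplicity] at hn
  have : p ^ ((Nat.card G).factorization p + 1) ∣ Nat.card G :=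
    ⟨k * j, by rw [pow_succ]; linarith [hn]⟩
  exact (Nat.pow_succ_factorization_not_dvd Nat.card_pos.ne' hp.out) this

end Cfsg.Agent.Lib.Blocks
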