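import Cfsg.Agent.Lib.Blocks.Quotient
import Cfsg.Agent.Lib.Blocks.DefectZero

/-!
# Blocks of `P C(P)` with defect group `P`
-/

set_option autoImplicit false
set_option linter.unusedSectionVars false
set_option linter.style.haveILetI false

namespace Cfsg.Agent.Lib.Blocks

open Cfsg Cfsg.Agent.Lib.Characters
open scoped ComplexConjugate

universe u

variable {G : Type u} [Group G] [Fintype G] {M : Ideal AlgInt} [hMp : M.IsPrime] {p : ℕ}

/-- An element commuting with a normal subgroup acts on each homogeneous character by scalars. -/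
theorem char_mul_of_commute {χ : IrrCharacter G} (P : Subgroup G) [P.Normal] [Fintype P]
    {ζ : IrrCharacter P} (hinv : ∀ g : G, conjFun P g (ζ : P → ℂ) = (ζ : P → ℂ))
    (hcon : classInner (fun u : P => (χ : G → ℂ) u) (ζ : P → ℂ) ≠ 0) {y : G}
    (hy : y ∈ Subgroup.centralizer (P : Set G)) (u : P) :
    (χ : G → ℂ) ((u : G) * y) * (ζ : P → ℂ) 1 = (ζ : P → ℂ) u * (χ : G → ℂ) y := by
  classical
  haveI := Fintype.ofFinite (IrrCharacter P)
  obtain ⟨n, ρ, -, hρ⟩ := χ.2
  have hres := restrict_eq_smul_of_invariant P χ.2 ζ.2 hinv hcon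
  let φ : P → ℂ := fun w => (χ : G → ℂ) ((w : G) * y)
  have hφc : IsClassFunction P φ := by
    intro a b
    show (χ : G → ℂ) (((b * a * b⁻¹ : P) : G) * y) = _
    rw [show ((b * a * b⁻¹ : P) : G) * y = (b : G) * ((a : G) * y) * (b : G)⁻¹ by
      simp only [Subgroup.coe_mul, Subgroup.coe_inv, mul_assoc]
      rw [show y * (b : G)⁻¹ = (b : G)⁻¹ * y from
        (mem_centralizer_subgroup_iff.1 hy _ (inv_mem b.2)).symm], irr_isClassFunction χ]
  have hzero : ∀ η : IrrCharacter P, η ≠ ζ → classInner φ (η : P → ℂ) = 0 := by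
    intro η hη
    let T : Module.End ℂ (Fin n → ℂ) :=
      ∑ w : P, blockCoeff ({η} : Set (IrrCharacter P)) w • ρ (w : G)
    have hTT : T * T = T := by
      simp only [T, Finset.sum_mul, Finset.mul_sum, smul_mul_smul_comm, ← map_mul]
      conv_rhs => rw [← blockCoeff_conv_self ({η} : Set (IrrCharacter P))]
      simp only [conv, Finset.sum_smul]
      rw [Finset.sum_comm (f := fun x i => (blockCoeff ({η} : Set (IrrCharacter P)) i *
        blockCoeff {η} (i⁻¹ * x)) • ρ ((x : P) : G))]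
      conv_lhs => rw [Finset.sum_comm]
      refine Finset.sum_congr rfl fun a _ => ?_
      refine Fintype.sum_equiv (Equiv.mulLeft a) _ _ fun b => ?_
      simp [Subgroup.coe_mul]
    have htr : LinearMap.trace ℂ _ T = 0 := by
      have h0 : omega (ζ : P → ℂ) (blockCoeff ({η} : Set (IrrCharacter P))) = 0 := by
        rw [omega_blockCoeff, if_neg fun h => hη (Set.mem_singleton_iff.1 h).symm]
      rw [omega, div_eq_zero_iff] at h0
      simp only [T, map_sum, map_smul, smul_eq_mul]
      show ∑ w : P, blockCoeff {η} w * ρ.character (w : G) = 0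
      have hval : ∀ w : P, (χ : G → ℂ) (w : G) =
          classInner (fun u : P => (χ : G → ℂ) u) (ζ : P → ℂ) * (ζ : P → ℂ) w := fun w =>
        (congrFun hres w).trans rfl
      rw [hρ, Finset.sum_congr rfl fun w _ => (congrArg (blockCoeff {η} w * ·) (hval w)).trans
        (mul_left_comm _ _ _), ← Finset.mul_sum,
        h0.resolve_right (IsIrrCharacter.apply_one_ne_zero ζ.2), mul_zero]
    have hT0 : T = 0 := by
      have hproj : LinearMap.IsProj (LinearMap.range T) T :=
        ⟨fun x => LinearMap.mem_range_self T x, fun x ⟨z, hz⟩ => by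
          rw [← hz, ← Module.End.mul_apply, hTT]⟩
      rw [hproj.trace, Nat.cast_eq_zero] at htr
      exact LinearMap.range_eq_bot.1 (Submodule.finrank_eq_zero.1 htr)
    have h := congrArg (fun S => LinearMap.trace ℂ (Fin n → ℂ) (S * ρ y)) hT0
    simp only [T, Finset.sum_mul, smul_mul_assoc, ← map_mul, map_sum, map_smul, smul_eq_mul,
      zero_mul, map_zero] at h
    change ∑ w : P, blockCoeff {η} w * ρ.character ((w : G) * y) = 0 at h
    rw [hρ] at h
    simp only [blockCoeff_singleton] at h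
    rw [classInner]
    have hne : (η : P → ℂ) 1 ≠ 0 := IsIrrCharacter.apply_one_ne_zero η.2
    apply mul_left_cancel₀ hne
    rw [mul_zero, ← h, Finset.mul_sum, Finset.mul_sum]
    exact Finset.sum_congr rfl fun w _ => by simp only [φ]; ring
  have hdec := eq_sum_classInner hφc
  rw [Finset.sum_eq_single ζ (fun η _ hη => by rw [hzero η hη, zero_smul]) (by simp)] at hdec
  have h1 := congrFun hdec 1
  have hu := congrFun hdec u
  simp only [φ, Pi.smul_apply, smul_eq_mul, OneMemClass.coe_one, one_mul] at h1 hu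
  rw [hu, h1]
  ring

variable {P : Subgroup G}

/-- If `P C(P) = G` then regular elements centralise `P`. -/
theorem mem_centralizer_of_regular (hp : p.Prime) (hP : IsPGroup p P) [hn : P.Normal]
    (hG : P ⊔ Subgroup.centralizer (P : Set G) = ⊤) {y : G} (hy : ¬ p ∣ orderOf y) :
    y ∈ Subgroup.centralizer (P : Set G) := by
  haveI := Fact.mk hp
  obtain ⟨a, ha, c, hc, hac⟩ :=
    Subgroup.mem_sup_of_normal_right.1 (show y ∈ P ⊔ Subgroup.centralizer (P : Set G) from
      hG ▸ Subgroup.mem_top y)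
  rw [← QuotientGroup.eq_one_iff]
  set f := QuotientGroup.mk' (Subgroup.centralizer (P : Set G))
  have hfy : f y = f a := by
    rw [← hac, map_mul, show f c = 1 from (QuotientGroup.eq_one_iff c).2 hc, mul_one]
  obtain ⟨k, hk⟩ := IsPGroup.iff_orderOf.1 hP ⟨a, ha⟩
  rw [Subgroup.orderOf_mk] at hk
  have h1 : orderOf (f y) ∣ p ^ k := hfy ▸ hk ▸ orderOf_map_dvd f a
  have h2 : orderOf (f y) ∣ orderOf y := orderOf_map_dvd f y
  exact orderOf_eq_one_iff.1 (Nat.eq_one_of_dvd_one
    (((hp.coprime_iff_not_dvd.2 hy).pow_left k) ▸ Nat.dvd_gcd h1 h2 :))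

/-- Sums of functions supported on the `P`-sections. -/
theorem sum_eq_sum_sections [Fintype P] (hp : p.Prime) (hP : IsPGroup p P)
    (hC : ∀ y : G, ¬ p ∣ orderOf y → y ∈ Subgroup.centralizer (P : Set G)) (F : G → ℂ)
    (hF : ∀ x u, IsPPart p x u → u ∉ P → F x = 0) :
    ∑ x, F x = ∑ u : P, ∑ y : {y : G // ¬ p ∣ orderOf y}, F ((u : G) * y) := by
  classical
  haveI := Fact.mk hp
  rw [← Fintype.sum_prod_type']
  have hpart : ∀ (u : P) (y : {y : G // ¬ p ∣ orderOf y}),
      IsPPart p ((u : G) * (y : G)) (u : G) := by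
    intro u y
    obtain ⟨k, hk⟩ := IsPGroup.iff_orderOf.1 hP u
    exact ⟨y, rfl, mem_centralizer_subgroup_iff.1 (hC _ y.2) _ u.2,
      ⟨k, by rwa [Subgroup.orderOf_coe]⟩, y.2⟩
  refine (Finset.sum_of_injOn (fun q : P × {y : G // ¬ p ∣ orderOf y} => (q.1 : G) * (q.2 : G))
    (fun q _ q' _ he => ?_) (fun _ _ => Finset.mem_coe.2 (Finset.mem_univ _))
    (fun x _ hx => ?_) fun q _ => rfl).symm
  · have he' : (q.1 : G) * (q.2 : G) = (q'.1 : G) * (q'.2 : G) := he
    have h1 := isPPart_unique hp (hpart q.1 q.2) (he' ▸ hpart q'.1 q'.2)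
    rw [h1] at he'
    exact Prod.ext (Subtype.ext h1) (Subtype.ext (mul_left_cancel he'))
  · obtain ⟨u, hu⟩ := exists_isPPart hp x
    refine hF x u hu fun huP => hx ?_
    obtain ⟨y, hxy, -, -, hy⟩ := hu
    exact ⟨(⟨u, huP⟩, ⟨y, hy⟩), Finset.mem_coe.2 (Finset.mem_univ _), hxy⟩

end Cfsg.Agent.Lib.Blocks
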