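import Cfsg.Agent.Lib.Blocks.CoverIdem
import Mathlib.Combinatorics.Pigeonhole

/-!
# A nilpotence criterion in group algebras graded by a quotient
-/

set_option autoImplicit false

namespace Cfsg.Agent.Lib.Blocks.CoverIdem

open MonoidAlgebra

variable {k : Type*} [Field k] {G : Type*} [Group G] [Fintype G] (N : Subgroup G) [hN : N.Normal]
  [Fintype N]

/-- The elements supported on one coset of `N`. -/
noncomputable def coset (t : G ⧸ N) : AddSubmonoid (MonoidAlgebra k G) :=
  AddSubmonoid.closure {x | ∃ g : G, ∃ c : k, (g : G ⧸ N) = t ∧ single g c = x}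

theorem mul_mem_coset {s t : G ⧸ N} {a b : MonoidAlgebra k G} (ha : a ∈ coset N s)
    (hb : b ∈ coset N t) : a * b ∈ coset N (s * t) := by
  induction ha using AddSubmonoid.closure_induction with
  | zero => rw [zero_mul]; exact zero_mem _
  | add x y _ _ hx hy => rw [add_mul]; exact add_mem hx hy
  | mem x hx =>
    obtain ⟨g, c, hg, rfl⟩ := hx
    induction hb using AddSubmonoid.closure_induction with
    | zero => rw [mul_zero]; exact zero_mem _
    | add u v _ _ hu hv => rw [mul_add]; exact add_mem hu hv
    | mem y hy =>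
      obtain ⟨h, d, hh, rfl⟩ := hy
      rw [single_mul_single]
      exact AddSubmonoid.subset_closure ⟨g * h, c * d, by rw [← hg, ← hh]; rfl, rfl⟩

theorem incl_proj_of_coset {a : MonoidAlgebra k G} (ha : a ∈ coset N (1 : G ⧸ N)) :
    incl N (proj N a) = a := by
  induction ha using AddSubmonoid.closure_induction with
  | zero => simp
  | add x y _ _ hx hy => simp only [map_add, hx, hy]
  | mem x hx =>
    obtain ⟨g, c, hg, rfl⟩ := hx
    rw [proj_single_of_mem N ((QuotientGroup.eq_one_iff g).1 hg), incl, mapDomainRingHom_apply,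
      mapDomain_single]
    rfl

theorem proj_of_coset_ne {t : G ⧸ N} (ht : t ≠ 1) {a : MonoidAlgebra k G}
    (ha : a ∈ coset N t) : proj N a = 0 := by
  induction ha using AddSubmonoid.closure_induction with
  | zero => simp
  | add x y _ _ hx hy => simp only [map_add, hx, hy, add_zero]
  | mem x hx =>
    obtain ⟨g, c, hg, rfl⟩ := hx
    exact proj_single_of_notMem N (fun h => ht (hg ▸ (QuotientGroup.eq_one_iff g).2 h)) c

theorem component_mem (a : MonoidAlgebra k G) (t : G ⧸ N) :
    incl N (proj N (a * single (Quotient.out t)⁻¹ 1)) * single (Quotient.out t) 1 ∈ coset N t := by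
  generalize proj N (a * single (Quotient.out t)⁻¹ 1) = r
  induction r using MonoidAlgebra.induction_linear with
  | zero => simp
  | add x y hx hy => rw [map_add, add_mul]; exact add_mem hx hy
  | single n c =>
    rw [incl, mapDomainRingHom_apply, mapDomain_single, single_mul_single]
    refine AddSubmonoid.subset_closure ⟨_, _, ?_, rfl⟩
    rw [Subgroup.coe_subtype, QuotientGroup.mk_mul, (QuotientGroup.eq_one_iff _).2 n.2, one_mul]
    exact QuotientGroup.out_eq' t

variable [Fintype (G ⧸ N)] {u : G ⧸ N → MonoidAlgebra k G} (hu : ∀ t, u t ∈ coset N t)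

include hu in
theorem prod_mem_coset (w : List (G ⧸ N)) : (w.map u).prod ∈ coset N w.prod := by
  induction w with
  | nil =>
    rw [List.map_nil, List.prod_nil, List.prod_nil, MonoidAlgebra.one_def]
    exact AddSubmonoid.subset_closure ⟨1, 1, rfl, rfl⟩
  | cons t w ih =>
    rw [List.map_cons, List.prod_cons, List.prod_cons]
    exact mul_mem_coset N (hu t) ih

variable (J : Ideal (MonoidAlgebra k N))

include hu in
theorem exists_factor_of_repeat
    (hJ : ∀ t w, (t :: w).prod = (1 : G ⧸ N) → proj N ((t :: w).map u).prod ∈ J)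
    (w : List (G ⧸ N)) (c : G ⧸ N) : ∀ (m : ℕ) (s : Finset ℕ), s.card = m + 1 →
    (∀ i ∈ s, (w.take i).prod = c) → ∀ j ∈ s, (∀ i ∈ s, i ≤ j) → j ≤ w.length →
    ∃ a : MonoidAlgebra k G, ∃ r ∈ J ^ m, ((w.take j).map u).prod = a * incl N r := by
  intro m
  induction m with
  | zero =>
    intro s _ _ j _ _ _
    exact ⟨((w.take j).map u).prod, 1, by rw [Submodule.pow_zero]; exact Submodule.one_le.1 le_rfl,
      by rw [map_one, mul_one]⟩
  | succ m ih =>
    intro s hs hc j hj hmax hjl
    have hne : (s.erase j).Nonempty := by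
      rw [← Finset.card_pos, Finset.card_erase_of_mem hj, hs]; omega
    set i := (s.erase j).max' hne with hidef
    have hi : i ∈ s.erase j := Finset.max'_mem _ hne
    have hij : i < j := lt_of_le_of_ne (hmax i (Finset.mem_of_mem_erase hi)) (Finset.ne_of_mem_erase hi)
    obtain ⟨a, r, hr, he⟩ := ih (s.erase j) (by rw [Finset.card_erase_of_mem hj, hs]; rfl)
      (fun l hl => hc l (Finset.mem_of_mem_erase hl)) i hi
      (fun l hl => Finset.le_max' _ l hl) (by omega)
    set seg := (w.drop i).take (j - i) with hseg
    have htake : w.take j = w.take i ++ seg := by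
      rw [hseg, ← List.take_add]
      congr 1
      omega
    have hdeg : seg.prod = 1 := by
      have h1 := hc j hj
      rw [htake, List.prod_append, hc i (Finset.mem_of_mem_erase hi)] at h1
      simpa using h1
    obtain ⟨t, w', hw'⟩ : ∃ t w', seg = t :: w' := by
      rcases hsg : seg with _ | ⟨t, w'⟩
      · exfalso
        have hl := congrArg List.length hsg
        rw [hseg, List.length_take, List.length_drop, List.length_nil] at hl
        omega
      · exact ⟨t, w', rfl⟩
    have hsegJ : proj N (seg.map u).prod ∈ J := by rw [hw']; exact hJ t w' (hw' ▸ hdeg)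
    refine ⟨a, r * proj N (seg.map u).prod, ?_, ?_⟩
    · rw [Submodule.pow_succ]; exact Submodule.mul_mem_mul hr hsegJ
    · rw [htake, List.map_append, List.prod_append, he, map_mul,
        incl_proj_of_coset N (by have := prod_mem_coset N hu seg; rwa [hdeg] at this), mul_assoc]

include hu in
/-- If all homogeneous products of trivial degree lie in a nilpotent ideal, the sum of the
components is nilpotent. -/
theorem isNilpotent_sum (hJn : IsNilpotent J)
    (hJ : ∀ t w, (t :: w).prod = (1 : G ⧸ N) → proj N ((t :: w).map u).prod ∈ J) :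
    IsNilpotent (∑ t, u t) := by
  classical
  obtain ⟨n, hn⟩ := hJn
  refine ⟨Fintype.card (G ⧸ N) * n, ?_⟩
  have hwords : ∀ m, (∑ t, u t) ^ m ∈ AddSubmonoid.closure
      {x | ∃ w : List (G ⧸ N), w.length = m ∧ (w.map u).prod = x} := by
    intro m
    induction m with
    | zero => exact AddSubmonoid.subset_closure ⟨[], rfl, rfl⟩
    | succ m ih =>
      rw [pow_succ', Finset.sum_mul]
      refine AddSubmonoid.sum_mem _ fun t _ => ?_
      revert ih
      generalize (∑ t, u t) ^ m = z
      intro hz
      induction hz using AddSubmonoid.closure_induction with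
      | zero => rw [mul_zero]; exact zero_mem _
      | add x y _ _ hx hy => rw [mul_add]; exact add_mem hx hy
      | mem x hx =>
        obtain ⟨w, hw, rfl⟩ := hx
        exact AddSubmonoid.subset_closure ⟨t :: w, by simp [hw], by simp⟩
  refine AddSubmonoid.mem_bot.1 ((AddSubmonoid.closure_le.2 ?_) (hwords _))
  rintro _ ⟨w, hw, rfl⟩
  obtain ⟨c, -, hc⟩ := Finset.exists_lt_card_fiber_of_mul_lt_card_of_maps_to
    (s := Finset.range (w.length + 1)) (t := (Finset.univ : Finset (G ⧸ N)))
    (f := fun i => (w.take i).prod) (n := n) (fun _ _ => Finset.mem_univ _)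
    (by rw [Finset.card_univ, Finset.card_range, hw]; omega)
  obtain ⟨s, hss, hs⟩ := Finset.exists_subset_card_eq (show n + 1 ≤ _ from hc)
  have hne : s.Nonempty := by rw [← Finset.card_pos, hs]; omega
  have hmem : ∀ i ∈ s, (w.take i).prod = c := fun i hi => (Finset.mem_filter.1 (hss hi)).2
  have hjl : s.max' hne ≤ w.length := by
    have := Finset.mem_range.1 (Finset.mem_filter.1 (hss (Finset.max'_mem _ hne))).1
    omega
  obtain ⟨a, r, hr, he⟩ := exists_factor_of_repeat N hu J hJ w c n s hs hmem _
    (Finset.max'_mem _ hne) (fun i hi => Finset.le_max' _ i hi) hjl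
  rw [SetLike.mem_coe, AddSubmonoid.mem_bot, ← List.take_append_drop (s.max' hne) w, List.map_append,
    List.prod_append, he]
  rw [hn] at hr
  rw [show r = 0 from (Submodule.mem_bot _).1 hr, map_zero, mul_zero, zero_mul]

end Cfsg.Agent.Lib.Blocks.CoverIdem
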