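import Cfsg.Agent.Lib.Blocks.Covering2
import Cfsg.Agent.Lib.Blocks.GradedNil

/-!
# Defect groups of covering blocks

A block covering `b` has an `N`-invariant translate of its idempotent whose projection to `N` acts
invertibly on `b`; hence its defect groups meet `N` in defect groups of `b`.
-/

set_option autoImplicit false
set_option linter.unusedSectionVars false
set_option linter.style.haveILetI false

namespace Cfsg.Agent.Lib.Blocks

open Cfsg Cfsg.Agent.Lib.Characters

universe u

variable {G : Type u} [Group G] [Fintype G] {M : Ideal AlgInt} [hMp : M.IsPrime] {p : ℕ}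

theorem mem_jacobson_of_central_nilpotent {R : Type*} [Ring R] [IsArtinianRing R] {r : R}
    (hc : ∀ a, a * r = r * a) (hn : IsNilpotent r) : r ∈ Ring.jacobson R := by
  let q := Ideal.Quotient.mk (Ring.jacobson R)
  haveI : IsSemisimpleRing (R ⧸ Ring.jacobson R) := IsSemiprimaryRing.isSemisimpleRing
  rw [← Ideal.Quotient.eq_zero_iff_mem]
  obtain ⟨L, hL⟩ := exists_isCompl (Ideal.span {q r})
  have h1 : (1 : R ⧸ Ring.jacobson R) ∈ Ideal.span {q r} ⊔ L := by rw [hL.sup_eq_top]; trivial
  obtain ⟨a, ha, l, hl, hal⟩ := Submodule.mem_sup.1 h1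
  obtain ⟨z, rfl⟩ := Ideal.mem_span_singleton'.1 ha
  obtain ⟨z', rfl⟩ := Ideal.Quotient.mk_surjective z
  have hcm : Commute (q z') (q r) := by
    show q z' * q r = q r * q z'
    rw [← map_mul, hc, map_mul]
  have hnil : IsNilpotent (q z' * q r) := hcm.isNilpotent_mul_left (hn.map q)
  have hl1 : l = 1 - q z' * q r := by rw [← hal, add_sub_cancel_left]
  have hunit : IsUnit l := hl1 ▸ hnil.isUnit_one_sub
  have htop : L = ⊤ := Ideal.eq_top_of_isUnit_mem L hl hunit
  have h2 := hL.inf_eq_bot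
  rw [htop, inf_top_eq, Ideal.span_singleton_eq_bot] at h2
  exact h2

variable (N : Subgroup G) [hN : N.Normal] [Fintype N]

theorem isNilpotent_redAlg_mul {K : Type u} [Group K] [Fintype K] (hM : IsPModular p M)
    {A : Set (IrrCharacter K)} (hA : ∀ χ ∈ A, blockOf M (χ : K → ℂ) ⊆ A)
    {F : K → ℂ} (hF : IsRCentral M F) (hω : ∀ η ∈ A, MemLocalIdeal M (omega (η : K → ℂ) F)) :
    IsNilpotent (redAlg (blockCoeff A) (isRCentral_blockCoeff_of_closed hM hA).2 *
      redAlg F hF.2) := by
  classical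
  have he := isRCentral_blockCoeff_of_closed hM hA
  have hz := he.conv hF
  obtain ⟨n, hn⟩ := exists_convPow_memLocalIdeal hM hz fun η => by
    rw [omega_conv η.2 he.1, omega_blockCoeff]
    split_ifs with h
    · rw [one_mul]; exact hω η h
    · rw [zero_mul]; exact memLocalIdeal_zero
  rw [← redAlg_conv _ _ he.2 hF.2 hz.2]
  have hpow : ∀ m, redAlg (convPow (conv (blockCoeff A) F) m) (isRCentral_convPow hz m).2 =
      redAlg (conv (blockCoeff A) F) hz.2 ^ m := by
    intro m
    induction m with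
    | zero => rw [pow_zero]; exact redAlg_deltaOne
    | succ m ih =>
      rw [pow_succ', ← ih, ← redAlg_conv]
      rfl
  exact ⟨n, by rw [← hpow, redAlg_eq_zero_iff]; exact hn n le_rfl⟩

theorem redAlg_resFun {f : G → ℂ} (hf : ∀ x, MemLocalRing M (f x)) :
    redAlg (resFun N f) (fun n => hf n) = CoverIdem.proj N (redAlg f hf) := by
  refine MonoidAlgebra.coeff_injective (Finsupp.ext fun n => ?_)
  exact (coeff_redAlg _ _ n).trans ((CoverIdem.coeff_proj N _ n).trans (coeff_redAlg f hf (n : G))).symm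

/-- **A covering block has a translate with invertible projection to the covered block.** -/
theorem exists_translate (hM : IsPModular p M) {B : Set (IrrCharacter G)} (hB : IsPBlock M B)
    {b : Set (IrrCharacter N)} (hb : IsPBlock M b) {χ₀ : IrrCharacter G} (hχ₀ : χ₀ ∈ B)
    {θ₀ : IrrCharacter N} (hθ₀ : θ₀ ∈ b)
    (hne₀ : classInner (fun n : N => (χ₀ : G → ℂ) n) (θ₀ : N → ℂ) ≠ 0) :
    ∃ c : G → ℂ, (∀ x, MemLocalRing M (c x)) ∧ (∀ n ∈ N, ∀ x, c (n * x * n⁻¹) = c x) ∧
      ¬ MemLocalIdeal M (omega (θ₀ : N → ℂ) (resFun N (conv (blockCoeff B) c))) := by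
  classical
  by_contra hcon
  push Not at hcon
  haveI := Fintype.ofFinite (G ⧸ N)
  haveI : Module.Finite (ResField M) (MonoidAlgebra (ResField M) N) :=
    Module.Finite.equiv (MonoidAlgebra.coeffLinearEquiv (ResField M)).symm
  haveI : IsArtinianRing (MonoidAlgebra (ResField M) N) := IsArtinianRing.of_finite (ResField M) _
  have heB := isRCentral_blockCoeff hM hB
  have heb := isRCentral_blockCoeff hM hb
  set E := redAlg (blockCoeff B) heB.2 with hE
  set e := redAlg (blockCoeff b) heb.2 with he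
  set y := CoverIdem.incl N e * E with hy
  have hEc : ∀ a, E * a = a * E := redAlg_central heB
  have hec : ∀ a, e * a = a * e := redAlg_central heb
  let s : G ⧸ N → MonoidAlgebra (ResField M) G := fun t => MonoidAlgebra.single (Quotient.out t) 1
  let u : G ⧸ N → MonoidAlgebra (ResField M) G := fun t =>
    CoverIdem.incl N (CoverIdem.proj N (y * MonoidAlgebra.single (Quotient.out t)⁻¹ 1)) * s t
  have hu : ∀ t, u t ∈ CoverIdem.coset N t := fun t => CoverIdem.component_mem N y t
  have hysum : y = ∑ t, u t := CoverIdem.eq_sum_cosets N y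
  -- the components commute with `N`
  have hyc : ∀ r, y * CoverIdem.incl N r = CoverIdem.incl N r * y := fun r => by
    rw [hy, mul_assoc, hEc, ← mul_assoc, ← map_mul, hec, map_mul, mul_assoc]
  have huc : ∀ t (n : N), u t * CoverIdem.incl N (MonoidAlgebra.single n 1) =
      CoverIdem.incl N (MonoidAlgebra.single n 1) * u t := by
    intro t n
    simp only [u, s]
    rw [mul_assoc, CoverIdem.single_mul_incl, ← mul_assoc, ← mul_assoc, ← map_mul, ← map_mul,
      ← CoverIdem.proj_mul_incl, ← CoverIdem.proj_incl_mul]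
    congr 3
    have h := CoverIdem.single_mul_incl N (Quotient.out t)⁻¹ (1 : ResField M)
      (CoverIdem.conjR N (Quotient.out t) (MonoidAlgebra.single n 1))
    have h2 : CoverIdem.conjR N (Quotient.out t)⁻¹
        (CoverIdem.conjR N (Quotient.out t) (MonoidAlgebra.single n (1 : ResField M))) =
          MonoidAlgebra.single n 1 := by simp
    rw [mul_assoc, h, h2, ← mul_assoc, hyc, mul_assoc]
  let J := Ring.jacobson (MonoidAlgebra (ResField M) N)
  have hnil : IsNilpotent (∑ t, u t) := by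
    refine CoverIdem.isNilpotent_sum N hu J IsSemiprimaryRing.isNilpotent fun t w hdeg => ?_
    set R := (w.map u).prod with hR
    have hRc : R ∈ CoverIdem.coset N w.prod := CoverIdem.prod_mem_coset N hu w
    have hRcomm : ∀ n : N, R * CoverIdem.incl N (MonoidAlgebra.single n 1) =
        CoverIdem.incl N (MonoidAlgebra.single n 1) * R := by
      intro n
      rw [hR]
      clear hR hRc hdeg R
      induction w with
      | nil => simp
      | cons t' w ih => rw [List.map_cons, List.prod_cons, mul_assoc, ih, ← mul_assoc, huc, mul_assoc]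
    have hsum : CoverIdem.proj N (u t * R) = CoverIdem.proj N (y * R) := by
      rw [hysum, Finset.sum_mul, map_sum, Finset.sum_eq_single t]
      · intro t' _ hne
        refine CoverIdem.proj_of_coset_ne N (t := t' * w.prod) (fun h => hne ?_)
          (CoverIdem.mul_mem_coset N (hu t') hRc)
        rw [List.prod_cons] at hdeg
        exact mul_right_cancel (h.trans hdeg.symm)
      · simp
    -- a lift
    let c : G → ℂ := fun x => ((red_surjective (M := M) (R.coeff x)).choose : ℂ)
    have hcl : ∀ x, MemLocalRing M (c x) := fun x =>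
      (red_surjective (M := M) (R.coeff x)).choose.2
    have hcR : redAlg c hcl = R := MonoidAlgebra.coeff_injective (Finsupp.ext fun x => by
      rw [coeff_redAlg]; exact (red_surjective (M := M) (R.coeff x)).choose_spec)
    have hcN : ∀ n ∈ N, ∀ x, c (n * x * n⁻¹) = c x := by
      intro n hn x
      show ((red_surjective (M := M) (R.coeff _)).choose : ℂ) =
        ((red_surjective (M := M) (R.coeff x)).choose : ℂ)
      have h := congrArg (fun a : MonoidAlgebra (ResField M) G => a.coeff (n * x)) (hRcomm ⟨n, hn⟩)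
      simp only [CoverIdem.incl, MonoidAlgebra.mapDomainRingHom_apply,
        MonoidAlgebra.mapDomain_single, MonoidAlgebra.coeff_mul_single_apply,
        MonoidAlgebra.coeff_single_mul_apply, Subgroup.coe_subtype, mul_one, one_mul,
        inv_mul_cancel_left] at h
      congr! 3
      rw [h]
    have hF : IsRCentral M (resFun N (conv (blockCoeff B) c)) := by
      refine ⟨fun x g => ?_, fun x => memLocalRing_conv heB.2 hcl _⟩
      show conv (blockCoeff B) c ((g : G) * x * (g : G)⁻¹) = conv (blockCoeff B) c x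
      refine Fintype.sum_equiv (MulAut.conj (g : G)⁻¹).toEquiv _ _ fun z => ?_
      change _ = blockCoeff B ((g : G)⁻¹ * z * (g : G)⁻¹⁻¹) * c (((g : G)⁻¹ * z * (g : G)⁻¹⁻¹)⁻¹ * x)
      rw [heB.1 z (g : G)⁻¹, ← hcN _ g.2 (((g : G)⁻¹ * z * (g : G)⁻¹⁻¹)⁻¹ * x)]
      congr 2
      group
    have hω := hcon c hcl hcN
    have hnil' := isNilpotent_redAlg_mul hM (IsPBlock.blockOf_subset hb) hF fun η hη =>
      (memLocalIdeal_iff_of_sub (omega_congr_of_sameBlock (IsPBlock.sameBlock hb hη hθ₀) hF)).2 hω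
    have hmem := mem_jacobson_of_central_nilpotent (fun a => (mul_assoc _ _ _).symm.trans (by
      rw [← redAlg_central heb a, mul_assoc, ← redAlg_central hF a, ← mul_assoc])) hnil'
    rw [List.map_cons, List.prod_cons, hsum, hy, mul_assoc, CoverIdem.proj_incl_mul]
    rw [redAlg_resFun N (fun x => memLocalRing_conv heB.2 hcl x),
      redAlg_conv _ _ heB.2 hcl, hcR] at hmem
    exact hmem
  rw [← hysum] at hnil
  have hee : e * e = e := by
    rw [he, ← redAlg_conv _ _ heb.2 heb.2 (heb.conv heb).2, redAlg_eq_iff]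
    intro x
    rw [blockCoeff_conv_self, sub_self]
    exact memLocalIdeal_zero
  have hEE : E * E = E := by
    rw [hE, ← redAlg_conv _ _ heB.2 heB.2 (heB.conv heB).2, redAlg_eq_iff]
    intro x
    rw [blockCoeff_conv_self, sub_self]
    exact memLocalIdeal_zero
  have hidem : IsIdempotentElem y := by
    show y * y = y
    rw [hy, mul_assoc, ← mul_assoc E, hEc (CoverIdem.incl N e), mul_assoc (CoverIdem.incl N e) E E,
      hEE, ← mul_assoc, ← map_mul, hee]
  obtain ⟨m, hm⟩ := hnil
  have hy0 : y = 0 := by rw [← hidem.pow_succ_eq m, pow_succ, hm, zero_mul]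
  have h := covered_injective N hM hB hb ⟨χ₀, hχ₀, θ₀, hθ₀, hne₀⟩ (a := blockCoeff b) heb.2
    (fun n => by rw [blockCoeff_conv_self, sub_self]; exact memLocalIdeal_zero) (by
      rw [← redAlg_eq_zero_iff (memLocalRing_conv (memLocalRing_extZero N heb.2) heB.2),
        redAlg_conv _ _ (memLocalRing_extZero N heb.2) heB.2, ← incl_redAlg N heb.2]
      exact hy0)
  obtain ⟨g, hg⟩ := exists_isDefectClass hM hb
  exact hg.2.1 (h g)

/-- The idempotent of a union of blocks is the sum of the block idempotents. -/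
theorem blockCoeff_eq_sum_blocks {K : Type u} [Group K] [Fintype K]
    {A : Set (IrrCharacter K)} (hA : ∀ χ ∈ A, blockOf M (χ : K → ℂ) ⊆ A) :
    ∃ S : Finset (Set (IrrCharacter K)), (∀ B ∈ S, ∃ χ ∈ A, B = blockOf M (χ : K → ℂ)) ∧
      blockCoeff A = ∑ B ∈ S, blockCoeff B := by
  classical
  haveI := Fintype.ofFinite (IrrCharacter K)
  refine ⟨(Finset.univ.filter (· ∈ A)).image fun χ : IrrCharacter K => blockOf M (χ : K → ℂ),
    fun B hB => ?_, ?_⟩
  · obtain ⟨χ, hχ, rfl⟩ := Finset.mem_image.1 hB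
    exact ⟨χ, (Finset.mem_filter.1 hχ).2, rfl⟩
  refine ext_omega (isClassFunction_blockCoeff A) (fun x c => ?_) fun η => ?_
  · simp only [Finset.sum_apply]
    exact Finset.sum_congr rfl fun B _ => isClassFunction_blockCoeff B x c
  rw [omega_sum, omega_blockCoeff]
  by_cases hη : η ∈ A
  · rw [if_pos hη, Finset.sum_eq_single (blockOf M (η : K → ℂ))]
    · rw [omega_blockCoeff, if_pos (self_mem_blockOf η)]
    · intro B hB hne
      obtain ⟨χ, -, rfl⟩ := Finset.mem_image.1 hB
      rw [omega_blockCoeff, if_neg fun h : η ∈ blockOf M (χ : K → ℂ) =>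
        hne (blockOf_eq_of_sameBlock h)]
    · exact fun h => absurd (Finset.mem_image.2
        ⟨η, Finset.mem_filter.2 ⟨Finset.mem_univ _, hη⟩, rfl⟩) h
  · rw [if_neg hη, Finset.sum_eq_zero]
    intro B hB
    obtain ⟨χ, hχ, rfl⟩ := Finset.mem_image.1 hB
    rw [omega_blockCoeff, if_neg fun h => hη (hA χ (Finset.mem_filter.1 hχ).2 h)]

/-- Conjugate blocks have the same defect. -/
theorem blockDefect_conj {b : Set (IrrCharacter N)} (hb : IsPBlock M b) (g : G)
    {θ : IrrCharacter N} (hθ : θ ∈ b) :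
    blockDefect p (blockOf M (conjIrrN N g θ : N → ℂ)) = blockDefect p b := by
  have himg : blockOf M (conjIrrN N g θ : N → ℂ) = conjIrrN N g '' b := by
    ext φ
    constructor
    · intro h
      refine ⟨conjIrrN N g⁻¹ φ, (IsPBlock.mem_iff hb hθ).2 ?_, conjIrrN_cancel_inv N g φ⟩
      have := sameBlock_conjFun N (θ := conjIrrN N g θ) (φ := φ) h g⁻¹
      rwa [conjIrrN_inv_cancel] at this
    · rintro ⟨ψ, hψ, rfl⟩
      exact sameBlock_conjFun N (IsPBlock.sameBlock hb hθ hψ) g
  rw [himg, blockDefect, blockDefect, Set.image_image]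
  congr 3
  funext ψ
  show (charDegree (conjFun N g (ψ : N → ℂ))).factorization p = _
  rw [charDegree, conjFun_apply_one]
  rfl

/-- **Defect groups of covering blocks.** -/
theorem exists_defectGroup_inf_eq (hM : IsPModular p M) {B : Set (IrrCharacter G)}
    (hB : IsPBlock M B) {b : Set (IrrCharacter N)} (hb : IsPBlock M b)
    (hcov : ∃ χ ∈ B, ∃ θ ∈ b, classInner (fun n : N => (χ : G → ℂ) n) (θ : N → ℂ) ≠ 0)
    {Q : Subgroup G} (hQN : Q ≤ N) (hQ : IsDefectGroup p M b (Q.subgroupOf N)) :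
    ∃ P : Subgroup G, IsDefectGroup p M B P ∧ P ⊓ N = Q := by
  classical
  haveI := Fact.mk hM.1
  obtain ⟨χ₀, hχ₀, θ₀, hθ₀, hne₀⟩ := hcov
  obtain ⟨c, hcl, hcN, hω⟩ := exists_translate N hM hB hb hχ₀ hθ₀ hne₀
  have heB := isRCentral_blockCoeff hM hB
  haveI : Finite (ConjClasses N) := Finite.of_surjective _ ConjClasses.mk_surjective
  haveI := Fintype.ofFinite (ConjClasses N)
  set Z := resFun N (conv (blockCoeff B) c) with hZ
  have hZc : IsClassFunction N Z := by
    intro x g
    show conv (blockCoeff B) c ((g : G) * x * (g : G)⁻¹) = conv (blockCoeff B) c x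
    refine Fintype.sum_equiv (MulAut.conj (g : G)⁻¹).toEquiv _ _ fun z => ?_
    change _ = blockCoeff B ((g : G)⁻¹ * z * (g : G)⁻¹⁻¹) * c (((g : G)⁻¹ * z * (g : G)⁻¹⁻¹)⁻¹ * x)
    rw [heB.1 z (g : G)⁻¹, ← hcN _ g.2 (((g : G)⁻¹ * z * (g : G)⁻¹⁻¹)⁻¹ * x)]
    congr 2
    group
  obtain ⟨n, hnZ, hnω⟩ : ∃ n : N, ¬ MemLocalIdeal M (Z n) ∧
      ¬ MemLocalIdeal M (centralChar (θ₀ : N → ℂ) n) := by
    by_contra hcon
    push Not at hcon
    apply hω
    rw [omega_eq_sum_classes (irr_isClassFunction θ₀) hZc]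
    refine memLocalIdeal_sum _ fun C _ => ?_
    by_cases hc : MemLocalIdeal M (Z (Quotient.out C))
    · exact memLocalIdeal_mul_right hc (memLocalRing_centralChar θ₀ _)
    · exact memLocalIdeal_mul_left (memLocalRing_conv heB.2 hcl _) (hcon _ hc)
  -- a conjugate of `Q` fixing a class of `B`
  obtain ⟨y, hy, S, hS⟩ := id hQ
  obtain ⟨S'⟩ : Nonempty (Sylow p (Subgroup.centralizer ({n} : Set N))) := inferInstance
  obtain ⟨a, ha⟩ := isConjLE_of_omega hM hb hy S S' hθ₀ hnω
  set R := (sylowSub S').map N.subtype with hR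
  have hRp : IsPGroup p R := (isPGroup_sylowSub S').map _
  have hRN : R ≤ N := Subgroup.map_subtype_le _
  have hnR : (n : G) ∈ Subgroup.centralizer (R : Set G) := by
    rw [mem_centralizer_subgroup_iff]
    rintro _ ⟨w, hw, rfl⟩
    exact congrArg Subtype.val
      (mem_centralizer_subgroup_iff.1 (mem_centralizer_sylowSub S') w hw)
  obtain ⟨x, hxR, hxE⟩ : ∃ x ∈ Subgroup.centralizer (R : Set G),
      ¬ MemLocalIdeal M (blockCoeff B x) := by
    by_contra hcon
    push Not at hcon
    apply hnZ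
    have h := memLocalIdeal_sum_sub_sum_centralizer hM R hRp
      (fun x => blockCoeff B x * c (x⁻¹ * n))
      (fun x => memLocalRing_mul (heB.2 x) (hcl _)) (fun r hr x => by
        show blockCoeff B (r * x * r⁻¹) * c ((r * x * r⁻¹)⁻¹ * n) = _
        show _ = blockCoeff B x * c (x⁻¹ * n)
        rw [heB.1, ← hcN r (hRN hr) (x⁻¹ * n)]
        congr 2
        have hc := mem_centralizer_subgroup_iff.1 hnR r hr
        calc (r * x * r⁻¹)⁻¹ * (n : G) = r * x⁻¹ * (r⁻¹ * (n : G)) := by group
          _ = r * x⁻¹ * ((n : G) * r⁻¹) := by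
            congr 1
            rw [eq_mul_inv_iff_mul_eq, mul_assoc, ← hc, inv_mul_cancel_left]
          _ = r * (x⁻¹ * (n : G)) * r⁻¹ := by group)
    refine (memLocalIdeal_iff_of_sub h).2 (memLocalIdeal_sum _ fun x _ => ?_)
    split_ifs with hx
    · exact memLocalIdeal_mul_right (hcon x hx) (hcl _)
    · exact memLocalIdeal_zero
  obtain ⟨g, hg⟩ := exists_isDefectClass hM hB
  obtain ⟨T⟩ : Nonempty (Sylow p (Subgroup.centralizer ({g} : Set G))) := inferInstance
  obtain ⟨d, hd⟩ := isConjLE_of_coeff hM hB hg T hRp hxR hxE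
  refine ⟨_, IsDefectGroup.map_conj (⟨g, hg, T, rfl⟩ : IsDefectGroup p M B (sylowSub T))
    (d * (a : G))⁻¹, ?_⟩
  set P := (sylowSub T).map (MulAut.conj (d * (a : G))⁻¹).toMonoidHom with hP
  have hQP : Q ≤ P := by
    intro q hq
    have h1 : a * ⟨q, hQN hq⟩ * a⁻¹ ∈ sylowSub S' :=
      ha ⟨⟨q, hQN hq⟩, by rw [show sylowSub S = Q.subgroupOf N from hS.symm]; exact hq, rfl⟩
    refine ⟨d * ((a : G) * q * (a : G)⁻¹) * d⁻¹, hd ⟨_, ⟨_, h1, rfl⟩, rfl⟩, ?_⟩
    simp [mul_assoc]
  -- the intersection is no bigger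
  have hPdef : IsDefectGroup p M B P :=
    IsDefectGroup.map_conj (⟨g, hg, T, rfl⟩ : IsDefectGroup p M B (sylowSub T)) _
  obtain ⟨g', hg', T', hT'⟩ := id hPdef
  have hT'' : sylowSub T' = P := hT'.symm
  have hgP : g' ∈ Subgroup.centralizer (P : Set G) := hT'' ▸ mem_centralizer_sylowSub T'
  have heO := isRCentral_orbitIdem N hM (IsPBlock.blockOf_subset hb)
  have hconv : conv (orbitIdem N b) (blockCoeff B) = blockCoeff B := by
    refine ext_omega (isClassFunction_conv heO.1 heB.1) heB.1 fun η => ?_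
    rw [omega_conv η.2 heO.1, omega_blockCoeff]
    split_ifs with hη
    · obtain ⟨ψ, hψ⟩ := exists_constituent_restrict N η
      rw [omega_orbitIdem N b hψ, if_pos (constituent_mem_conjClosure N hM
        (IsPBlock.blockOf_subset hb) (IsPBlock.sameBlock hB hχ₀ hη) hθ₀ hne₀ hψ), one_mul]
    · rw [mul_zero]
  obtain ⟨z, hzP, hze⟩ : ∃ z ∈ Subgroup.centralizer (P : Set G),
      ¬ MemLocalIdeal M (orbitIdem N b z) := by
    by_contra hcon
    push Not at hcon
    apply hg'.2.1
    rw [← hconv]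
    have hPp : IsPGroup p P := IsDefectGroup.isPGroup hPdef
    have h := memLocalIdeal_sum_sub_sum_centralizer hM P hPp
      (fun x => orbitIdem N b x * blockCoeff B (x⁻¹ * g'))
      (fun x => memLocalRing_mul (heO.2 x) (heB.2 _)) (fun r hr x => by
        show orbitIdem N b (r * x * r⁻¹) * blockCoeff B ((r * x * r⁻¹)⁻¹ * g') = _
        show _ = orbitIdem N b x * blockCoeff B (x⁻¹ * g')
        rw [heO.1, ← heB.1 (x⁻¹ * g') r]
        congr 2
        have hc := mem_centralizer_subgroup_iff.1 hgP r hr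
        calc (r * x * r⁻¹)⁻¹ * g' = r * x⁻¹ * (r⁻¹ * g') := by group
          _ = r * x⁻¹ * (g' * r⁻¹) := by
            congr 1
            rw [eq_mul_inv_iff_mul_eq, mul_assoc, ← hc, inv_mul_cancel_left]
          _ = r * (x⁻¹ * g') * r⁻¹ := by group)
    refine (memLocalIdeal_iff_of_sub h).2 (memLocalIdeal_sum _ fun x _ => ?_)
    split_ifs with hx
    · exact memLocalIdeal_mul_right (hcon x hx) (heB.2 _)
    · exact memLocalIdeal_zero
  have hzN : z ∈ N := by_contra fun h =>
    hze (by rw [orbitIdem_of_notMem N b h]; exact memLocalIdeal_zero)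
  rw [orbitIdem, extendByZero_of_mem _ _ hzN] at hze
  have hcl' : ∀ θ ∈ conjClosure N b, blockOf M (θ : N → ℂ) ⊆ conjClosure N b := by
    rintro _ ⟨h, θ, hθ, rfl⟩ ψ hψ
    refine ⟨h, conjIrrN N h⁻¹ ψ, IsPBlock.blockOf_subset hb θ hθ ?_,
      (conjIrrN_cancel_inv N h ψ).symm⟩
    have := sameBlock_conjFun N hψ h⁻¹
    rw [conjIrrN_inv_cancel] at this
    exact this
  obtain ⟨F, hF, hFsum⟩ := blockCoeff_eq_sum_blocks (M := M) hcl'
  obtain ⟨b', hb'F, hb'z⟩ : ∃ b' ∈ F, ¬ MemLocalIdeal M (blockCoeff b' ⟨z, hzN⟩) := by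
    by_contra hcon
    push Not at hcon
    apply hze
    rw [hFsum, Finset.sum_apply]
    exact memLocalIdeal_sum _ hcon
  obtain ⟨η, ⟨h, θ, hθ, rfl⟩, rfl⟩ := hF b' hb'F
  have hb' : IsPBlock M (blockOf M (conjIrrN N h θ : N → ℂ)) := isPBlock_blockOf _
  obtain ⟨w, hw⟩ := exists_isDefectClass hM hb'
  obtain ⟨W⟩ : Nonempty (Sylow p (Subgroup.centralizer ({w} : Set N))) := inferInstance
  have hPNp : IsPGroup p ((P ⊓ N).subgroupOf N) :=
    ((IsDefectGroup.isPGroup hPdef).to_le inf_le_left).of_equiv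
      (Subgroup.subgroupOfEquivOfLe (inf_le_right : P ⊓ N ≤ N)).symm
  have hle := (isConjLE_of_coeff hM hb' hw W hPNp (h := ⟨z, hzN⟩) (by
    rw [mem_centralizer_subgroup_iff]
    intro r hr
    exact Subtype.ext (mem_centralizer_subgroup_iff.1 hzP r (Subgroup.mem_subgroupOf.1 hr).1)) hb'z).card_le
  have hWcard : Nat.card (sylowSub W) = p ^ blockDefect p b := by
    rw [IsDefectGroup.card_eq hM hb' ⟨w, hw, W, rfl⟩, blockDefect_conj N hb h hθ]
  have hQcard : Nat.card Q = p ^ blockDefect p b := by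
    rw [← IsDefectGroup.card_eq hM hb hQ,
      Nat.card_congr (Subgroup.subgroupOfEquivOfLe hQN).toEquiv]
  refine (Subgroup.eq_of_le_of_card_ge (le_inf hQP hQN) ?_).symm
  rw [Nat.card_congr (Subgroup.subgroupOfEquivOfLe (inf_le_right : P ⊓ N ≤ N)).toEquiv] at hle
  rw [hQcard, ← hWcard]
  exact hle

end Cfsg.Agent.Lib.Blocks
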