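import Cfsg.Agent.Lib.Blocks.Quotient
import Cfsg.Agent.Lib.Blocks.Covering3

/-!
# Blocks of quotient groups and defect groups
-/

set_option autoImplicit false
set_option linter.unusedSectionVars false
set_option linter.style.haveILetI false

namespace Cfsg.Agent.Lib.Blocks

open Cfsg Cfsg.Agent.Lib.Characters

universe u

variable {G : Type u} [Group G] [Fintype G] {M : Ideal AlgInt} [hMp : M.IsPrime] {p : ℕ}
variable (K : Subgroup G) [K.Normal] [Fintype (G ⧸ K)]

/-- Inflation of an irreducible character. -/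
noncomputable def inflIrr (η : IrrCharacter (G ⧸ K)) : IrrCharacter G :=
  ⟨(η : G ⧸ K → ℂ) ∘ QuotientGroup.mk' K, IsIrrCharacter.comp_surjective η.2
    (QuotientGroup.mk' K) (QuotientGroup.mk'_surjective K)⟩

theorem sameBlock_inflIrr {η η' : IrrCharacter (G ⧸ K)}
    (h : SameBlock M (η : G ⧸ K → ℂ) (η' : G ⧸ K → ℂ)) :
    SameBlock M (inflIrr K η : G → ℂ) (inflIrr K η' : G → ℂ) := fun g => by
  rw [← omega_classIndicator (irr_isClassFunction (inflIrr K η)),
    ← omega_classIndicator (irr_isClassFunction (inflIrr K η'))]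
  show MemLocalIdeal M (omega ((η : G ⧸ K → ℂ) ∘ QuotientGroup.mk' K) _ -
    omega ((η' : G ⧸ K → ℂ) ∘ QuotientGroup.mk' K) _)
  rw [omega_comp_mk', omega_comp_mk']
  exact omega_congr_of_sameBlock h (isRCentral_push K (isRCentral_classIndicator g))

/-- Pushing forward a block idempotent gives the idempotent of the characters inflating into it. -/
theorem push_blockCoeff (hM : IsPModular p M) {B : Set (IrrCharacter G)} (hB : IsPBlock M B) :
    push K (blockCoeff B) = blockCoeff {η : IrrCharacter (G ⧸ K) | inflIrr K η ∈ B} := by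
  classical
  refine ext_omega (isRCentral_push K (isRCentral_blockCoeff hM hB)).1
    (isClassFunction_blockCoeff _) fun η => ?_
  rw [← omega_comp_mk', omega_blockCoeff, show omega ((η : G ⧸ K → ℂ) ∘ QuotientGroup.mk' K)
    (blockCoeff B) = omega (inflIrr K η : G → ℂ) (blockCoeff B) from rfl, omega_blockCoeff]
  rfl

theorem blockOf_subset_infl {B : Set (IrrCharacter G)} (hB : IsPBlock M B) :
    ∀ η ∈ {η : IrrCharacter (G ⧸ K) | inflIrr K η ∈ B},
      blockOf M (η : G ⧸ K → ℂ) ⊆ {η : IrrCharacter (G ⧸ K) | inflIrr K η ∈ B} :=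
  fun _ hη _ h => (IsPBlock.mem_iff hB hη).2 (sameBlock_inflIrr K h)

/-- A Sylow subgroup of a preimage maps onto a `p`-subgroup. -/
theorem exists_map_eq [Fact p.Prime] {D : Subgroup (G ⧸ K)} (hD : IsPGroup p D) :
    ∃ R : Subgroup G, IsPGroup p R ∧ R.map (QuotientGroup.mk' K) = D := by
  classical
  obtain ⟨R⟩ : Nonempty (Sylow p (D.comap (QuotientGroup.mk' K))) := inferInstance
  let f : ↥(D.comap (QuotientGroup.mk' K)) →* ↥D :=
    (QuotientGroup.mk' K).subgroupComap D
  have hf : Function.Surjective f := fun d => by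
    obtain ⟨x, hx⟩ := QuotientGroup.mk'_surjective K (d : G ⧸ K)
    exact ⟨⟨x, show QuotientGroup.mk' K x ∈ D by rw [hx]; exact d.2⟩, Subtype.ext hx⟩
  have htop : (R.mapSurjective hf : Subgroup D) = ⊤ :=
    ((R.mapSurjective hf).is_maximal' (hD.of_equiv Subgroup.topEquiv.symm) le_top).symm
  refine ⟨(R : Subgroup ↥(D.comap (QuotientGroup.mk' K))).map (D.comap (QuotientGroup.mk' K)).subtype,
    R.isPGroup'.map _, ?_⟩
  refine le_antisymm ?_ ?_
  · rintro _ ⟨_, ⟨x, -, rfl⟩, rfl⟩
    exact x.2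
  · intro d hd
    have h : (⟨d, hd⟩ : D) ∈ (R.mapSurjective hf : Subgroup D) := htop ▸ Subgroup.mem_top _
    rw [Sylow.coe_mapSurjective] at h
    obtain ⟨x, hx, hxd⟩ := h
    exact ⟨_, ⟨x, hx, rfl⟩, congrArg Subtype.val hxd⟩

/-- Defect groups of the blocks of a quotient lift. -/
theorem exists_defectGroup_map_ge (hM : IsPModular p M) {Bbar : Set (IrrCharacter (G ⧸ K))}
    (hBbar : IsPBlock M Bbar) {B : Set (IrrCharacter G)} (hB : IsPBlock M B)
    (hsub : ∀ η ∈ Bbar, inflIrr K η ∈ B) {Dbar : Subgroup (G ⧸ K)}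
    (hD : IsDefectGroup p M Bbar Dbar) :
    ∃ P : Subgroup G, IsDefectGroup p M B P ∧ Dbar ≤ P.map (QuotientGroup.mk' K) := by
  classical
  haveI := Fact.mk hM.1
  obtain ⟨c, hc, S, hDS⟩ := id hD
  have hcD : c ∈ Subgroup.centralizer (Dbar : Set (G ⧸ K)) := by
    rw [show Dbar = sylowSub S from hDS]; exact mem_centralizer_sylowSub S
  have heq : conv (push K (blockCoeff B)) (blockCoeff Bbar) = blockCoeff Bbar := by
    rw [push_blockCoeff K hM hB]
    refine ext_omega (isClassFunction_conv (isClassFunction_blockCoeff _)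
      (isClassFunction_blockCoeff _)) (isClassFunction_blockCoeff _) fun η => ?_
    rw [omega_conv η.2 (isClassFunction_blockCoeff _), omega_blockCoeff, omega_blockCoeff]
    by_cases h : η ∈ Bbar
    · rw [if_pos h, if_pos (show η ∈ {η | inflIrr K η ∈ B} from hsub η h), mul_one]
    · rw [if_neg h, mul_zero]
  have hpB := isRCentral_push (M := M) K (isRCentral_blockCoeff hM hB)
  have hbb := isRCentral_blockCoeff hM hBbar
  obtain ⟨z, hzD, hz⟩ : ∃ z ∈ Subgroup.centralizer (Dbar : Set (G ⧸ K)),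
      ¬ MemLocalIdeal M (push K (blockCoeff B) z) := by
    by_contra hcon
    push Not at hcon
    apply hc.2.1
    rw [← heq]
    have h := memLocalIdeal_sum_sub_sum_centralizer hM Dbar (IsDefectGroup.isPGroup hD)
      (fun x => push K (blockCoeff B) x * blockCoeff Bbar (x⁻¹ * c))
      (fun x => memLocalRing_mul (hpB.2 x) (hbb.2 _)) (fun r hr x => by
        show push K (blockCoeff B) (r * x * r⁻¹) * blockCoeff Bbar ((r * x * r⁻¹)⁻¹ * c) =
          push K (blockCoeff B) x * blockCoeff Bbar (x⁻¹ * c)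
        rw [hpB.1, ← hbb.1 (x⁻¹ * c) r]
        congr 2
        have hc := mem_centralizer_subgroup_iff.1 hcD r hr
        calc (r * x * r⁻¹)⁻¹ * c = r * x⁻¹ * (r⁻¹ * c) := by group
          _ = r * x⁻¹ * (c * r⁻¹) := by
            congr 1
            rw [eq_mul_inv_iff_mul_eq, mul_assoc, ← hc, inv_mul_cancel_left]
          _ = r * (x⁻¹ * c) * r⁻¹ := by group)
    refine (memLocalIdeal_iff_of_sub h).2 (memLocalIdeal_sum _ fun x _ => ?_)
    split_ifs with hx
    · exact memLocalIdeal_mul_right (hcon x hx) (hbb.2 _)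
    · exact memLocalIdeal_zero
  obtain ⟨R, hR, hRD⟩ := exists_map_eq (p := p) K (IsDefectGroup.isPGroup hD)
  have heB := isRCentral_blockCoeff hM hB
  obtain ⟨x, hxR, hxB⟩ : ∃ x ∈ Subgroup.centralizer (R : Set G),
      ¬ MemLocalIdeal M (blockCoeff B x) := by
    by_contra hcon
    push Not at hcon
    apply hz
    have h := memLocalIdeal_sum_sub_sum_centralizer hM R hR
      (fun x => Set.indicator {x : G | QuotientGroup.mk' K x = z} (blockCoeff B) x)
      (fun x => by
        rw [Set.indicator_apply]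
        split_ifs
        exacts [heB.2 x, memLocalRing_zero]) (fun r hr x => by
        have hrz : QuotientGroup.mk' K r * z = z * QuotientGroup.mk' K r :=
          mem_centralizer_subgroup_iff.1 hzD _ (hRD ▸ ⟨r, hr, rfl⟩)
        have hiff : QuotientGroup.mk' K (r * x * r⁻¹) = z ↔ QuotientGroup.mk' K x = z := by
          rw [map_mul, map_mul, map_inv, mul_inv_eq_iff_eq_mul, ← hrz, mul_left_cancel_iff]
        simp only [Set.indicator_apply, Set.mem_ofPred_eq, hiff, heB.1 x r])
    refine (memLocalIdeal_iff_of_sub h).2 (memLocalIdeal_sum _ fun x _ => ?_)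
    split_ifs with hx
    · rw [Set.indicator_apply]
      split_ifs
      exacts [hcon x hx, memLocalIdeal_zero]
    · exact memLocalIdeal_zero
  obtain ⟨g, hg⟩ := exists_isDefectClass hM hB
  obtain ⟨T⟩ : Nonempty (Sylow p (Subgroup.centralizer ({g} : Set G))) := inferInstance
  obtain ⟨d, hd⟩ := isConjLE_of_coeff hM hB hg T hR hxR hxB
  refine ⟨_, IsDefectGroup.map_conj (⟨g, hg, T, rfl⟩ : IsDefectGroup p M B (sylowSub T)) d⁻¹, ?_⟩
  rw [← hRD]
  refine Subgroup.map_mono fun r hr => ⟨d * r * d⁻¹, hd ⟨r, hr, rfl⟩, ?_⟩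
  simp [mul_assoc]

variable {K}

/-- Modulo a normal `p`-subgroup some block has the image defect groups. -/
theorem exists_block_image_defect (hM : IsPModular p M) (hK : IsPGroup p K)
    {B : Set (IrrCharacter G)} (hB : IsPBlock M B) :
    ∃ Bbar : Set (IrrCharacter (G ⧸ K)), IsPBlock M Bbar ∧ (∀ η ∈ Bbar, inflIrr K η ∈ B) ∧
      ∀ Dbar : Subgroup (G ⧸ K), IsDefectGroup p M Bbar Dbar ↔
        ∃ P : Subgroup G, IsDefectGroup p M B P ∧ Dbar = P.map (QuotientGroup.mk' K) := by
  classical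
  haveI := Fact.mk hM.1
  obtain ⟨g, hg⟩ := exists_isDefectClass hM hB
  obtain ⟨S⟩ : Nonempty (Sylow p (Subgroup.centralizer ({g} : Set G))) := inferInstance
  have hP : IsDefectGroup p M B (sylowSub S) := ⟨g, hg, S, rfl⟩
  have hKP := le_of_isDefectGroup hM hK hB hP
  have hgK : g ∈ Subgroup.centralizer (K : Set G) :=
    le_centralizer_singleton_iff.1 (hKP.trans (sylowSub_le S))
  have hreg := IsDefectClass.regular hM hB hg
  have hCq : Subgroup.centralizer ({(QuotientGroup.mk' K) g} : Set (G ⧸ K)) = (Subgroup.centralizer ({g} : Set G)).map (QuotientGroup.mk' K) := by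
    refine le_antisymm (fun y hy => ?_) ?_
    · obtain ⟨x, rfl⟩ := QuotientGroup.mk'_surjective K y
      refine ⟨x, ?_, rfl⟩
      have h1 : (QuotientGroup.mk' K) (x * g * x⁻¹) = (QuotientGroup.mk' K) g := by
        rw [map_mul, map_mul, map_inv, mul_inv_eq_iff_eq_mul]
        exact (Subgroup.mem_centralizer_iff.1 hy ((QuotientGroup.mk' K) g) rfl).symm
      have h2 := eq_of_regular_of_commute K hM.1 hK (x := x * g * x⁻¹) hreg hgK
        (by rwa [show orderOf (x * g * x⁻¹) = orderOf g from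
          orderOf_injective (MulAut.conj x).toMonoidHom (MulAut.conj x).injective g]) h1
      refine Subgroup.mem_centralizer_iff.2 fun w hw => ?_
      rw [Set.mem_singleton_iff] at hw
      rw [hw]
      exact (mul_inv_eq_iff_eq_mul.1 h2).symm
    · rintro _ ⟨x, hx, rfl⟩
      refine Subgroup.mem_centralizer_iff.2 fun w hw => ?_
      rw [Set.mem_singleton_iff] at hw
      rw [hw, ← map_mul, ← map_mul, Subgroup.mem_centralizer_iff.1 hx g rfl]
  have hKC : (QuotientGroup.mk' K).ker ≤ (Subgroup.centralizer ({g} : Set G)) := by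
    rw [QuotientGroup.ker_mk']; exact hKP.trans (sylowSub_le S)
  have hidx : (Subgroup.centralizer ({(QuotientGroup.mk' K) g} : Set (G ⧸ K))).index = (Subgroup.centralizer ({g} : Set G)).index := by
    rw [hCq, Subgroup.index_map_eq (Subgroup.centralizer ({g} : Set G)) (QuotientGroup.mk'_surjective K) hKC]
  have hpush : push K (blockCoeff B) ((QuotientGroup.mk' K) g) = blockCoeff B g := by
    rw [push, Finset.sum_eq_single g]
    · exact Set.indicator_of_mem (s := {x : G | (QuotientGroup.mk' K) x = (QuotientGroup.mk' K) g}) rfl _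
    · intro x _ hxg
      rw [Set.indicator_apply]
      split_ifs with hx
      · exact blockCoeff_eq_zero_of_dvd hM hB (by_contra fun hr =>
          hxg (eq_of_regular_of_commute K hM.1 hK hreg hgK hr hx))
      · rfl
    · simp
  rw [push_blockCoeff K hM hB] at hpush
  obtain ⟨F, hF, hFsum⟩ := blockCoeff_eq_sum_blocks (M := M) (blockOf_subset_infl K hB)
  obtain ⟨Bbar, hBF, hBg⟩ : ∃ Bbar ∈ F, ¬ MemLocalIdeal M (blockCoeff Bbar ((QuotientGroup.mk' K) g)) := by
    by_contra hcon
    push Not at hcon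
    apply hg.2.1
    rw [← hpush, hFsum, Finset.sum_apply]
    exact memLocalIdeal_sum _ hcon
  obtain ⟨η₀, hη₀, rfl⟩ := hF Bbar hBF
  have hBbar : IsPBlock M (blockOf M (η₀ : G ⧸ K → ℂ)) := isPBlock_blockOf η₀
  have hsub : ∀ η ∈ blockOf M (η₀ : G ⧸ K → ℂ), inflIrr K η ∈ B :=
    fun η hη => blockOf_subset_infl K hB η₀ hη₀ hη
  have hdc : IsDefectClass M (blockOf M (η₀ : G ⧸ K → ℂ)) ((QuotientGroup.mk' K) g) := by
    refine ⟨(isRCentral_blockCoeff hM hBbar).2 _, hBg, fun η hη => ?_⟩
    have h := hg.2.2 _ (hsub η hη)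
    have e : centralChar (η : G ⧸ K → ℂ) ((QuotientGroup.mk' K) g) = centralChar (inflIrr K η : G → ℂ) g := by
      rw [centralChar, centralChar, hidx]
      show _ = _ * (η : G ⧸ K → ℂ) ((QuotientGroup.mk' K) g) / (η : G ⧸ K → ℂ) ((QuotientGroup.mk' K) 1)
      rw [map_one]
    rwa [e]
  obtain ⟨U⟩ : Nonempty (Sylow p (Subgroup.centralizer ({(QuotientGroup.mk' K) g} : Set (G ⧸ K)))) := inferInstance
  have hUp : IsPGroup p ((sylowSub S).map (QuotientGroup.mk' K)) := (isPGroup_sylowSub S).map _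
  have hUle : (sylowSub S).map (QuotientGroup.mk' K) ≤ Subgroup.centralizer ({(QuotientGroup.mk' K) g} : Set (G ⧸ K)) := by
    rw [hCq]; exact Subgroup.map_mono (sylowSub_le S)
  obtain ⟨U', hU'⟩ := (hUp.of_equiv (Subgroup.subgroupOfEquivOfLe hUle).symm).exists_le_sylow
  have hUeq : sylowSub U' = (sylowSub S).map (QuotientGroup.mk' K) := by
    refine (Subgroup.eq_of_le_of_card_ge (show (sylowSub S).map (QuotientGroup.mk' K) ≤ sylowSub U'
      from fun u hu => ⟨⟨u, hUle hu⟩, hU' (Subgroup.mem_subgroupOf.2 hu), rfl⟩) ?_).symm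
    rw [card_sylowSub, hCq]
    have e1 := Subgroup.card_mul_index ((Subgroup.centralizer ({g} : Set G)).map (QuotientGroup.mk' K))
    have e2 := Subgroup.card_mul_index (Subgroup.centralizer ({g} : Set G))
    have e3 := Subgroup.card_eq_card_quotient_mul_card_subgroup K
    rw [← hCq, hidx, hCq] at e1
    rw [show Nat.card (G ⧸ K) = Nat.card (G ⧸ K) from rfl] at e1
    have hCK : Nat.card (Subgroup.centralizer ({g} : Set G)) = Nat.card ((Subgroup.centralizer ({g} : Set G)).map (QuotientGroup.mk' K)) * Nat.card K := by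
      refine Nat.eq_of_mul_eq_mul_right (Nat.pos_of_ne_zero (Subgroup.centralizer ({g} : Set G)).index_ne_zero_of_finite) ?_
      rw [e2, e3, ← e1]; ring
    have hSK : Nat.card (sylowSub S) = Nat.card ((sylowSub S).map (QuotientGroup.mk' K)) * Nat.card K := by
      have h1 := Subgroup.card_mul_index ((K.subgroupOf (sylowSub S)))
      rw [Nat.card_congr (Subgroup.subgroupOfEquivOfLe hKP).toEquiv] at h1
      have h2 : (K.subgroupOf (sylowSub S)).index = Nat.card ((sylowSub S).map (QuotientGroup.mk' K)) := by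
        let r : ↥(sylowSub S) →* G ⧸ K := (QuotientGroup.mk' K).comp (sylowSub S).subtype
        have hker : r.ker = K.subgroupOf (sylowSub S) := by
          ext x; simp [r, Subgroup.mem_subgroupOf, MonoidHom.mem_ker]
        rw [← hker, Subgroup.index_ker, MonoidHom.range_comp, Subgroup.range_subtype]
      rw [← h1, h2, mul_comm]
    have hcard := card_sylowSub S
    rw [hSK, hCK, Nat.factorization_mul Nat.card_pos.ne' Nat.card_pos.ne', Finsupp.add_apply,
      pow_add] at hcard
    obtain ⟨j, hj⟩ := IsPGroup.iff_card.1 hK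
    rw [hj, hM.1.factorization_pow, Finsupp.single_eq_same] at hcard
    exact (Nat.eq_of_mul_eq_mul_right (pow_pos hM.1.pos j) hcard).ge
  have hDefect : IsDefectGroup p M (blockOf M (η₀ : G ⧸ K → ℂ)) ((sylowSub S).map (QuotientGroup.mk' K)) :=
    ⟨(QuotientGroup.mk' K) g, hdc, U', hUeq.symm⟩
  have hconj : ∀ (a : G) (P : Subgroup G), (P.map (MulAut.conj a).toMonoidHom).map (QuotientGroup.mk' K) =
      (P.map (QuotientGroup.mk' K)).map (MulAut.conj ((QuotientGroup.mk' K) a)).toMonoidHom := by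
    intro a P
    rw [Subgroup.map_map, Subgroup.map_map]
    congr 1
  refine ⟨_, hBbar, hsub, fun Dbar => ⟨fun hD => ?_, ?_⟩⟩
  · obtain ⟨c, hc⟩ := IsDefectGroup.exists_map_conj_eq hM hBbar hDefect hD
    obtain ⟨a, rfl⟩ := QuotientGroup.mk'_surjective K c
    exact ⟨_, IsDefectGroup.map_conj hP a, by rw [hconj, hc]⟩
  · rintro ⟨P, hP', rfl⟩
    obtain ⟨a, rfl⟩ := IsDefectGroup.exists_map_conj_eq hM hB hP hP'
    rw [hconj]
    exact IsDefectGroup.map_conj hDefect ((QuotientGroup.mk' K) a)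

end Cfsg.Agent.Lib.Blocks
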