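import Cfsg.Agent.Lib.Blocks.FixedSum
import Cfsg.Agent.Lib.Blocks.Defect
import Cfsg.Prelude.Def_Solvable
import Mathlib.Algebra.MonoidAlgebra.MapDomain
import Mathlib.Algebra.Field.ZMod

/-!
# Normal `p`-subgroups

A class not meeting the centraliser of a normal `p`-subgroup has nilpotent class sum in
characteristic `p`; so all central characters vanish there modulo `M`, and normal `p`-subgroups
are contained in every defect group.
-/

set_option autoImplicit false
set_option linter.unusedSectionVars false
set_option linter.style.haveILetI false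

namespace Cfsg.Agent.Lib.Blocks

open Cfsg Cfsg.Agent.Lib.Characters MonoidAlgebra

universe u

variable {G : Type u} [Group G] [Fintype G] {p : ℕ}

/-- The filtration by iterated fixed points of a subgroup acting by left multiplication. -/
noncomputable def fixFiltr (p : ℕ) (Q : Subgroup G) :
    ℕ → Submodule (ZMod p) (MonoidAlgebra (ZMod p) G)
  | 0 => ⊥
  | i + 1 => ⨅ q ∈ Q, (fixFiltr p Q i).comap
      (LinearMap.mulLeft (ZMod p) (MonoidAlgebra.single q (1 : ZMod p)) - LinearMap.id)

theorem mem_fixFiltr_succ {Q : Subgroup G} {i : ℕ} {v : MonoidAlgebra (ZMod p) G} :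
    v ∈ fixFiltr p Q (i + 1) ↔
      ∀ q ∈ Q, MonoidAlgebra.single q (1 : ZMod p) * v - v ∈ fixFiltr p Q i := by
  simp [fixFiltr, Submodule.mem_iInf]

theorem fixFiltr_le_succ (Q : Subgroup G) :
    ∀ i, fixFiltr p Q i ≤ fixFiltr p Q (i + 1)
  | 0 => bot_le
  | i + 1 => fun _ hv => mem_fixFiltr_succ.2 fun q hq =>
      fixFiltr_le_succ Q i (mem_fixFiltr_succ.1 hv q hq)

theorem single_mul_mem_fixFiltr {Q : Subgroup G} [hQ : Q.Normal] (g : G) :
    ∀ i, ∀ v ∈ fixFiltr p Q i, MonoidAlgebra.single g (1 : ZMod p) * v ∈ fixFiltr p Q i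
  | 0 => fun v hv => by
      simp only [fixFiltr, Submodule.mem_bot] at hv ⊢
      rw [hv, mul_zero]
  | i + 1 => fun v hv => by
      refine mem_fixFiltr_succ.2 fun q hq => ?_
      have h := mem_fixFiltr_succ.1 hv (g⁻¹ * q * g) (by simpa using hQ.conj_mem q hq g⁻¹)
      have h' := single_mul_mem_fixFiltr g i _ h
      rw [mul_sub, ← mul_assoc, single_mul_single, mul_one,
        show g * (g⁻¹ * q * g) = q * g by group] at h'
      rwa [← mul_assoc, single_mul_single, mul_one]

/-- The class sum in the group algebra over `ZMod p`. -/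
noncomputable def classSumMod (p : ℕ) (g : G) : MonoidAlgebra (ZMod p) G :=
  haveI := Classical.decPred (IsConj g)
  ∑ x, if IsConj g x then MonoidAlgebra.single x 1 else 0

variable [hp : Fact p.Prime]

theorem fixFiltr_lt_succ {Q : Subgroup G} [Q.Normal] (hQ : IsPGroup p Q) {i : ℕ}
    (h : fixFiltr p Q i ≠ ⊤) : fixFiltr p Q i < fixFiltr p Q (i + 1) := by
  classical
  refine lt_of_le_of_ne (fixFiltr_le_succ Q i) fun heq => ?_
  let V := MonoidAlgebra (ZMod p) G ⧸ fixFiltr p Q i
  haveI : Finite (MonoidAlgebra (ZMod p) G) :=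
    Finite.of_injective (fun v => (v.coeff : G → ZMod p)) fun a b h =>
      MonoidAlgebra.coeff_injective (DFunLike.coe_injective h)
  haveI : Finite V := Quotient.finite _
  let act : Q → V → V := fun q => (fixFiltr p Q i).mapQ (fixFiltr p Q i)
    (LinearMap.mulLeft (ZMod p) (MonoidAlgebra.single (q : G) (1 : ZMod p)))
    fun v hv => single_mul_mem_fixFiltr (q : G) i v hv
  letI : MulAction Q V :=
    { smul := act
      one_smul := fun v => by
        induction v using Submodule.Quotient.induction_on with
        | _ v =>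
          show Submodule.Quotient.mk _ = Submodule.Quotient.mk _
          simp [← MonoidAlgebra.one_def]
      mul_smul := fun a b v => by
        induction v using Submodule.Quotient.induction_on with
        | _ v =>
          show Submodule.Quotient.mk _ = Submodule.Quotient.mk _
          simp [← mul_assoc, single_mul_single] }
  have h0 : (0 : V) ∈ MulAction.fixedPoints Q V := fun q => map_zero _
  haveI : Nontrivial V := Submodule.Quotient.nontrivial_iff.2 h
  have hdvd : p ∣ Nat.card V := by
    haveI : Module.Finite (ZMod p) V := Module.Finite.of_finite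
    rw [Module.natCard_eq_pow_finrank (K := ZMod p), Nat.card_zmod]
    exact dvd_pow_self p (Module.finrank_pos (R := ZMod p) (M := V)).ne'
  obtain ⟨b, hb, hb0⟩ := hQ.exists_fixed_point_of_prime_dvd_card_of_fixed_point V hdvd h0
  induction b using Submodule.Quotient.induction_on with
  | _ v =>
    apply hb0
    symm
    rw [Submodule.Quotient.mk_eq_zero, heq]
    refine mem_fixFiltr_succ.2 fun q hq => ?_
    rw [← Submodule.Quotient.eq]
    exact hb ⟨q, hq⟩

theorem exists_fixFiltr_eq_top {Q : Subgroup G} [Q.Normal] (hQ : IsPGroup p Q) :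
    ∃ n, fixFiltr p Q n = ⊤ := by
  haveI : Finite (MonoidAlgebra (ZMod p) G) :=
    Finite.of_injective (fun v => (v.coeff : G → ZMod p)) fun a b h =>
      MonoidAlgebra.coeff_injective (DFunLike.coe_injective h)
  haveI : Finite (Submodule (ZMod p) (MonoidAlgebra (ZMod p) G)) :=
    Finite.of_injective (fun S => (S : Set (MonoidAlgebra (ZMod p) G))) SetLike.coe_injective
  by_contra hn
  simp only [not_exists] at hn
  exact not_injective_infinite_finite (fixFiltr p Q)
    (strictMono_nat_of_lt_succ fun i => fixFiltr_lt_succ (i := i) hQ (hn i)).injective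

theorem classSumMod_mul_mem {Q : Subgroup G} [Q.Normal] (hQ : IsPGroup p Q) {g : G}
    (hg : ∀ x : G, IsConj g x → x ∉ Subgroup.centralizer (Q : Set G)) (i : ℕ)
    {v : MonoidAlgebra (ZMod p) G} (hv : v ∈ fixFiltr p Q (i + 1)) :
    classSumMod p g * v ∈ fixFiltr p Q i := by
  classical
  let F : G → MonoidAlgebra (ZMod p) G ⧸ fixFiltr p Q i := fun x =>
    if IsConj g x then Submodule.Quotient.mk (MonoidAlgebra.single x (1 : ZMod p) * v) else 0
  have hF : IsPInv Q F := by
    intro a ha x
    have hiff : IsConj g (a * x * a⁻¹) ↔ IsConj g x :=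
      ⟨fun h => h.trans (isConj_iff.2 ⟨a⁻¹, by group⟩), fun h => h.trans (isConj_iff.2 ⟨a, rfl⟩)⟩
    simp only [F, hiff]
    split_ifs
    · rw [Submodule.Quotient.eq]
      have h1 := mem_fixFiltr_succ.1 (single_mul_mem_fixFiltr x (i + 1) v hv) a ha
      have h2 := single_mul_mem_fixFiltr (a * x) i _ (mem_fixFiltr_succ.1 hv a⁻¹ (inv_mem ha))
      have h3 := add_mem h1 h2
      simp only [mul_sub, ← mul_assoc, single_mul_single, mul_one] at h3
      simpa [add_comm, sub_eq_add_neg, add_assoc, add_left_comm] using h3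
    · rfl
  have hp0 : ∀ a : MonoidAlgebra (ZMod p) G ⧸ fixFiltr p Q i, p • a = 0 := fun a => by
    rw [← Nat.cast_smul_eq_nsmul (ZMod p), ZMod.natCast_self, zero_smul]
  have hsum := sum_eq_zero_of_pgroup_conj hp0 Q hQ F hF fun x hx =>
    if_neg fun h => hg x h hx
  rw [← Submodule.Quotient.mk_eq_zero, classSumMod, Finset.sum_mul]
  rw [← Submodule.mkQ_apply, map_sum, ← hsum]
  refine Finset.sum_congr rfl fun x _ => ?_
  simp only [F]
  split_ifs <;> simp

/-- The class sum of a class avoiding `C(Q)` is nilpotent. -/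
theorem exists_classSumMod_pow_eq_zero {Q : Subgroup G} [Q.Normal] (hQ : IsPGroup p Q) {g : G}
    (hg : ∀ x : G, IsConj g x → x ∉ Subgroup.centralizer (Q : Set G)) :
    ∃ n, classSumMod p g ^ n = 0 := by
  obtain ⟨n, hn⟩ := exists_fixFiltr_eq_top hQ
  have key : ∀ j i, ∀ v ∈ fixFiltr p Q (i + j), classSumMod p g ^ j * v ∈ fixFiltr p Q i := by
    intro j
    induction j with
    | zero => intro i v hv; simpa using hv
    | succ j ih =>
      intro i v hv
      rw [pow_succ, mul_assoc]
      exact ih i _ (classSumMod_mul_mem hQ hg (i + j) hv)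
  refine ⟨n, ?_⟩
  have := key n 0 1 (by rw [zero_add, hn]; exact Submodule.mem_top)
  simpa [fixFiltr] using this

variable {M : Ideal AlgInt} [hMp : M.IsPrime]

/-- Reduction of a function to the group algebra over the residue field. -/
noncomputable def redAlg (f : G → ℂ) (hf : ∀ x, MemLocalRing M (f x)) :
    MonoidAlgebra (ResField M) G :=
  ∑ x, MonoidAlgebra.single x (red M ⟨f x, hf x⟩)

theorem coeff_redAlg (f : G → ℂ) (hf : ∀ x, MemLocalRing M (f x)) (x : G) :
    (redAlg f hf).coeff x = red M ⟨f x, hf x⟩ := by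
  classical
  simp [redAlg, MonoidAlgebra.coeff_sum, Finsupp.single_apply]

theorem redAlg_conv (f f' : G → ℂ) (hf : ∀ x, MemLocalRing M (f x))
    (hf' : ∀ x, MemLocalRing M (f' x)) (hc : ∀ x, MemLocalRing M (conv f f' x)) :
    redAlg (conv f f') hc = redAlg f hf * redAlg f' hf' := by
  classical
  refine MonoidAlgebra.coeff_injective (Finsupp.ext fun y => ?_)
  rw [coeff_redAlg]
  simp only [redAlg, Finset.sum_mul, Finset.mul_sum, single_mul_single, MonoidAlgebra.coeff_sum,
    MonoidAlgebra.coeff_single, Finsupp.coe_finsetSum, Finset.sum_apply, Finsupp.single_apply]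
  have : (⟨conv f f' y, hc y⟩ : locSubring M) = ∑ x, ⟨f x, hf x⟩ * ⟨f' (x⁻¹ * y), hf' _⟩ := by
    apply Subtype.ext
    rw [AddSubmonoidClass.coe_finsetSum]
    rfl
  rw [this, map_sum, Finset.sum_comm]
  refine Finset.sum_congr rfl fun x _ => ?_
  rw [Finset.sum_eq_single (x⁻¹ * y)]
  · rw [if_pos (mul_inv_cancel_left x y), map_mul]
  · intro z _ hz
    rw [if_neg fun h => hz (by rw [← h, inv_mul_cancel_left])]
  · simp

/-- Central characters vanish modulo `M` on classes avoiding the centraliser of a normal
`p`-subgroup. -/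
theorem memLocalIdeal_centralChar_of_forall_notMem (hM : IsPModular p M) {Q : Subgroup G}
    [Q.Normal] (hQ : IsPGroup p Q) {g : G}
    (hg : ∀ x : G, IsConj g x → x ∉ Subgroup.centralizer (Q : Set G)) (χ : IrrCharacter G) :
    MemLocalIdeal M (centralChar (χ : G → ℂ) g) := by
  classical
  haveI := resField_charP (M := M) hM
  obtain ⟨n, hn⟩ := exists_classSumMod_pow_eq_zero hQ hg
  have hK : IsRCentral M (classIndicator g) := isRCentral_classIndicator g
  have hred : redAlg (classIndicator g) hK.2 =
      MonoidAlgebra.mapRingHom G (ZMod.castHom dvd_rfl (ResField M)) (classSumMod p g) := by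
    rw [redAlg, classSumMod, map_sum]
    refine Finset.sum_congr rfl fun x _ => ?_
    have hval : ∀ (c : ℂ) (hc : MemLocalRing M c), classIndicator g x = c →
        red M ⟨classIndicator g x, hK.2 x⟩ = red M ⟨c, hc⟩ := fun c hc he => by
      congr 1; exact Subtype.ext he
    by_cases hx : IsConj g x
    · rw [hval 1 memLocalRing_one (if_pos hx), if_pos hx, mapRingHom_single, map_one]
      congr 1
    · rw [hval 0 memLocalRing_zero (if_neg hx), if_neg hx, map_zero,
        show red M (⟨0, memLocalRing_zero⟩ : locSubring M) = 0 from map_zero _]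
      simp
  have hpow : ∀ k, redAlg (convPow (classIndicator g) k) (isRCentral_convPow hK k).2 =
      redAlg (classIndicator g) hK.2 ^ k := by
    intro k
    induction k with
    | zero =>
      rw [pow_zero, MonoidAlgebra.one_def, redAlg, Finset.sum_eq_single (1 : G)]
      · congr 1
        have : (⟨convPow (classIndicator g) 0 1, (isRCentral_convPow hK 0).2 1⟩ : locSubring M) = 1 :=
          Subtype.ext (if_pos (IsConj.refl (1 : G)))
        rw [this, map_one]
      · intro x _ hx
        have : (⟨convPow (classIndicator g) 0 x, (isRCentral_convPow hK 0).2 x⟩ : locSubring M) = 0 :=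
          Subtype.ext (if_neg fun h => hx (isConj_one_right.1 h))
        rw [this, map_zero]
        simp
      · simp
    | succ k ih =>
      rw [pow_succ', ← ih, ← redAlg_conv]
      rfl
  have hz : ∀ x, MemLocalIdeal M (convPow (classIndicator g) n x) := by
    intro x
    have h := hpow n
    rw [hred, ← map_pow, hn, map_zero] at h
    have h' := congrArg (fun t : MonoidAlgebra (ResField M) G => t.coeff x) h
    simp only [coeff_redAlg] at h'
    exact red_eq_zero_iff.1 (h'.trans (by simp))
  rcases Nat.eq_zero_or_pos n with rfl | hnpos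
  · exact absurd (show MemLocalIdeal M (1 : ℂ) by
      simpa [convPow, deltaOne_apply] using hz 1) not_memLocalIdeal_one
  haveI : Finite (ConjClasses G) := Finite.of_surjective _ ConjClasses.mk_surjective
  haveI := Fintype.ofFinite (ConjClasses G)
  have hω : MemLocalIdeal M (omega (χ : G → ℂ) (convPow (classIndicator g) n)) := by
    rw [omega_eq_sum_classes (irr_isClassFunction χ) (isRCentral_convPow hK n).1]
    exact memLocalIdeal_sum _ fun C _ =>
      memLocalIdeal_mul_right (hz _) (memLocalRing_centralChar χ _)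
  rw [omega_convPow χ.2 hK.1, omega_classIndicator (irr_isClassFunction χ),
    memLocalIdeal_pow_iff (memLocalRing_centralChar χ g) hnpos.ne'] at hω
  exact hω

/-- A class with nonzero central character meets the centraliser of a normal `p`-subgroup. -/
theorem mem_centralizer_of_centralChar_ne (hM : IsPModular p M) {Q : Subgroup G} [hn : Q.Normal]
    (hQ : IsPGroup p Q) {g : G} {χ : IrrCharacter G}
    (h : ¬ MemLocalIdeal M (centralChar (χ : G → ℂ) g)) :
    g ∈ Subgroup.centralizer (Q : Set G) := by
  by_contra hg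
  refine h (memLocalIdeal_centralChar_of_forall_notMem hM hQ (fun x hx hxC => hg ?_) χ)
  obtain ⟨c, rfl⟩ := isConj_iff.1 hx
  simpa [mul_assoc] using Subgroup.Normal.conj_mem inferInstance _ hxC c⁻¹

/-- Normal `p`-subgroups lie in every defect group. -/
theorem le_of_isDefectGroup (hM : IsPModular p M) {Q : Subgroup G} [hn : Q.Normal]
    (hQ : IsPGroup p Q) {B : Set (IrrCharacter G)} (hB : IsPBlock M B) {D : Subgroup G}
    (hD : IsDefectGroup p M B D) : Q ≤ D := by
  obtain ⟨g, hg, P, rfl⟩ := hD
  obtain ⟨χ, hχ⟩ := IsPBlock.nonempty hB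
  have hle : Q ≤ Subgroup.centralizer ({g} : Set G) :=
    le_centralizer_singleton_iff.2 (mem_centralizer_of_centralChar_ne hM hQ (hg.2.2 χ hχ))
  obtain ⟨c, -, hc⟩ := exists_conj_le_sylowSub P hQ hle
  intro x hx
  refine hc ⟨c⁻¹ * x * c, by simpa using hn.conj_mem x hx c⁻¹, by simp [mul_assoc]⟩

end Cfsg.Agent.Lib.Blocks
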