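import Cfsg.Agent.Lib.Blocks.HeightZero
import Cfsg.Agent.Lib.Blocks.NormalP

/-!
# Induced blocks and the Brauer map
-/

set_option autoImplicit false
set_option linter.unusedSectionVars false
set_option linter.style.haveILetI false

namespace Cfsg.Agent.Lib.Blocks

open Cfsg Cfsg.Agent.Lib.Characters

universe u

variable {G : Type u} [Group G] [Fintype G] {M : Ideal AlgInt} [hMp : M.IsPrime] {p : ℕ}

/-- Restriction of a function to a subgroup. -/
def resFun (H : Subgroup G) (f : G → ℂ) : H → ℂ := fun h => f (h : G)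

theorem resFun_add (H : Subgroup G) (f f' : G → ℂ) :
    resFun H (f + f') = resFun H f + resFun H f' := rfl

theorem resFun_sum (H : Subgroup G) {ι : Type*} (s : Finset ι) (f : ι → G → ℂ) :
    resFun H (∑ i ∈ s, f i) = ∑ i ∈ s, resFun H (f i) := by
  funext h
  simp [resFun, Finset.sum_apply]

theorem resFun_smul (H : Subgroup G) (c : ℂ) (f : G → ℂ) :
    resFun H (c • f) = c • resFun H f := rfl

theorem isRCentral_resFun (H : Subgroup G) {f : G → ℂ} (hf : IsRCentral M f) :
    IsRCentral M (resFun H f) :=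
  ⟨fun g h => hf.1 (g : G) (h : G), fun x => hf.2 _⟩

theorem inducedCentralChar_eq_omega (H : Subgroup G) [Fintype H] (ξ : H → ℂ) (g : G) :
    inducedCentralChar H ξ g = omega ξ (resFun H (classIndicator g)) := by
  classical
  rw [inducedCentralChar, finsum_mem_def, finsum_eq_sum_of_fintype, omega, Finset.sum_div]
  refine Finset.sum_congr rfl fun h _ => ?_
  simp only [resFun, Set.indicator_apply, Set.mem_ofPred_eq, classIndicator]
  split_ifs <;> simp

/-- The induced functional in terms of class functions. -/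
theorem omega_resFun_congr_of_forall (H : Subgroup G) [Fintype H] {ξ : IrrCharacter H}
    {χ : IrrCharacter G}
    (h : ∀ g, MemLocalIdeal M
      (inducedCentralChar H (ξ : H → ℂ) g - centralChar (χ : G → ℂ) g))
    {f : G → ℂ} (hf : IsRCentral M f) :
    MemLocalIdeal M (omega (ξ : H → ℂ) (resFun H f) - omega (χ : G → ℂ) f) := by
  haveI : Finite (ConjClasses G) := Finite.of_surjective _ ConjClasses.mk_surjective
  haveI := Fintype.ofFinite (ConjClasses G)
  rw [omega_eq_sum_classes (irr_isClassFunction χ) hf.1]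
  conv in resFun H f => rw [classFunction_eq_sum_classes hf.1]
  rw [resFun_sum, omega_sum, ← Finset.sum_sub_distrib]
  refine memLocalIdeal_sum _ fun C _ => ?_
  rw [resFun_smul, omega_smul, ← inducedCentralChar_eq_omega, ← mul_sub]
  exact memLocalIdeal_mul_left (hf.2 _) (h _)

theorem IsInducedBlock.omega_congr {H : Subgroup G} [Fintype H] {b : Set (IrrCharacter H)}
    {B : Set (IrrCharacter G)} (h : IsInducedBlock M H b B) {ξ : IrrCharacter H} (hξ : ξ ∈ b)
    {χ : IrrCharacter G} (hχ : χ ∈ B) {f : G → ℂ} (hf : IsRCentral M f) :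
    MemLocalIdeal M (omega (ξ : H → ℂ) (resFun H f) - omega (χ : G → ℂ) f) :=
  omega_resFun_congr_of_forall H (h.2.2 ξ hξ χ hχ) hf

/-- One pair of characters suffices. -/
theorem isInducedBlock_of_pair {H : Subgroup G} [Fintype H] {b : Set (IrrCharacter H)}
    {B : Set (IrrCharacter G)} (hb : IsPBlock M b) (hB : IsPBlock M B)
    {ξ₀ : IrrCharacter H} (hξ₀ : ξ₀ ∈ b) {χ₀ : IrrCharacter G} (hχ₀ : χ₀ ∈ B)
    (h : ∀ g, MemLocalIdeal M
      (omega (ξ₀ : H → ℂ) (resFun H (classIndicator g)) - centralChar (χ₀ : G → ℂ) g)) :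
    IsInducedBlock M H b B := by
  refine ⟨hb, hB, fun ξ hξ χ hχ g => ?_⟩
  rw [inducedCentralChar_eq_omega]
  have h1 := omega_congr_of_sameBlock (IsPBlock.sameBlock hb hξ hξ₀)
    (isRCentral_resFun H (isRCentral_classIndicator (M := M) g))
  have h3 := IsPBlock.sameBlock hB hχ₀ hχ g
  simpa using memLocalIdeal_add (memLocalIdeal_add h1 (h g)) h3

/-- The induced block is unique. -/
theorem IsInducedBlock.unique {H : Subgroup G} [Fintype H] {b : Set (IrrCharacter H)}
    {B B' : Set (IrrCharacter G)} (h : IsInducedBlock M H b B) (h' : IsInducedBlock M H b B') :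
    B = B' := by
  obtain ⟨ξ, hξ⟩ := IsPBlock.nonempty h.1
  obtain ⟨χ, hχ⟩ := IsPBlock.nonempty h.2.1
  obtain ⟨χ', hχ'⟩ := IsPBlock.nonempty h'.2.1
  have hs : SameBlock M (χ : G → ℂ) (χ' : G → ℂ) := fun g => by
    simpa using memLocalIdeal_sub (h'.2.2 ξ hξ χ' hχ' g) (h.2.2 ξ hξ χ hχ g)
  exact IsPBlock.eq_of_mem h.2.1 h'.2.1 ((IsPBlock.mem_iff h.2.1 hχ).2 hs) hχ'

/-- The idempotents of the blocks sum to one. -/
theorem sum_blockCoeff_eq_deltaOne [Fintype (IrrCharacter G)]
    [DecidableEq (Set (IrrCharacter G))] :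
    ∑ B ∈ Finset.univ.image (fun χ : IrrCharacter G => blockOf M (χ : G → ℂ)), blockCoeff B =
      (deltaOne : G → ℂ) := by
  classical
  refine ext_omega (fun g x => ?_) isClassFunction_deltaOne fun ψ => ?_
  · simp only [Finset.sum_apply]
    exact Finset.sum_congr rfl fun B _ => isClassFunction_blockCoeff B g x
  · rw [omega_sum, omega_deltaOne ψ.2, Finset.sum_eq_single (blockOf M (ψ : G → ℂ))]
    · rw [omega_blockCoeff, if_pos (self_mem_blockOf ψ)]
    · intro B hB hne
      obtain ⟨χ, -, rfl⟩ := Finset.mem_image.1 hB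
      rw [omega_blockCoeff, if_neg (fun h : (ψ : IrrCharacter G) ∈ blockOf M (χ : G → ℂ) =>
        hne (blockOf_eq_of_sameBlock h))]
    · intro h
      exact absurd (Finset.mem_image.2 ⟨ψ, Finset.mem_univ _, rfl⟩) h

/-- A multiplicative functional modulo `M` on central functions comes from a block. -/
theorem exists_block_of_multiplicative (hM : IsPModular p M) (φ : (G → ℂ) → ℂ)
    (hR : ∀ f, IsRCentral M f → MemLocalRing M (φ f))
    (hI : ∀ f, IsRCentral M f → (∀ x, MemLocalIdeal M (f x)) → MemLocalIdeal M (φ f))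
    (hadd : ∀ f f', φ (f + f') = φ f + φ f') (hsmul : ∀ (c : ℂ) f, φ (c • f) = c * φ f)
    (hone : φ deltaOne = 1)
    (hmul : ∀ f f', IsRCentral M f → IsRCentral M f' →
      MemLocalIdeal M (φ (conv f f') - φ f * φ f')) :
    ∃ χ : IrrCharacter G, ∀ f, IsRCentral M f →
      MemLocalIdeal M (φ f - omega (χ : G → ℂ) f) := by
  classical
  haveI := Fintype.ofFinite (IrrCharacter G)
  have hzero : φ 0 = 0 := by simpa using hsmul 0 0
  have hsum : ∀ (s : Finset (Set (IrrCharacter G))) (F : Set (IrrCharacter G) → G → ℂ),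
      φ (∑ i ∈ s, F i) = ∑ i ∈ s, φ (F i) := by
    intro s F
    induction s using Finset.induction with
    | empty => simp [hzero]
    | insert i s hi ih => rw [Finset.sum_insert hi, Finset.sum_insert hi, hadd, ih]
  obtain ⟨B, hB, hne⟩ : ∃ B, IsPBlock M B ∧ ¬ MemLocalIdeal M (φ (blockCoeff B)) := by
    by_contra hcon
    simp only [not_exists, not_and, not_not] at hcon
    have h1 := congrArg φ (sum_blockCoeff_eq_deltaOne (G := G) (M := M))
    rw [hsum, hone] at h1
    refine not_memLocalIdeal_one (M := M) (h1 ▸ memLocalIdeal_sum _ fun B hB => ?_)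
    obtain ⟨χ, -, rfl⟩ := Finset.mem_image.1 hB
    exact hcon _ (isPBlock_blockOf χ)
  obtain ⟨χ, hχ⟩ := IsPBlock.nonempty hB
  refine ⟨χ, fun f hf => ?_⟩
  set e := blockCoeff B
  have he := isRCentral_blockCoeff hM hB
  have hee : MemLocalIdeal M (φ e - 1) := by
    have h := hmul e e he he
    rw [blockCoeff_conv_self] at h
    rw [show φ e - φ e * φ e = φ e * (1 - φ e) by ring,
      memLocalIdeal_mul_iff (hR e he) (memLocalRing_sub memLocalRing_one (hR e he))] at h
    simpa using memLocalIdeal_neg (h.resolve_left hne)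
  set w := omega (χ : G → ℂ) f
  let d : G → ℂ := f - w • deltaOne
  have hd : IsRCentral M d := hf.sub (isRCentral_deltaOne.smul (memLocalRing_omega hf χ))
  let z := conv d e
  have hz : IsRCentral M z := hd.conv he
  obtain ⟨N, hN⟩ := exists_convPow_memLocalIdeal hM hz fun η => by
    rw [omega_conv η.2 hd.1, omega_blockCoeff, omega_sub, omega_smul, omega_deltaOne η.2, mul_one]
    split_ifs with hη
    · rw [mul_one]
      exact omega_congr_of_sameBlock (IsPBlock.sameBlock hB hη hχ) hf
    · rw [mul_zero]; exact memLocalIdeal_zero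
  have hpow : ∀ n, MemLocalIdeal M (φ (convPow z n) - φ z ^ n) := by
    intro n
    induction n with
    | zero => rw [convPow, hone, pow_zero, sub_self]; exact memLocalIdeal_zero
    | succ n ih =>
      have h1 := hmul z (convPow z n) hz (isRCentral_convPow hz n)
      have h2 := memLocalIdeal_mul_left (hR z hz) ih
      rw [convPow, pow_succ']
      convert memLocalIdeal_add h1 h2 using 1
      ring
  have hzI : MemLocalIdeal M (φ z) := by
    have h1 := hI _ (isRCentral_convPow hz (N + 1)) (hN (N + 1) (by omega))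
    have h2 := memLocalIdeal_sub h1 (hpow (N + 1))
    rw [sub_sub_cancel] at h2
    exact (memLocalIdeal_pow_iff (hR z hz) (Nat.succ_ne_zero N)).1 h2
  have hprod := hmul d e hd he
  have hde : φ d = φ f - w := by
    have : φ (d + w • deltaOne) = φ d + w := by rw [hadd, hsmul, hone, mul_one]
    rw [show d + w • deltaOne = f by simp [d]] at this
    rw [this]; ring
  rw [← hde]
  have h3 : MemLocalIdeal M (φ d * φ e) := by simpa [z] using memLocalIdeal_sub hzI hprod
  exact ((memLocalIdeal_mul_iff (hR d hd) (hR e he)).1 h3).resolve_right hne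

section Brauer

variable {P H : Subgroup G} [Fintype H]

theorem mem_centralizer_subgroupOf (hPH : P ≤ H) (h : H) :
    h ∈ Subgroup.centralizer ((P.subgroupOf H : Subgroup H) : Set H) ↔
      (h : G) ∈ Subgroup.centralizer (P : Set G) := by
  simp only [mem_centralizer_subgroup_iff]
  constructor
  · intro hc a ha
    exact congrArg Subtype.val (hc ⟨a, hPH ha⟩ (Subgroup.mem_subgroupOf.2 ha))
  · intro hc a ha
    exact Subtype.ext (hc a (Subgroup.mem_subgroupOf.1 ha))

theorem subgroupOf_normal_of_le_normalizer (hHN : H ≤ Subgroup.normalizer (P : Set G)) :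
    (P.subgroupOf H).Normal := by
  refine ⟨fun n hn g => ?_⟩
  rw [Subgroup.mem_subgroupOf] at hn ⊢
  exact (Subgroup.mem_normalizer_iff.1 (hHN g.2) n).1 hn

/-- On `H` between `P C(P)` and `N(P)` the central characters only see the Brauer truncation. -/
theorem omega_resFun_trunc_congr (hM : IsPModular p M) (hP : IsPGroup p P) (hPH : P ≤ H)
    (hHN : H ≤ Subgroup.normalizer (P : Set G)) (ξ : IrrCharacter H) {f : G → ℂ}
    (hf : IsRCentral M f) :
    MemLocalIdeal M (omega (ξ : H → ℂ) (resFun H f) -
      omega (ξ : H → ℂ) (resFun H (trunc P f))) := by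
  classical
  haveI := Fact.mk hM.1
  haveI := subgroupOf_normal_of_le_normalizer hHN
  haveI : Finite (ConjClasses H) := Finite.of_surjective _ ConjClasses.mk_surjective
  haveI := Fintype.ofFinite (ConjClasses H)
  have hcl : IsClassFunction H (resFun H (trunc P f)) := by
    intro g h
    have hiff : h * g * h⁻¹ ∈ Subgroup.centralizer ((P.subgroupOf H : Subgroup H) : Set H) ↔
        g ∈ Subgroup.centralizer ((P.subgroupOf H : Subgroup H) : Set H) :=
      ⟨fun hh => by simpa [mul_assoc] using Subgroup.Normal.conj_mem inferInstance _ hh h⁻¹,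
        fun hh => Subgroup.Normal.conj_mem inferInstance _ hh h⟩
    rw [mem_centralizer_subgroupOf hPH, mem_centralizer_subgroupOf hPH] at hiff
    show trunc P f ((h * g * h⁻¹ : H) : G) = trunc P f (g : G)
    by_cases hg : (g : G) ∈ Subgroup.centralizer (P : Set G)
    · rw [trunc_of_mem hg, trunc_of_mem (hiff.2 hg)]
      exact hf.1 (g : G) (h : G)
    · rw [trunc_of_notMem hg, trunc_of_notMem fun hh => hg (hiff.1 hh)]
  rw [omega_eq_sum_classes (irr_isClassFunction ξ) (isRCentral_resFun H hf).1,
    omega_eq_sum_classes (irr_isClassFunction ξ) hcl, ← Finset.sum_sub_distrib]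
  refine memLocalIdeal_sum _ fun C _ => ?_
  rw [← sub_mul]
  by_cases hC : ((Quotient.out C : H) : G) ∈ Subgroup.centralizer (P : Set G)
  · rw [show resFun H (trunc P f) (Quotient.out C) = resFun H f (Quotient.out C) from
      trunc_of_mem hC, sub_self, zero_mul]
    exact memLocalIdeal_zero
  · refine memLocalIdeal_mul_left
      (memLocalRing_sub (hf.2 _) (memLocalRing_trunc hf.2 _)) ?_
    by_contra hne
    exact hC ((mem_centralizer_subgroupOf hPH _).1 (mem_centralizer_of_centralChar_ne hM
      (hP.of_equiv (Subgroup.subgroupOfEquivOfLe hPH).symm) hne))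

theorem omega_resFun_of_forall_ideal (ξ : IrrCharacter H) {f : G → ℂ} (hf : IsRCentral M f)
    (h : ∀ x, MemLocalIdeal M (f x)) : MemLocalIdeal M (omega (ξ : H → ℂ) (resFun H f)) := by
  haveI : Finite (ConjClasses H) := Finite.of_surjective _ ConjClasses.mk_surjective
  haveI := Fintype.ofFinite (ConjClasses H)
  rw [omega_eq_sum_classes (irr_isClassFunction ξ) (isRCentral_resFun H hf).1]
  exact memLocalIdeal_sum _ fun C _ =>
    memLocalIdeal_mul_right (h _) (memLocalRing_centralChar ξ _)

theorem conv_resFun (hCH : Subgroup.centralizer (P : Set G) ≤ H) (f f' : G → ℂ) (y : H) :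
    conv (resFun H (trunc P f)) (resFun H (trunc P f')) y =
      conv (trunc P f) (trunc P f') (y : G) := by
  classical
  unfold conv resFun
  rw [show (∑ x : G, trunc P f x * trunc P f' (x⁻¹ * y)) =
      ∑ x ∈ Finset.univ.filter (· ∈ H), trunc P f x * trunc P f' (x⁻¹ * y) from
    (Finset.sum_subset (Finset.subset_univ _) fun x _ hx => by
      rw [trunc_of_notMem (fun hc => hx (Finset.mem_filter.2 ⟨Finset.mem_univ _, hCH hc⟩)),
        zero_mul]).symm]
  exact (Finset.sum_subtype (p := fun x => x ∈ H) _ (fun x => by simp)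
    (fun x => trunc P f x * trunc P f' (x⁻¹ * y))).symm

/-- **The induced block is defined** for `P C(P) ≤ H ≤ N(P)`. -/
theorem exists_induced_char (hM : IsPModular p M) (hP : IsPGroup p P) (hPH : P ≤ H)
    (hCH : Subgroup.centralizer (P : Set G) ≤ H)
    (hHN : H ≤ Subgroup.normalizer (P : Set G)) (ξ : IrrCharacter H) :
    ∃ χ : IrrCharacter G, ∀ f, IsRCentral M f →
      MemLocalIdeal M (omega (ξ : H → ℂ) (resFun H f) - omega (χ : G → ℂ) f) := by
  classical
  haveI := Fact.mk hM.1
  refine exists_block_of_multiplicative hM (fun f => omega (ξ : H → ℂ) (resFun H f))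
    (fun f hf => memLocalRing_omega (isRCentral_resFun H hf) ξ)
    (fun f hf h => omega_resFun_of_forall_ideal ξ hf h) (fun f f' => omega_add _ _ _)
    (fun c f => omega_smul _ _ _) ?_ ?_
  · have he : resFun H (deltaOne : G → ℂ) = (deltaOne : H → ℂ) := by
      funext h
      simp [resFun, deltaOne_apply]
    show omega (ξ : H → ℂ) (resFun H deltaOne) = 1
    rw [he, omega_deltaOne ξ.2]
  · intro f f' hf hf'
    show MemLocalIdeal M (omega (ξ : H → ℂ) (resFun H (conv f f')) -
      omega (ξ : H → ℂ) (resFun H f) * omega (ξ : H → ℂ) (resFun H f'))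
    have h1 := omega_resFun_trunc_congr hM hP hPH hHN ξ (hf.conv hf')
    have h2 := omega_resFun_trunc_congr hM hP hPH hHN ξ hf
    have h3 := omega_resFun_trunc_congr hM hP hPH hHN ξ hf'
    haveI := subgroupOf_normal_of_le_normalizer hHN
    haveI : Finite (ConjClasses H) := Finite.of_surjective _ ConjClasses.mk_surjective
    haveI := Fintype.ofFinite (ConjClasses H)
    have hR : ∀ {g : G → ℂ}, IsRCentral M g → IsRCentral M (resFun H (trunc P g)) := by
      intro g hg
      refine ⟨?_, fun x => memLocalRing_trunc hg.2 _⟩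
      intro a c
      have hiff : c * a * c⁻¹ ∈ Subgroup.centralizer ((P.subgroupOf H : Subgroup H) : Set H) ↔
          a ∈ Subgroup.centralizer ((P.subgroupOf H : Subgroup H) : Set H) :=
        ⟨fun hh => by simpa [mul_assoc] using Subgroup.Normal.conj_mem inferInstance _ hh c⁻¹,
          fun hh => Subgroup.Normal.conj_mem inferInstance _ hh c⟩
      rw [mem_centralizer_subgroupOf hPH, mem_centralizer_subgroupOf hPH] at hiff
      show trunc P g ((c * a * c⁻¹ : H) : G) = trunc P g (a : G)
      by_cases hg' : (a : G) ∈ Subgroup.centralizer (P : Set G)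
      · rw [trunc_of_mem hg', trunc_of_mem (hiff.2 hg')]
        exact hg.1 (a : G) (c : G)
      · rw [trunc_of_notMem hg', trunc_of_notMem fun hh => hg' (hiff.1 hh)]
    have h4 : MemLocalIdeal M (omega (ξ : H → ℂ) (resFun H (trunc P (conv f f'))) -
        omega (ξ : H → ℂ) (conv (resFun H (trunc P f)) (resFun H (trunc P f')))) := by
      rw [omega_eq_sum_classes (irr_isClassFunction ξ) (hR (hf.conv hf')).1,
        omega_eq_sum_classes (irr_isClassFunction ξ) ((hR hf).conv (hR hf')).1,
        ← Finset.sum_sub_distrib]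
      refine memLocalIdeal_sum _ fun C _ => ?_
      rw [← sub_mul]
      refine memLocalIdeal_mul_right ?_ (memLocalRing_centralChar ξ _)
      rw [conv_resFun hCH]
      exact trunc_conv_congr hM P hP hf.2 hf'.2 (isPInv_of_isClassFunction P hf.1)
        (isPInv_of_isClassFunction P hf'.1) _
    rw [omega_conv ξ.2 (hR hf).1] at h4
    have h5 := memLocalIdeal_mul_right h2 (memLocalRing_omega (isRCentral_resFun H hf') ξ)
    have h6 := memLocalIdeal_mul_left (memLocalRing_omega (hR hf) ξ) h3
    have h7 := memLocalIdeal_sub (memLocalIdeal_sub (memLocalIdeal_add h1 h4) h5) h6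
    convert h7 using 1
    ring

end Brauer

/-- Defect groups of a block lie in those of the induced block. -/
theorem exists_le_defectGroup (hM : IsPModular p M) {H : Subgroup G} [Fintype H]
    {b : Set (IrrCharacter H)} {B : Set (IrrCharacter G)} (hind : IsInducedBlock M H b B)
    {D : Subgroup H} (hD : IsDefectGroup p M b D) :
    ∃ E : Subgroup G, IsDefectGroup p M B E ∧ D.map H.subtype ≤ E := by
  classical
  haveI := Fact.mk hM.1
  haveI : Finite (ConjClasses H) := Finite.of_surjective _ ConjClasses.mk_surjective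
  haveI := Fintype.ofFinite (ConjClasses H)
  obtain ⟨ξ, hξ⟩ := IsPBlock.nonempty hind.1
  obtain ⟨χ, hχ⟩ := IsPBlock.nonempty hind.2.1
  have he := isRCentral_blockCoeff hM hind.2.1
  have h1 := IsInducedBlock.omega_congr hind hξ hχ he
  rw [omega_blockCoeff, if_pos hχ] at h1
  obtain ⟨c, hcE, hcω⟩ : ∃ c : H, ¬ MemLocalIdeal M (blockCoeff B (c : G)) ∧
      ¬ MemLocalIdeal M (centralChar (ξ : H → ℂ) c) := by
    by_contra hcon
    simp only [not_exists, not_and, not_not] at hcon
    refine not_memLocalIdeal_of_sub not_memLocalIdeal_one h1 ?_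
    rw [omega_eq_sum_classes (irr_isClassFunction ξ) (isRCentral_resFun H he).1]
    refine memLocalIdeal_sum _ fun C _ => ?_
    by_cases hc : MemLocalIdeal M (blockCoeff B ((Quotient.out C : H) : G))
    · exact memLocalIdeal_mul_right hc (memLocalRing_centralChar ξ _)
    · exact memLocalIdeal_mul_left (he.2 _) (hcon _ hc)
  obtain ⟨y, hy, P, rfl⟩ := hD
  obtain ⟨Q⟩ : Nonempty (Sylow p (Subgroup.centralizer ({c} : Set H))) := inferInstance
  obtain ⟨a, ha⟩ := isConjLE_of_omega hM hind.1 hy P Q hξ hcω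
  obtain ⟨g, hg⟩ := exists_isDefectClass hM hind.2.1
  obtain ⟨R⟩ : Nonempty (Sylow p (Subgroup.centralizer ({g} : Set G))) := inferInstance
  have hc' : (c : G) ∈ Subgroup.centralizer ((sylowSub Q).map H.subtype : Set G) := by
    rw [mem_centralizer_subgroup_iff]
    rintro _ ⟨w, hw, rfl⟩
    exact congrArg Subtype.val
      (mem_centralizer_subgroup_iff.1 (mem_centralizer_sylowSub Q) w hw)
  obtain ⟨d, hd⟩ := isConjLE_of_coeff hM hind.2.1 hg R
    ((isPGroup_sylowSub Q).map H.subtype) hc' hcE
  refine ⟨_, IsDefectGroup.map_conj (⟨g, hg, R, rfl⟩ : IsDefectGroup p M B (sylowSub R))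
    (d * (a : G))⁻¹, ?_⟩
  rintro _ ⟨x, hx, rfl⟩
  refine ⟨d * ((a : G) * (x : G) * (a : G)⁻¹) * d⁻¹,
    hd ⟨_, ⟨a * x * a⁻¹, ha ⟨x, hx, rfl⟩, rfl⟩, rfl⟩, ?_⟩
  simp [mul_assoc]

end Cfsg.Agent.Lib.Blocks
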