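import Cfsg.Agent.Lib.Blocks.Sections

/-!
# Orthogonality of different blocks over the `p`-regular elements
-/

set_option autoImplicit false
set_option linter.unusedSectionVars false
set_option linter.style.haveILetI false

namespace Cfsg.Agent.Lib.Blocks

open Cfsg Cfsg.Agent.Lib.Characters
open scoped ComplexConjugate

universe u

variable {G : Type u} [Group G] [Fintype G] {M : Ideal AlgInt} [hMp : M.IsPrime] {p : ℕ}

/-- Characters of different blocks are orthogonal over the `p`-regular elements. -/
theorem sum_regular_mul_conj_eq_zero (hM : IsPModular p M) {B : Set (IrrCharacter G)}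
    (hB : IsPBlock M B) {χ ψ : IrrCharacter G} (hχ : χ ∈ B) (hψ : ψ ∉ B) :
    ∑ x : G, (if p ∣ orderOf x then 0 else (χ : G → ℂ) x * conj ((ψ : G → ℂ) x)) = 0 := by
  classical
  haveI := Fintype.ofFinite (IrrCharacter G)
  let a : IrrCharacter G → ℂ := fun η =>
    ∑ y : G, if p ∣ orderOf y then 0 else (η : G → ℂ) y * conj ((ψ : G → ℂ) y)
  have hcol : ∀ x : G, ¬ p ∣ orderOf x →
      ∑ η : IrrCharacter G, (if η ∈ B then conj ((η : G → ℂ) x) * a η else 0) = 0 := by
    intro x hx
    have h1 : ∀ y : G, p ∣ orderOf y →
        ∑ η : IrrCharacter G, (if η ∈ B then conj ((η : G → ℂ) x) * (η : G → ℂ) y else 0) = 0 := by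
      intro y hy
      have h := congrArg (starRingEnd ℂ) (finsum_regular_singular_eq_zero hM hB hx hy)
      rw [finsum_irr_eq_sum_ite, map_sum, map_zero] at h
      refine Eq.trans (Finset.sum_congr rfl fun η _ => ?_) h
      split_ifs <;> simp [mul_comm]
    have h2 : ∀ η : IrrCharacter G, η ∈ B → ∑ y : G, (η : G → ℂ) y * conj ((ψ : G → ℂ) y) = 0 := by
      intro η hη
      have h := classInner_irr η ψ
      rw [if_neg (fun he : η = ψ => hψ (he ▸ hη))] at h
      simpa [classInner, natCard_ne_zero_complex] using h
    calc ∑ η : IrrCharacter G, (if η ∈ B then conj ((η : G → ℂ) x) * a η else 0)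
        = ∑ y : G, (if p ∣ orderOf y then 0 else
            (∑ η : IrrCharacter G, if η ∈ B then conj ((η : G → ℂ) x) * (η : G → ℂ) y else 0) *
              conj ((ψ : G → ℂ) y)) := by
          simp only [a, Finset.mul_sum, Finset.sum_mul]
          rw [Finset.sum_congr rfl fun η _ => (apply_ite (fun t => t) (η ∈ B) _ _).symm]
          conv_rhs =>
            enter [2, y]
            rw [show (if p ∣ orderOf y then (0 : ℂ) else ∑ η : IrrCharacter G,
                (if η ∈ B then conj ((η : G → ℂ) x) * (η : G → ℂ) y else 0) *
                  conj ((ψ : G → ℂ) y)) =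
              ∑ η : IrrCharacter G, (if η ∈ B then conj ((η : G → ℂ) x) *
                (if p ∣ orderOf y then 0 else (η : G → ℂ) y * conj ((ψ : G → ℂ) y)) else 0) by
              split_ifs with hy
              · simp
              · refine Finset.sum_congr rfl fun η _ => ?_
                split_ifs <;> ring]
          rw [Finset.sum_comm]
          refine Finset.sum_congr rfl fun η _ => ?_
          split_ifs <;> simp
      _ = ∑ y : G, (∑ η : IrrCharacter G,
            if η ∈ B then conj ((η : G → ℂ) x) * (η : G → ℂ) y else 0) *
              conj ((ψ : G → ℂ) y) := by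
          refine Finset.sum_congr rfl fun y _ => ?_
          split_ifs with hy
          · rw [h1 y hy, zero_mul]
          · rfl
      _ = 0 := by
          simp only [Finset.sum_mul]
          rw [Finset.sum_comm]
          refine Finset.sum_eq_zero fun η _ => ?_
          split_ifs with hη
          · simp only [mul_assoc, ← Finset.mul_sum, h2 η hη, mul_zero]
          · simp
  have hsq : ∑ η : IrrCharacter G, (if η ∈ B then conj (a η) * a η else 0) = 0 := by
    have hconj : ∀ η, conj (a η) =
        ∑ x : G, if p ∣ orderOf x then 0 else conj ((η : G → ℂ) x) * (ψ : G → ℂ) x := by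
      intro η
      simp only [a, map_sum]
      refine Finset.sum_congr rfl fun x _ => ?_
      split_ifs <;> simp
    calc ∑ η : IrrCharacter G, (if η ∈ B then conj (a η) * a η else 0)
        = ∑ x : G, (if p ∣ orderOf x then 0 else (ψ : G → ℂ) x *
            ∑ η : IrrCharacter G, (if η ∈ B then conj ((η : G → ℂ) x) * a η else 0)) := by
          simp only [hconj, Finset.sum_mul, Finset.mul_sum]
          conv_rhs =>
            enter [2, x]
            rw [show (if p ∣ orderOf x then (0 : ℂ) else ∑ η : IrrCharacter G, (ψ : G → ℂ) x *
                (if η ∈ B then conj ((η : G → ℂ) x) * a η else 0)) =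
              ∑ η : IrrCharacter G, (if η ∈ B then (if p ∣ orderOf x then 0 else
                conj ((η : G → ℂ) x) * (ψ : G → ℂ) x) * a η else 0) by
              split_ifs with hy
              · simp
              · refine Finset.sum_congr rfl fun η _ => ?_
                split_ifs <;> ring]
          rw [Finset.sum_comm]
          refine Finset.sum_congr rfl fun η _ => ?_
          split_ifs <;> simp
      _ = 0 := Finset.sum_eq_zero fun x _ => by
          split_ifs with hx
          · rfl
          · rw [hcol x hx, mul_zero]
  have hre : (∑ η : IrrCharacter G, if η ∈ B then ‖a η‖ ^ 2 else 0 : ℝ) = 0 := by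
    have hc : ((∑ η : IrrCharacter G, if η ∈ B then ‖a η‖ ^ 2 else 0 : ℝ) : ℂ) = 0 := by
      rw [← hsq]
      push_cast
      refine Finset.sum_congr rfl fun η _ => ?_
      split_ifs
      · rw [mul_comm, Complex.mul_conj, Complex.normSq_eq_norm_sq]
      · rfl
    exact_mod_cast hc
  have := (Finset.sum_eq_zero_iff_of_nonneg fun η _ => by split_ifs <;> positivity).1 hre χ
    (Finset.mem_univ _)
  rw [if_pos hχ] at this
  simpa [a] using this

end Cfsg.Agent.Lib.Blocks
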