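import Cfsg.Agent.Lib.Blocks.HeightZero
import Cfsg.Agent.Lib.Blocks.Regular
import Cfsg.Agent.Lib.Blocks.Induced

/-!
# The central function `regFun` of a character and height zero characters

`regFun p χ` is `x ↦ χ x⁻¹` on the `p`-regular elements and `0` elsewhere.  Its central
characters vanish off the block of `χ` and, for `χ` of height zero, are units in the block.
-/

set_option autoImplicit false
set_option linter.unusedSectionVars false
set_option linter.style.haveILetI false

namespace Cfsg.Agent.Lib.Blocks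

open Cfsg Cfsg.Agent.Lib.Characters
open scoped ComplexConjugate

universe u

variable {G : Type u} [Group G] [Fintype G] {M : Ideal AlgInt} [hMp : M.IsPrime] {p : ℕ}

/-- `x ↦ χ x⁻¹` on `p`-regular elements, zero elsewhere. -/
noncomputable def regFun (p : ℕ) (χ : G → ℂ) : G → ℂ :=
  fun x => if p ∣ orderOf x then 0 else χ x⁻¹

theorem isRCentral_regFun (p : ℕ) {χ : G → ℂ} (hχ : IsCharacter G χ) :
    IsRCentral M (regFun p χ) := by
  constructor
  · intro g h
    have ho : orderOf (h * g * h⁻¹) = orderOf g :=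
      orderOf_injective (MulAut.conj h).toMonoidHom (MulAut.conj h).injective g
    simp only [regFun, ho]
    split_ifs
    · rfl
    · rw [show (h * g * h⁻¹)⁻¹ = h * g⁻¹ * h⁻¹ by group, IsCharacter.isClassFunction hχ]
  · intro x
    rw [regFun]
    split_ifs
    · exact memLocalRing_zero
    · exact memLocalRing_of_isIntegral' (IsCharacter.isIntegral hχ _)

theorem resFun_regFun (H : Subgroup G) (p : ℕ) (χ : G → ℂ) :
    resFun H (regFun p χ) = regFun p (resFun H χ) := by
  funext h
  simp only [resFun, regFun, Subgroup.orderOf_coe, Subgroup.coe_inv]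

theorem omega_regFun_eq_zero (hM : IsPModular p M) {B : Set (IrrCharacter G)} (hB : IsPBlock M B)
    {χ η : IrrCharacter G} (hχ : χ ∈ B) (hη : η ∉ B) :
    omega (η : G → ℂ) (regFun p (χ : G → ℂ)) = 0 := by
  have h := congrArg (starRingEnd ℂ) (sum_regular_mul_conj_eq_zero hM hB hχ hη)
  rw [map_sum, map_zero] at h
  rw [omega, div_eq_zero_iff]
  left
  refine Eq.trans (Finset.sum_congr rfl fun x _ => ?_) h
  rw [regFun]
  split_ifs
  · simp
  · rw [IsCharacter.apply_inv (irr_isCharacter χ), map_mul, Complex.conj_conj]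

theorem omega_regFun_mul_symm (p : ℕ) (χ η : IrrCharacter G) :
    omega (η : G → ℂ) (regFun p (χ : G → ℂ)) * (η : G → ℂ) 1 =
      omega (χ : G → ℂ) (regFun p (η : G → ℂ)) * (χ : G → ℂ) 1 := by
  rw [omega_mul_apply_one η.2, omega_mul_apply_one χ.2]
  refine Fintype.sum_equiv (Equiv.inv G) _ _ fun x => ?_
  simp only [regFun, Equiv.inv_apply, orderOf_inv, inv_inv]
  split_ifs <;> ring

/-- **Height zero criterion**: the central characters of `B` are units at `regFun p χ`. -/
theorem not_memLocalIdeal_omega_regFun (hM : IsPModular p M) {B : Set (IrrCharacter G)}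
    (hB : IsPBlock M B) {χ : IrrCharacter G} (hχ : χ ∈ B)
    (h0 : blockHeight p B (χ : G → ℂ) = 0) {η₀ : IrrCharacter G} (hη₀ : η₀ ∈ B) :
    ¬ MemLocalIdeal M (omega (η₀ : G → ℂ) (regFun p (χ : G → ℂ))) := by
  classical
  intro hzero
  haveI := Fact.mk hM.1
  haveI := Fintype.ofFinite (IrrCharacter G)
  have hZ : IsRCentral M (regFun p (χ : G → ℂ)) := isRCentral_regFun p (irr_isCharacter χ)
  obtain ⟨g, hg⟩ := exists_isDefectClass hM hB
  have hreg : ¬ p ∣ orderOf g := IsDefectClass.regular hM hB hg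
  have hχg := not_memLocalIdeal_apply_of_height_zero hM hB hg hχ h0
  obtain ⟨P⟩ : Nonempty (Sylow p (Subgroup.centralizer ({g} : Set G))) := inferInstance
  set D := sylowSub P
  haveI := Fintype.ofFinite D
  have hgD : g ∈ Subgroup.centralizer (D : Set G) := mem_centralizer_sylowSub P
  have hS : ∑ d : D, regFun p (χ : G → ℂ) (g * (d : G))⁻¹ = (χ : G → ℂ) g := by
    rw [Finset.sum_eq_single (1 : D)]
    · simp [regFun, hreg]
    · intro d _ hd
      have hcomm : Commute g (d : G) := (Subgroup.mem_centralizer_iff.1 hgD d d.2).symm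
      obtain ⟨k, hk⟩ := IsPGroup.iff_orderOf.1 (isPGroup_sylowSub P) d
      have hk' : orderOf (d : G) = p ^ k := by rw [Subgroup.orderOf_coe]; exact hk
      have hk0 : k ≠ 0 := by
        rintro rfl
        rw [pow_zero, orderOf_eq_one_iff] at hk
        exact hd hk
      rw [regFun, if_pos]
      rw [orderOf_inv, hcomm.orderOf_mul_eq_mul_orderOf_of_coprime, hk']
      · exact dvd_mul_of_dvd_right (dvd_pow_self p hk0) _
      · rw [hk']; exact ((hM.1.coprime_iff_not_dvd.2 hreg).symm).pow_right k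
    · simp
  let a : IrrCharacter G → ℂ := fun η =>
    (∑ d : D, (η : G → ℂ) (g * (d : G))) / (Nat.card D : ℂ)
  have hD0 : (Nat.card D : ℂ) ≠ 0 := natCard_ne_zero_complex
  have hmain : (Nat.card G : ℂ) * (χ : G → ℂ) g = (Nat.card D : ℂ) * ∑ η : IrrCharacter G,
      omega (η : G → ℂ) (regFun p (χ : G → ℂ)) * (η : G → ℂ) 1 * a η := by
    rw [← hS, Finset.mul_sum, Finset.mul_sum,
      Finset.sum_congr rfl fun d _ => by
        rw [eq_sum_omega hZ.1, ← mul_assoc, mul_inv_cancel₀ natCard_ne_zero_complex, one_mul],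
      Finset.sum_comm]
    refine Finset.sum_congr rfl fun η _ => ?_
    simp only [a]
    rw [mul_left_comm, mul_div_cancel₀ _ hD0, Finset.mul_sum]
    refine Finset.sum_congr rfl fun d _ => ?_
    rw [IsCharacter.apply_inv (irr_isCharacter η), Complex.conj_conj]
  obtain ⟨j, hj, hjp⟩ :=
    exists_eq_pow_mul hM.1 (Subgroup.centralizer ({g} : Set G)).index_ne_zero_of_finite
  obtain ⟨i, hi, hip⟩ := exists_eq_pow_mul hM.1
    (Nat.card_pos (α := Subgroup.centralizer ({g} : Set G))).ne'
  set m := (Subgroup.centralizer ({g} : Set G)).index.factorization p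
  have hcardG : (Nat.card G : ℂ) = (p : ℂ) ^ m * j * ((Nat.card D : ℂ) * i) := by
    rw [← Subgroup.index_mul_card (Subgroup.centralizer ({g} : Set G)), hj,
      show Nat.card D = p ^ (Nat.card (Subgroup.centralizer ({g} : Set G))).factorization p from
        card_sylowSub P, Nat.cast_mul, hi]
    push_cast
    rw [← hi]
  have hp0 : (p : ℂ) ≠ 0 := Nat.cast_ne_zero.2 hM.1.ne_zero
  have hstep : ((j * i : ℕ) : ℂ) * (χ : G → ℂ) g = ∑ η : IrrCharacter G,
      omega (η : G → ℂ) (regFun p (χ : G → ℂ)) * ((η : G → ℂ) 1 / (p : ℂ) ^ m) * a η := by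
    apply mul_left_cancel₀ (mul_ne_zero (pow_ne_zero m hp0) hD0)
    rw [Finset.mul_sum]
    rw [hcardG, Finset.mul_sum] at hmain
    push_cast
    rw [← mul_assoc, show (p : ℂ) ^ m * (Nat.card D : ℂ) * ((j : ℂ) * (i : ℂ)) =
      (p : ℂ) ^ m * (j : ℂ) * ((Nat.card D : ℂ) * (i : ℂ)) by ring, hmain]
    refine Finset.sum_congr rfl fun η _ => ?_
    field_simp
  refine not_memLocalIdeal_mul (memLocalRing_natCast (j * i))
    (memLocalRing_of_isIntegral' (isIntegral_char χ g))
    (fun h => ((hM.1.dvd_mul).1 ((memLocalIdeal_natCast_iff hM _).1 h)).elim hjp hip) hχg ?_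
  rw [hstep]
  refine memLocalIdeal_sum _ fun η _ => ?_
  by_cases hη : η ∈ B
  · have hω : MemLocalIdeal M (omega (η : G → ℂ) (regFun p (χ : G → ℂ))) := by
      simpa using memLocalIdeal_add
        (omega_congr_of_sameBlock (IsPBlock.sameBlock hB hη hη₀) hZ) hzero
    obtain ⟨u, hu, -⟩ := exists_eq_pow_mul hM.1 (charDegree_pos η).ne'
    obtain ⟨d, hd⟩ := Nat.exists_eq_add_of_le (degree_class_valuation hM η (hg.2.2 η hη)).1
    have : (η : G → ℂ) 1 / (p : ℂ) ^ m = (p : ℂ) ^ d * u := by
      rw [hd] at hu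
      rw [← charDegree_eq η, hu]
      push_cast
      field_simp
      ring
    rw [this]
    exact memLocalIdeal_mul_right (memLocalIdeal_mul_right hω
      (memLocalRing_mul (memLocalRing_pow (memLocalRing_natCast p) d) (memLocalRing_natCast u)))
      (memLocalRing_of_isIntegral' (isIntegral_sum_coset_div (irr_isCharacter η) D hgD))
  · rw [omega_regFun_eq_zero hM hB hχ hη, zero_mul, zero_mul]
    exact memLocalIdeal_zero

/-- The central characters at `regFun p χ` for `χ` of positive height vanish modulo `M` on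
characters of height zero. -/
theorem memLocalIdeal_omega_regFun_of_height_pos (hM : IsPModular p M)
    {B : Set (IrrCharacter G)} {ξ ζ : IrrCharacter G}
    (hξ : ξ ∈ B) (h0 : blockHeight p B (ξ : G → ℂ) = 0)
    (hpos : blockHeight p B (ζ : G → ℂ) ≠ 0) :
    MemLocalIdeal M (omega (ξ : G → ℂ) (regFun p (ζ : G → ℂ))) := by
  obtain ⟨u, hu, hup⟩ := exists_eq_pow_mul hM.1 (charDegree_pos ξ).ne'
  obtain ⟨w, hw, -⟩ := exists_eq_pow_mul hM.1 (charDegree_pos ζ).ne'
  rw [blockHeight, Nat.sub_eq_zero_iff_le] at h0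
  rw [blockHeight, Ne, Nat.sub_eq_zero_iff_le] at hpos
  have hge := Nat.sInf_le (Set.mem_image_of_mem
    (fun ψ : IrrCharacter G => (charDegree (ψ : G → ℂ)).factorization p) hξ)
  obtain ⟨d, hd⟩ := Nat.exists_eq_add_of_lt (lt_of_le_of_lt h0 (not_le.1 hpos))
  set v := (charDegree (ξ : G → ℂ)).factorization p
  have hp0 : (p : ℂ) ≠ 0 := Nat.cast_ne_zero.2 hM.1.ne_zero
  have h := omega_regFun_mul_symm p ζ ξ
  rw [← charDegree_eq ξ, ← charDegree_eq ζ, hu, hw, hd] at h
  push_cast at h
  have h2 : omega (ξ : G → ℂ) (regFun p (ζ : G → ℂ)) * (u : ℂ) =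
      (p : ℂ) * ((p : ℂ) ^ d * (w : ℂ) * omega (ζ : G → ℂ) (regFun p (ξ : G → ℂ))) := by
    apply mul_left_cancel₀ (pow_ne_zero v hp0)
    rw [pow_succ, pow_add] at h
    linear_combination h
  refine ((memLocalIdeal_mul_iff (memLocalRing_omega
    (isRCentral_regFun p (irr_isCharacter ζ)) ξ) (memLocalRing_natCast u)).1 ?_).resolve_right
    fun hh => hup ((memLocalIdeal_natCast_iff hM u).1 hh)
  rw [h2]
  exact memLocalIdeal_of_p_mul hM (memLocalRing_mul (memLocalRing_mul
    (memLocalRing_pow (memLocalRing_natCast p) d) (memLocalRing_natCast w))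
    (memLocalRing_omega (isRCentral_regFun p (irr_isCharacter ξ)) ζ))

theorem blockHeight_trivIrr (B : Set (IrrCharacter G)) :
    blockHeight p B (trivIrr G : G → ℂ) = 0 := by
  have h : charDegree (trivIrr G : G → ℂ) = 1 := by
    exact_mod_cast (charDegree_eq (trivIrr G)).trans (trivIrr_apply (1 : G))
  rw [blockHeight, h, Nat.factorization_one, Finsupp.zero_apply, Nat.zero_sub]

/-- Restriction of an irreducible height zero character picks out the inducing block. -/
theorem isInducedBlock_iff_of_restrict (hM : IsPModular p M) {H : Subgroup G} [Fintype H]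
    {χ : IrrCharacter G} {ψ : IrrCharacter H} (hψ : (ψ : H → ℂ) = resFun H (χ : G → ℂ))
    (h0 : blockHeight p (blockOf M (χ : G → ℂ)) (χ : G → ℂ) = 0)
    (h0' : blockHeight p (blockOf M (ψ : H → ℂ)) (ψ : H → ℂ) = 0)
    {e : Set (IrrCharacter H)} (he : InducedBlockDefined M H e) :
    IsInducedBlock M H e (blockOf M (χ : G → ℂ)) ↔ e = blockOf M (ψ : H → ℂ) := by
  have hZ : IsRCentral M (regFun p (χ : G → ℂ)) := isRCentral_regFun p (irr_isCharacter χ)
  have hres : resFun H (regFun p (χ : G → ℂ)) = regFun p (ψ : H → ℂ) := by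
    rw [resFun_regFun, hψ]
  obtain ⟨B', hB'⟩ := he
  constructor
  · intro h
    obtain ⟨ξ, hξ⟩ := IsPBlock.nonempty h.1
    refine IsPBlock.eq_of_mem h.1 (isPBlock_blockOf ψ) hξ ?_
    by_contra hne
    have h1 := IsInducedBlock.omega_congr h hξ (self_mem_blockOf χ) hZ
    rw [hres, omega_regFun_eq_zero hM (isPBlock_blockOf ψ) (self_mem_blockOf ψ) hne,
      zero_sub] at h1
    exact not_memLocalIdeal_omega_regFun hM (isPBlock_blockOf χ) (self_mem_blockOf χ) h0
      (self_mem_blockOf χ) (by simpa using memLocalIdeal_neg h1)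
  · rintro rfl
    obtain ⟨η, hη⟩ := IsPBlock.nonempty hB'.2.1
    have h1 := IsInducedBlock.omega_congr hB' (self_mem_blockOf ψ) hη hZ
    rw [hres] at h1
    have hmem : η ∈ blockOf M (χ : G → ℂ) := by
      by_contra hne
      rw [omega_regFun_eq_zero hM (isPBlock_blockOf χ) (self_mem_blockOf χ) hne, sub_zero] at h1
      exact not_memLocalIdeal_omega_regFun hM (isPBlock_blockOf ψ) (self_mem_blockOf ψ) h0'
        (self_mem_blockOf ψ) h1
    rwa [IsPBlock.eq_of_mem (isPBlock_blockOf χ) hB'.2.1 hmem hη]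

end Cfsg.Agent.Lib.Blocks
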