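import Cfsg.Agent.Lib.Blocks.SecondMain
import Cfsg.Agent.Lib.Blocks.RegFun

/-!
# Sections in the principal block
-/

set_option autoImplicit false
set_option linter.unusedSectionVars false
set_option linter.style.haveILetI false

namespace Cfsg.Agent.Lib.Blocks

open Cfsg Cfsg.Agent.Lib.Characters
open scoped ComplexConjugate

universe u

variable {G : Type u} [Group G] [Fintype G] {M : Ideal AlgInt} [hMp : M.IsPrime] {p : ℕ}

/-- The `p`-part of an element is unique. -/
theorem isPPart_unique (hp : p.Prime) {g x x' : G} (h : IsPPart p g x) (h' : IsPPart p g x') :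
    x = x' := by
  obtain ⟨y, hxy, hc, hx, hy⟩ := h
  obtain ⟨y', hxy', hc', hx', hy'⟩ := h'
  obtain ⟨n, hn⟩ := exists_pow_eq_regular_part hp hxy hc hx hy
  obtain ⟨n', hn'⟩ := exists_pow_eq_regular_part hp hxy' hc' hx' hy'
  have hcy : Commute y y' := by
    rw [← hn, ← hn']; exact (Commute.refl g).pow_pow _ _
  have hgy : Commute g y := by rw [← hxy]; exact hc.mul_left (Commute.refl y)
  have hgy' : Commute g y' := by rw [← hxy']; exact hc'.mul_left (Commute.refl y')
  have hx_eq : x = g * y⁻¹ := by rw [← hxy, mul_inv_cancel_right]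
  have hx'_eq : x' = g * y'⁻¹ := by rw [← hxy', mul_inv_cancel_right]
  have hcx : Commute x x' := by
    rw [hx_eq, hx'_eq]
    exact ((Commute.refl g).mul_right hgy'.inv_right).mul_left
      (hgy.inv_right.symm.mul_right hcy.inv_inv)
  obtain ⟨a, ha⟩ := hx
  obtain ⟨a', ha'⟩ := hx'
  have h1 : orderOf (x⁻¹ * x') ∣ p ^ (a + a') := by
    refine orderOf_dvd_of_pow_eq_one ?_
    rw [hcx.inv_left.mul_pow, inv_pow]
    have e1 : x ^ p ^ (a + a') = 1 := by rw [pow_add, pow_mul, ← ha, pow_orderOf_eq_one, one_pow]
    have e2 : x' ^ p ^ (a + a') = 1 := by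
      rw [pow_add, mul_comm, pow_mul, ← ha', pow_orderOf_eq_one, one_pow]
    rw [e1, e2, inv_one, one_mul]
  have he : x⁻¹ * x' = y * y'⁻¹ := by
    rw [hx_eq, hx'_eq]; group
  have h2 : orderOf (x⁻¹ * x') ∣ orderOf y * orderOf y' := by
    refine orderOf_dvd_of_pow_eq_one ?_
    rw [he, hcy.inv_right.mul_pow, inv_pow]
    have e1 : y ^ (orderOf y * orderOf y') = 1 := by rw [pow_mul, pow_orderOf_eq_one, one_pow]
    have e2 : y' ^ (orderOf y * orderOf y') = 1 := by
      rw [mul_comm, pow_mul, pow_orderOf_eq_one, one_pow]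
    rw [e1, e2, inv_one, one_mul]
  have hcop : Nat.Coprime (p ^ (a + a')) (orderOf y * orderOf y') :=
    ((hp.coprime_iff_not_dvd.2 fun hd => (hp.dvd_mul.1 hd).elim hy hy')).pow_left _
  have := orderOf_eq_one_iff.1 (Nat.eq_one_of_dvd_one (hcop ▸ Nat.dvd_gcd h1 h2 :))
  exact inv_mul_eq_one.1 this

/-- A class function is the sum of its block parts. -/
theorem sum_blockPart {K : Type u} [Group K] [Fintype K] [Fintype (IrrCharacter K)]
    [DecidableEq (Set (IrrCharacter K))] {θ : K → ℂ} (hθ : IsClassFunction K θ) (y : K) :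
    ∑ B ∈ Finset.univ.image (fun χ : IrrCharacter K => blockOf M (χ : K → ℂ)),
      blockPart B θ y = θ y := by
  classical
  simp only [← sum_blockCoeff_mul_eq_blockPart _ hθ y]
  rw [Finset.sum_comm]
  simp only [← Finset.sum_mul]
  have : ∀ k, (∑ B ∈ Finset.univ.image (fun χ : IrrCharacter K => blockOf M (χ : K → ℂ)),
      blockCoeff B k) = (deltaOne : K → ℂ) k := fun k => by
    rw [← sum_blockCoeff_eq_deltaOne (M := M), Finset.sum_apply]
  simp [this, deltaOne_apply]

section Centralizer

variable {x : G}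

/-- `c ↦ χ (x c)` on the centraliser of `x`. -/
def sectionFun (x : G) (χ : G → ℂ) : Subgroup.centralizer ({x} : Set G) → ℂ := fun c => χ (x * c)

theorem commute_of_mem_centralizer (c : Subgroup.centralizer ({x} : Set G)) :
    Commute (c : G) x :=
  Subgroup.mem_centralizer_singleton_iff.1 c.2

theorem isClassFunction_sectionFun {χ : G → ℂ} (hχ : IsClassFunction G χ) :
    IsClassFunction (Subgroup.centralizer ({x} : Set G)) (sectionFun x χ) := by
  intro c d
  have hd := (commute_of_mem_centralizer d).eq
  show χ (x * ((d : G) * (c : G) * (d : G)⁻¹)) = _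
  rw [show x * ((d : G) * (c : G) * (d : G)⁻¹) = (d : G) * (x * (c : G)) * (d : G)⁻¹ by
    rw [← mul_assoc, ← mul_assoc, ← hd]; group, hχ]
  rfl

/-- The principal block of the centraliser of a `p`-element induces the principal block. -/
theorem inducedBlockDefined_centralizer (hM : IsPModular p M) (hx : ∃ k : ℕ, orderOf x = p ^ k)
    [Fintype (Subgroup.centralizer ({x} : Set G))]
    {b : Set (IrrCharacter (Subgroup.centralizer ({x} : Set G)))} (hb : IsPBlock M b) :
    InducedBlockDefined M (Subgroup.centralizer ({x} : Set G)) b := by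
  obtain ⟨ξ, hξ⟩ := IsPBlock.nonempty hb
  have hxC : x ∈ Subgroup.centralizer ({x} : Set G) := Subgroup.mem_centralizer_singleton_iff.2 rfl
  obtain ⟨ψ, hψ⟩ := exists_induced_char hM (isPGroup_zpowers_of_orderOf hx)
    (H := Subgroup.centralizer ({x} : Set G)) (Subgroup.zpowers_le.2 hxC)
    (fun c hc => Subgroup.mem_centralizer_singleton_iff.2
      (mem_centralizer_zpowers_iff.1 hc).eq.symm) (fun c hc => by
      rw [Subgroup.mem_normalizer_iff]
      intro a
      have key : ∀ a ∈ Subgroup.zpowers x, Commute c a := by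
        rintro a ⟨n, rfl⟩
        exact (show Commute c x from Subgroup.mem_centralizer_singleton_iff.1 hc).zpow_right n
      constructor
      · intro ha
        rwa [(key a ha).eq, mul_inv_cancel_right]
      · intro ha
        have h3 : c * a * c⁻¹ = a := by
          calc c * a * c⁻¹ = c⁻¹ * (c * (c * a * c⁻¹)) := by group
            _ = c⁻¹ * ((c * a * c⁻¹) * c) := by rw [(key _ ha).eq]
            _ = a := by group
        rwa [h3] at ha) ξ
  exact ⟨_, isInducedBlock_of_pair hb (isPBlock_blockOf ψ) hξ (self_mem_blockOf ψ) fun g => by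
    have h := hψ _ (isRCentral_classIndicator (M := M) g)
    rwa [omega_classIndicator (irr_isClassFunction ψ)] at h⟩

/-- The principal block of the centraliser carries all values of the principal block of `G`
on the section. -/
theorem blockPart_principal_eq (hM : IsPModular p M) (hx : ∃ k : ℕ, orderOf x = p ^ k)
    [Fintype (Subgroup.centralizer ({x} : Set G))] {χ : IrrCharacter G}
    (hχ : χ ∈ principalBlock M G) {y : Subgroup.centralizer ({x} : Set G)}
    (hy : ¬ p ∣ orderOf y) :
    blockPart (principalBlock M (Subgroup.centralizer ({x} : Set G)))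
      (sectionFun x (χ : G → ℂ)) y = (χ : G → ℂ) (x * y) := by
  classical
  haveI := Fintype.ofFinite (IrrCharacter (Subgroup.centralizer ({x} : Set G)))
  conv_rhs => rw [show (χ : G → ℂ) (x * y) = sectionFun x (χ : G → ℂ) y from rfl,
    ← sum_blockPart (M := M) (isClassFunction_sectionFun (irr_isClassFunction χ)) y]
  rw [Finset.sum_eq_single (principalBlock M (Subgroup.centralizer ({x} : Set G)))]
  · intro b hb hne
    obtain ⟨η, -, rfl⟩ := Finset.mem_image.1 hb
    refine blockPart_eq_zero hM hx isPBlock_principalBlock hχ (isPBlock_blockOf η) (fun h => ?_) hy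
    exact hne ((isInducedBlock_iff_of_restrict hM (χ := trivIrr G)
      (ψ := trivIrr (Subgroup.centralizer ({x} : Set G))) rfl (blockHeight_trivIrr _)
      (blockHeight_trivIrr _) ⟨_, h⟩).1 h)
  · exact fun h => absurd (Finset.mem_image.2 ⟨trivIrr _, Finset.mem_univ _, rfl⟩) h

/-- Characters outside the principal block have no principal part on the section. -/
theorem blockPart_principal_eq_zero (hM : IsPModular p M) (hx : ∃ k : ℕ, orderOf x = p ^ k)
    [Fintype (Subgroup.centralizer ({x} : Set G))] {χ : IrrCharacter G}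
    (hχ : χ ∉ principalBlock M G) {y : Subgroup.centralizer ({x} : Set G)}
    (hy : ¬ p ∣ orderOf y) :
    blockPart (principalBlock M (Subgroup.centralizer ({x} : Set G)))
      (sectionFun x (χ : G → ℂ)) y = 0 := by
  refine blockPart_eq_zero hM hx (isPBlock_blockOf χ) (self_mem_blockOf χ)
    isPBlock_principalBlock (fun h => ?_) hy
  have h0 : IsInducedBlock M (Subgroup.centralizer ({x} : Set G))
      (principalBlock M (Subgroup.centralizer ({x} : Set G))) (principalBlock M G) :=
    (isInducedBlock_iff_of_restrict hM (χ := trivIrr G)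
      (ψ := trivIrr (Subgroup.centralizer ({x} : Set G))) rfl (blockHeight_trivIrr _)
      (blockHeight_trivIrr _) ⟨_, h⟩).2 rfl
  exact hχ (IsInducedBlock.unique h h0 ▸ self_mem_blockOf χ)

/-- Conjugate elements of a section are conjugate in the centraliser. -/
theorem isConj_section_iff (hp : p.Prime) (hx : ∃ k : ℕ, orderOf x = p ^ k)
    {c y : Subgroup.centralizer ({x} : Set G)} (hc : ¬ p ∣ orderOf c) (hy : ¬ p ∣ orderOf y) :
    IsConj (x * (c : G)) (x * (y : G)) ↔ IsConj c y := by
  constructor
  · intro h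
    obtain ⟨g, hg⟩ := isConj_iff.1 h
    have h1 : IsPPart p (x * (c : G)) x :=
      ⟨c, rfl, (commute_of_mem_centralizer c).symm, hx, by rwa [Subgroup.orderOf_coe]⟩
    have h2 : IsPPart p (x * (y : G)) x :=
      ⟨y, rfl, (commute_of_mem_centralizer y).symm, hx, by rwa [Subgroup.orderOf_coe]⟩
    have h3 := IsPPart.conjugate h1 g
    rw [hg] at h3
    have hgx := isPPart_unique hp h3 h2
    have hgC : g ∈ Subgroup.centralizer ({x} : Set G) :=
      Subgroup.mem_centralizer_singleton_iff.2 (mul_inv_eq_iff_eq_mul.1 hgx)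
    refine isConj_iff.2 ⟨⟨g, hgC⟩, Subtype.ext ?_⟩
    have e : g * (x * (c : G)) * g⁻¹ = (g * x * g⁻¹) * (g * c * g⁻¹) := by group
    rw [e, hgx] at hg
    exact mul_left_cancel hg
  · intro h
    obtain ⟨d, hd⟩ := isConj_iff.1 h
    refine isConj_iff.2 ⟨(d : G), ?_⟩
    rw [← hd]
    simp only [Subgroup.coe_mul, Subgroup.coe_inv]
    rw [← mul_assoc, (commute_of_mem_centralizer d).eq]
    group

/-- The centraliser of `x y` is the centraliser of `y` in that of `x`. -/
theorem card_centralizer_mul (hp : p.Prime) (hx : ∃ k : ℕ, orderOf x = p ^ k)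
    {y : Subgroup.centralizer ({x} : Set G)} (hy : ¬ p ∣ orderOf y) :
    Nat.card (Subgroup.centralizer ({x * (y : G)} : Set G)) =
      Nat.card (Subgroup.centralizer ({y} : Set (Subgroup.centralizer ({x} : Set G)))) := by
  have h2 : IsPPart p (x * (y : G)) x :=
    ⟨y, rfl, (commute_of_mem_centralizer y).symm, hx, by rwa [Subgroup.orderOf_coe]⟩
  have hmem : ∀ a : G, a ∈ Subgroup.centralizer ({x * (y : G)} : Set G) →
      a ∈ Subgroup.centralizer ({x} : Set G) ∧ a * (y : G) = (y : G) * a := by
    intro a ha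
    have ha' := Subgroup.mem_centralizer_singleton_iff.1 ha
    have h3 := IsPPart.conjugate h2 a
    rw [ha', mul_inv_cancel_right] at h3
    have hax : a * x = x * a := mul_inv_eq_iff_eq_mul.1 (isPPart_unique hp h3 h2)
    refine ⟨Subgroup.mem_centralizer_singleton_iff.2 hax, ?_⟩
    rw [← mul_assoc, hax, mul_assoc, mul_assoc] at ha'
    exact mul_left_cancel ha'
  refine Nat.card_congr
    { toFun := fun a => ⟨⟨a.1, (hmem a.1 a.2).1⟩,
        Subgroup.mem_centralizer_singleton_iff.2 (Subtype.ext (hmem a.1 a.2).2)⟩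
      invFun := fun c => ⟨(c.1 : G), Subgroup.mem_centralizer_singleton_iff.2 ?_⟩
      left_inv := fun a => rfl
      right_inv := fun c => rfl }
  rw [← mul_assoc, (commute_of_mem_centralizer c.1).eq, mul_assoc, mul_assoc,
    show (c.1 : G) * (y : G) = (y : G) * (c.1 : G) from
      congrArg Subtype.val (Subgroup.mem_centralizer_singleton_iff.1 c.2)]

/-- Class functions vanishing on `p`-regular elements have no block parts there. -/
theorem blockPart_eq_zero_of_regular {K : Type u} [Group K] [Fintype K] (hM : IsPModular p M)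
    {b : Set (IrrCharacter K)} (hb : IsPBlock M b) {D : K → ℂ}
    (hD0 : ∀ c, ¬ p ∣ orderOf c → D c = 0) {y : K} (hy : ¬ p ∣ orderOf y) :
    blockPart b D y = 0 := by
  classical
  haveI := Fintype.ofFinite (IrrCharacter K)
  rw [blockPart]
  simp only [finsum_irr_eq_sum_ite, classInner]
  have : ∀ η : IrrCharacter K, (if η ∈ b then
      (Nat.card K : ℂ)⁻¹ * (∑ c : K, D c * conj ((η : K → ℂ) c)) * (η : K → ℂ) y else 0) =
      ∑ c : K, (Nat.card K : ℂ)⁻¹ * D c *
        (if η ∈ b then (η : K → ℂ) y * conj ((η : K → ℂ) c) else 0) := by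
    intro η
    split_ifs
    · rw [Finset.mul_sum, Finset.sum_mul]
      exact Finset.sum_congr rfl fun c _ => by ring
    · simp
  refine Eq.trans (b := ∑ η : IrrCharacter K, ∑ c : K, (Nat.card K : ℂ)⁻¹ * D c *
    (if η ∈ b then (η : K → ℂ) y * conj ((η : K → ℂ) c) else 0))
    (Finset.sum_congr rfl fun η _ => ?_) ?_
  · convert this η using 2
    congr! 1
    congr 1
    exact Finset.sum_congr (by ext; simp) fun _ _ => rfl
  rw [Finset.sum_comm]
  refine Finset.sum_eq_zero fun c _ => ?_
  by_cases hc : p ∣ orderOf c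
  · rw [← Finset.mul_sum, ← finsum_irr_eq_sum_ite b,
      finsum_regular_singular_eq_zero hM hb hy hc, mul_zero]
  · simp [hD0 c hc]

/-- Additivity of block parts. -/
theorem blockPart_eq_sum {K : Type u} [Group K] [Fintype K] {b : Set (IrrCharacter K)}
    {ι : Type*} (s : Finset ι) {F : ι → K → ℂ} (hF : ∀ i ∈ s, IsClassFunction K (F i))
    (a : ι → ℂ) (y : K) :
    blockPart b (fun c => ∑ i ∈ s, a i * F i c) y = ∑ i ∈ s, a i * blockPart b (F i) y := by
  have hcl : IsClassFunction K (fun c => ∑ i ∈ s, a i * F i c) := fun g h =>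
    Finset.sum_congr rfl fun i hi => by rw [hF i hi g h]
  rw [← sum_blockCoeff_mul_eq_blockPart b hcl y]
  simp only [Finset.mul_sum]
  rw [Finset.sum_comm]
  refine Finset.sum_congr rfl fun i hi => ?_
  rw [← sum_blockCoeff_mul_eq_blockPart b (hF i hi) y, Finset.mul_sum]
  exact Finset.sum_congr rfl fun k _ => by ring

/-- The block part of an irreducible character. -/
theorem blockPart_irr {K : Type u} [Group K] [Fintype K] (b : Set (IrrCharacter K))
    (η : IrrCharacter K) [Decidable (η ∈ b)] (y : K) :
    blockPart b (η : K → ℂ) y = if η ∈ b then (η : K → ℂ) y else 0 := by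
  rw [← sum_blockCoeff_mul_eq_blockPart b (irr_isClassFunction η) y,
    sum_mul_char_mul η.2 (isClassFunction_blockCoeff b), omega_blockCoeff]
  split_ifs <;> simp

/-- **Norms on a section of the principal block.** -/
theorem sum_principal_section (hM : IsPModular p M) (hx : ∃ k : ℕ, orderOf x = p ^ k)
    [Fintype (Subgroup.centralizer ({x} : Set G))] [Fintype (IrrCharacter G)]
    [Fintype (IrrCharacter (Subgroup.centralizer ({x} : Set G)))]
    [DecidablePred (· ∈ principalBlock M G)]
    [DecidablePred (· ∈ principalBlock M (Subgroup.centralizer ({x} : Set G)))]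
    {y : Subgroup.centralizer ({x} : Set G)} (hy : ¬ p ∣ orderOf y) :
    (∑ ζ : IrrCharacter G, if ζ ∈ principalBlock M G then
        conj ((ζ : G → ℂ) (x * y)) * (ζ : G → ℂ) (x * y) else 0) =
      ∑ η : IrrCharacter (Subgroup.centralizer ({x} : Set G)),
        if η ∈ principalBlock M (Subgroup.centralizer ({x} : Set G)) then
          conj ((η : _ → ℂ) y) * (η : _ → ℂ) y else 0 := by
  classical
  let F : Subgroup.centralizer ({x} : Set G) → ℂ := fun c =>
    ∑ ζ : IrrCharacter G, conj ((ζ : G → ℂ) (x * y)) * sectionFun x (ζ : G → ℂ) c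
  let F' : Subgroup.centralizer ({x} : Set G) → ℂ := fun c =>
    ∑ η : IrrCharacter (Subgroup.centralizer ({x} : Set G)),
      conj ((η : _ → ℂ) y) * (η : _ → ℂ) c
  have h1 : blockPart (principalBlock M (Subgroup.centralizer ({x} : Set G))) F y = ∑ ζ : IrrCharacter G, if ζ ∈ principalBlock M G then
      conj ((ζ : G → ℂ) (x * y)) * (ζ : G → ℂ) (x * y) else 0 := by
    rw [blockPart_eq_sum _ fun ζ _ => isClassFunction_sectionFun (irr_isClassFunction ζ)]
    refine Finset.sum_congr rfl fun ζ _ => ?_
    split_ifs with h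
    · rw [blockPart_principal_eq hM hx h hy]
    · rw [blockPart_principal_eq_zero hM hx h hy, mul_zero]
  have h2 : blockPart (principalBlock M (Subgroup.centralizer ({x} : Set G))) F' y = ∑ η : IrrCharacter (Subgroup.centralizer ({x} : Set G)),
      if η ∈ (principalBlock M (Subgroup.centralizer ({x} : Set G))) then conj ((η : _ → ℂ) y) * (η : _ → ℂ) y else 0 := by
    rw [blockPart_eq_sum _ fun η _ => irr_isClassFunction η]
    refine Finset.sum_congr rfl fun η _ => ?_
    rw [blockPart_irr]
    split_ifs <;> simp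
  have hD : ∀ c, ¬ p ∣ orderOf c → F c = F' c := by
    intro c hc
    simp only [F, F', sectionFun, mul_comm (conj _)]
    rw [sum_irr_mul_conj, sum_irr_mul_conj]
    by_cases h : IsConj c y
    · rw [if_pos h, if_pos ((isConj_section_iff hM.1 hx hc hy).2 h),
        card_centralizer_mul hM.1 hx hc]
    · rw [if_neg h, if_neg fun hh => h ((isConj_section_iff hM.1 hx hc hy).1 hh)]
  have h3 := blockPart_eq_zero_of_regular (D := fun c => F c - F' c) hM
    (isPBlock_principalBlock : IsPBlock M (principalBlock M (Subgroup.centralizer ({x} : Set G)))) (fun c hc => by rw [hD c hc, sub_self]) hy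
  have hFc : IsClassFunction (Subgroup.centralizer ({x} : Set G)) F := fun g h =>
    Finset.sum_congr rfl fun ζ _ => by rw [isClassFunction_sectionFun (irr_isClassFunction ζ) g h]
  have hF'c : IsClassFunction (Subgroup.centralizer ({x} : Set G)) F' := fun g h =>
    Finset.sum_congr rfl fun η _ => by rw [irr_isClassFunction η g h]
  have hsplit : blockPart (principalBlock M (Subgroup.centralizer ({x} : Set G))) (fun c => F c - F' c) y = blockPart (principalBlock M (Subgroup.centralizer ({x} : Set G))) F y - blockPart (principalBlock M (Subgroup.centralizer ({x} : Set G))) F' y := by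
    rw [← sum_blockCoeff_mul_eq_blockPart (principalBlock M (Subgroup.centralizer ({x} : Set G))) (fun g h => by rw [hFc g h, hF'c g h]) y,
      ← sum_blockCoeff_mul_eq_blockPart (principalBlock M (Subgroup.centralizer ({x} : Set G))) hFc y, ← sum_blockCoeff_mul_eq_blockPart (principalBlock M (Subgroup.centralizer ({x} : Set G))) hF'c y,
      ← Finset.sum_sub_distrib]
    exact Finset.sum_congr rfl fun k _ => by ring
  rw [hsplit, h1, h2, sub_eq_zero] at h3
  exact h3

end Centralizer

end Cfsg.Agent.Lib.Blocks
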