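import Cfsg.Agent.Lib.Blocks.Osima
import Mathlib.GroupTheory.PGroup

/-!
# Sums invariant under a `p`-group and the Brauer truncation

A sum of a `P`-invariant function is congruent modulo `M` to the sum over `C(P)`; consequently
truncation of class functions to `C(P)` respects convolution modulo `M`.
-/

set_option autoImplicit false
set_option linter.unusedSectionVars false
set_option linter.style.haveILetI false

namespace Cfsg.Agent.Lib.Blocks

open Cfsg Cfsg.Agent.Lib.Characters

universe u v

variable {G : Type u} [Group G] [Fintype G]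

/-- A function invariant under conjugation by the elements of `P`. -/
def IsPInv {A : Type v} (P : Subgroup G) (F : G → A) : Prop :=
  ∀ a ∈ P, ∀ x, F (a * x * a⁻¹) = F x

theorem isPInv_of_isClassFunction (P : Subgroup G) {f : G → ℂ} (hf : IsClassFunction G f) :
    IsPInv P f := fun a _ x => hf x a

theorem mem_centralizer_subgroup_iff {P : Subgroup G} {x : G} :
    x ∈ Subgroup.centralizer (P : Set G) ↔ ∀ a ∈ P, a * x = x * a :=
  Subgroup.mem_centralizer_iff

theorem conj_mem_centralizer_iff {P : Subgroup G} {a : G} (ha : a ∈ P) {x : G} :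
    a * x * a⁻¹ ∈ Subgroup.centralizer (P : Set G) ↔ x ∈ Subgroup.centralizer (P : Set G) := by
  constructor
  · intro h
    have h' := mem_centralizer_subgroup_iff.1 h a ha
    have : a * x * a⁻¹ = x := by
      have h'' := congrArg (fun t => a⁻¹ * t) h'
      simpa [mul_assoc] using h''
    rwa [this] at h
  · intro h
    rwa [mem_centralizer_subgroup_iff.1 h a ha, mul_inv_cancel_right]

/-- A `p`-group fixing every function value and no point of `S` has `p` dividing `|S|`;
summed form for a group in which multiplication by `p` is zero. -/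
theorem sum_eq_zero_of_pgroup_conj {A : Type v} [AddCommMonoid A] {p : ℕ} [hp : Fact p.Prime]
    (hpA : ∀ a : A, p • a = 0) (P : Subgroup G) (hP : IsPGroup p P) (F : G → A)
    (hF : IsPInv P F) (h0 : ∀ x ∈ Subgroup.centralizer (P : Set G), F x = 0) :
    ∑ x, F x = 0 := by
  classical
  rw [← Finset.sum_fiberwise_of_maps_to (s := Finset.univ) (t := Finset.univ.image F) (g := F)
    (fun x hx => Finset.mem_image_of_mem F hx) F]
  refine Finset.sum_eq_zero fun c _ => ?_
  rw [Finset.sum_congr rfl (fun x hx => (Finset.mem_filter.1 hx).2), Finset.sum_const]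
  by_cases hc0 : c = 0
  · rw [hc0, smul_zero]
  let S := {x : G // F x = c}
  letI : MulAction P S :=
    { smul := fun a x => ⟨(a : G) * x.1 * (a : G)⁻¹, by rw [hF a.1 a.2]; exact x.2⟩
      one_smul := fun x => Subtype.ext (show (1 : G) * x.1 * (1 : G)⁻¹ = x.1 by simp)
      mul_smul := fun a b x => Subtype.ext (show ((a : G) * b) * x.1 * ((a : G) * b)⁻¹ =
          (a : G) * ((b : G) * x.1 * (b : G)⁻¹) * (a : G)⁻¹ by group) }
  have hfix : Nat.card (MulAction.fixedPoints P S) = 0 := by
    rw [Nat.card_eq_zero]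
    refine Or.inl ⟨fun x => hc0 ?_⟩
    have hx : (x.1.1 : G) ∈ Subgroup.centralizer (P : Set G) := by
      rw [mem_centralizer_subgroup_iff]
      intro a ha
      have h1 : a * x.1.1 * a⁻¹ = x.1.1 := congrArg Subtype.val (x.2 ⟨a, ha⟩)
      exact mul_inv_eq_iff_eq_mul.1 h1
    rw [← x.1.2, h0 _ hx]
  have hmod := hP.card_modEq_card_fixedPoints S
  rw [hfix] at hmod
  obtain ⟨k, hk⟩ := Nat.modEq_zero_iff_dvd.1 hmod
  rw [Nat.card_eq_fintype_card, Fintype.card_subtype] at hk
  rw [hk, mul_comm, mul_smul, hpA, smul_zero]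

variable {M : Ideal AlgInt} [hMp : M.IsPrime] {p : ℕ}

/-- **Fixed point congruence.** -/
theorem memLocalIdeal_sum_sub_sum_centralizer (hM : IsPModular p M) (P : Subgroup G)
    [DecidablePred (· ∈ Subgroup.centralizer (P : Set G))]
    (hP : IsPGroup p P) (F : G → ℂ) (hR : ∀ x, MemLocalRing M (F x)) (hF : IsPInv P F) :
    MemLocalIdeal M (∑ x, F x -
      ∑ x, if x ∈ Subgroup.centralizer (P : Set G) then F x else 0) := by
  classical
  haveI := Fact.mk hM.1
  haveI := resField_charP (M := M) hM
  let F' : G → ResField M := fun x =>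
    if x ∈ Subgroup.centralizer (P : Set G) then 0 else red M ⟨F x, hR x⟩
  have h := sum_eq_zero_of_pgroup_conj (p := p)
    (fun a => by rw [nsmul_eq_mul, CharP.cast_eq_zero, zero_mul]) P hP F'
    (fun a ha x => by simp only [F', conj_mem_centralizer_iff ha, hF a ha x])
    (fun x hx => if_pos hx)
  let F'' : G → locSubring M := fun x =>
    if x ∈ Subgroup.centralizer (P : Set G) then 0 else ⟨F x, hR x⟩
  have h2 : red M (∑ x, F'' x) = 0 := by
    rw [map_sum, ← h]
    refine Finset.sum_congr rfl fun x _ => ?_
    simp only [F', F'']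
    split_ifs <;> simp
  rw [red_eq_zero_iff] at h2
  convert h2 using 1
  rw [AddSubmonoidClass.coe_finsetSum, ← Finset.sum_sub_distrib]
  refine Finset.sum_congr rfl fun x _ => ?_
  simp only [F'']
  split_ifs <;> simp

/-- Truncation of a function to `C(P)` (the Brauer map). -/
noncomputable def trunc (P : Subgroup G) (f : G → ℂ) : G → ℂ :=
  (Subgroup.centralizer (P : Set G) : Set G).indicator f

theorem trunc_of_mem {P : Subgroup G} {f : G → ℂ} {x : G}
    (hx : x ∈ Subgroup.centralizer (P : Set G)) : trunc P f x = f x :=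
  Set.indicator_of_mem hx f

theorem trunc_of_notMem {P : Subgroup G} {f : G → ℂ} {x : G}
    (hx : x ∉ Subgroup.centralizer (P : Set G)) : trunc P f x = 0 :=
  Set.indicator_of_notMem hx f

theorem memLocalRing_trunc {P : Subgroup G} {f : G → ℂ} (hf : ∀ x, MemLocalRing M (f x)) (x : G) :
    MemLocalRing M (trunc P f x) := by
  by_cases hx : x ∈ Subgroup.centralizer (P : Set G)
  · rw [trunc_of_mem hx]; exact hf x
  · rw [trunc_of_notMem hx]; exact memLocalRing_zero

theorem isClassFunction_trunc_of_normal {P : Subgroup G} [hn : P.Normal] {f : G → ℂ}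
    (hf : IsClassFunction G f) : IsClassFunction G (trunc P f) := by
  intro g h
  haveI : (Subgroup.centralizer (P : Set G)).Normal := inferInstance
  by_cases hg : g ∈ Subgroup.centralizer (P : Set G)
  · rw [trunc_of_mem hg, trunc_of_mem (Subgroup.Normal.conj_mem inferInstance g hg h), hf]
  · rw [trunc_of_notMem hg, trunc_of_notMem fun hh => hg ?_]
    simpa [mul_assoc] using Subgroup.Normal.conj_mem inferInstance _ hh h⁻¹

/-- **The Brauer map is multiplicative modulo `M`.** -/
theorem trunc_conv_congr (hM : IsPModular p M) (P : Subgroup G) (hP : IsPGroup p P)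
    {f f' : G → ℂ} (hf : ∀ x, MemLocalRing M (f x)) (hf' : ∀ x, MemLocalRing M (f' x))
    (hfi : IsPInv P f) (hfi' : IsPInv P f') (y : G) :
    MemLocalIdeal M (trunc P (conv f f') y - conv (trunc P f) (trunc P f') y) := by
  classical
  by_cases hy : y ∈ Subgroup.centralizer (P : Set G)
  · rw [trunc_of_mem hy]
    have h := memLocalIdeal_sum_sub_sum_centralizer hM P hP (fun x => f x * f' (x⁻¹ * y))
      (fun x => memLocalRing_mul (hf x) (hf' _)) ?_
    · have e : conv (trunc P f) (trunc P f') y =
          ∑ x, if x ∈ Subgroup.centralizer (P : Set G) then f x * f' (x⁻¹ * y) else 0 := by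
        refine Finset.sum_congr rfl fun x _ => ?_
        split_ifs with hx
        · rw [trunc_of_mem hx, trunc_of_mem (mul_mem (inv_mem hx) hy)]
        · rw [trunc_of_notMem hx, zero_mul]
      rw [e]
      exact h
    · intro a ha x
      show f (a * x * a⁻¹) * f' ((a * x * a⁻¹)⁻¹ * y) = _
      rw [hfi a ha x]
      congr 1
      rw [← hfi' a ha (x⁻¹ * y)]
      congr 1
      have := mem_centralizer_subgroup_iff.1 hy a ha
      calc (a * x * a⁻¹)⁻¹ * y = a * x⁻¹ * (a⁻¹ * y) := by group
        _ = a * x⁻¹ * (y * a⁻¹) := by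
          congr 1
          rw [eq_mul_inv_iff_mul_eq, mul_assoc, ← this, inv_mul_cancel_left]
        _ = a * (x⁻¹ * y) * a⁻¹ := by group
  · rw [trunc_of_notMem hy, zero_sub]
    refine memLocalIdeal_neg (memLocalIdeal_sum _ fun x _ => ?_)
    by_cases hx : x ∈ Subgroup.centralizer (P : Set G)
    · rw [trunc_of_notMem (x := x⁻¹ * y) fun h => hy (by simpa using mul_mem hx h), mul_zero]
      exact memLocalIdeal_zero
    · rw [trunc_of_notMem hx, zero_mul]
      exact memLocalIdeal_zero

end Cfsg.Agent.Lib.Blocks
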