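import Cfsg.Agent.Lib.Blocks.PermTrace
import Cfsg.Agent.Lib.Blocks.FixedSum
import Mathlib.RingTheory.RootsOfUnity.Complex

/-!
# Orthogonality of sections

For an idempotent `w` of the group ring over the local ring, commuting with the relevant elements,
`∑ t, w (t h t⁻¹ g⁻¹)` vanishes when the `p`-parts of `g` and `h` are not conjugate, or when the
Brauer image of `w` at the `p`-part of `g` is zero.  For block idempotents this is block
orthogonality.
-/

set_option autoImplicit false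
set_option linter.unusedSectionVars false
set_option linter.style.haveILetI false

namespace Cfsg.Agent.Lib.Blocks

open Cfsg Cfsg.Agent.Lib.Characters
open scoped ComplexConjugate

universe u

variable {G : Type u} [Group G] [Fintype G] {M : Ideal AlgInt} [hMp : M.IsPrime] {p : ℕ}

theorem exists_isPPart (hp : p.Prime) (g : G) : ∃ x, IsPPart p g x := by
  obtain ⟨a, m, hm, he⟩ := Nat.exists_eq_pow_mul_and_not_dvd (orderOf_pos g).ne' p hp.ne_one
  have hcop : Nat.Coprime (p ^ a) m := (hp.coprime_iff_not_dvd.2 hm).pow_left a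
  obtain ⟨u, v, huv⟩ := Nat.isCoprime_iff_coprime.2 hcop
  refine ⟨g ^ (v * m : ℤ), g ^ (u * (p ^ a : ℕ) : ℤ), ?_, ?_, ?_, ?_⟩
  · rw [← zpow_add]
    conv_rhs => rw [← zpow_one g, ← huv]
    congr 1
    ring
  · exact (Commute.refl g).zpow_zpow _ _
  · obtain ⟨k, -, hk⟩ := (Nat.dvd_prime_pow hp).1 (show orderOf (g ^ (v * m : ℤ)) ∣ p ^ a by
      apply orderOf_dvd_of_pow_eq_one
      rw [← zpow_natCast, ← zpow_mul, show (v * m : ℤ) * (p ^ a : ℕ) = v * (orderOf g : ℕ) by
        rw [he]; push_cast; ring, mul_comm, zpow_mul, zpow_natCast, pow_orderOf_eq_one, one_zpow])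
    exact ⟨k, hk⟩
  · intro hd
    have h2 : orderOf (g ^ (u * (p ^ a : ℕ) : ℤ)) ∣ m := by
      apply orderOf_dvd_of_pow_eq_one
      rw [← zpow_natCast, ← zpow_mul, show (u * (p ^ a : ℕ) : ℤ) * m = u * (orderOf g : ℕ) by
        rw [he]; push_cast; ring, mul_comm, zpow_mul, zpow_natCast, pow_orderOf_eq_one, one_zpow]
    exact hm (hd.trans h2)

/-- The `p`-part and `p'`-part commute with the element; the `p`-part of a `p`-singular element is
nontrivial. -/
theorem isPPart_ne_one {g x : G} (hx : IsPPart p g x) (hg : p ∣ orderOf g) : x ≠ 1 := by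
  rintro rfl
  obtain ⟨y, hy, -, -, hpy⟩ := hx
  rw [one_mul] at hy
  exact hpy (hy ▸ hg)

theorem isPPart_one_of_not_dvd {g : G} (hg : ¬ p ∣ orderOf g) : IsPPart p g 1 :=
  ⟨g, one_mul g, Commute.one_left g, ⟨0, by simp⟩, hg⟩

theorem IsPPart.conjugate {g x : G} (hx : IsPPart p g x) (t : G) :
    IsPPart p (t * g * t⁻¹) (t * x * t⁻¹) := by
  obtain ⟨y, hy, hc, ⟨k, hk⟩, hpy⟩ := hx
  refine ⟨t * y * t⁻¹, by rw [← hy]; group, ?_, ⟨k, ?_⟩, ?_⟩
  · exact hc.map (MulAut.conj t).toMonoidHom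
  · rw [← hk]; exact orderOf_injective (MulAut.conj t).toMonoidHom (MulAut.conj t).injective x
  · rw [show t * y * t⁻¹ = (MulAut.conj t).toMonoidHom y from rfl,
      orderOf_injective (MulAut.conj t).toMonoidHom (MulAut.conj t).injective]
    exact hpy

/-- Left and right translation as a permutation. -/
def lrPerm (a b : G) : Equiv.Perm G := (Equiv.mulLeft a).trans (Equiv.mulRight b)

theorem lrPerm_apply (a b t : G) : lrPerm a b t = a * t * b := rfl

theorem lrPerm_pow (a b : G) (n : ℕ) : ∀ t, (lrPerm a b ^ n) t = a ^ n * t * b ^ n := by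
  induction n with
  | zero => intro t; simp
  | succ n ih =>
    intro t
    rw [pow_succ, Equiv.Perm.mul_apply, ih, lrPerm_apply, pow_succ a, pow_succ' b]
    simp [mul_assoc]

/-- **Vanishing of idempotent traces on translations.** -/
theorem sum_translate_eq_zero (hM : IsPModular p M) (w : G → ℂ)
    (hwR : ∀ t, MemLocalRing M (w t)) (hww : conv w w = w) (g h x s y r : G)
    (hg : x * s = g) (hxs : Commute x s) (hxk : ∃ k : ℕ, orderOf x = p ^ k)
    (hs : ¬ p ∣ orderOf s) (hh : y * r = h) (hyr : Commute y r)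
    (hyk : ∃ k : ℕ, orderOf y = p ^ k) (hr : ¬ p ∣ orderOf r)
    (hwx : ∀ t, w (x * t * x⁻¹) = w t) (hws : ∀ t, w (s * t * s⁻¹) = w t)
    (hfix : ¬ IsConj x y ∨ ∀ c, Commute c x → MemLocalIdeal M (w c)) :
    ∑ t, w (t * h * t⁻¹ * g⁻¹) = 0 := by
  classical
  haveI := Fact.mk hM.1
  haveI := resField_charP (M := M) hM
  obtain ⟨kx, hkx⟩ := hxk
  obtain ⟨ky, hky⟩ := hyk
  let u : Equiv.Perm G := lrPerm x y⁻¹
  let h' : Equiv.Perm G := lrPerm s r⁻¹
  have hu : u ^ p ^ (kx + ky) = 1 := by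
    refine Equiv.ext fun t => ?_
    have h1 : x ^ p ^ (kx + ky) = 1 := by
      rw [pow_add, pow_mul, ← hkx, pow_orderOf_eq_one, one_pow]
    have h2 : y ^ p ^ (kx + ky) = 1 := by
      rw [pow_add, mul_comm, pow_mul, ← hky, pow_orderOf_eq_one, one_pow]
    rw [lrPerm_pow, inv_pow, h1, h2, inv_one, one_mul, mul_one]; rfl
  have hh' : h' ^ (orderOf s * orderOf r) = 1 := by
    refine Equiv.ext fun t => ?_
    have h1 : s ^ (orderOf s * orderOf r) = 1 := by rw [pow_mul, pow_orderOf_eq_one, one_pow]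
    have h2 : r ^ (orderOf s * orderOf r) = 1 := by
      rw [mul_comm, pow_mul, pow_orderOf_eq_one, one_pow]
    rw [lrPerm_pow, inv_pow, h1, h2, inv_one, one_mul, mul_one]; rfl
  have hcomm : Commute u h' := by
    refine Equiv.ext fun t => ?_
    simp only [u, h', Equiv.Perm.mul_apply, lrPerm_apply]
    calc x * (s * t * r⁻¹) * y⁻¹ = (x * s) * t * (r⁻¹ * y⁻¹) := by group
      _ = (s * x) * t * (y⁻¹ * r⁻¹) := by rw [hxs.eq, hyr.inv_inv.symm.eq]
      _ = _ := by group
  set m := orderOf s * orderOf r with hm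
  have hmpos : 0 < m := Nat.mul_pos (orderOf_pos s) (orderOf_pos r)
  have hpm : ¬ p ∣ m := fun hd => (hM.1.dvd_mul.1 hd).elim hs hr
  let ζ : locSubring M := ⟨Complex.exp (2 * Real.pi * Complex.I / m), memLocalRing_of_isIntegral'
    ((Complex.isPrimitiveRoot_exp m hmpos.ne').isIntegral hmpos)⟩
  have hζ : IsPrimitiveRoot ζ m :=
    IsPrimitiveRoot.of_map_of_injective (f := (locSubring M).subtype)
      (Complex.isPrimitiveRoot_exp m hmpos.ne') Subtype.val_injective
  let W : Matrix G G (locSubring M) := Matrix.of fun a b => ⟨w (a * b⁻¹), hwR _⟩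
  have hWW : W * W = W := by
    refine Matrix.ext fun a b => Subtype.ext ?_
    rw [Matrix.mul_apply, AddSubmonoidClass.coe_finsetSum]
    show ∑ c, w (a * c⁻¹) * w (c * b⁻¹) = w (a * b⁻¹)
    conv_rhs => rw [← congrFun hww (a * b⁻¹)]
    unfold conv
    refine Fintype.sum_equiv ((Equiv.inv G).trans (Equiv.mulLeft a)) _ _ fun c => ?_
    simp [mul_assoc]
  have key := sum_apply_perm_mul_eq_zero (R := locSubring M) p u h' (kx + ky) m hmpos hpm hu hh'
    hcomm ζ hζ W hWW
    (fun a b => Subtype.ext (show w (x * a * y⁻¹ * (x * b * y⁻¹)⁻¹) = w (a * b⁻¹) by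
      rw [show x * a * y⁻¹ * (x * b * y⁻¹)⁻¹ = x * (a * b⁻¹) * x⁻¹ by group, hwx]))
    (fun a b => Subtype.ext (show w (s * a * r⁻¹ * (s * b * r⁻¹)⁻¹) = w (a * b⁻¹) by
      rw [show s * a * r⁻¹ * (s * b * r⁻¹)⁻¹ = s * (a * b⁻¹) * s⁻¹ by group, hws]))
    ?_
  · have key' := congrArg (Subtype.val : locSubring M → ℂ) key
    rw [AddSubmonoidClass.coe_finsetSum, ZeroMemClass.coe_zero] at key'
    rw [← key']
    refine Finset.sum_congr rfl fun t _ => ?_
    show w _ = w (t * (s * (x * t * y⁻¹) * r⁻¹)⁻¹)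
    congr 1
    rw [← hh, ← hg, hxs.eq, hyr.eq]
    group
  · intro a b ha hb
    rw [red_eq_zero_iff (z := W a b)]
    change x * a * y⁻¹ = a at ha
    change x * b * y⁻¹ = b at hb
    rcases hfix with hnc | hz
    · exfalso
      refine hnc (isConj_iff.2 ⟨a⁻¹, ?_⟩)
      rw [inv_inv]
      have h1 : x * a = a * y := mul_inv_eq_iff_eq_mul.1 ha
      rw [mul_assoc, h1, inv_mul_cancel_left]
    · refine hz (a * b⁻¹) ?_
      have ha' : x * a = a * y := mul_inv_eq_iff_eq_mul.1 ha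
      have hb' : x * b = b * y := mul_inv_eq_iff_eq_mul.1 hb
      show a * b⁻¹ * x = x * (a * b⁻¹)
      rw [← mul_assoc, ha', show y = b⁻¹ * x * b by rw [mul_assoc, hb', inv_mul_cancel_left]]
      group

/-- `∑_{χ ∈ A} χ g · χ h⁻¹` as a trace of the idempotent of `A` on a translation. -/
theorem finsum_mul_eq_sum_translate (A : Set (IrrCharacter G)) (g h : G) :
    ∑ᶠ χ ∈ A, (χ : G → ℂ) g * (χ : G → ℂ) h⁻¹ = ∑ t, blockCoeff A (t * h * t⁻¹ * g⁻¹) := by
  classical
  haveI := Fintype.ofFinite (IrrCharacter G)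
  simp only [blockCoeff_eq_finsum_inv, finsum_irr_eq_sum_ite, Finset.mul_sum]
  rw [Finset.sum_comm]
  refine Finset.sum_congr rfl fun χ _ => ?_
  split_ifs with hχ
  · have hne := IsIrrCharacter.apply_one_ne_zero χ.2
    have hn : (Nat.card G : ℂ) ≠ 0 := natCard_ne_zero_complex
    rw [← Finset.mul_sum, ← Finset.mul_sum]
    have : ∀ t : G, (χ : G → ℂ) (t * h * t⁻¹ * g⁻¹)⁻¹ = (χ : G → ℂ) (g * (t * h⁻¹ * t⁻¹)) :=
      fun t => congrArg _ (by group)
    rw [Finset.sum_congr rfl fun t _ => this t, sum_char_mul_conj χ.2]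
    field_simp
  · simp

/-- **Block orthogonality.** -/
theorem finsum_mul_eq_zero (hM : IsPModular p M) {B : Set (IrrCharacter G)} (hB : IsPBlock M B)
    {g h x y : G} (hgx : IsPPart p g x) (hhy : IsPPart p h y)
    (hfix : ¬ IsConj x y ∨ ∀ c, Commute c x → MemLocalIdeal M (blockCoeff B c)) :
    ∑ᶠ χ ∈ B, (χ : G → ℂ) g * (χ : G → ℂ) h⁻¹ = 0 := by
  obtain ⟨s, hs, hxs, hxk, hps⟩ := hgx
  obtain ⟨r, hr, hyr, hyk, hpr⟩ := hhy
  rw [finsum_mul_eq_sum_translate]
  exact sum_translate_eq_zero hM (blockCoeff B) (isRCentral_blockCoeff hM hB).2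
    (blockCoeff_conv_self B) g h x s y r hs hxs hxk hps hr hyr hyk hpr
    (fun t => isClassFunction_blockCoeff B t x) (fun t => isClassFunction_blockCoeff B t s) hfix

theorem finsum_mul_conj_eq_zero (hM : IsPModular p M) {B : Set (IrrCharacter G)}
    (hB : IsPBlock M B) {g h x y : G} (hgx : IsPPart p g x) (hhy : IsPPart p h y)
    (hfix : ¬ IsConj x y ∨ ∀ c, Commute c x → MemLocalIdeal M (blockCoeff B c)) :
    ∑ᶠ χ ∈ B, (χ : G → ℂ) g * conj ((χ : G → ℂ) h) = 0 := by
  simp only [← IsCharacter.apply_inv (irr_isCharacter _)]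
  exact finsum_mul_eq_zero hM hB hgx hhy hfix

/-- **Weak block orthogonality.** -/
theorem finsum_regular_singular_eq_zero (hM : IsPModular p M) {B : Set (IrrCharacter G)}
    (hB : IsPBlock M B) {g h : G} (hg : ¬ p ∣ orderOf g) (hh : p ∣ orderOf h) :
    ∑ᶠ χ ∈ B, (χ : G → ℂ) g * conj ((χ : G → ℂ) h) = 0 := by
  obtain ⟨y, hy⟩ := exists_isPPart hM.1 h
  refine finsum_mul_conj_eq_zero hM hB (isPPart_one_of_not_dvd hg) hy (Or.inl ?_)
  rw [isConj_one_right]
  exact fun he => isPPart_ne_one hy hh he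

/-- The block idempotent is supported on `p`-regular elements. -/
theorem blockCoeff_eq_zero_of_dvd (hM : IsPModular p M) {B : Set (IrrCharacter G)}
    (hB : IsPBlock M B) {y : G} (hy : p ∣ orderOf y) : blockCoeff B y = 0 := by
  rw [blockCoeff, finsum_regular_singular_eq_zero hM hB (g := (1 : G))
    (by rw [orderOf_one, Nat.dvd_one]; exact hM.1.ne_one) hy, mul_zero]

/-- If the Brauer image of `B` at the `p`-part of `g` is zero then all of `B` vanishes at `g`. -/
theorem char_eq_zero_of_trunc_zero (hM : IsPModular p M) {B : Set (IrrCharacter G)}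
    (hB : IsPBlock M B) {g x : G} (hgx : IsPPart p g x)
    (h0 : ∀ c, Commute c x → MemLocalIdeal M (blockCoeff B c)) {χ : IrrCharacter G} (hχ : χ ∈ B) :
    (χ : G → ℂ) g = 0 := by
  classical
  haveI := Fintype.ofFinite (IrrCharacter G)
  have h := finsum_mul_conj_eq_zero hM hB hgx hgx (Or.inr h0)
  rw [finsum_irr_eq_sum_ite] at h
  have h' : (∑ η : IrrCharacter G, if η ∈ B then ‖(η : G → ℂ) g‖ ^ 2 else 0 : ℝ) = 0 := by
    have hc : ((∑ η : IrrCharacter G, if η ∈ B then ‖(η : G → ℂ) g‖ ^ 2 else 0 : ℝ) : ℂ) = 0 := by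
      rw [← h]
      push_cast
      refine Finset.sum_congr rfl fun η _ => ?_
      split_ifs
      · rw [Complex.mul_conj, Complex.normSq_eq_norm_sq]
      · rfl
    exact_mod_cast hc
  have := (Finset.sum_eq_zero_iff_of_nonneg fun η _ => by split_ifs <;> positivity).1 h' χ
    (Finset.mem_univ _)
  rw [if_pos hχ] at this
  simpa using this

end Cfsg.Agent.Lib.Blocks
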