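import Cfsg.Agent.Lib.Blocks.Induced
import Cfsg.Agent.Lib.Blocks.Sections
import Cfsg.Agent.Lib.Characters.Clifford
import Cfsg.Agent.Lib.Characters.Kernel

/-!
# Blocks and normal subgroups
-/

set_option autoImplicit false
set_option linter.unusedSectionVars false
set_option linter.style.haveILetI false

namespace Cfsg.Agent.Lib.Blocks

open Cfsg Cfsg.Agent.Lib.Characters
open scoped ComplexConjugate

universe u

variable {G : Type u} [Group G] [Fintype G] {M : Ideal AlgInt} [hMp : M.IsPrime] {p : ℕ}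
variable (N : Subgroup G) [hN : N.Normal] [Fintype N]

/-- Conjugate of an irreducible character of a normal subgroup. -/
def conjIrrN (g : G) (θ : IrrCharacter N) : IrrCharacter N :=
  ⟨conjFun N g (θ : N → ℂ), IsIrrCharacter.conjFun N θ.2 g⟩

theorem conjIrrN_inv_cancel (g : G) (θ : IrrCharacter N) :
    conjIrrN N g⁻¹ (conjIrrN N g θ) = θ :=
  Subtype.ext (conjFun_inv_cancel N g _)

theorem conjIrrN_cancel_inv (g : G) (θ : IrrCharacter N) :
    conjIrrN N g (conjIrrN N g⁻¹ θ) = θ := by
  simpa using conjIrrN_inv_cancel N g⁻¹ θ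

theorem omega_conjFun (g : G) (θ F : N → ℂ) :
    omega (conjFun N g θ) F = omega θ (conjFun N g⁻¹ F) := by
  rw [omega, omega, conjFun_apply_one]
  congr 1
  refine Fintype.sum_equiv (MulAut.conjNormal g : MulAut N).toEquiv _ _ fun n => ?_
  show F n * θ _ = F _ * θ _
  congr 1
  exact congrArg F (Subtype.ext (by simp [MulAut.conjNormal_apply, mul_assoc]))

theorem isRCentral_conjFun {F : N → ℂ} (hF : IsRCentral M F) (g : G) :
    IsRCentral M (conjFun N g F) := by
  refine ⟨fun a b => ?_, fun x => hF.2 _⟩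
  show F _ = F _
  rw [← hF.1 ⟨g * a * g⁻¹, hN.conj_mem a a.2 g⟩ ⟨g * b * g⁻¹, hN.conj_mem b b.2 g⟩]
  exact congrArg F (Subtype.ext (by simp [mul_assoc]))

theorem sameBlock_conjFun {θ φ : IrrCharacter N} (h : SameBlock M (θ : N → ℂ) (φ : N → ℂ))
    (g : G) : SameBlock M (conjIrrN N g θ : N → ℂ) (conjIrrN N g φ : N → ℂ) := fun n => by
  rw [← omega_classIndicator (irr_isClassFunction (conjIrrN N g θ)),
    ← omega_classIndicator (irr_isClassFunction (conjIrrN N g φ))]
  show MemLocalIdeal M (omega (conjFun N g (θ : N → ℂ)) _ - omega (conjFun N g (φ : N → ℂ)) _)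
  rw [omega_conjFun, omega_conjFun]
  exact omega_congr_of_sameBlock h (isRCentral_conjFun N (isRCentral_classIndicator n) g⁻¹)

theorem exists_constituent_restrict (χ : IrrCharacter G) :
    ∃ θ : IrrCharacter N, classInner (fun n : N => (χ : G → ℂ) n) (θ : N → ℂ) ≠ 0 :=
  IsCharacter.exists_constituent (IsCharacter.restrict (irr_isCharacter χ) N) fun h =>
    IsIrrCharacter.apply_one_ne_zero χ.2 (by simpa using congrFun h 1)

theorem exists_conjIrrN_eq {χ : IrrCharacter G} {θ φ : IrrCharacter N}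
    (hθ : classInner (fun n : N => (χ : G → ℂ) n) (θ : N → ℂ) ≠ 0)
    (hφ : classInner (fun n : N => (χ : G → ℂ) n) (φ : N → ℂ) ≠ 0) :
    ∃ g : G, conjIrrN N g θ = φ := by
  obtain ⟨g, hg⟩ := exists_conjFun_eq N χ.2 θ.2 φ.2 hθ hφ
  exact ⟨g, Subtype.ext hg⟩

theorem classInner_restrict_conjIrrN (χ : IrrCharacter G) (g : G) (θ : IrrCharacter N) :
    classInner (fun n : N => (χ : G → ℂ) n) (conjIrrN N g θ : N → ℂ) =
      classInner (fun n : N => (χ : G → ℂ) n) (θ : N → ℂ) :=
  classInner_restrict_conjFun N (irr_isClassFunction χ) g _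

/-- Central functions supported in `N` act through any constituent. -/
theorem omega_eq_of_constituent {χ : IrrCharacter G} {θ : IrrCharacter N}
    (h : classInner (fun n : N => (χ : G → ℂ) n) (θ : N → ℂ) ≠ 0) {F : G → ℂ}
    (hF : IsClassFunction G F) (hsupp : ∀ x, x ∉ N → F x = 0) :
    omega (χ : G → ℂ) F = omega (θ : N → ℂ) (resFun N F) := by
  classical
  haveI := Fintype.ofFinite (IrrCharacter N)
  have hsum : ∑ x, F x * (χ : G → ℂ) x = ∑ n : N, F n * (χ : G → ℂ) n := by
    rw [← Finset.sum_subset (Finset.subset_univ (Finset.univ.filter (· ∈ N))) fun x _ hx => by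
      rw [hsupp x fun hh => hx (Finset.mem_filter.2 ⟨Finset.mem_univ _, hh⟩), zero_mul]]
    exact Finset.sum_subtype (p := fun x => x ∈ N) _ (fun x => by simp)
      (fun x => F x * (χ : G → ℂ) x)
  have hd := eq_sum_classInner
    (IsCharacter.isClassFunction (IsCharacter.restrict (irr_isCharacter χ) N))
  have h1 : (χ : G → ℂ) 1 = ∑ φ : IrrCharacter N,
      classInner (fun n : N => (χ : G → ℂ) n) (φ : N → ℂ) * (φ : N → ℂ) 1 := by
    simpa [Finset.sum_apply] using congrFun hd 1
  have h2 : ∀ n : N, (χ : G → ℂ) n = ∑ φ : IrrCharacter N,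
      classInner (fun n : N => (χ : G → ℂ) n) (φ : N → ℂ) * (φ : N → ℂ) n := fun n => by
    simpa [Finset.sum_apply] using congrFun hd n
  rw [omega, div_eq_iff (IsIrrCharacter.apply_one_ne_zero χ.2), hsum, h1]
  rw [show (∑ n : N, F (n : G) * (χ : G → ℂ) n) = ∑ n : N, ∑ φ : IrrCharacter N,
      F (n : G) * (classInner (fun n : N => (χ : G → ℂ) n) (φ : N → ℂ) * (φ : N → ℂ) n) from
    Finset.sum_congr rfl fun n _ => by rw [← Finset.mul_sum, ← h2 n], Finset.mul_sum]
  rw [Finset.sum_comm]
  refine Finset.sum_congr rfl fun φ _ => ?_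
  by_cases hc : classInner (fun n : N => (χ : G → ℂ) n) (φ : N → ℂ) = 0
  · simp [hc]
  · obtain ⟨g, hg⟩ := exists_conjIrrN_eq N h hc
    have hω : omega (φ : N → ℂ) (resFun N F) = omega (θ : N → ℂ) (resFun N F) := by
      rw [← hg, show (conjIrrN N g θ : N → ℂ) = conjFun N g (θ : N → ℂ) from rfl, omega_conjFun,
        show conjFun N g⁻¹ (resFun N F) = resFun N F from funext fun n => hF (n : G) g⁻¹]
    rw [← hω, mul_left_comm, omega_mul_apply_one φ.2, Finset.mul_sum]
    exact Finset.sum_congr rfl fun n _ => by rw [resFun]; ring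

/-- The conjugates of a set of characters of `N`. -/
def conjClosure (b : Set (IrrCharacter N)) : Set (IrrCharacter N) :=
  {φ | ∃ g : G, ∃ θ ∈ b, φ = conjIrrN N g θ}

theorem subset_conjClosure (b : Set (IrrCharacter N)) : b ⊆ conjClosure N b := fun θ hθ =>
  ⟨1, θ, hθ, Subtype.ext (conjFun_one N _).symm⟩

theorem conjIrrN_mem_conjClosure_iff (b : Set (IrrCharacter N)) (g : G) (φ : IrrCharacter N) :
    conjIrrN N g φ ∈ conjClosure N b ↔ φ ∈ conjClosure N b := by
  have key : ∀ (g : G) (φ : IrrCharacter N), φ ∈ conjClosure N b →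
      conjIrrN N g φ ∈ conjClosure N b := by
    rintro g _ ⟨h, θ, hθ, rfl⟩
    exact ⟨h * g, θ, hθ, Subtype.ext (conjFun_mul N h g _).symm⟩
  exact ⟨fun h => conjIrrN_inv_cancel N g φ ▸ key g⁻¹ _ h, key g φ⟩

/-- The central idempotent of the conjugates of `b`. -/
noncomputable def orbitIdem (b : Set (IrrCharacter N)) : G → ℂ :=
  extendByZero N (blockCoeff (conjClosure N b))

theorem orbitIdem_of_notMem (b : Set (IrrCharacter N)) {x : G} (hx : x ∉ N) :
    orbitIdem N b x = 0 :=
  extendByZero_of_not_mem N _ hx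

theorem resFun_orbitIdem (b : Set (IrrCharacter N)) :
    resFun N (orbitIdem N b) = blockCoeff (conjClosure N b) :=
  funext fun n => extendByZero_coe N _ n

theorem conjFun_blockCoeff (b : Set (IrrCharacter N)) (g : G) :
    conjFun N g (blockCoeff (conjClosure N b)) = blockCoeff (conjClosure N b) := by
  classical
  refine ext_omega ?_ (isClassFunction_blockCoeff _) fun η => ?_
  · intro a c
    show blockCoeff _ _ = blockCoeff _ _
    rw [← isClassFunction_blockCoeff (conjClosure N b) ⟨g * a * g⁻¹, hN.conj_mem a a.2 g⟩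
      ⟨g * c * g⁻¹, hN.conj_mem c c.2 g⟩]
    exact congrArg _ (Subtype.ext (by simp [mul_assoc]))
  · conv_lhs => rw [show g = g⁻¹⁻¹ from (inv_inv g).symm, ← omega_conjFun]
    rw [show conjFun N g⁻¹ (η : N → ℂ) = (conjIrrN N g⁻¹ η : N → ℂ) from rfl, omega_blockCoeff,
      omega_blockCoeff]
    simp only [conjIrrN_mem_conjClosure_iff]

theorem isClassFunction_orbitIdem (b : Set (IrrCharacter N)) :
    IsClassFunction G (orbitIdem N b) := by
  intro x g
  by_cases hx : x ∈ N
  · have h := congrFun (conjFun_blockCoeff N b g) ⟨x, hx⟩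
    rw [orbitIdem, extendByZero_of_mem _ _ (hN.conj_mem x hx g), extendByZero_of_mem _ _ hx]
    exact h
  · rw [orbitIdem_of_notMem N b hx, orbitIdem_of_notMem N b fun h => hx ?_]
    simpa [mul_assoc] using hN.conj_mem _ h g⁻¹

/-- The orbit idempotent detects the constituents. -/
theorem omega_orbitIdem (b : Set (IrrCharacter N)) {χ : IrrCharacter G} {θ : IrrCharacter N}
    (h : classInner (fun n : N => (χ : G → ℂ) n) (θ : N → ℂ) ≠ 0)
    [Decidable (θ ∈ conjClosure N b)] :
    omega (χ : G → ℂ) (orbitIdem N b) = if θ ∈ conjClosure N b then 1 else 0 := by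
  classical
  rw [omega_eq_of_constituent N h (isClassFunction_orbitIdem N b)
    (fun x hx => orbitIdem_of_notMem N b hx), resFun_orbitIdem, omega_blockCoeff]
  split_ifs <;> rfl

/-- A set of characters closed under blocks has a local integral idempotent. -/
theorem isRCentral_blockCoeff_of_closed {K : Type u} [Group K] [Fintype K] (hM : IsPModular p M)
    {A : Set (IrrCharacter K)} (hA : ∀ χ ∈ A, blockOf M (χ : K → ℂ) ⊆ A) :
    IsRCentral M (blockCoeff A) := by
  classical
  haveI := Fintype.ofFinite (IrrCharacter K)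
  refine isRCentral_blockCoeff_of_congr hM (b := ∑ B ∈ (Finset.univ.filter (· ∈ A)).image
    (fun χ : IrrCharacter K => blockOf M (χ : K → ℂ)), blockCoeff B)
    (IsRCentral.sum _ fun B hB => ?_) (fun η hη => ?_) (fun η hη => ?_)
  · obtain ⟨χ, -, rfl⟩ := Finset.mem_image.1 hB
    exact isRCentral_blockCoeff hM (isPBlock_blockOf χ)
  · rw [omega_sum, Finset.sum_eq_single (blockOf M (η : K → ℂ))]
    · rw [omega_blockCoeff, if_pos (self_mem_blockOf η), sub_self]; exact memLocalIdeal_zero
    · intro B hB hne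
      obtain ⟨χ, -, rfl⟩ := Finset.mem_image.1 hB
      rw [omega_blockCoeff, if_neg (fun h : (η : IrrCharacter K) ∈ blockOf M (χ : K → ℂ) =>
        hne (blockOf_eq_of_sameBlock h))]
    · exact fun h => absurd (Finset.mem_image.2
        ⟨η, Finset.mem_filter.2 ⟨Finset.mem_univ _, hη⟩, rfl⟩) h
  · rw [omega_sum]
    refine memLocalIdeal_sum _ fun B hB => ?_
    obtain ⟨χ, hχ, rfl⟩ := Finset.mem_image.1 hB
    rw [omega_blockCoeff, if_neg fun h => hη (hA χ (Finset.mem_filter.1 hχ).2 h)]
    exact memLocalIdeal_zero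

/-- For a union of blocks the orbit idempotent has local integral coefficients. -/
theorem isRCentral_orbitIdem (hM : IsPModular p M) {b : Set (IrrCharacter N)}
    (hb : ∀ θ ∈ b, blockOf M (θ : N → ℂ) ⊆ b) : IsRCentral M (orbitIdem N b) := by
  refine ⟨isClassFunction_orbitIdem N b, fun x => ?_⟩
  have hS : IsRCentral M (blockCoeff (conjClosure N b)) := by
    refine isRCentral_blockCoeff_of_closed hM ?_
    rintro _ ⟨g, θ, hθ, rfl⟩ ψ hψ
    refine ⟨g, conjIrrN N g⁻¹ ψ, hb θ hθ ?_, (conjIrrN_cancel_inv N g ψ).symm⟩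
    have h := sameBlock_conjFun N hψ g⁻¹
    rw [conjIrrN_inv_cancel] at h
    exact h
  by_cases hx : x ∈ N
  · rw [orbitIdem, extendByZero_of_mem _ _ hx]; exact hS.2 _
  · rw [orbitIdem_of_notMem N b hx]; exact memLocalRing_zero

/-- Characters in one block have constituents in conjugate unions of blocks. -/
theorem constituent_mem_conjClosure (hM : IsPModular p M) {b : Set (IrrCharacter N)}
    (hb : ∀ θ ∈ b, blockOf M (θ : N → ℂ) ⊆ b) {χ χ' : IrrCharacter G}
    (hs : SameBlock M (χ : G → ℂ) (χ' : G → ℂ)) {θ ψ : IrrCharacter N} (hθ : θ ∈ b)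
    (h : classInner (fun n : N => (χ : G → ℂ) n) (θ : N → ℂ) ≠ 0)
    (h' : classInner (fun n : N => (χ' : G → ℂ) n) (ψ : N → ℂ) ≠ 0) :
    ψ ∈ conjClosure N b := by
  classical
  by_contra hn
  have hc := omega_congr_of_sameBlock hs (isRCentral_orbitIdem N hM hb)
  rw [omega_orbitIdem N b h, omega_orbitIdem N b h', if_pos (subset_conjClosure N b hθ), if_neg hn,
    sub_zero] at hc
  exact not_memLocalIdeal_one hc

/-- In a group of order prime to `p` each character is a block. -/
theorem blockOf_eq_singleton_of_not_dvd {K : Type u} [Group K] [Fintype K] (hM : IsPModular p M)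
    (hK : ¬ p ∣ Nat.card K) (θ : IrrCharacter K) : blockOf M (θ : K → ℂ) = {θ} := by
  refine Set.Subset.antisymm (blockOf_subset_of_isRCentral ⟨isClassFunction_blockCoeff _,
    fun x => ?_⟩ rfl) (Set.singleton_subset_iff.2 (self_mem_blockOf θ))
  rw [blockCoeff_eq_finsum_inv, finsum_mem_singleton]
  exact memLocalRing_mul (memLocalRing_inv_natCast hM hK) (memLocalRing_mul
    (memLocalRing_of_isIntegral' (isIntegral_char θ _))
    (memLocalRing_of_isIntegral' (isIntegral_char θ _)))

/-- Characters in one block have the same constituents on a normal `p'`-subgroup. -/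
theorem classInner_ne_zero_of_sameBlock (hM : IsPModular p M) (hNp : ¬ p ∣ Nat.card N)
    {χ χ' : IrrCharacter G} (hs : SameBlock M (χ : G → ℂ) (χ' : G → ℂ)) {θ : IrrCharacter N}
    (h : classInner (fun n : N => (χ : G → ℂ) n) (θ : N → ℂ) ≠ 0) :
    classInner (fun n : N => (χ' : G → ℂ) n) (θ : N → ℂ) ≠ 0 := by
  obtain ⟨ψ, hψ⟩ := exists_constituent_restrict N χ'
  obtain ⟨g, θ', hθ', rfl⟩ := constituent_mem_conjClosure N hM (b := {θ})
    (fun φ hφ => by
      rw [Set.mem_singleton_iff] at hφ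
      rw [hφ, blockOf_eq_singleton_of_not_dvd hM hNp θ]) hs rfl h hψ
  rw [Set.mem_singleton_iff] at hθ'
  rwa [classInner_restrict_conjIrrN, hθ'] at hψ

/-- Containing the trivial constituent is being trivial on `N`. -/
theorem classInner_trivIrr_ne_zero_iff (χ : IrrCharacter G) :
    classInner (fun n : N => (χ : G → ℂ) n) (trivIrr N : N → ℂ) ≠ 0 ↔
      ∀ n ∈ N, (χ : G → ℂ) n = (χ : G → ℂ) 1 := by
  constructor
  · intro h n hn
    have hd := restrict_eq_smul_of_invariant N χ.2 (trivIrr N).2 (fun g => rfl) h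
    have h1 := congrFun hd 1
    have h2 := congrFun hd ⟨n, hn⟩
    simp only [Pi.smul_apply, trivIrr_apply, OneMemClass.coe_one] at h1 h2
    rw [h1, h2]
  · intro h
    have : (fun n : N => (χ : G → ℂ) n) = (χ : G → ℂ) 1 • (trivIrr N : N → ℂ) :=
      funext fun n => by simp [h n n.2]
    rw [this, classInner_smul_left, IsIrrCharacter.classInner_self (trivIrr N).2, mul_one]
    exact IsIrrCharacter.apply_one_ne_zero χ.2

/-- The kernel on a normal `p'`-subgroup is constant in a block. -/
theorem trivial_on_of_sameBlock (hM : IsPModular p M) (hNp : ¬ p ∣ Nat.card N)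
    {χ χ' : IrrCharacter G} (hs : SameBlock M (χ : G → ℂ) (χ' : G → ℂ))
    (h : ∀ n ∈ N, (χ : G → ℂ) n = (χ : G → ℂ) 1) : ∀ n ∈ N, (χ' : G → ℂ) n = (χ' : G → ℂ) 1 :=
  (classInner_trivIrr_ne_zero_iff N χ').1
    (classInner_ne_zero_of_sameBlock N hM hNp hs ((classInner_trivIrr_ne_zero_iff N χ).2 h))

/-- `p`-regular elements lie in a normal subgroup of `p`-power index. -/
theorem mem_of_index_eq_pow {K : Type u} [Group K] [Fintype K] (hp : p.Prime) (L : Subgroup K)
    [L.Normal] {k : ℕ} (hk : L.index = p ^ k) {x : K} (hx : ¬ p ∣ orderOf x) : x ∈ L := by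
  rw [← QuotientGroup.eq_one_iff, ← orderOf_eq_one_iff]
  have h1 : orderOf (x : K ⧸ L) ∣ orderOf x := orderOf_map_dvd (QuotientGroup.mk' L) x
  have h2 : orderOf (x : K ⧸ L) ∣ p ^ k := by
    rw [← hk, Subgroup.index]; exact orderOf_dvd_natCard _
  exact Nat.eq_one_of_dvd_one
    (((hp.coprime_iff_not_dvd.2 hx).pow_left k).symm ▸ Nat.dvd_gcd h1 h2 :)

/-- When `G/N` is a `p`-group, constituents in one block force the same block. -/
theorem sameBlock_of_constituents (hM : IsPModular p M) {k : ℕ} (hk : N.index = p ^ k)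
    {χ χ' : IrrCharacter G} {θ θ' : IrrCharacter N} (hs : SameBlock M (θ : N → ℂ) (θ' : N → ℂ))
    (h : classInner (fun n : N => (χ : G → ℂ) n) (θ : N → ℂ) ≠ 0)
    (h' : classInner (fun n : N => (χ' : G → ℂ) n) (θ' : N → ℂ) ≠ 0) :
    SameBlock M (χ : G → ℂ) (χ' : G → ℂ) := by
  classical
  have hB := isPBlock_blockOf (M := M) χ
  have hsupp : ∀ x, x ∉ N → blockCoeff (blockOf M (χ : G → ℂ)) x = 0 := fun x hx =>
    blockCoeff_eq_zero_of_dvd hM hB (not_not.1 fun hd => hx (mem_of_index_eq_pow hM.1 N hk hd))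
  have hc := omega_congr_of_sameBlock hs (isRCentral_resFun N (isRCentral_blockCoeff hM hB))
  rw [← omega_eq_of_constituent N h (isClassFunction_blockCoeff _) hsupp,
    ← omega_eq_of_constituent N h' (isClassFunction_blockCoeff _) hsupp, omega_blockCoeff,
    omega_blockCoeff, if_pos (self_mem_blockOf χ)] at hc
  by_contra hne
  rw [if_neg (fun hh : χ' ∈ blockOf M (χ : G → ℂ) => hne hh), sub_zero] at hc
  exact not_memLocalIdeal_one hc

/-- Every irreducible character of `N` lies under one of `G`. -/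
theorem exists_over (θ : IrrCharacter N) :
    ∃ χ : IrrCharacter G, classInner (fun n : N => (χ : G → ℂ) n) (θ : N → ℂ) ≠ 0 := by
  obtain ⟨χ, hχ⟩ := IsCharacter.exists_constituent (IsCharacter.indFun N (irr_isCharacter θ))
    fun h => by
      have h1 := congrFun h 1
      rw [indFun_one, Pi.zero_apply, mul_eq_zero] at h1
      exact h1.elim (Nat.cast_ne_zero.2 N.index_ne_zero_of_finite)
        (IsIrrCharacter.apply_one_ne_zero θ.2)
  refine ⟨χ, fun h => hχ ?_⟩
  rw [classInner_indFun N _ (irr_isClassFunction χ), ← classInner_conj_symm, h, map_zero]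

end Cfsg.Agent.Lib.Blocks

namespace Cfsg.Agent.Lib.Blocks

open Cfsg Cfsg.Agent.Lib.Characters

universe v

/-- The idempotent of the characters trivial on a normal subgroup. -/
theorem blockCoeff_trivial_on {G : Type v} [Group G] [Fintype G] (N : Subgroup G) [N.Normal]
    [Fintype N] (B : Set (IrrCharacter G))
    (hB : ∀ η, η ∈ B ↔ ∀ n ∈ N, (η : G → ℂ) n = (η : G → ℂ) 1) :
    blockCoeff B = extendByZero N (fun _ => (Nat.card N : ℂ)⁻¹) := by
  classical
  have hcl : IsClassFunction G (extendByZero N (fun _ => (Nat.card N : ℂ)⁻¹)) := by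
    intro x g
    by_cases hx : x ∈ N
    · rw [extendByZero_of_mem _ _ (Subgroup.Normal.conj_mem inferInstance x hx g),
        extendByZero_of_mem _ _ hx]
    · rw [extendByZero_of_not_mem _ _ hx, extendByZero_of_not_mem _ _ fun h => hx
        (by simpa [mul_assoc] using Subgroup.Normal.conj_mem inferInstance _ h g⁻¹)]
  refine ext_omega (isClassFunction_blockCoeff B) hcl fun η => ?_
  have hres : resFun N (extendByZero N (fun _ => (Nat.card N : ℂ)⁻¹)) =
      fun _ => (Nat.card N : ℂ)⁻¹ := funext fun n => extendByZero_coe N _ n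
  have hom : ∀ θ : IrrCharacter N, omega (θ : N → ℂ) (fun _ : N => (Nat.card N : ℂ)⁻¹) =
      classInner (θ : N → ℂ) (trivIrr N : N → ℂ) / (θ : N → ℂ) 1 := fun θ => by
    rw [omega, classInner, Finset.mul_sum]
    simp
  have key : ∀ θ : IrrCharacter N,
      classInner (fun n : N => (η : G → ℂ) n) (θ : N → ℂ) ≠ 0 →
      omega (η : G → ℂ) (extendByZero N (fun _ => (Nat.card N : ℂ)⁻¹)) =
        classInner (θ : N → ℂ) (trivIrr N : N → ℂ) / (θ : N → ℂ) 1 := fun θ hθ => by
    rw [omega_eq_of_constituent N hθ hcl fun x hx => extendByZero_of_not_mem _ _ hx, hres, hom]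
  rw [omega_blockCoeff]
  by_cases h : η ∈ B
  · rw [if_pos h, key _ ((classInner_trivIrr_ne_zero_iff N η).2 ((hB η).1 h)),
      IsIrrCharacter.classInner_self (trivIrr N).2]
    simp
  · obtain ⟨θ, hθ⟩ := exists_constituent_restrict N η
    have hne : θ ≠ trivIrr N := fun he =>
      h ((hB η).2 ((classInner_trivIrr_ne_zero_iff N η).1 (he ▸ hθ)))
    rw [if_neg h, key θ hθ, classInner_irr, if_neg hne, zero_div]

end Cfsg.Agent.Lib.Blocks
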