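import Cfsg.Agent.Lib.Blocks.Induced
import Cfsg.Agent.Lib.Blocks.Sections

/-!
# Brauer's second main theorem
-/

set_option autoImplicit false
set_option linter.unusedSectionVars false
set_option linter.style.haveILetI false

namespace Cfsg.Agent.Lib.Blocks

open Cfsg Cfsg.Agent.Lib.Characters
open scoped ComplexConjugate

universe u

variable {G : Type u} [Group G] [Fintype G] {M : Ideal AlgInt} [hMp : M.IsPrime] {p : ℕ}

theorem conv_assoc_general (f f' f'' : G → ℂ) : conv (conv f f') f'' = conv f (conv f' f'') := by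
  funext a
  simp only [conv, Finset.sum_mul, Finset.mul_sum]
  rw [Finset.sum_comm]
  refine Finset.sum_congr rfl fun y _ => ?_
  refine Fintype.sum_equiv (Equiv.mulLeft y⁻¹) _ _ fun x => ?_
  simp [mul_assoc]

theorem memLocalIdeal_conv_congr {f f' g g' : G → ℂ} (hf : ∀ x, MemLocalRing M (f x))
    (hg' : ∀ x, MemLocalRing M (g' x)) (h1 : ∀ x, MemLocalIdeal M (f x - g x))
    (h2 : ∀ x, MemLocalIdeal M (f' x - g' x)) (y : G) :
    MemLocalIdeal M (conv f f' y - conv g g' y) := by
  simp only [conv, ← Finset.sum_sub_distrib]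
  refine memLocalIdeal_sum _ fun x _ => ?_
  rw [show f x * f' (x⁻¹ * y) - g x * g' (x⁻¹ * y) =
    f x * (f' (x⁻¹ * y) - g' (x⁻¹ * y)) + (f x - g x) * g' (x⁻¹ * y) by ring]
  exact memLocalIdeal_add (memLocalIdeal_mul_left (hf x) (h2 _))
    (memLocalIdeal_mul_right (h1 x) (hg' _))

theorem mem_centralizer_zpowers_iff {z c : G} :
    c ∈ Subgroup.centralizer ((Subgroup.zpowers z : Subgroup G) : Set G) ↔ Commute z c := by
  rw [mem_centralizer_subgroup_iff]
  refine ⟨fun h => h z (Subgroup.mem_zpowers z), ?_⟩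
  rintro h a ⟨n, rfl⟩
  exact h.zpow_left n

theorem isPGroup_zpowers_of_orderOf {z : G} (hz : ∃ k : ℕ, orderOf z = p ^ k) :
    IsPGroup p (Subgroup.zpowers z) := by
  obtain ⟨k, hk⟩ := hz
  exact IsPGroup.of_card (n := k) (by rw [Nat.card_zpowers, hk])

section Res

variable {H : Subgroup G} [Fintype H] {P : Subgroup G}

theorem resFun_trunc (hPH : P ≤ H) (f : G → ℂ) :
    resFun H (trunc P f) = trunc (P.subgroupOf H) (resFun H f) := by
  funext y
  by_cases hy : (y : G) ∈ Subgroup.centralizer (P : Set G)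
  · rw [trunc_of_mem ((mem_centralizer_subgroupOf hPH y).2 hy)]
    exact trunc_of_mem hy
  · rw [trunc_of_notMem fun h => hy ((mem_centralizer_subgroupOf hPH y).1 h)]
    exact trunc_of_notMem hy

theorem resFun_extendByZero (e : H → ℂ) : resFun H (extendByZero H e) = e := by
  funext y
  exact extendByZero_coe H e y

theorem conv_extendByZero (e e' : H → ℂ) :
    conv (extendByZero H e) (extendByZero H e') = extendByZero H (conv e e') := by
  classical
  funext y
  unfold conv
  rw [sum_extendByZero_mul]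
  by_cases hy : y ∈ H
  · rw [extendByZero_of_mem _ _ hy]
    refine Finset.sum_congr rfl fun x _ => ?_
    rw [show ((x : G)⁻¹ * y) = (((x⁻¹ * ⟨y, hy⟩ : H)) : G) from rfl, extendByZero_coe]
  · rw [extendByZero_of_not_mem _ _ hy]
    refine Finset.sum_eq_zero fun x _ => ?_
    rw [extendByZero_of_not_mem _ _ fun h => hy (by simpa using mul_mem x.2 h), mul_zero]

theorem extendByZero_conj {e : H → ℂ} (he : IsClassFunction H e) {a : G} (ha : a ∈ H) (x : G) :
    extendByZero H e (a * x * a⁻¹) = extendByZero H e x := by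
  by_cases hx : x ∈ H
  · rw [extendByZero_of_mem _ _ hx, extendByZero_of_mem _ _ (mul_mem (mul_mem ha hx) (inv_mem ha))]
    exact he ⟨x, hx⟩ ⟨a, ha⟩
  · rw [extendByZero_of_not_mem _ _ hx, extendByZero_of_not_mem _ _ fun h => hx
      (by simpa [mul_assoc] using mul_mem (mul_mem (inv_mem ha) h) ha)]

theorem memLocalRing_extendByZero {e : H → ℂ} (he : ∀ x, MemLocalRing M (e x)) (x : G) :
    MemLocalRing M (extendByZero H e x) := by
  by_cases hx : x ∈ H
  · rw [extendByZero_of_mem _ _ hx]; exact he _
  · rw [extendByZero_of_not_mem _ _ hx]; exact memLocalRing_zero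

theorem conv_conj_invariant {f f' : G → ℂ} {a : G} (hf : ∀ x, f (a * x * a⁻¹) = f x)
    (hf' : ∀ x, f' (a * x * a⁻¹) = f' x) (y : G) :
    conv f f' (a * y * a⁻¹) = conv f f' y := by
  simp only [conv]
  rw [← Equiv.sum_comp (MulAut.conj a).toEquiv]
  refine Finset.sum_congr rfl fun x _ => ?_
  simp only [MulEquiv.toEquiv_eq_coe, MulEquiv.coe_toEquiv, MulAut.conj_apply, hf x]
  rw [show (a * x * a⁻¹)⁻¹ * (a * y * a⁻¹) = a * (x⁻¹ * y) * a⁻¹ by group, hf']

/-- **Second main theorem, idempotent form**: if `b` induces `B` and the centraliser of the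
`p`-part of `h` lies in `H`, then the `b`-part of a character outside `B` vanishes at `h`. -/
theorem sum_blockCoeff_mul_eq_zero (hM : IsPModular p M) {b : Set (IrrCharacter H)}
    {B : Set (IrrCharacter G)} (hind : IsInducedBlock M H b B) {h : H} {z : G}
    (hz : IsPPart p (h : G) z) (hC : Subgroup.centralizer ({z} : Set G) ≤ H)
    {χ : IrrCharacter G} (hχ : χ ∉ B) :
    ∑ k : H, blockCoeff b k * (χ : G → ℂ) ((k : G) * (h : G)) = 0 := by
  classical
  haveI := Fact.mk hM.1
  obtain ⟨s, hzs, hcs, hzk, hps⟩ := hz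
  have hzH : z ∈ H := hC (Subgroup.mem_centralizer_singleton_iff.2 rfl)
  have hsH : s ∈ H := by
    have : s = z⁻¹ * (h : G) := by rw [← hzs, inv_mul_cancel_left]
    rw [this]; exact mul_mem (inv_mem hzH) h.2
  set P : Subgroup G := Subgroup.zpowers z with hPdef
  have hP : IsPGroup p P := isPGroup_zpowers_of_orderOf hzk
  have hPH : P ≤ H := Subgroup.zpowers_le.2 hzH
  have hCH : Subgroup.centralizer (P : Set G) ≤ H := fun c hc =>
    hC (Subgroup.mem_centralizer_singleton_iff.2 (mem_centralizer_zpowers_iff.1 hc).eq.symm)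
  have hP' : IsPGroup p (P.subgroupOf H) := hP.of_equiv (Subgroup.subgroupOfEquivOfLe hPH).symm
  have hB' := isPBlock_blockOf (M := M) χ
  set B' := blockOf M (χ : G → ℂ)
  have hE := isRCentral_blockCoeff hM hB'
  have he := isRCentral_blockCoeff hM hind.1
  set E := blockCoeff B'
  set e := blockCoeff b
  set f := extendByZero H e
  have hfR : ∀ x, MemLocalRing M (f x) := memLocalRing_extendByZero he.2
  set w := conv E f
  have hwR : ∀ x, MemLocalRing M (w x) := fun x =>
    memLocalRing_sum _ fun y _ => memLocalRing_mul (hE.2 _) (hfR _)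
  have hEE : conv E E = E := blockCoeff_conv_self B'
  have hff : conv f f = f := by rw [conv_extendByZero, blockCoeff_conv_self]
  have hww : conv w w = w := by
    show conv (conv E f) (conv E f) = conv E f
    rw [← conv_assoc_general, conv_assoc_general E f E, ← conv_comm f hE.1, ← conv_assoc_general,
      hEE, conv_assoc_general, hff]
  have hwinv : ∀ a ∈ H, ∀ x, w (a * x * a⁻¹) = w x := fun a ha x =>
    conv_conj_invariant (fun y => hE.1 y a) (extendByZero_conj he.1 ha) x
  -- the truncation of `w` at `z` vanishes modulo `M`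
  let W : H → ℂ := resFun H (trunc P w)
  have hWR : ∀ y, MemLocalRing M (W y) := fun y => memLocalRing_trunc hwR _
  have hwP : IsPInv P w := fun a ha => hwinv a (hPH ha)
  have hfP : IsPInv P f := fun a ha => extendByZero_conj he.1 (hPH ha)
  let N : H → ℂ := conv (resFun H E) e
  have hN : IsRCentral M N := (isRCentral_resFun H hE).conv he
  have hWN : ∀ y, MemLocalIdeal M (trunc (P.subgroupOf H) N y - W y) := by
    intro y
    have h1 := trunc_conv_congr hM (P.subgroupOf H) hP' (isRCentral_resFun H hE).2 he.2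
      (isPInv_of_isClassFunction _ (isRCentral_resFun H hE).1)
      (isPInv_of_isClassFunction _ he.1) y
    have h2 := trunc_conv_congr hM P hP hE.2 hfR (isPInv_of_isClassFunction P hE.1) hfP (y : G)
    rw [← resFun_trunc hPH, ← show resFun H f = e from resFun_extendByZero e,
      ← resFun_trunc hPH f, conv_resFun hCH] at h1
    rw [resFun_extendByZero e] at h1
    have := memLocalIdeal_sub h1 h2
    simpa [W, N, resFun] using this
  have hWW : ∀ y, MemLocalIdeal M (conv W W y - W y) := by
    intro y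
    have h1 := trunc_conv_congr hM P hP hwR hwR hwP hwP (y : G)
    rw [hww] at h1
    rw [show conv W W y = conv (trunc P w) (trunc P w) (y : G) from conv_resFun hCH w w y]
    simpa [W, resFun] using memLocalIdeal_neg h1
  have hpow : ∀ n y, MemLocalIdeal M (trunc (P.subgroupOf H) (convPow N (n + 1)) y - W y) := by
    intro n
    induction n with
    | zero =>
      intro y
      rw [show convPow N 1 = N from (conv_comm deltaOne hN.1).trans (deltaOne_conv N)]
      exact hWN y
    | succ n ih =>
      intro y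
      have hc := isRCentral_convPow hN (n + 1)
      have h1 := trunc_conv_congr hM (P.subgroupOf H) hP' hN.2 hc.2
        (isPInv_of_isClassFunction _ hN.1) (isPInv_of_isClassFunction _ hc.1) y
      have h2 := memLocalIdeal_conv_congr (memLocalRing_trunc hN.2) hWR hWN ih y
      have h3 := memLocalIdeal_add (memLocalIdeal_add h1 h2) (hWW y)
      rw [convPow]
      simpa using h3
  obtain ⟨n, hn⟩ := exists_convPow_memLocalIdeal hM hN fun η => by
    rw [omega_conv η.2 (isRCentral_resFun H hE).1, omega_blockCoeff]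
    split_ifs with hη
    · rw [mul_one]
      obtain ⟨ψ, hψ⟩ := IsPBlock.nonempty hind.2.1
      have h1 := IsInducedBlock.omega_congr hind hη hψ hE
      rw [omega_blockCoeff, if_neg fun hh : ψ ∈ B' =>
        hχ (IsPBlock.eq_of_mem hB' hind.2.1 hh hψ ▸ self_mem_blockOf χ), sub_zero] at h1
      exact h1
    · rw [mul_zero]; exact memLocalIdeal_zero
  have hW0 : ∀ y, MemLocalIdeal M (W y) := fun y => by
    have h1 := hn (n + 1) (by omega)
    have h2 : MemLocalIdeal M (trunc (P.subgroupOf H) (convPow N (n + 1)) y) := by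
      by_cases hy : y ∈ Subgroup.centralizer ((P.subgroupOf H : Subgroup H) : Set H)
      · rw [trunc_of_mem hy]; exact h1 y
      · rw [trunc_of_notMem hy]; exact memLocalIdeal_zero
    simpa using memLocalIdeal_sub h2 (hpow n y)
  have hfix : ∀ c, Commute c z → MemLocalIdeal M (w c) := fun c hc => by
    have hcP : c ∈ Subgroup.centralizer (P : Set G) := mem_centralizer_zpowers_iff.2 hc.symm
    have := hW0 ⟨c, hCH hcP⟩
    rwa [show W ⟨c, hCH hcP⟩ = trunc P w c from rfl, trunc_of_mem hcP] at this
  have hall : ∀ a : G, ∑ t, w (t * a * t⁻¹ * (h : G)⁻¹) = 0 := by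
    intro a
    obtain ⟨y, r, hr, hyr, hyk, hpr⟩ := exists_isPPart hM.1 a
    exact sum_translate_eq_zero hM w hwR hww (h : G) a z s y r hzs hcs hzk hps hr hyr hyk hpr
      (hwinv z hzH) (hwinv s hsH) (Or.inr hfix)
  have hsum : ∑ v, w v * (χ : G → ℂ) (v * (h : G)) = 0 := by
    have h0 : (Nat.card G : ℂ) * ∑ v, w v * (χ : G → ℂ) (v * (h : G)) =
        ∑ a, (∑ t, w (t * a * t⁻¹ * (h : G)⁻¹)) * (χ : G → ℂ) a := by
      simp only [Finset.sum_mul]
      rw [Finset.sum_comm, Nat.card_eq_fintype_card, ← nsmul_eq_mul, ← Finset.card_univ,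
        ← Finset.sum_const]
      refine Finset.sum_congr rfl fun t _ => ?_
      refine (Fintype.sum_equiv ((MulAut.conj t).toEquiv.trans (Equiv.mulRight (h : G)⁻¹))
        (fun a => w (t * a * t⁻¹ * (h : G)⁻¹) * (χ : G → ℂ) a)
        (fun v => w v * (χ : G → ℂ) (v * (h : G))) fun a => ?_).symm
      simp [irr_isClassFunction χ a t]
    simp only [hall, zero_mul, Finset.sum_const_zero] at h0
    exact (mul_eq_zero.1 h0).resolve_left natCard_ne_zero_complex
  have hkey : ∑ v, w v * (χ : G → ℂ) (v * (h : G)) =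
      ∑ k : H, e k * (χ : G → ℂ) ((k : G) * (h : G)) := by
    rw [← sum_extendByZero_mul H e fun x => (χ : G → ℂ) (x * (h : G))]
    show ∑ v, conv E f v * (χ : G → ℂ) (v * (h : G)) = ∑ x, f x * (χ : G → ℂ) (x * (h : G))
    rw [show conv E f = conv f E from conv_comm f hE.1]
    simp only [conv, Finset.sum_mul]
    rw [Finset.sum_comm]
    refine Finset.sum_congr rfl fun x _ => ?_
    rw [Fintype.sum_equiv (Equiv.mulLeft x⁻¹)
      (fun v => f x * E (x⁻¹ * v) * (χ : G → ℂ) (v * (h : G)))
      (fun v => f x * (E v * (χ : G → ℂ) (v * ((h : G) * x)))) fun v => by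
        simp only [Equiv.coe_mulLeft]
        rw [mul_assoc, classFunction_mul_comm (irr_isClassFunction χ) (x⁻¹ * v) ((h : G) * x)]
        rw [classFunction_mul_comm (irr_isClassFunction χ) v (h : G)]
        simp [mul_assoc],
      ← Finset.mul_sum, sum_mul_char_mul χ.2 hE.1, omega_blockCoeff, if_pos (self_mem_blockOf χ),
      one_mul, classFunction_mul_comm (irr_isClassFunction χ) (h : G) x]
  rw [hkey] at hsum
  exact hsum

/-- The `b`-part as a sum against the idempotent of `b`. -/
theorem sum_blockCoeff_mul_eq_blockPart {K : Type u} [Group K] [Fintype K]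
    (b : Set (IrrCharacter K)) {θ : K → ℂ} (hθ : IsClassFunction K θ) (y : K) :
    ∑ k, blockCoeff b k * θ (k * y) = blockPart b θ y := by
  classical
  haveI := Fintype.ofFinite (IrrCharacter K)
  have hclass : IsClassFunction K (blockCoeff b) := isClassFunction_blockCoeff b
  rw [blockPart]
  simp only [finsum_irr_eq_sum_ite]
  conv_lhs =>
    enter [2, k]
    rw [congrFun (eq_sum_classInner hθ) (k * y)]
    simp only [Finset.sum_apply, Pi.smul_apply, smul_eq_mul, Finset.mul_sum]
  rw [Finset.sum_comm]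
  refine Finset.sum_congr rfl fun η _ => ?_
  simp only [mul_left_comm (blockCoeff b _), ← Finset.mul_sum, sum_mul_char_mul η.2 hclass,
    omega_blockCoeff]
  split_ifs <;> simp
  left
  congr!

end Res

/-- **Brauer's second main theorem.** -/
theorem blockPart_eq_zero (hM : IsPModular p M) {x : G} (hx : ∃ k : ℕ, orderOf x = p ^ k)
    [Fintype (Subgroup.centralizer ({x} : Set G))]
    {B : Set (IrrCharacter G)} (hB : IsPBlock M B) {χ : IrrCharacter G} (hχ : χ ∈ B)
    {b : Set (IrrCharacter (Subgroup.centralizer ({x} : Set G)))} (hb : IsPBlock M b)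
    (hnot : ¬ IsInducedBlock M (Subgroup.centralizer ({x} : Set G)) b B)
    {y : Subgroup.centralizer ({x} : Set G)} (hy : ¬ p ∣ orderOf y) :
    blockPart b (fun c : Subgroup.centralizer ({x} : Set G) => (χ : G → ℂ) (x * (c : G))) y = 0 := by
  classical
  have hxC : x ∈ (Subgroup.centralizer ({x} : Set G)) := Subgroup.mem_centralizer_singleton_iff.2 rfl
  have hcomm : ∀ c : (Subgroup.centralizer ({x} : Set G)), Commute (c : G) x := fun c => Subgroup.mem_centralizer_singleton_iff.1 c.2
  have hθ : IsClassFunction (Subgroup.centralizer ({x} : Set G)) (fun c : (Subgroup.centralizer ({x} : Set G)) => (χ : G → ℂ) (x * (c : G))) := by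
    intro c d
    have hd := (hcomm d).eq
    show (χ : G → ℂ) (x * ((d : G) * (c : G) * (d : G)⁻¹)) = _
    rw [show x * ((d : G) * (c : G) * (d : G)⁻¹) = (d : G) * (x * (c : G)) * (d : G)⁻¹ by
      rw [← mul_assoc, ← mul_assoc, ← hd]; group, irr_isClassFunction χ]
  rw [← sum_blockCoeff_mul_eq_blockPart b hθ y]
  set P : Subgroup G := Subgroup.zpowers x
  have hPle : P ≤ (Subgroup.centralizer ({x} : Set G)) := Subgroup.zpowers_le.2 hxC
  have hCP : Subgroup.centralizer (P : Set G) ≤ (Subgroup.centralizer ({x} : Set G)) := fun c hc =>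
    Subgroup.mem_centralizer_singleton_iff.2 (mem_centralizer_zpowers_iff.1 hc).eq.symm
  have hCN : (Subgroup.centralizer ({x} : Set G)) ≤ Subgroup.normalizer (P : Set G) := by
    intro c hc
    rw [Subgroup.mem_normalizer_iff]
    intro a
    have key : ∀ a ∈ P, Commute c a := by
      rintro a ⟨n, rfl⟩
      exact (hcomm ⟨c, hc⟩).zpow_right n
    constructor
    · intro ha
      rwa [(key a ha).eq, mul_inv_cancel_right]
    · intro ha
      have h2 := key _ ha
      have h3 : c * a * c⁻¹ = a := by
        have := h2.eq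
        calc c * a * c⁻¹ = c⁻¹ * (c * (c * a * c⁻¹)) := by group
          _ = c⁻¹ * ((c * a * c⁻¹) * c) := by rw [this]
          _ = a := by group
      rwa [h3] at ha
  obtain ⟨ξ, hξ⟩ := IsPBlock.nonempty hb
  obtain ⟨ψ, hψ⟩ := exists_induced_char hM (isPGroup_zpowers_of_orderOf hx) hPle hCP hCN ξ
  have hind : IsInducedBlock M (Subgroup.centralizer ({x} : Set G)) b (blockOf M (ψ : G → ℂ)) :=
    isInducedBlock_of_pair hb (isPBlock_blockOf ψ) hξ (self_mem_blockOf ψ) fun g => by
      have h := hψ _ (isRCentral_classIndicator (M := M) g)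
      rwa [omega_classIndicator (irr_isClassFunction ψ)] at h
  have hχ' : χ ∉ blockOf M (ψ : G → ℂ) := fun h => hnot
    (IsPBlock.eq_of_mem (isPBlock_blockOf ψ) hB h hχ ▸ hind)
  have hpart : IsPPart p (((⟨x, hxC⟩ : (Subgroup.centralizer ({x} : Set G))) * y : (Subgroup.centralizer ({x} : Set G))) : G) x :=
    ⟨(y : G), rfl, (hcomm y).symm, hx, by rwa [Subgroup.orderOf_coe]⟩
  rw [← sum_blockCoeff_mul_eq_zero hM hind hpart le_rfl hχ']
  refine Finset.sum_congr rfl fun k _ => ?_
  congr 2
  simp only [Subgroup.coe_mul]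
  rw [← mul_assoc, ← mul_assoc, (hcomm k).eq]

end Cfsg.Agent.Lib.Blocks
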