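import Mathlib.RingTheory.LocalRing.ResidueField.Basic
import Mathlib.LinearAlgebra.Matrix.NonsingularInverse
import Mathlib.LinearAlgebra.Dimension.Constructions
import Mathlib.LinearAlgebra.Dimension.OrzechProperty
import Mathlib.GroupTheory.Perm.Cycle.Type
import Mathlib.Algebra.CharP.Lemmas
import Mathlib.RingTheory.RootsOfUnity.PrimitiveRoots
import Mathlib.LinearAlgebra.Basis.VectorSpace
import Mathlib.Tactic

/-!
# Traces of idempotents commuting with a permutation over a local ring

Let `R` be a commutative local ring whose residue field has characteristic `p`, `u` a permutation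
of a finite set `X` of `p`-power order and `w` an idempotent `X × X` matrix over `R` commuting
with `u`.  If the entries of `w` on the fixed points of `u` lie in the maximal ideal (the Brauer
quotient of `w` vanishes), then the trace of `w u` is exactly zero, also after multiplying by a
commuting permutation of order prime to `p`.
-/

set_option autoImplicit false
set_option linter.unusedSectionVars false
set_option linter.style.haveILetI false

namespace Cfsg.Agent.Lib.Blocks

open Matrix

/-- A function invariant under a `p`-power order permutation without fixed points on `S` sums to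
zero in characteristic `p`. -/
theorem sum_eq_zero_of_perm_invariant {k : Type*} [CommRing k] (p : ℕ) [Fact p.Prime] [CharP k p]
    {X : Type*} [Fintype X] [DecidableEq X] (v : Equiv.Perm X) (n : ℕ) (hv : v ^ p ^ n = 1)
    (F : X → k) (hF : ∀ x, F (v x) = F x) (hfix : ∀ x, v x = x → F x = 0) :
    ∑ x, F x = 0 := by
  classical
  rw [← Finset.sum_fiberwise_of_maps_to (s := Finset.univ) (t := Finset.univ.image F) (g := F)
    (fun x hx => Finset.mem_image_of_mem F hx) F]
  refine Finset.sum_eq_zero fun c hc => ?_
  rw [Finset.sum_congr rfl (fun x hx => (Finset.mem_filter.1 hx).2), Finset.sum_const]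
  by_cases hc0 : c = 0
  · simp [hc0]
  have hmem : ∀ x, F (v x) = c ↔ F x = c := fun x => by rw [hF]
  let σ : Equiv.Perm {x // F x = c} := v.subtypePerm hmem
  have hσ : σ ^ p ^ n = 1 := by
    ext x
    simp [σ, Equiv.Perm.subtypePerm_pow, hv]
  have hsupp : σ.supportᶜ = ∅ := by
    ext x
    simp only [Finset.mem_compl, Equiv.Perm.mem_support, not_not, Finset.notMem_empty, iff_false]
    intro hx
    exact hc0 (x.2 ▸ hfix x.1 (congrArg Subtype.val hx))
  have hcard := Equiv.Perm.card_compl_support_modEq hσ
  rw [hsupp, Finset.card_empty] at hcard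
  have hdvd : p ∣ Fintype.card {x // F x = c} := (Nat.modEq_zero_iff_dvd).1 hcard.symm
  rw [Fintype.card_subtype] at hdvd
  rw [nsmul_eq_mul, (CharP.cast_eq_zero_iff k p _).2 hdvd, zero_mul]

section Free

variable {k W : Type*} [Field k] [AddCommGroup W] [Module k W] [FiniteDimensional k W]

/-- Over a field, a module for a cyclic group of order `P`, given by an endomorphism `T = U - 1`
with `T ^ P = 0` whose kernel is the image of `T ^ (P - 1)`, is free. -/
theorem exists_free_basis (U : W →ₗ[k] W) (P : ℕ) [NeZero P] (hU : U ^ P = 1)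
    (hT : (U - 1) ^ P = 0) (hker : ∀ w, (U - 1) w = 0 → ∃ v, ((U - 1) ^ (P - 1)) v = w) :
    ∃ (r : ℕ) (b : Module.Basis (Fin r × Fin P) k W), ∀ c, U (b c) = b (c.1, c.2 + 1) := by
  classical
  set T := U - 1 with hTdef
  have hP : 0 < P := Nat.pos_of_ne_zero (NeZero.ne P)
  let K := LinearMap.ker T
  let bK := Module.finBasis k K
  set r := Module.finrank k K
  choose v hv using fun i : Fin r => hker (bK i : W) (bK i).2
  let fam : Fin r × Fin P → W := fun c => (T ^ (c.2 : ℕ)) (v c.1)
  -- spanning
  have hspan : ∀ j ≤ P, ∀ w, (T ^ j) w = 0 → w ∈ Submodule.span k (Set.range fam) := by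
    intro j
    induction j with
    | zero => intro _ w hw; simp at hw; simp [hw]
    | succ j ih =>
      intro hj w hw
      have hwK : (T ^ j) w ∈ K := by
        rw [LinearMap.mem_ker, ← Module.End.mul_apply, ← pow_succ']
        exact hw
      let c := bK.repr ⟨_, hwK⟩
      let z := ∑ i, c i • (T ^ (P - 1 - j)) (v i)
      have hz : (T ^ j) z = (T ^ j) w := by
        have h1 : (∑ i, c i • (bK i : W)) = (T ^ j) w := by
          have := congrArg (Subtype.val : K → W) (bK.sum_repr ⟨_, hwK⟩)
          simpa only [c, AddSubmonoidClass.coe_finsetSum, Submodule.coe_smul] using this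
        rw [← h1]
        simp only [z, map_sum, map_smul]
        refine Finset.sum_congr rfl fun i _ => ?_
        rw [← Module.End.mul_apply, ← pow_add, show j + (P - 1 - j) = P - 1 by omega, hv]
      have hzmem : z ∈ Submodule.span k (Set.range fam) :=
        Submodule.sum_mem _ fun i _ => Submodule.smul_mem _ _
          (Submodule.subset_span ⟨(i, ⟨P - 1 - j, by omega⟩), rfl⟩)
      have := ih (by omega) (w - z) (by rw [map_sub, hz, sub_self])
      simpa using Submodule.add_mem _ this hzmem
  have htop : ⊤ ≤ Submodule.span k (Set.range fam) := fun w _ =>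
    hspan P le_rfl w (by rw [hT]; rfl)
  -- independence
  have hind : LinearIndependent k fam := by
    rw [Fintype.linearIndependent_iff]
    intro g hg
    have key : ∀ m, ∀ c : Fin r × Fin P, (c.2 : ℕ) = m → g c = 0 := by
      intro m
      induction m using Nat.strong_induction_on with
      | _ m ih =>
        intro c hc
        have hzero : (T ^ (P - 1 - m)) (∑ d, g d • fam d) = 0 := by rw [hg, map_zero]
        simp only [map_sum, map_smul] at hzero
        rw [Fintype.sum_prod_type] at hzero
        have hstep : ∀ i, ∑ j : Fin P, g (i, j) • (T ^ (P - 1 - m)) (fam (i, j)) =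
            g (i, c.2) • (bK i : W) := by
          intro i
          rw [Finset.sum_eq_single c.2]
          · simp only [fam]
            rw [← Module.End.mul_apply, ← pow_add, hc,
              show P - 1 - m + m = P - 1 by have := c.2.2; omega, hv]
          · intro j _ hj
            rcases lt_or_gt_of_ne (Fin.val_ne_of_ne hj) with hlt | hgt
            · rw [ih j.1 (hc ▸ hlt) (i, j) rfl, zero_smul]
            · simp only [fam]
              rw [← Module.End.mul_apply, ← pow_add]
              obtain ⟨e, he⟩ : ∃ e, P - 1 - m + (j : ℕ) = e + P :=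
                ⟨P - 1 - m + j - P, by have := c.2.2; omega⟩
              rw [he, pow_add, hT, mul_zero, LinearMap.zero_apply, smul_zero]
          · simp
        simp only [hstep] at hzero
        have hz' : ∑ i, g (i, c.2) • bK i = (0 : K) := by
          apply Subtype.ext
          simpa using hzero
        exact Fintype.linearIndependent_iff.1 bK.linearIndependent _ hz' c.1
    exact fun c => key _ c rfl
  -- pass to the orbit basis
  let orb : Fin r × Fin P → W := fun c => (U ^ (c.2 : ℕ)) (v c.1)
  have hUinv : ∀ w ∈ Submodule.span k (Set.range orb),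
      U w ∈ Submodule.span k (Set.range orb) := by
    intro w hw
    induction hw using Submodule.span_induction with
    | mem x hx =>
      obtain ⟨c, rfl⟩ := hx
      refine Submodule.subset_span ⟨(c.1, c.2 + 1), ?_⟩
      simp only [orb]
      rw [← Module.End.mul_apply, ← pow_succ']
      congr 1
      rw [Fin.val_add, Fin.val_one', Nat.add_mod_mod, pow_eq_pow_mod ((c.2 : ℕ) + 1) hU]
    | zero => simp
    | add x y _ _ hx hy => rw [map_add]; exact Submodule.add_mem _ hx hy
    | smul a x _ hx => rw [map_smul]; exact Submodule.smul_mem _ _ hx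
  have hTinv : ∀ (j : ℕ) i, (T ^ j) (v i) ∈ Submodule.span k (Set.range orb) := by
    intro j i
    induction j with
    | zero => exact Submodule.subset_span ⟨(i, 0), by simp [orb]⟩
    | succ j ih =>
      rw [pow_succ', Module.End.mul_apply, hTdef, LinearMap.sub_apply, Module.End.one_apply]
      exact Submodule.sub_mem _ (hUinv _ ih) ih
  have htop' : ⊤ ≤ Submodule.span k (Set.range orb) := le_trans htop (Submodule.span_le.2 (by
    rintro _ ⟨c, rfl⟩; exact hTinv _ _))
  have hcard : Fintype.card (Fin r × Fin P) = Module.finrank k W :=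
    (Module.finrank_eq_card_basis (Module.Basis.mk hind htop)).symm
  have hind' : LinearIndependent k orb :=
    linearIndependent_of_top_le_span_of_card_eq_finrank htop' hcard
  refine ⟨r, Module.Basis.mk hind' htop', fun c => ?_⟩
  simp only [Module.Basis.mk_apply, orb]
  rw [← Module.End.mul_apply, ← pow_succ']
  congr 1
  rw [Fin.val_add, Fin.val_one', Nat.add_mod_mod, pow_eq_pow_mod ((c.2 : ℕ) + 1) hU]

end Free

section Stage

variable {k : Type*} [Field k] {Y : Type*} [Fintype Y] [DecidableEq Y]

/-- The image of an idempotent matrix commuting with a permutation `u` of order dividing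
`P = p ^ (m+1)`, vanishing on the points fixed by `u ^ (p ^ m)`, is free over `⟨u⟩`. -/
theorem exists_orbit_coords (p : ℕ) [hp : Fact p.Prime] [CharP k p] (u : Equiv.Perm Y) (m : ℕ)
    (hu : u ^ p ^ (m + 1) = 1) (a : Matrix Y Y k) (ha : a * a = a)
    (hinv : ∀ x y, a (u x) (u y) = a x y)
    (hfix : ∀ x y, (u ^ p ^ m) x = x → (u ^ p ^ m) y = y → a x y = 0) :
    ∃ (r : ℕ) (V : Matrix Y (Fin r × Fin (p ^ (m + 1))) k)
      (L : Matrix (Fin r × Fin (p ^ (m + 1))) Y k),
      L * V = 1 ∧ V * L = a ∧ a * V = V ∧ L * a = L ∧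
      (∀ x c, V (u x) (c.1, c.2 + 1) = V x c) ∧ (∀ x c, L (c.1, c.2 + 1) (u x) = L c x) := by
  classical
  set P := p ^ (m + 1) with hPdef
  haveI : NeZero P := ⟨pow_ne_zero _ hp.out.ne_zero⟩
  let A : (Y → k) →ₗ[k] (Y → k) := Matrix.mulVecLin a
  let W := LinearMap.range A
  let Φ : (Y → k) →ₗ[k] (Y → k) := LinearMap.funLeft k k (u.symm : Y → Y)
  have hΦ : ∀ f x, Φ f x = f (u.symm x) := fun f x => rfl
  have hAΦ : ∀ f, A (Φ f) = Φ (A f) := by
    intro f; funext x
    simp only [A, Matrix.mulVecLin_apply, Matrix.mulVec, dotProduct, hΦ]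
    rw [← Equiv.sum_comp u]
    refine Finset.sum_congr rfl fun y _ => ?_
    rw [Equiv.symm_apply_apply, ← hinv (u.symm x) y, Equiv.apply_symm_apply]
  have hAA : ∀ f, A (A f) = A f := by
    intro f; simp [A, Matrix.mulVec_mulVec, ha]
  have hΦW : ∀ f ∈ W, Φ f ∈ W := by
    rintro _ ⟨g, rfl⟩; exact ⟨Φ g, hAΦ g⟩
  have hAW : ∀ f ∈ W, A f = f := by rintro _ ⟨g, rfl⟩; exact hAA g
  let U : Module.End k W := Φ.restrict hΦW
  have hUval : ∀ (j : ℕ) (f : W), ((U ^ j) f : Y → k) = fun x => (f : Y → k) ((u ^ j).symm x) := by
    intro j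
    induction j with
    | zero => intro f; rfl
    | succ j ih =>
      intro f
      rw [pow_succ', Module.End.mul_apply]
      funext x
      show Φ ((U ^ j) f : Y → k) x = _
      rw [hΦ, ih]
      show (f : Y → k) ((u ^ j).symm (u.symm x)) = _
      congr 1
  have hUP : U ^ P = 1 := by
    refine LinearMap.ext fun f => Subtype.ext ?_
    rw [hUval, hu]
    ext x
    rfl
  have hchar : CharP (Module.End k W) p ∨ Subsingleton (Module.End k W) := by
    rcases subsingleton_or_nontrivial W with hW | hW
    · exact Or.inr inferInstance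
    · exact Or.inl (charP_of_injective_algebraMap (algebraMap k (Module.End k W)).injective p)
  have hT : (U - 1) ^ P = 0 := by
    rcases hchar with hc | hs
    · rw [hPdef]
      refine (sub_pow_char_pow_of_commute (R := Module.End k W) p (m + 1) (x := U) (y := 1)
        (Commute.one_right U)).trans ?_
      rw [one_pow, ← hPdef, hUP, sub_self]
    · exact Subsingleton.elim _ _
  have hgeom : (U - 1) ^ (P - 1) = ∑ i ∈ Finset.range P, U ^ i := by
    rcases hchar with hc | hs
    · have hpoly : ((Polynomial.X - 1 : Polynomial k)) ^ (P - 1) =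
          ∑ i ∈ Finset.range P, Polynomial.X ^ i := by
        have hne : (Polynomial.X - 1 : Polynomial k) ≠ 0 := by
          simpa using Polynomial.X_sub_C_ne_zero (1 : k)
        apply mul_left_cancel₀ hne
        rw [mul_geom_sum, ← pow_succ', Nat.sub_add_cancel (NeZero.pos P), hPdef,
          sub_pow_char_pow, one_pow]
      have := congrArg (Polynomial.aeval U) hpoly
      simpa [map_sum] using this
    · exact Subsingleton.elim _ _
  -- representatives for the orbits
  let R : Set Y := {x | (Quotient.mk (Equiv.Perm.SameCycle.setoid u) x).out = x}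
  let Y₀ : Set Y := {x | (u ^ p ^ m) x = x}
  have hY₀ : ∀ x, u x ∈ Y₀ ↔ x ∈ Y₀ := by
    intro x
    simp only [Y₀, Set.mem_setOf_eq]
    rw [← Equiv.Perm.mul_apply, ← pow_succ, pow_succ', Equiv.Perm.mul_apply, u.injective.eq_iff]
  have hY₀' : ∀ (i : ℕ) x, (u ^ i) x ∈ Y₀ ↔ x ∈ Y₀ := by
    intro i
    induction i with
    | zero => simp
    | succ i ih => intro x; rw [pow_succ', Equiv.Perm.mul_apply, hY₀, ih]
  have hperiod : ∀ x, x ∉ Y₀ → ∀ i < P, (u ^ i) x = x → i = 0 := by
    intro x hx i hi hix
    have hmp : Function.minimalPeriod u x ∣ P := by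
      apply Function.IsPeriodicPt.minimalPeriod_dvd
      show (⇑u)^[P] x = x
      rw [← Equiv.Perm.coe_pow, hu]; rfl
    obtain ⟨e, he, heq⟩ := (Nat.dvd_prime_pow hp.out).1 hmp
    have hee : e = m + 1 := by
      by_contra hne
      apply hx
      show (u ^ p ^ m) x = x
      rw [Equiv.Perm.coe_pow]
      exact Function.isPeriodicPt_iff_minimalPeriod_dvd.2
        (heq ▸ pow_dvd_pow p (by omega))
    have hdi : Function.minimalPeriod u x ∣ i := by
      apply Function.IsPeriodicPt.minimalPeriod_dvd
      show (⇑u)^[i] x = x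
      rw [← Equiv.Perm.coe_pow]; exact hix
    rw [heq, hee, ← hPdef] at hdi
    exact Nat.eq_zero_of_dvd_of_lt hdi hi
  have hrep : ∀ x, x ∉ Y₀ → ∃! i, i < P ∧ (u ^ i).symm x ∈ R := by
    intro x hx
    set o := (Quotient.mk (Equiv.Perm.SameCycle.setoid u) x).out with ho
    have hsame : u.SameCycle o x :=
      Quotient.exact (Quotient.out_eq (Quotient.mk (Equiv.Perm.SameCycle.setoid u) x))
    obtain ⟨i₀, -, hi₀⟩ := hsame.exists_pow_eq'
    have hi : (u ^ (i₀ % P)) o = x := by rw [← pow_eq_pow_mod i₀ hu]; exact hi₀
    have hoR : o ∈ R := by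
      show (Quotient.mk (Equiv.Perm.SameCycle.setoid u) o).out = o
      rw [ho, Quotient.out_eq]
    have ho₀ : o ∉ Y₀ := fun h => hx (hi ▸ (hY₀' _ o).2 h)
    have hsym : (u ^ (i₀ % P)).symm x = o := by rw [Equiv.symm_apply_eq]; exact hi.symm
    refine ⟨i₀ % P, ⟨Nat.mod_lt _ (NeZero.pos P), hsym ▸ hoR⟩, ?_⟩
    rintro j ⟨hj, hjR⟩
    set y := (u ^ j).symm x with hy
    have hjy : (u ^ j) y = x := by rw [hy, Equiv.apply_symm_apply]
    have hsamey : u.SameCycle y x := ⟨(j : ℤ), by simpa using hjy⟩
    have hyo : y = o := by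
      rw [← hjR, ho]
      congr 1
      exact Quotient.sound hsamey
    rw [hyo] at hjy
    have hlt : i₀ % P < P := Nat.mod_lt _ (NeZero.pos P)
    rcases le_total j (i₀ % P) with hle | hle
    · have : (u ^ (i₀ % P - j)) ((u ^ j) o) = (u ^ j) o := by
        rw [← Equiv.Perm.mul_apply, ← pow_add, Nat.sub_add_cancel hle, hi, hjy]
      have h0 := hperiod _ (fun h => ho₀ ((hY₀' j o).1 h)) _ (by omega) this
      omega
    · have : (u ^ (j - i₀ % P)) ((u ^ (i₀ % P)) o) = (u ^ (i₀ % P)) o := by
        rw [← Equiv.Perm.mul_apply, ← pow_add, Nat.sub_add_cancel hle, hi, hjy]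
      have h0 := hperiod _ (fun h => ho₀ ((hY₀' _ o).1 h)) _ (by omega) this
      omega
  -- a fixed vector supported off `Y₀` is a relative trace
  have htrace : ∀ g : Y → k, (∀ x, g (u x) = g x) → (∀ x ∈ Y₀, g x = 0) → ∀ x,
      ∑ i ∈ Finset.range P, R.indicator g ((u ^ i).symm x) = g x := by
    intro g hg hg0 x
    have hgi : ∀ (i : ℕ) y, g ((u ^ i) y) = g y := by
      intro i
      induction i with
      | zero => simp
      | succ i ih => intro y; rw [pow_succ', Equiv.Perm.mul_apply, hg, ih]
    have hgi' : ∀ (i : ℕ), g ((u ^ i).symm x) = g x := fun i => by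
      rw [← hgi i ((u ^ i).symm x), Equiv.apply_symm_apply]
    by_cases hx : x ∈ Y₀
    · rw [hg0 x hx]
      refine Finset.sum_eq_zero fun i _ => ?_
      rw [Set.indicator_apply]
      split_ifs
      · rw [hgi', hg0 x hx]
      · rfl
    · obtain ⟨i, ⟨hiP, hiR⟩, huniq⟩ := hrep x hx
      rw [Finset.sum_eq_single i, Set.indicator_of_mem hiR, hgi']
      · intro j hj hji
        exact Set.indicator_of_notMem (fun h => hji (huniq j ⟨Finset.mem_range.1 hj, h⟩)) _
      · intro h; exact absurd (Finset.mem_range.2 hiP) h
  have hker : ∀ w, (U - 1) w = 0 → ∃ v, ((U - 1) ^ (P - 1)) v = w := by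
    intro w hw
    rw [LinearMap.sub_apply, Module.End.one_apply, sub_eq_zero] at hw
    have hwfix : ∀ x, (w : Y → k) (u x) = (w : Y → k) x := by
      intro x
      have := congrFun (congrArg Subtype.val hw) (u x)
      rw [show ((U w : W) : Y → k) = Φ w from rfl, hΦ, Equiv.symm_apply_apply] at this
      exact this.symm
    let f := Y₀.indicator (w : Y → k)
    have hffix : ∀ x, f (u x) = f x := by
      intro x
      simp only [f, Set.indicator_apply, hY₀, hwfix]
    have hAffix : ∀ x, A f (u x) = A f x := by
      intro x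
      have hΦf : Φ f = f := by
        funext y; rw [hΦ]; conv_rhs => rw [← Equiv.apply_symm_apply u y, hffix]
      have := congrFun (hAΦ f) (u x)
      rw [hΦf, hΦ, Equiv.symm_apply_apply] at this
      exact this
    have hAf0 : ∀ x ∈ Y₀, A f x = 0 := by
      intro x hx
      simp only [A, Matrix.mulVecLin_apply, Matrix.mulVec, dotProduct]
      refine Finset.sum_eq_zero fun y _ => ?_
      simp only [f, Set.indicator_apply]
      split_ifs with hy
      · rw [hfix x y hx hy, zero_mul]
      · rw [mul_zero]
    let g0 := (w : Y → k) - f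
    have hg0fix : ∀ x, g0 (u x) = g0 x := by intro x; simp [g0, hwfix, hffix]
    have hg00 : ∀ x ∈ Y₀, g0 x = 0 := by
      intro x hx; simp [g0, f, Set.indicator_of_mem hx]
    let g := R.indicator (A f) + R.indicator g0
    refine ⟨⟨A g, LinearMap.mem_range_self A g⟩, ?_⟩
    apply Subtype.ext
    have hΦpow : ∀ (i : ℕ) (h : Y → k), (Φ ^ i) h = fun x => h ((u ^ i).symm x) := by
      intro i
      induction i with
      | zero => intro h; rfl
      | succ i ih =>
        intro h; funext x
        rw [pow_succ', Module.End.mul_apply, hΦ, ih]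
        simp only [pow_succ']
        rfl
    have hAΦi : ∀ (i : ℕ) h, A ((Φ ^ i) h) = (Φ ^ i) (A h) := by
      intro i
      induction i with
      | zero => intro h; rfl
      | succ i ih =>
        intro h; rw [pow_succ', Module.End.mul_apply, Module.End.mul_apply, hAΦ, ih]
    rw [hgeom, LinearMap.sum_apply, AddSubmonoidClass.coe_finsetSum]
    have hsum : ∑ i ∈ Finset.range P, (Φ ^ i) g = A f + g0 := by
      funext x
      simp only [Finset.sum_apply, hΦpow, g, Pi.add_apply, Finset.sum_add_distrib]
      rw [htrace _ hAffix hAf0, htrace _ hg0fix hg00]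
    calc ∑ i ∈ Finset.range P, ((U ^ i) ⟨A g, LinearMap.mem_range_self A g⟩ : Y → k)
        = ∑ i ∈ Finset.range P, A ((Φ ^ i) g) := by
          refine Finset.sum_congr rfl fun i _ => ?_
          rw [hUval, hAΦi, hΦpow]
      _ = A (A f + g0) := by rw [← map_sum, hsum]
      _ = A (w : Y → k) := by
          rw [map_add, hAA, ← map_add]; simp [g0]
      _ = w := hAW _ w.2
  obtain ⟨r, b, hb⟩ := exists_free_basis U P hUP hT hker
  let e : Fin r × Fin P ≃ Fin r × Fin P := (Equiv.refl _).prodCongr (Equiv.addRight 1)
  have hb' : ∀ c, U (b c) = b (e c) := hb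
  have hrepr : ∀ f c, b.repr (U f) (e c) = b.repr f c := by
    intro f c
    conv_lhs => rw [← b.sum_repr f]
    simp only [map_sum, map_smul, hb', Module.Basis.repr_self, Finsupp.coe_finsetSum,
      Finset.sum_apply, Finsupp.smul_apply, Finsupp.single_apply, e.injective.eq_iff]
    simp [Finset.sum_ite_eq', Finset.mem_univ]
  let proj : (Y → k) →ₗ[k] W := A.rangeRestrict
  refine ⟨r, Matrix.of fun x c => (b c : Y → k) x,
    Matrix.of fun c x => b.repr (proj (Pi.single x 1)) c, ?_, ?_, ?_, ?_, ?_, ?_⟩
  · ext c d
    simp only [Matrix.mul_apply, Matrix.of_apply]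
    have h1 : proj (b d : Y → k) = b d := Subtype.ext (hAW _ (b d).2)
    have h2 : (b d : Y → k) = ∑ x, (b d : Y → k) x • (Pi.single x 1 : Y → k) :=
      (pi_eq_sum_univ' (b d : Y → k))
    have h3 : b.repr (proj (∑ x, (b d : Y → k) x • (Pi.single x 1 : Y → k))) c =
        b.repr (b d) c := by rw [← h2, h1]
    simp only [map_sum, map_smul, Finsupp.coe_finsetSum, Finset.sum_apply,
      Finsupp.smul_apply, smul_eq_mul] at h3
    rw [Module.Basis.repr_self, Finsupp.single_apply] at h3
    rw [Matrix.one_apply, Finset.sum_congr rfl (fun x _ => mul_comm _ _), h3]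
    simp [eq_comm]
  · ext x y
    simp only [Matrix.mul_apply, Matrix.of_apply]
    have := congrFun (congrArg Subtype.val (b.sum_repr (proj (Pi.single y 1)))) x
    simp only [AddSubmonoidClass.coe_finsetSum, Finset.sum_apply, Submodule.coe_smul,
      Pi.smul_apply, smul_eq_mul] at this
    rw [Finset.sum_congr rfl (fun c _ => mul_comm _ _), this]
    show A (Pi.single y 1) x = a x y
    simp [A]
  · ext x c
    exact congrFun (hAW _ (b c).2) x
  · ext c x
    simp only [Matrix.mul_apply, Matrix.of_apply]
    have h2 : (A (Pi.single x 1)) = ∑ y, a y x • (Pi.single y 1 : Y → k) := by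
      funext z; simp [A, Finset.sum_apply, Pi.single_apply]
    have h1 : proj (A (Pi.single x 1)) = proj (Pi.single x 1) := Subtype.ext (hAA _)
    have h3 := congrArg (fun t => b.repr t c) h1
    rw [h2] at h3
    simp only [map_sum, map_smul, Finsupp.coe_finsetSum, Finset.sum_apply,
      Finsupp.smul_apply, smul_eq_mul] at h3
    rw [← h3]
    exact Finset.sum_congr rfl fun y _ => mul_comm _ _
  · intro x c
    have := congrFun (congrArg Subtype.val (hb c)) (u x)
    rw [show ((U (b c) : W) : Y → k) = Φ (b c) from rfl, hΦ, Equiv.symm_apply_apply] at this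
    exact this.symm
  · intro x c
    have h1 : proj (Pi.single (u x) 1) = U (proj (Pi.single x 1)) := by
      apply Subtype.ext
      show A _ = Φ (A _)
      rw [← hAΦ]
      congr 1
      funext y
      rw [hΦ, Pi.single_apply, Pi.single_apply]
      by_cases h : y = u x
      · simp [h]
      · rw [if_neg h, if_neg]; intro hc; exact h (by rw [← hc, Equiv.apply_symm_apply])
    show b.repr (proj (Pi.single (u x) 1)) (e c) = _
    rw [h1, hrepr]; rfl

end Stage

section Main

variable {R : Type*} [CommRing R] [IsLocalRing R] {X : Type*} [Fintype X] [DecidableEq X]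

/-- **Vanishing of traces.**  If the Brauer quotient of the idempotent `w` at `u` is zero then the
trace of `w` times `u` is zero. -/
theorem sum_apply_perm_eq_zero (p : ℕ) [hp : Fact p.Prime]
    [CharP (IsLocalRing.ResidueField R) p] (u : Equiv.Perm X) (n : ℕ) (hu : u ^ p ^ n = 1)
    (w : Matrix X X R) (hw : w * w = w) (hinv : ∀ x y, w (u x) (u y) = w x y)
    (hfix : ∀ x y, u x = x → u y = y → IsLocalRing.residue R (w x y) = 0) :
    ∑ x, w x (u x) = 0 := by
  classical
  set red := IsLocalRing.residue R
  suffices key : ∀ d m, n ≤ m + d → ∀ w : Matrix X X R, w * w = w →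
      (∀ x y, w (u x) (u y) = w x y) →
      (∀ x y, (u ^ p ^ m) x = x → (u ^ p ^ m) y = y → red (w x y) = 0) →
      ∑ x, w x (u x) = 0 by
    exact key n 0 (by omega) w hw hinv (by simpa using hfix)
  intro d
  induction d with
  | zero =>
    intro m hm w hw hinv hfix
    have hall : ∀ x, (u ^ p ^ m) x = x := by
      intro x
      obtain ⟨c, hc⟩ := pow_dvd_pow p (show n ≤ m by omega)
      rw [hc, pow_mul, hu, one_pow]; rfl
    have hzero : w.map red = 0 := by ext x y; exact hfix x y (hall x) (hall y)
    have hunit : IsUnit (1 - w).det := by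
      by_contra hnu
      have h0 : red (1 - w).det = 0 := by
        rw [IsLocalRing.residue_eq_zero_iff]; exact hnu
      rw [RingHom.map_det, RingHom.mapMatrix_apply, Matrix.map_sub _ (map_sub red),
        Matrix.map_one _ (map_zero red) (map_one red), hzero, sub_zero, Matrix.det_one] at h0
      exact one_ne_zero h0
    have hw0 : (1 - w) * w = 0 := by rw [Matrix.sub_mul, Matrix.one_mul, hw, sub_self]
    have : w = 0 := by
      have := congrArg ((1 - w)⁻¹ * ·) hw0
      simpa [← Matrix.mul_assoc, Matrix.nonsing_inv_mul _ hunit] using this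
    simp [this]
  | succ d ih =>
    intro m hm w hw hinv hfix
    set P := p ^ (m + 1) with hPdef
    haveI : NeZero P := ⟨pow_ne_zero _ hp.out.ne_zero⟩
    let Y := {x : X // (u ^ P) x = x}
    have hmemY : ∀ x, (u ^ P) (u x) = u x ↔ (u ^ P) x = x := by
      intro x
      rw [← Equiv.Perm.mul_apply, ← pow_succ, pow_succ', Equiv.Perm.mul_apply,
        u.injective.eq_iff]
    let uY : Equiv.Perm Y := u.subtypePerm hmemY
    have huY : uY ^ P = 1 := by
      refine Equiv.ext fun x => Subtype.ext ?_
      rw [show uY ^ P = _ from u.subtypePerm_pow P hmemY]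
      exact x.2
    have hinvP : ∀ (j : ℕ) x y, w ((u ^ j) x) ((u ^ j) y) = w x y := by
      intro j
      induction j with
      | zero => simp
      | succ j ihj =>
        intro x y
        rw [pow_succ', Equiv.Perm.mul_apply, Equiv.Perm.mul_apply, hinv, ihj]
    let a : Matrix Y Y (IsLocalRing.ResidueField R) := fun x y => red (w x y)
    have haY : ∀ x y : Y, ∑ z : X, red (w x z) * red (w z y) =
        ∑ z : Y, red (w x z) * red (w z y) := by
      intro x y
      rw [← Finset.sum_filter_add_sum_filter_not Finset.univ (fun z => (u ^ P) z = z)]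
      have h0 : ∑ z ∈ Finset.univ.filter (fun z => ¬ (u ^ P) z = z),
          red (w x z) * red (w z y) = 0 := by
        have := sum_eq_zero_of_perm_invariant p (u ^ P) n
          (by rw [← pow_mul, mul_comm, pow_mul, hu, one_pow])
          (fun z => if (u ^ P) z = z then 0 else red (w x z) * red (w z y))
          (fun z => ?_) (fun z hz => if_pos hz)
        · rw [Finset.sum_filter]
          simpa [ite_not] using this
        · have hiff : (u ^ P) ((u ^ P) z) = (u ^ P) z ↔ (u ^ P) z = z :=
            (u ^ P).injective.eq_iff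
          simp only [hiff]
          split_ifs
          · rfl
          · conv_rhs => rw [← hinvP P x z, ← hinvP P z y, x.2, y.2]
      rw [h0, add_zero, Finset.sum_subtype _ (p := fun z => (u ^ P) z = z) (fun z => by simp) _]
    have haa : a * a = a := by
      ext x y
      rw [Matrix.mul_apply]
      show ∑ z : Y, red (w x z) * red (w z y) = red (w x y)
      rw [← haY x y]
      conv_rhs => rw [← hw, Matrix.mul_apply, map_sum]
      simp
    obtain ⟨r, V₀, L₀, hLV, hVL, haV, hLa, hVeq, hLeq⟩ := exists_orbit_coords p uY m huY a haa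
      (fun x y => congrArg red (hinv x.1 y.1))
      (fun x y hx hy => by
        rw [show uY ^ p ^ m = _ from u.subtypePerm_pow (p ^ m) hmemY] at hx hy
        exact hfix x.1 y.1 (congrArg Subtype.val hx) (congrArg Subtype.val hy))
    let ψ : IsLocalRing.ResidueField R → R :=
      Function.surjInv IsLocalRing.residue_surjective
    have hψ : ∀ t, red (ψ t) = t := Function.surjInv_eq IsLocalRing.residue_surjective
    let e : Fin r × Fin P ≃ Fin r × Fin P := (Equiv.refl _).prodCongr (Equiv.addRight 1)
    let V : Matrix X (Fin r × Fin P) R :=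
      Matrix.of fun x c => if h : (u ^ P) x = x then ψ (V₀ ⟨x, h⟩ c) else 0
    let L : Matrix (Fin r × Fin P) X R :=
      Matrix.of fun c x => if h : (u ^ P) x = x then ψ (L₀ c ⟨x, h⟩) else 0
    have hVu : V.submatrix u e = V := by
      ext x c
      simp only [Matrix.submatrix_apply, V, Matrix.of_apply]
      by_cases h : (u ^ P) x = x
      · rw [dif_pos h, dif_pos ((hmemY x).2 h)]
        exact congrArg ψ (hVeq ⟨x, h⟩ c)
      · rw [dif_neg h, dif_neg (fun h' => h ((hmemY x).1 h'))]
    have hLu : L.submatrix e u = L := by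
      ext c x
      simp only [Matrix.submatrix_apply, L, Matrix.of_apply]
      by_cases h : (u ^ P) x = x
      · rw [dif_pos h, dif_pos ((hmemY x).2 h)]
        exact congrArg ψ (hLeq ⟨x, h⟩ c)
      · rw [dif_neg h, dif_neg (fun h' => h ((hmemY x).1 h'))]
    have hwu : w.submatrix u u = w := by ext x y; exact hinv x y
    let B := w * V
    let C₀ := L * w
    let G := C₀ * B
    have hBred : ∀ (y : Y) c, red (B y c) = V₀ y c := by
      intro y c
      conv_rhs => rw [← haV]
      simp only [B, Matrix.mul_apply, map_sum, map_mul]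
      rw [← Finset.sum_subset (s₁ := Finset.univ.filter (fun z => (u ^ P) z = z))
        (Finset.subset_univ _) (fun z _ hz => by
          simp only [Finset.mem_filter, Finset.mem_univ, true_and] at hz
          simp [V, dif_neg hz]),
        Finset.sum_subtype _ (p := fun z => (u ^ P) z = z) (fun z => by simp) _]
      exact Finset.sum_congr rfl fun z _ => by simp [a, V, z.2, hψ]
    have hCred : ∀ c (y : Y), red (C₀ c y) = L₀ c y := by
      intro c y
      conv_rhs => rw [← hLa]
      simp only [C₀, Matrix.mul_apply, map_sum, map_mul]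
      rw [← Finset.sum_subset (s₁ := Finset.univ.filter (fun z => (u ^ P) z = z))
        (Finset.subset_univ _) (fun z _ hz => by
          simp only [Finset.mem_filter, Finset.mem_univ, true_and] at hz
          simp [L, dif_neg hz]),
        Finset.sum_subtype _ (p := fun z => (u ^ P) z = z) (fun z => by simp) _]
      exact Finset.sum_congr rfl fun z _ => by simp [a, L, z.2, hψ]
    have hGeq : G = L * B := by
      simp only [G, C₀, B, Matrix.mul_assoc]
      rw [← Matrix.mul_assoc w w V, hw]
    have hGred : G.map red = 1 := by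
      rw [← hLV]
      ext c d
      rw [Matrix.map_apply, hGeq]
      simp only [Matrix.mul_apply, map_sum, map_mul]
      rw [← Finset.sum_subset (s₁ := Finset.univ.filter (fun z => (u ^ P) z = z))
        (Finset.subset_univ _) (fun z _ hz => by
          simp only [Finset.mem_filter, Finset.mem_univ, true_and] at hz
          simp [L, dif_neg hz]),
        Finset.sum_subtype _ (p := fun z => (u ^ P) z = z) (fun z => by simp) _]
      refine Finset.sum_congr rfl fun z _ => ?_
      rw [hBred]
      simp [L, z.2, hψ]
    have hGunit : IsUnit G.det := by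
      by_contra hnu
      have h0 : red G.det = 0 := by rw [IsLocalRing.residue_eq_zero_iff]; exact hnu
      rw [RingHom.map_det, RingHom.mapMatrix_apply, hGred, Matrix.det_one] at h0
      exact one_ne_zero h0
    let D := G⁻¹ * C₀
    have hDB : D * B = 1 := by
      simp only [D, Matrix.mul_assoc]
      exact Matrix.nonsing_inv_mul _ hGunit
    have hwB : w * B = B := by simp only [B, ← Matrix.mul_assoc, hw]
    have hDw : D * w = D := by simp only [D, C₀, Matrix.mul_assoc, hw]
    let Q := B * D
    have hwQ : w * Q = Q := by simp only [Q, ← Matrix.mul_assoc, hwB]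
    have hQw : Q * w = Q := by simp only [Q, Matrix.mul_assoc, hDw]
    have hQQ : Q * Q = Q := by
      simp only [Q]
      rw [Matrix.mul_assoc, ← Matrix.mul_assoc D B D, hDB, Matrix.one_mul]
    have hBu : B.submatrix u e = B := by
      show (w * V).submatrix u e = _
      rw [← Matrix.submatrix_mul_equiv w V _ u _, hwu, hVu]
    have hCu : C₀.submatrix e u = C₀ := by
      show (L * w).submatrix e u = _
      rw [← Matrix.submatrix_mul_equiv L w _ u _, hLu, hwu]
    have hGu : G.submatrix e e = G := by
      show (C₀ * B).submatrix e e = _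
      rw [← Matrix.submatrix_mul_equiv C₀ B _ u _, hCu, hBu]
    have hDu : D.submatrix e u = D := by
      show (G⁻¹ * C₀).submatrix e u = _
      rw [← Matrix.submatrix_mul_equiv G⁻¹ C₀ _ e _, ← Matrix.inv_submatrix_equiv, hGu, hCu]
    have htrQ : ∑ x, Q x (u x) = 0 := by
      have hDe : ∀ c x, D c (u x) = D (e.symm c) x := by
        intro c x
        have := congrFun (congrFun hDu (e.symm c)) x
        simpa using this
      simp only [Q, Matrix.mul_apply, hDe]
      rw [Finset.sum_comm]
      refine Finset.sum_eq_zero fun c _ => ?_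
      have h1 : ∑ x, B x c * D (e.symm c) x = (D * B) (e.symm c) c := by
        rw [Matrix.mul_apply]; exact Finset.sum_congr rfl fun x _ => mul_comm _ _
      rw [h1, hDB, Matrix.one_apply_ne]
      intro hc
      have h2 : c.2 - 1 = c.2 := by simpa [e, sub_eq_add_neg] using congrArg Prod.snd hc
      have hone : (1 : Fin P) = 0 := by simpa using h2
      have hP2 : 2 ≤ P := le_trans hp.out.two_le (Nat.le_self_pow (by omega) p)
      have := congrArg Fin.val hone
      rw [Fin.val_one', Fin.val_zero, Nat.mod_eq_of_lt (by omega)] at this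
      omega
    have hrest : ∑ x, (w - Q) x (u x) = 0 := by
      refine ih (m + 1) (by omega) (w - Q) ?_ ?_ ?_
      · rw [Matrix.sub_mul, Matrix.mul_sub, Matrix.mul_sub, hw, hwQ, hQw, hQQ, sub_self, sub_zero]
      · intro x y
        have hQu : Q.submatrix u u = Q := by
          show (B * D).submatrix u u = _
          rw [← Matrix.submatrix_mul_equiv B D _ e _, hBu, hDu]
        simp only [Matrix.sub_apply, hinv]
        rw [show Q (u x) (u y) = Q x y from congrFun (congrFun hQu x) y]
      · intro x y hx hy
        have hDred : ∀ c, red (D c y) = L₀ c ⟨y, hy⟩ := by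
          intro c
          rw [show red (D c y) = ((G⁻¹).map red * C₀.map red) c y by
            rw [← Matrix.map_mul]; rfl]
          have hGi : (G⁻¹).map red = 1 := by
            have h1 : (G⁻¹).map red * G.map red = 1 := by
              rw [← Matrix.map_mul, Matrix.nonsing_inv_mul _ hGunit,
                Matrix.map_one _ (map_zero red) (map_one red)]
            rwa [hGred, Matrix.mul_one] at h1
          rw [hGi, Matrix.one_mul]
          exact hCred c ⟨y, hy⟩
        have hQxy : red (Q x y) = red (w x y) := by
          simp only [Q, Matrix.mul_apply, map_sum, map_mul, hDred]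
          rw [Finset.sum_congr rfl fun c _ => by rw [hBred ⟨x, hx⟩ c]]
          have := congrFun (congrFun hVL ⟨x, hx⟩) ⟨y, hy⟩
          simpa [Matrix.mul_apply, a] using this
        rw [Matrix.sub_apply, map_sub, hQxy, sub_self]
    simpa [Matrix.sub_apply, Finset.sum_sub_distrib, htrQ] using hrest

/-- **Vanishing of traces, twisted by a commuting permutation of order prime to `p`.** -/
theorem sum_apply_perm_mul_eq_zero [IsDomain R] (p : ℕ) [hp : Fact p.Prime]
    [CharP (IsLocalRing.ResidueField R) p] (u h : Equiv.Perm X) (n m : ℕ) (hm : 0 < m)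
    (hpm : ¬ p ∣ m) (hu : u ^ p ^ n = 1) (hh : h ^ m = 1) (huh : Commute u h)
    (ζ : R) (hζ : IsPrimitiveRoot ζ m)
    (w : Matrix X X R) (hw : w * w = w) (hinvu : ∀ x y, w (u x) (u y) = w x y)
    (hinvh : ∀ x y, w (h x) (h y) = w x y)
    (hfix : ∀ x y, u x = x → u y = y → IsLocalRing.residue R (w x y) = 0) :
    ∑ x, w x (h (u x)) = 0 := by
  classical
  have hunit : IsUnit (m : R) := by
    by_contra hnu
    have h0 : IsLocalRing.residue R (m : R) = 0 := by
      rw [IsLocalRing.residue_eq_zero_iff]; exact hnu
    rw [map_natCast, CharP.cast_eq_zero_iff _ p] at h0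
    exact hpm h0
  obtain ⟨minv, hminv⟩ := hunit.exists_left_inv
  let H : Matrix X X R := Matrix.of fun x y => if h x = y then 1 else 0
  have hHmul : ∀ (A : Matrix X X R) x y, (H * A) x y = A (h x) y := by
    intro A x y; simp [H, Matrix.mul_apply]
  have hmulH : ∀ (A : Matrix X X R) x y, (A * H) x y = A x (h.symm y) := by
    intro A x y
    simp only [H, Matrix.mul_apply, Matrix.of_apply, ← Equiv.eq_symm_apply, mul_ite, mul_one, mul_zero,
      Finset.sum_ite_eq', Finset.mem_univ, if_true]
  have hHw : H * w = w * H := by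
    ext x y
    rw [hHmul, hmulH, ← hinvh x (h.symm y), Equiv.apply_symm_apply]
  have hHi : ∀ (i : ℕ) (A : Matrix X X R) x y, (H ^ i * A) x y = A ((h ^ i) x) y := by
    intro i
    induction i with
    | zero => simp
    | succ i ih =>
      intro A x y
      rw [pow_succ, Matrix.mul_assoc, ih, hHmul, pow_succ', Equiv.Perm.mul_apply]
  have hHm : H ^ m = 1 := by
    ext x y
    rw [← Matrix.mul_one (H ^ m), hHi, hh]; rfl
  let S : ℕ → Matrix X X R := fun l => ∑ i ∈ Finset.range m, (ζ ^ l • H) ^ i
  let w' : ℕ → Matrix X X R := fun l => minv • (S l * w)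
  have hAm : ∀ l, (ζ ^ l • H) ^ m = 1 := by
    intro l
    rw [smul_pow, hHm, ← pow_mul, mul_comm, pow_mul, hζ.pow_eq_one, one_pow, one_smul]
  have hAS : ∀ l i, (ζ ^ l • H) ^ i * S l = S l := by
    intro l i
    induction i with
    | zero => simp
    | succ i ih =>
      rw [pow_succ', Matrix.mul_assoc, ih]
      have h1 := mul_geom_sum (ζ ^ l • H) m
      rw [hAm, sub_self, sub_mul, one_mul, sub_eq_zero] at h1
      exact h1
  have hSS : ∀ l, S l * S l = (m : R) • S l := by
    intro l
    show (∑ i ∈ Finset.range m, (ζ ^ l • H) ^ i) * S l = _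
    rw [Finset.sum_mul]
    simp [hAS, Nat.cast_smul_eq_nsmul]
  have hSw : ∀ l, Commute (S l) w := fun l =>
    Commute.sum_left _ _ _ fun i _ => ((show Commute H w from hHw).smul_left _).pow_left _
  have hidem : ∀ l, w' l * w' l = w' l := by
    intro l
    simp only [w', Matrix.smul_mul, Matrix.mul_smul, smul_smul]
    rw [Matrix.mul_assoc, ← Matrix.mul_assoc w (S l) w, ← (hSw l).eq, Matrix.mul_assoc (S l) w w,
      hw, ← Matrix.mul_assoc, hSS, Matrix.smul_mul, smul_smul, mul_assoc, hminv, mul_one]
  have hexp : ∀ l x y, w' l x y =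
      minv * ∑ i ∈ Finset.range m, ζ ^ (l * i) * w ((h ^ i) x) y := by
    intro l x y
    simp only [w', S, Matrix.smul_apply, Matrix.sum_mul, Matrix.sum_apply, smul_pow,
      Matrix.smul_mul, hHi, smul_eq_mul, ← pow_mul]
  have hinvw' : ∀ l x y, w' l (u x) (u y) = w' l x y := by
    intro l x y
    rw [hexp, hexp]
    congr 1
    refine Finset.sum_congr rfl fun i _ => ?_
    rw [← Equiv.Perm.mul_apply, ← (huh.pow_right i).eq, Equiv.Perm.mul_apply, hinvu]
  have hfix' : ∀ l x y, u x = x → u y = y → IsLocalRing.residue R (w' l x y) = 0 := by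
    intro l x y hx hy
    rw [hexp, map_mul, map_sum]
    refine mul_eq_zero_of_right _ (Finset.sum_eq_zero fun i _ => ?_)
    rw [map_mul]
    refine mul_eq_zero_of_right _ (hfix _ _ ?_ hy)
    rw [← Equiv.Perm.mul_apply, (huh.pow_right i).eq, Equiv.Perm.mul_apply, hx]
  have hmain : ∀ l, ∑ x, w' l x (u x) = 0 := fun l =>
    sum_apply_perm_eq_zero p u n hu (w' l) (hidem l) (hinvw' l) (hfix' l)
  have hcomb : ∀ x, ∑ l ∈ Finset.range m, ζ ^ l * w' l x (u x) = w x (h (u x)) := by
    intro x
    simp only [hexp, Finset.mul_sum]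
    rw [Finset.sum_comm, Finset.sum_eq_single (m - 1)]
    · have e1 : ∀ l, ζ ^ l * (minv * (ζ ^ (l * (m - 1)) * w ((h ^ (m - 1)) x) (u x))) =
          minv * w ((h ^ (m - 1)) x) (u x) := by
        intro l
        have hl : ζ ^ l * ζ ^ (l * (m - 1)) = 1 := by
          rw [← pow_add, show l + l * (m - 1) = m * l by
            obtain ⟨e, rfl⟩ : ∃ e, m = e + 1 := ⟨m - 1, by omega⟩
            rw [Nat.add_sub_cancel]; ring, pow_mul, hζ.pow_eq_one, one_pow]
        linear_combination (minv * w ((h ^ (m - 1)) x) (u x)) * hl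
      rw [Finset.sum_congr rfl (fun l _ => e1 l), Finset.sum_const, Finset.card_range,
        nsmul_eq_mul, ← mul_assoc, mul_comm (m : R), hminv, one_mul]
      rw [← hinvh ((h ^ (m - 1)) x) (u x), ← Equiv.Perm.mul_apply, ← pow_succ',
        Nat.sub_add_cancel hm, hh]
      rfl
    · intro i hi hne
      have hr : ∑ l ∈ Finset.range m, (ζ ^ (i + 1)) ^ l = 0 := by
        have h1 : ζ ^ (i + 1) ≠ 1 := by
          have := Finset.mem_range.1 hi
          exact hζ.pow_ne_one_of_pos_of_lt (by omega) (by omega)
        have h2 := mul_geom_sum (ζ ^ (i + 1)) m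
        rw [← pow_mul, mul_comm (i + 1) m, pow_mul, hζ.pow_eq_one, one_pow, sub_self] at h2
        exact (mul_eq_zero.1 h2).resolve_left (sub_ne_zero.2 h1)
      have e2 : ∀ l, ζ ^ l * (minv * (ζ ^ (l * i) * w ((h ^ i) x) (u x))) =
          (ζ ^ (i + 1)) ^ l * (minv * w ((h ^ i) x) (u x)) := by
        intro l
        rw [← pow_mul, show (i + 1) * l = l + l * i by ring, pow_add]; ring
      simp only [e2, ← Finset.sum_mul, hr, zero_mul]
    · intro hn
      exact absurd (Finset.mem_range.2 (by omega)) hn
  rw [← Finset.sum_congr rfl fun x _ => hcomb x, Finset.sum_comm]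
  simp [← Finset.mul_sum, hmain]

end Main

end Cfsg.Agent.Lib.Blocks
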