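import Cfsg.Agent.Lib.Blocks.Induced
import Cfsg.Agent.Lib.Blocks.Sections
import Cfsg.Agent.Lib.Blocks.SecondMain

/-!
# Blocks of local subgroups and the first main theorem
-/

set_option autoImplicit false
set_option linter.unusedSectionVars false
set_option linter.style.haveILetI false

namespace Cfsg.Agent.Lib.Blocks

open Cfsg Cfsg.Agent.Lib.Characters

universe u

section Sylow

variable {G : Type u} [Group G] [Finite G] {p : ℕ} [Fact p.Prime]

/-- A subgroup of `H` of Sylow order is a Sylow subgroup of `H`. -/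
theorem exists_sylowSub_eq {H P : Subgroup G} (hPH : P ≤ H)
    (hcard : Nat.card P = p ^ (Nat.card H).factorization p) :
    ∃ S : Sylow p H, sylowSub S = P :=
  ⟨Sylow.ofCard (P.subgroupOf H)
      (by rw [Nat.card_congr (Subgroup.subgroupOfEquivOfLe hPH).toEquiv, hcard]),
    Subgroup.map_subgroupOf_eq_of_le hPH⟩

/-- A `p`-subgroup which is Sylow in the normaliser part of `C` is Sylow in `C`. -/
theorem card_eq_of_sylow_inf_normalizer {C P : Subgroup G} (hPC : P ≤ C)
    (hcard : Nat.card P =
      p ^ (Nat.card ↥(C ⊓ Subgroup.normalizer (P : Set G) : Subgroup G)).factorization p) :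
    Nat.card P = p ^ (Nat.card C).factorization p := by
  have hp := (Fact.out : p.Prime)
  set n := (Nat.card ↥(C ⊓ Subgroup.normalizer (P : Set G) : Subgroup G)).factorization p
  rw [hcard]
  congr 1
  apply le_antisymm
  · exact (hp.pow_dvd_iff_le_factorization Nat.card_pos.ne').1
      (hcard ▸ Subgroup.card_dvd_of_le hPC)
  · by_contra hlt
    have hd : p ^ (n + 1) ∣ Nat.card C :=
      (hp.pow_dvd_iff_le_factorization Nat.card_pos.ne').2 (by omega)
    have h1 := Sylow.prime_pow_dvd_card_normalizer hd (H := P.subgroupOf C)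
      (by rw [Nat.card_congr (Subgroup.subgroupOfEquivOfLe hPC).toEquiv, hcard])
    rw [← Subgroup.subgroupOf_normalizer_eq hPC,
      ← Subgroup.inf_subgroupOf_right (Subgroup.normalizer (P : Set G)) C,
      Nat.card_congr (Subgroup.subgroupOfEquivOfLe
        (inf_le_right : Subgroup.normalizer (P : Set G) ⊓ C ≤ C)).toEquiv, inf_comm,
      hp.pow_dvd_iff_le_factorization Nat.card_pos.ne'] at h1
    omega

theorem card_centralizer_subgroup (N : Subgroup G) (c : N) :
    Nat.card (Subgroup.centralizer ({c} : Set N)) =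
      Nat.card ↥(Subgroup.centralizer ({(c : G)} : Set G) ⊓ N : Subgroup G) :=
  Nat.card_congr
    { toFun := fun a => ⟨(a.1 : G), Subgroup.mem_inf.2 ⟨Subgroup.mem_centralizer_singleton_iff.2
        (congrArg Subtype.val (Subgroup.mem_centralizer_singleton_iff.1 a.2)), a.1.2⟩⟩
      invFun := fun a => ⟨⟨a.1, (Subgroup.mem_inf.1 a.2).2⟩,
        Subgroup.mem_centralizer_singleton_iff.2 (Subtype.ext
          (Subgroup.mem_centralizer_singleton_iff.1 (Subgroup.mem_inf.1 a.2).1))⟩
      left_inv := fun a => rfl
      right_inv := fun a => rfl }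

/-- Classes with defect group `P` meet `C(P)` in one `N(P)`-class. -/
theorem exists_normalizer_conj {g c₁ c₂ : G} {S : Sylow p (Subgroup.centralizer ({g} : Set G))}
    {P : Subgroup G} (hS : sylowSub S = P) (h1 : IsConj g c₁) (h2 : IsConj g c₂)
    (hc1 : c₁ ∈ Subgroup.centralizer (P : Set G)) (hc2 : c₂ ∈ Subgroup.centralizer (P : Set G)) :
    ∃ n ∈ Subgroup.normalizer (P : Set G), n * c₁ * n⁻¹ = c₂ := by
  haveI := Fintype.ofFinite G
  obtain ⟨t, ht⟩ := isConj_iff.1 (h1.symm.trans h2)
  have hle2 : P ≤ Subgroup.centralizer ({c₂} : Set G) := le_centralizer_singleton_iff.2 hc2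
  have hcard : Nat.card P =
      p ^ (Nat.card (Subgroup.centralizer ({c₂} : Set G))).factorization p := by
    obtain ⟨a, rfl⟩ := isConj_iff.1 h2
    rw [centralizer_conj_singleton, card_map_conj, ← card_sylowSub S, hS]
  obtain ⟨S', hS'⟩ := exists_sylowSub_eq hle2 hcard
  have hR : P.map (MulAut.conj t).toMonoidHom ≤ Subgroup.centralizer ({c₂} : Set G) := by
    rw [← ht, centralizer_conj_singleton]
    exact Subgroup.map_mono (le_centralizer_singleton_iff.2 hc1)
  have hPp : IsPGroup p P := hS ▸ isPGroup_sylowSub S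
  obtain ⟨s, hs, hsle⟩ := exists_conj_le_sylowSub S' (hPp.map _) hR
  rw [hS'] at hsle
  have heq : P.map (MulAut.conj (s * t)).toMonoidHom = P := by
    refine Subgroup.eq_of_le_of_card_ge ?_ (card_map_conj P (s * t)).ge
    rintro _ ⟨x, hx, rfl⟩
    exact hsle ⟨t * x * t⁻¹, ⟨x, hx, rfl⟩, by simp [mul_assoc]⟩
  refine ⟨s * t, ?_, ?_⟩
  · rw [Subgroup.mem_normalizer_iff]
    intro x
    constructor
    · intro hx
      rw [← heq]
      exact ⟨x, hx, rfl⟩
    · intro hx
      rw [← heq] at hx
      obtain ⟨y, hy, hyx⟩ := hx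
      simp only [MulEquiv.coe_toMonoidHom, MulAut.conj_apply] at hyx
      have : y = x := by simpa using hyx
      exact this ▸ hy
  · rw [show s * t * c₁ * (s * t)⁻¹ = s * (t * c₁ * t⁻¹) * s⁻¹ by group, ht,
      Subgroup.mem_centralizer_singleton_iff.1 hs, mul_inv_cancel_right]

end Sylow

variable {G : Type u} [Group G] [Fintype G] {M : Ideal AlgInt} [hMp : M.IsPrime] {p : ℕ}

/-- Every block with a defect group containing a conjugate of `P` is induced from `H`. -/
theorem exists_isInducedBlock (hM : IsPModular p M) {P H : Subgroup G} [Fintype H]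
    (hP : IsPGroup p P) (hPH : P ≤ H) (hCH : Subgroup.centralizer (P : Set G) ≤ H)
    (hHN : H ≤ Subgroup.normalizer (P : Set G)) {B : Set (IrrCharacter G)} (hB : IsPBlock M B)
    {D : Subgroup G} (hD : IsDefectGroup p M B D) {x : G}
    (hx : P.map (MulAut.conj x).toMonoidHom ≤ D) :
    ∃ b : Set (IrrCharacter H), IsInducedBlock M H b B := by
  classical
  haveI := Fact.mk hM.1
  haveI := subgroupOf_normal_of_le_normalizer hHN
  obtain ⟨g, hg, S, rfl⟩ := hD
  have he := isRCentral_blockCoeff hM hB
  set F : H → ℂ := resFun H (trunc P (blockCoeff B))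
  have hF : IsRCentral M F := by
    refine ⟨?_, fun y => memLocalRing_trunc he.2 _⟩
    show IsClassFunction H (resFun H (trunc P (blockCoeff B)))
    rw [resFun_trunc hPH]
    exact isClassFunction_trunc_of_normal (isRCentral_resFun H he).1
  -- a point of `C(P)` with unit coefficient
  have hcP : x⁻¹ * g * x ∈ Subgroup.centralizer (P : Set G) := by
    rw [mem_centralizer_subgroup_iff]
    intro a ha
    have h := mem_centralizer_subgroup_iff.1 (mem_centralizer_sylowSub S) (x * a * x⁻¹)
      (hx ⟨a, ha, rfl⟩)
    have h' := congrArg (fun t => x⁻¹ * t * x) h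
    simpa [mul_assoc] using h'
  have hFc : ¬ MemLocalIdeal M (F ⟨_, hCH hcP⟩) := by
    show ¬ MemLocalIdeal M (trunc P (blockCoeff B) (x⁻¹ * g * x))
    rw [trunc_of_mem hcP, show x⁻¹ * g * x = x⁻¹ * g * x⁻¹⁻¹ by rw [inv_inv],
      isClassFunction_blockCoeff B g x⁻¹]
    exact hg.2.1
  have hFF : ∀ y, MemLocalIdeal M (conv F F y - F y) := by
    intro y
    have h1 := trunc_conv_congr hM P hP he.2 he.2 (isPInv_of_isClassFunction P he.1)
      (isPInv_of_isClassFunction P he.1) (y : G)
    rw [blockCoeff_conv_self] at h1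
    rw [show conv F F y = conv (trunc P (blockCoeff B)) (trunc P (blockCoeff B)) (y : G) from
      conv_resFun hCH _ _ y]
    simpa [F, resFun] using memLocalIdeal_neg h1
  obtain ⟨ξ, hξ⟩ : ∃ ξ : IrrCharacter H, ¬ MemLocalIdeal M (omega (ξ : H → ℂ) F) := by
    by_contra hcon
    simp only [not_exists, not_not] at hcon
    obtain ⟨n, hn⟩ := exists_convPow_memLocalIdeal hM hF hcon
    have hpow : ∀ n y, MemLocalIdeal M (convPow F (n + 1) y - F y) := by
      intro n
      induction n with
      | zero =>
        intro y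
        rw [show convPow F 1 = F from (conv_comm deltaOne hF.1).trans (deltaOne_conv F), sub_self]
        exact memLocalIdeal_zero
      | succ n ih =>
        intro y
        have h2 : MemLocalIdeal M (conv F (convPow F (n + 1)) y - conv F F y) := by
          simp only [conv, ← Finset.sum_sub_distrib, ← mul_sub]
          exact memLocalIdeal_sum _ fun z _ => memLocalIdeal_mul_left (hF.2 z) (ih _)
        rw [convPow]
        simpa using memLocalIdeal_add h2 (hFF y)
    have h3 := memLocalIdeal_sub (hn (n + 1) (by omega) ⟨_, hCH hcP⟩) (hpow n ⟨_, hCH hcP⟩)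
    exact hFc (by simpa using h3)
  obtain ⟨ψ, hψ⟩ := exists_induced_char hM hP hPH hCH hHN ξ
  have hind : IsInducedBlock M H (blockOf M (ξ : H → ℂ)) (blockOf M (ψ : G → ℂ)) :=
    isInducedBlock_of_pair (isPBlock_blockOf ξ) (isPBlock_blockOf ψ) (self_mem_blockOf ξ)
      (self_mem_blockOf ψ) fun a => by
      have h := hψ _ (isRCentral_classIndicator (M := M) a)
      rwa [omega_classIndicator (irr_isClassFunction ψ)] at h
  have hmem : ψ ∈ B := by
    by_contra hne
    have h1 := hψ _ he
    rw [omega_blockCoeff, if_neg hne, sub_zero] at h1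
    exact hξ (by simpa using memLocalIdeal_sub h1 (omega_resFun_trunc_congr hM hP hPH hHN ξ he))
  exact ⟨_, IsPBlock.eq_of_mem hB (isPBlock_blockOf ψ) hmem (self_mem_blockOf ψ) ▸ hind⟩

/-- The converse: the defect groups of the induced block contain a conjugate of `P`. -/
theorem exists_le_defect_of_isInducedBlock (hM : IsPModular p M) {P H : Subgroup G} [Fintype H]
    (hP : IsPGroup p P) (hPH : P ≤ H) (hHN : H ≤ Subgroup.normalizer (P : Set G))
    {b : Set (IrrCharacter H)} {B : Set (IrrCharacter G)} (hind : IsInducedBlock M H b B) :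
    ∃ E : Subgroup G, IsDefectGroup p M B E ∧ P ≤ E := by
  haveI := Fact.mk hM.1
  haveI := subgroupOf_normal_of_le_normalizer hHN
  obtain ⟨D, hD⟩ := exists_isDefectGroup hM hind.1
  obtain ⟨E, hE, hDE⟩ := exists_le_defectGroup hM hind hD
  refine ⟨E, hE, le_trans ?_ hDE⟩
  rw [← Subgroup.map_subgroupOf_eq_of_le hPH]
  exact Subgroup.map_mono (le_of_isDefectGroup hM
    (hP.of_equiv (Subgroup.subgroupOfEquivOfLe hPH).symm) hind.1 hD)

/-- A block of `H` inducing a block with defect group `P` has defect group `P`. -/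
theorem isDefectGroup_of_isInducedBlock (hM : IsPModular p M) {P H : Subgroup G} [Fintype H]
    (hPH : P ≤ H) (hHN : H ≤ Subgroup.normalizer (P : Set G))
    {b : Set (IrrCharacter H)} {B : Set (IrrCharacter G)} (hind : IsInducedBlock M H b B)
    (hP : IsDefectGroup p M B P) : IsDefectGroup p M b (P.subgroupOf H) := by
  haveI := Fact.mk hM.1
  haveI := subgroupOf_normal_of_le_normalizer hHN
  obtain ⟨D, hD⟩ := exists_isDefectGroup hM hind.1
  obtain ⟨E, hE, hDE⟩ := exists_le_defectGroup hM hind hD
  have hle : P.subgroupOf H ≤ D := le_of_isDefectGroup hM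
    ((IsDefectGroup.isPGroup hP).of_equiv (Subgroup.subgroupOfEquivOfLe hPH).symm) hind.1 hD
  have hcard : Nat.card D ≤ Nat.card (P.subgroupOf H) := by
    rw [Nat.card_congr (Subgroup.subgroupOfEquivOfLe hPH).toEquiv,
      IsDefectGroup.card_eq hM hind.2.1 hP, ← IsDefectGroup.card_eq hM hind.2.1 hE,
      Nat.card_congr (D.equivMapOfInjective H.subtype H.subtype_injective).toEquiv]
    exact Subgroup.card_le_of_le hDE
  rwa [Subgroup.eq_of_le_of_card_ge hle hcard]

/-- **First main theorem**, defect groups: a block of `N(D)` with defect group `D` induces a block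
with defect group `D`. -/
theorem isDefectGroup_induced (hM : IsPModular p M) {D : Subgroup G}
    [Fintype (Subgroup.normalizer (D : Set G))]
    {b : Set (IrrCharacter (Subgroup.normalizer (D : Set G)))} {B : Set (IrrCharacter G)}
    (hind : IsInducedBlock M (Subgroup.normalizer (D : Set G)) b B)
    (hb : IsDefectGroup p M b (D.subgroupOf (Subgroup.normalizer (D : Set G)))) :
    IsDefectGroup p M B D := by
  classical
  haveI := Fact.mk hM.1
  have hDN : D ≤ (Subgroup.normalizer (D : Set G)) := Subgroup.le_normalizer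
  obtain ⟨E, hE, hDE⟩ := exists_le_defectGroup hM hind hb
  rw [Subgroup.map_subgroupOf_eq_of_le hDN] at hDE
  obtain ⟨c, hc, S, hS⟩ := hb
  have hDp : IsPGroup p D := by
    have h1 : IsPGroup p (D.subgroupOf (Subgroup.normalizer (D : Set G))) := hS ▸ isPGroup_sylowSub S
    exact h1.of_equiv (Subgroup.subgroupOfEquivOfLe hDN)
  have hcD : (c : G) ∈ Subgroup.centralizer (D : Set G) := by
    rw [mem_centralizer_subgroup_iff]
    intro a ha
    have hmem : (⟨a, hDN ha⟩ : (Subgroup.normalizer (D : Set G))) ∈ sylowSub S := hS.le (Subgroup.mem_subgroupOf.2 ha)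
    exact congrArg Subtype.val
      (mem_centralizer_subgroup_iff.1 (mem_centralizer_sylowSub S) _ hmem)
  have hDC : D ≤ Subgroup.centralizer ({(c : G)} : Set G) := le_centralizer_singleton_iff.2 hcD
  have hcard : Nat.card D =
      p ^ (Nat.card (Subgroup.centralizer ({(c : G)} : Set G))).factorization p := by
    refine card_eq_of_sylow_inf_normalizer hDC ?_
    have h1 : Nat.card (D.subgroupOf (Subgroup.normalizer (D : Set G))) =
        p ^ (Nat.card (Subgroup.centralizer ({c} : Set (Subgroup.normalizer (D : Set G))))).factorization p := by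
      rw [hS]; exact card_sylowSub S
    rw [Nat.card_congr (Subgroup.subgroupOfEquivOfLe hDN).toEquiv] at h1
    rw [h1, card_centralizer_subgroup]
  obtain ⟨T, hT⟩ := exists_sylowSub_eq hDC hcard
  -- the central character of `B` at `c` is a unit
  obtain ⟨ξ, hξ⟩ := IsPBlock.nonempty hind.1
  obtain ⟨χ, hχ⟩ := IsPBlock.nonempty hind.2.1
  have hfun : resFun (Subgroup.normalizer (D : Set G)) (trunc D (classIndicator (c : G))) = classIndicator c := by
    funext y
    by_cases hy : (y : G) ∈ Subgroup.centralizer (D : Set G)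
    · show trunc D _ (y : G) = _
      rw [trunc_of_mem hy]
      simp only [classIndicator]
      by_cases hcy : IsConj (c : G) (y : G)
      · obtain ⟨n, hn, he⟩ := exists_normalizer_conj hT (IsConj.refl _) hcy hcD hy
        rw [if_pos hcy, if_pos (isConj_iff.2 ⟨⟨n, hn⟩, Subtype.ext he⟩)]
      · rw [if_neg hcy, if_neg]
        intro h
        obtain ⟨n, hn⟩ := isConj_iff.1 h
        exact hcy (isConj_iff.2 ⟨(n : G), congrArg Subtype.val hn⟩)
    · show trunc D _ (y : G) = _
      rw [trunc_of_notMem hy]
      simp only [classIndicator]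
      rw [if_neg]
      intro h
      obtain ⟨n, hn⟩ := isConj_iff.1 h
      apply hy
      rw [← hn, mem_centralizer_subgroup_iff]
      intro a ha
      have ha' : (n : G)⁻¹ * a * (n : G) ∈ D := by
        have := (Subgroup.mem_normalizer_iff.1 (inv_mem n.2) a).1 ha
        simpa using this
      have h' := congrArg (fun t => (n : G) * t * (n : G)⁻¹)
        (mem_centralizer_subgroup_iff.1 hcD _ ha')
      simpa [mul_assoc] using h'
  have hω : ¬ MemLocalIdeal M (centralChar (χ : G → ℂ) (c : G)) := by
    intro h
    apply hc.2.2 ξ hξ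
    have h1 := IsInducedBlock.omega_congr hind hξ hχ (isRCentral_classIndicator (M := M) (c : G))
    have h2 := omega_resFun_trunc_congr hM hDp hDN le_rfl ξ
      (isRCentral_classIndicator (M := M) (c : G))
    rw [omega_classIndicator (irr_isClassFunction χ)] at h1
    rw [hfun, omega_classIndicator (irr_isClassFunction ξ)] at h2
    have := memLocalIdeal_add (memLocalIdeal_sub h1 h2) h
    simpa using this
  obtain ⟨g, hg, R, rfl⟩ := hE
  have hle := isConjLE_of_omega hM hind.2.1 hg R T hχ hω
  rw [hT] at hle
  rw [Subgroup.eq_of_le_of_card_ge hDE hle.card_le]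
  exact ⟨g, hg, R, rfl⟩

/-- **First main theorem**, injectivity. -/
theorem eq_of_isInducedBlock (hM : IsPModular p M) {D : Subgroup G}
    [Fintype (Subgroup.normalizer (D : Set G))]
    {b b' : Set (IrrCharacter (Subgroup.normalizer (D : Set G)))} {B : Set (IrrCharacter G)}
    (h : IsInducedBlock M (Subgroup.normalizer (D : Set G)) b B)
    (h' : IsInducedBlock M (Subgroup.normalizer (D : Set G)) b' B)
    (hb : IsDefectGroup p M b (D.subgroupOf (Subgroup.normalizer (D : Set G)))) : b = b' := by
  classical
  haveI := Fact.mk hM.1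
  have hDN : D ≤ (Subgroup.normalizer (D : Set G)) := Subgroup.le_normalizer
  haveI : (D.subgroupOf (Subgroup.normalizer (D : Set G))).Normal := subgroupOf_normal_of_le_normalizer le_rfl
  have hDp : IsPGroup p D :=
    (IsDefectGroup.isPGroup hb).of_equiv (Subgroup.subgroupOfEquivOfLe hDN)
  obtain ⟨ξ, hξ⟩ := IsPBlock.nonempty h.1
  obtain ⟨ξ', hξ'⟩ := IsPBlock.nonempty h'.1
  obtain ⟨χ, hχ⟩ := IsPBlock.nonempty h.2.1
  haveI : Finite (ConjClasses (Subgroup.normalizer (D : Set G))) := Finite.of_surjective _ ConjClasses.mk_surjective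
  haveI := Fintype.ofFinite (ConjClasses (Subgroup.normalizer (D : Set G)))
  obtain ⟨c₀, hc₀, S₀, hS₀⟩ := hb
  have he := isRCentral_blockCoeff hM h.1
  have key : ∀ c : (Subgroup.normalizer (D : Set G)), ¬ MemLocalIdeal M (blockCoeff b c) →
      MemLocalIdeal M (centralChar (ξ : (Subgroup.normalizer (D : Set G)) → ℂ) c - centralChar (ξ' : (Subgroup.normalizer (D : Set G)) → ℂ) c) := by
    intro c hc
    by_cases hcD : (c : G) ∈ Subgroup.centralizer (D : Set G)
    · have hDC : D ≤ Subgroup.centralizer ({(c : G)} : Set G) :=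
        le_centralizer_singleton_iff.2 hcD
      obtain ⟨Q⟩ : Nonempty (Sylow p (Subgroup.centralizer ({c} : Set (Subgroup.normalizer (D : Set G))))) := inferInstance
      have hQle := (isConjLE_of_coeff hM h.1 hc₀ S₀ (isPGroup_sylowSub Q)
        (mem_centralizer_sylowSub Q) hc).card_le
      rw [show sylowSub S₀ = D.subgroupOf (Subgroup.normalizer (D : Set G)) from hS₀.symm,
        Nat.card_congr (Subgroup.subgroupOfEquivOfLe hDN).toEquiv, card_sylowSub Q] at hQle
      have hcardN := card_centralizer_subgroup (Subgroup.normalizer (D : Set G)) c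
      have hcard : Nat.card D =
          p ^ (Nat.card ↥(Subgroup.centralizer ({(c : G)} : Set G) ⊓ (Subgroup.normalizer (D : Set G)) : Subgroup G)).factorization p := by
        refine le_antisymm ?_ (hcardN ▸ hQle)
        obtain ⟨k, hk⟩ := hDp.exists_card_eq
        rw [hk]
        refine Nat.pow_le_pow_right hM.1.pos ?_
        exact (hM.1.pow_dvd_iff_le_factorization Nat.card_pos.ne').1
          (hk ▸ Subgroup.card_dvd_of_le (le_inf hDC hDN))
      obtain ⟨T, hT⟩ := exists_sylowSub_eq hDC (card_eq_of_sylow_inf_normalizer hDC hcard)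
      have hfun : resFun (Subgroup.normalizer (D : Set G)) (trunc D (classIndicator (c : G))) = classIndicator c := by
        funext y
        simp only [resFun, classIndicator]
        by_cases hy : (y : G) ∈ Subgroup.centralizer (D : Set G)
        · rw [trunc_of_mem hy]
          by_cases hcy : IsConj (c : G) (y : G)
          · obtain ⟨n, hn, he⟩ := exists_normalizer_conj hT (IsConj.refl _) hcy hcD hy
            rw [classIndicator, if_pos hcy, if_pos (isConj_iff.2 ⟨⟨n, hn⟩, Subtype.ext he⟩)]
          · rw [classIndicator, if_neg hcy, if_neg]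
            intro hh
            obtain ⟨n, hn⟩ := isConj_iff.1 hh
            exact hcy (isConj_iff.2 ⟨(n : G), congrArg Subtype.val hn⟩)
        · rw [trunc_of_notMem hy, if_neg]
          intro hh
          obtain ⟨n, hn⟩ := isConj_iff.1 hh
          refine hy ((mem_centralizer_subgroupOf hDN y).1 ?_)
          rw [← hn]
          exact Subgroup.Normal.conj_mem inferInstance _ ((mem_centralizer_subgroupOf hDN c).2 hcD) n
      have e : ∀ {η : IrrCharacter (Subgroup.normalizer (D : Set G))} {b'' : Set (IrrCharacter (Subgroup.normalizer (D : Set G)))}, IsInducedBlock M (Subgroup.normalizer (D : Set G)) b'' B →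
          η ∈ b'' →
          MemLocalIdeal M (centralChar (η : (Subgroup.normalizer (D : Set G)) → ℂ) c - centralChar (χ : G → ℂ) (c : G)) := by
        intro η b'' hind hη
        have h1 := IsInducedBlock.omega_congr hind hη hχ
          (isRCentral_classIndicator (M := M) (c : G))
        have h2 := omega_resFun_trunc_congr hM hDp hDN le_rfl η
          (isRCentral_classIndicator (M := M) (c : G))
        rw [omega_classIndicator (irr_isClassFunction χ)] at h1
        rw [hfun, omega_classIndicator (irr_isClassFunction η)] at h2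
        simpa using memLocalIdeal_sub h1 h2
      simpa using memLocalIdeal_sub (e h hξ) (e h' hξ')
    · have hcD' : c ∉ Subgroup.centralizer ((D.subgroupOf (Subgroup.normalizer (D : Set G)) : Subgroup (Subgroup.normalizer (D : Set G))) : Set (Subgroup.normalizer (D : Set G))) :=
        fun hh => hcD ((mem_centralizer_subgroupOf hDN c).1 hh)
      have hDp' : IsPGroup p (D.subgroupOf (Subgroup.normalizer (D : Set G))) :=
        hDp.of_equiv (Subgroup.subgroupOfEquivOfLe hDN).symm
      have hz : ∀ η : IrrCharacter (Subgroup.normalizer (D : Set G)), MemLocalIdeal M (centralChar (η : (Subgroup.normalizer (D : Set G)) → ℂ) c) := fun η => by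
        by_contra hne
        exact hcD' (mem_centralizer_of_centralChar_ne hM hDp' hne)
      exact memLocalIdeal_sub (hz ξ) (hz ξ')
  have hdiff : MemLocalIdeal M
      (omega (ξ : (Subgroup.normalizer (D : Set G)) → ℂ) (blockCoeff b) - omega (ξ' : (Subgroup.normalizer (D : Set G)) → ℂ) (blockCoeff b)) := by
    rw [omega_eq_sum_classes (irr_isClassFunction ξ) he.1,
      omega_eq_sum_classes (irr_isClassFunction ξ') he.1, ← Finset.sum_sub_distrib]
    refine memLocalIdeal_sum _ fun C _ => ?_
    rw [← mul_sub]
    by_cases hc : MemLocalIdeal M (blockCoeff b (Quotient.out C))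
    · exact memLocalIdeal_mul_right hc
        (memLocalRing_sub (memLocalRing_centralChar ξ _) (memLocalRing_centralChar ξ' _))
    · exact memLocalIdeal_mul_left (he.2 _) (key _ hc)
  refine IsPBlock.eq_of_mem h.1 h'.1 (?_ : ξ' ∈ b) hξ'
  by_contra hne
  rw [omega_blockCoeff, omega_blockCoeff, if_pos hξ, if_neg hne, sub_zero] at hdiff
  exact not_memLocalIdeal_one hdiff

end Cfsg.Agent.Lib.Blocks

namespace Cfsg.Agent.Lib.Blocks

open Cfsg Cfsg.Agent.Lib.Characters

universe v

variable {G : Type v} [Group G] [Fintype G] {M : Ideal AlgInt} [hMp : M.IsPrime] {p : ℕ}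

/-- A nonzero central character of the induced block is seen on the subgroup, also in the
centraliser of a normal `p`-subgroup. -/
theorem exists_conj_omega_ne {H : Subgroup G} [Fintype H]
    {b : Set (IrrCharacter H)} {B : Set (IrrCharacter G)} (hind : IsInducedBlock M H b B)
    {ξ : IrrCharacter H} (hξ : ξ ∈ b) {χ : IrrCharacter G} (hχ : χ ∈ B) {g : G}
    (hg : ¬ MemLocalIdeal M (centralChar (χ : G → ℂ) g)) :
    ∃ h : H, IsConj g (h : G) ∧ ¬ MemLocalIdeal M (centralChar (ξ : H → ℂ) h) := by
  classical
  haveI : Finite (ConjClasses H) := Finite.of_surjective _ ConjClasses.mk_surjective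
  haveI := Fintype.ofFinite (ConjClasses H)
  have hR := isRCentral_resFun H (isRCentral_classIndicator (M := M) g)
  have h1 := IsInducedBlock.omega_congr hind hξ hχ (isRCentral_classIndicator (M := M) g)
  rw [omega_classIndicator (irr_isClassFunction χ)] at h1
  by_contra hcon
  simp only [not_exists, not_and, not_not] at hcon
  refine hg ?_
  have h2 : MemLocalIdeal M (omega (ξ : H → ℂ) (resFun H (classIndicator g))) := by
    rw [omega_eq_sum_classes (irr_isClassFunction ξ) hR.1]
    refine memLocalIdeal_sum _ fun C _ => ?_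
    by_cases hc : IsConj g ((Quotient.out C : H) : G)
    · exact memLocalIdeal_mul_left (hR.2 _) (hcon _ hc)
    · simp only [resFun, classIndicator, if_neg hc, zero_mul]
      exact memLocalIdeal_zero
  simpa using memLocalIdeal_sub h2 h1

end Cfsg.Agent.Lib.Blocks
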