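import Cfsg.Agent.Lib.Cores.PCore
import Cfsg.Prelude.Def_Local
import Mathlib.GroupTheory.SchurZassenhaus

/-!
The Hall–Higman lemma for `p`-solvable groups.
-/

set_option autoImplicit false
set_option linter.style.haveILetI false

namespace Cfsg.Agent.Lib.Blocks

open Cfsg

/-- **Hall–Higman**: `C_G(O_p(G)) ≤ O_p(G)` in a `p`-solvable group with trivial `p'`-core. -/
theorem centralizer_pCore_le_of_isPSolvable {G : Type*} [Group G] [Finite G] (p : ℕ)
    [hp : Fact p.Prime] (hG : IsPSolvable p G) (hcore : pPrimeCore p G = ⊥) :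
    Subgroup.centralizer (pCore p G : Set G) ≤ pCore p G := by
  classical
  have hPn : (pCore p G).Normal := by
    haveI : ∀ N : Subgroup G, (N.Normal ∧ IsPGroup p N) → N.Normal := fun N h => h.1
    refine ⟨fun x hx g => ?_⟩
    have h := Cfsg.Agent.Lib.Cores.map_pCore_equiv (p := p) (MulAut.conj g)
    rw [← h]
    exact ⟨x, hx, rfl⟩
  haveI := hPn
  have hCn : (Subgroup.centralizer (pCore p G : Set G)).Normal := inferInstance
  obtain ⟨n, H, h0, hlast, hmono, hnorm, hfac⟩ := hG
  suffices h : ∀ i : Fin (n + 1), Subgroup.centralizer (pCore p G : Set G) ⊓ H i ≤ pCore p G by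
    have := h (Fin.last n)
    rwa [hlast, inf_top_eq] at this
  intro i
  induction i using Fin.induction with
  | zero => rw [h0, inf_bot_eq]; exact bot_le
  | succ i ih =>
    set C := Subgroup.centralizer (pCore p G : Set G) with hC
    set Z := C ⊓ H i.castSucc with hZ
    set K := C ⊓ H i.succ with hK
    haveI := hnorm i.castSucc
    haveI := hnorm i.succ
    have hKn : K.Normal := by rw [hK]; infer_instance
    have hZn : Z.Normal := by rw [hZ]; infer_instance
    have hZK : Z ≤ K := inf_le_inf_left _ (hmono (Fin.castSucc_le_succ i))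
    have hZp : IsPGroup p Z := (Cfsg.Agent.Lib.Cores.pCore_isPGroup p G).to_le ih
    have hrel : Z.relIndex K ∣ (H i.castSucc).relIndex (H i.succ) := by
      have e : Z.relIndex K = (H i.castSucc).relIndex K := by
        rw [← Subgroup.inf_relIndex_right (H i.castSucc) K]
        congr 1
        rw [hZ, hK, inf_comm (H i.castSucc), inf_assoc,
          inf_eq_right.2 (hmono (Fin.castSucc_le_succ i))]
      rw [e, ← Subgroup.relIndex_subgroupOf (inf_le_right : K ≤ H i.succ)]
      exact Subgroup.relIndex_dvd_index_of_normal _ _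
    have hcard : Nat.card K = Nat.card Z * Z.relIndex K := by
      have h := Subgroup.relIndex_mul_relIndex ⊥ Z K bot_le hZK
      rwa [Subgroup.relIndex_bot_left, Subgroup.relIndex_bot_left, eq_comm] at h
    obtain ⟨j, hj⟩ := hZp.exists_card_eq
    rcases hfac i with ⟨m, hm⟩ | hcop
    · refine Cfsg.Agent.Lib.Cores.le_pCore hKn ?_
      rw [hm] at hrel
      obtain ⟨m', -, hm'⟩ := (Nat.dvd_prime_pow hp.out).1 hrel
      exact IsPGroup.of_card (n := j + m') (by rw [hcard, hj, hm', pow_add])
    · have hcop' : Nat.Coprime (Z.relIndex K) p := hcop.coprime_dvd_left hrel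
      haveI : (Z.subgroupOf K).Normal := hZn.subgroupOf K
      obtain ⟨L, hL⟩ := Subgroup.exists_right_complement'_of_coprime (N := Z.subgroupOf K) (by
        rw [Nat.card_congr (Subgroup.subgroupOfEquivOfLe hZK).toEquiv, hj]
        exact (Nat.Coprime.pow_right j hcop').symm)
      have hLcard : Nat.Coprime (Nat.card L) p := by
        have h := hL.card_mul_card
        rw [Nat.card_congr (Subgroup.subgroupOfEquivOfLe hZK).toEquiv, hcard] at h
        rw [Nat.eq_of_mul_eq_mul_left Nat.card_pos h]
        exact hcop'
      have hcm : ∀ z ∈ Z.subgroupOf K, ∀ k : K, Commute z k := fun z hz k =>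
        Subtype.ext ((k.2.1 : (k : G) ∈ C) (z : G) (ih hz))
      have key : ∀ k : K, Nat.Coprime (orderOf k) p ↔ k ∈ L := by
        intro k
        refine ⟨fun hk => ?_, fun hk => ?_⟩
        · obtain ⟨⟨z, l⟩, hzl⟩ := hL.2 k
          simp only at hzl
          have hc : Commute (z : K) l := hcm z z.2 l
          have hzo : Nat.Coprime (orderOf (z : K)) (Nat.card L) := by
            refine Nat.Coprime.coprime_dvd_left ?_ ((hLcard.symm.pow_left j))
            have h := orderOf_dvd_natCard (⟨(z : K), z.2⟩ : Z.subgroupOf K)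
            rw [Nat.card_congr (Subgroup.subgroupOfEquivOfLe hZK).toEquiv, hj, Subgroup.orderOf_mk] at h
            exact h
          have hlo : orderOf (l : K) ∣ Nat.card L := by
            rw [Subgroup.orderOf_coe]; exact orderOf_dvd_natCard l
          have ho := hc.orderOf_mul_eq_mul_orderOf_of_coprime (hzo.coprime_dvd_right hlo)
          rw [hzl] at ho
          have h1 : Nat.Coprime (orderOf (z : K)) p := hk.coprime_dvd_left (ho ▸ dvd_mul_right _ _)
          obtain ⟨w, hw⟩ := hZp ⟨((z : K) : G), z.2⟩
          have hwz : orderOf (z : K) ∣ p ^ w := orderOf_dvd_of_pow_eq_one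
            (Subtype.ext (by simpa using congrArg Subtype.val hw))
          have : (z : K) = 1 := orderOf_eq_one_iff.1 ((h1.pow_right w).eq_one_of_dvd hwz)
          rw [← hzl, this, one_mul]
          exact l.2
        · exact hLcard.coprime_dvd_left (by
            have := orderOf_dvd_natCard (⟨k, hk⟩ : L)
            rwa [Subgroup.orderOf_mk] at this)
      have hLn : (L.map K.subtype).Normal := by
        refine ⟨?_⟩
        rintro _ ⟨l, hl, rfl⟩ g
        refine ⟨⟨g * (l : G) * g⁻¹, hKn.conj_mem _ l.2 g⟩, (key _).1 ?_, rfl⟩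
        rw [Subgroup.orderOf_mk, show orderOf (g * (l : G) * g⁻¹) = orderOf (l : G) from
          orderOf_injective (MulAut.conj g).toMonoidHom (MulAut.conj g).injective (l : G),
          Subgroup.orderOf_coe]
        exact (key l).2 hl
      have hle := Cfsg.Agent.Lib.Cores.le_pPrimeCore (p := p) hLn (by
        rw [Subgroup.card_map_of_injective K.subtype_injective]; exact hLcard)
      rw [hcore, le_bot_iff, Subgroup.map_eq_bot_iff_of_injective _ K.subtype_injective] at hle
      intro k hk
      obtain ⟨⟨z, l⟩, hzl⟩ := hL.2 ⟨k, hk⟩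
      simp only at hzl
      have hl : (l : K) = 1 := by
        exact (Subgroup.eq_bot_iff_forall _).1 hle _ l.2
      rw [hl, mul_one] at hzl
      have : ((z : K) : G) = k := congrArg Subtype.val hzl
      rw [← this]
      exact ih z.2

end Cfsg.Agent.Lib.Blocks
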