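import Cfsg.Agent.Lib.Blocks.Covering

/-!
# Blocks and isomorphisms
-/

set_option autoImplicit false
set_option linter.unusedSectionVars false
set_option linter.style.haveILetI false

namespace Cfsg.Agent.Lib.Blocks

open Cfsg Cfsg.Agent.Lib.Characters

universe u v

variable {H : Type u} [Group H] [Fintype H] {K : Type v} [Group K] [Fintype K]
  {M : Ideal AlgInt} [hMp : M.IsPrime]

/-- An irreducible character composed with an isomorphism. -/
def compEquivIrr (e : K ≃* H) (χ : IrrCharacter H) : IrrCharacter K :=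
  ⟨(χ : H → ℂ) ∘ e, IsIrrCharacter.comp_equiv χ.2 e⟩

theorem compEquivIrr_symm (e : K ≃* H) (χ : IrrCharacter H) :
    compEquivIrr e.symm (compEquivIrr e χ) = χ :=
  Subtype.ext (funext fun x => congrArg (χ : H → ℂ) (e.apply_symm_apply x))

theorem omega_comp_equiv (e : K ≃* H) (ξ : H → ℂ) (F : K → ℂ) :
    omega (ξ ∘ e) F = omega ξ (F ∘ e.symm) := by
  rw [omega, omega, Function.comp_apply, map_one]
  congr 1
  refine Fintype.sum_equiv e.toEquiv _ _ fun x => ?_
  simp

theorem isRCentral_comp_equiv {F : K → ℂ} (hF : IsRCentral M F) (e : K ≃* H) :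
    IsRCentral M (F ∘ e.symm) :=
  ⟨fun a b => by simp only [Function.comp, map_mul, map_inv]; exact hF.1 _ _, fun x => hF.2 _⟩

theorem sameBlock_compEquivIrr (e : K ≃* H) {χ ψ : IrrCharacter H}
    (h : SameBlock M (χ : H → ℂ) (ψ : H → ℂ)) :
    SameBlock M (compEquivIrr e χ : K → ℂ) (compEquivIrr e ψ : K → ℂ) := fun k => by
  rw [← omega_classIndicator (irr_isClassFunction (compEquivIrr e χ)),
    ← omega_classIndicator (irr_isClassFunction (compEquivIrr e ψ))]
  show MemLocalIdeal M (omega ((χ : H → ℂ) ∘ e) _ - omega ((ψ : H → ℂ) ∘ e) _)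
  rw [omega_comp_equiv, omega_comp_equiv]
  exact omega_congr_of_sameBlock h (isRCentral_comp_equiv (isRCentral_classIndicator k) e)

end Cfsg.Agent.Lib.Blocks
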