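import Cfsg.Agent.Lib.Blocks.Covering
import Cfsg.Agent.Lib.Blocks.Transport
import Cfsg.Agent.Lib.Characters.InducedMore

/-!
# The Fong-Reynolds correspondence

Blocks of the stabiliser of a block `b` of a normal subgroup covering `b` correspond to the blocks
of the whole group covering `b`, by induction of characters.
-/

set_option autoImplicit false
set_option linter.unusedSectionVars false
set_option linter.style.haveILetI false

namespace Cfsg.Agent.Lib.Blocks

open Cfsg Cfsg.Agent.Lib.Characters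
open scoped ComplexConjugate

universe u

variable {G : Type u} [Group G] [Fintype G] {M : Ideal AlgInt} [hMp : M.IsPrime] {p : ℕ}

/-- Summing an induced function. -/
theorem sum_indFun (T : Subgroup G) [Fintype T] (f : T → ℂ) :
    ∑ g, indFun T f g = (T.index : ℂ) * ∑ t, f t := by
  have h1 : ∀ x : G, ∑ g, extendByZero T f (x⁻¹ * g * x) = ∑ t, f t := fun x => by
    rw [← sum_extendByZero T f]
    exact Fintype.sum_equiv (MulAut.conj x⁻¹).toEquiv _ _ fun g => by simp
  simp only [indFun_apply, ← Finset.mul_sum]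
  rw [Finset.sum_comm, Finset.sum_congr rfl fun x _ => h1 x, Finset.sum_const, Finset.card_univ,
    nsmul_eq_mul, ← Nat.card_eq_fintype_card, ← T.index_mul_card, Nat.cast_mul]
  have : (Nat.card T : ℂ) ≠ 0 := by exact_mod_cast Nat.card_pos.ne'
  field_simp

/-- Pairing an induced function with a class function. -/
theorem sum_indFun_mul (T : Subgroup G) [Fintype T] (f : T → ℂ) {χ : G → ℂ}
    (hχ : IsClassFunction G χ) :
    ∑ g, indFun T f g * χ g = (T.index : ℂ) * ∑ t, f t * χ t := by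
  have h := sum_indFun T (f * fun t : T => χ t)
  rw [indFun_mul_restrict T f hχ] at h
  simpa using h

/-- Induction preserves local integrality. -/
theorem memLocalRing_indFun (T : Subgroup G) [Fintype T] {f : T → ℂ}
    (hf : IsClassFunction T f) (hfl : ∀ t, MemLocalRing M (f t)) (g : G) :
    MemLocalRing M (indFun T f g) := by
  classical
  haveI := Fintype.ofFinite (G ⧸ T)
  have hcl : ∀ (y : G) (t : T), extendByZero T f ((t : G)⁻¹ * y * t) = extendByZero T f y := by
    intro y t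
    by_cases hy : y ∈ T
    · rw [extendByZero_of_mem _ _ hy, extendByZero_of_mem _ _ (mul_mem (mul_mem (inv_mem t.2) hy) t.2)]
      have := hf ⟨y, hy⟩ t⁻¹
      rw [inv_inv] at this
      exact this
    · rw [extendByZero_of_not_mem _ _ hy, extendByZero_of_not_mem _ _ fun h => hy ?_]
      simpa [mul_assoc] using mul_mem (mul_mem t.2 h) (inv_mem t.2)
  have hsum : ∑ x : G, extendByZero T f (x⁻¹ * g * x) =
      ∑ C : G ⧸ T, ∑ _t : T, extendByZero T f ((Quotient.out C)⁻¹ * g * Quotient.out C) := by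
    rw [← Fintype.sum_prod_type']
    refine Fintype.sum_equiv T.groupEquivQuotientProdSubgroup _ _ fun x => ?_
    set C : G ⧸ T := QuotientGroup.mk x
    have hC : (Quotient.out C)⁻¹ * x ∈ T := QuotientGroup.eq.1 (QuotientGroup.out_eq' C)
    show extendByZero T f (x⁻¹ * g * x) = extendByZero T f ((Quotient.out C)⁻¹ * g * Quotient.out C)
    rw [← hcl ((Quotient.out C)⁻¹ * g * Quotient.out C) ⟨_, hC⟩]
    congr 1
    simp [mul_assoc]
  rw [indFun_apply, hsum, Finset.mul_sum]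
  refine memLocalRing_sum _ fun C _ => ?_
  rw [Finset.sum_const, Finset.card_univ, nsmul_eq_mul, ← Nat.card_eq_fintype_card, ← mul_assoc,
    inv_mul_cancel₀ (Nat.cast_ne_zero.2 Nat.card_pos.ne'), one_mul]
  by_cases hy : (Quotient.out C)⁻¹ * g * Quotient.out C ∈ T
  · rw [extendByZero_of_mem _ _ hy]; exact hfl _
  · rw [extendByZero_of_not_mem _ _ hy]; exact memLocalRing_zero

variable (N : Subgroup G) [hN : N.Normal] [Fintype N] {T : Subgroup G} [Fintype T] (hNT : N ≤ T)

/-- Restriction from an intermediate subgroup. -/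
def resN (ψ : T → ℂ) : N → ℂ := fun n => ψ ⟨n, hNT n.2⟩

/-- The character of `N` seen on `N` inside `T`. -/
noncomputable def liftN (θ : IrrCharacter N) : IrrCharacter (N.subgroupOf T) :=
  ⟨(θ : N → ℂ) ∘ Subgroup.subgroupOfEquivOfLe hNT,
    IsIrrCharacter.comp_equiv θ.2 (Subgroup.subgroupOfEquivOfLe hNT)⟩

theorem classInner_liftN [Fintype (N.subgroupOf T)] (ψ : T → ℂ) (θ : IrrCharacter N) :
    classInner (fun x : N.subgroupOf T => ψ x) (liftN N hNT θ : N.subgroupOf T → ℂ) =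
      classInner (resN N hNT ψ) (θ : N → ℂ) := by
  rw [← classInner_comp_equiv (Subgroup.subgroupOfEquivOfLe hNT) (resN N hNT ψ) (θ : N → ℂ)]
  rfl

theorem conjFun_liftN (t : T) (θ : IrrCharacter N) :
    conjFun (N.subgroupOf T) t (liftN N hNT θ : N.subgroupOf T → ℂ) =
      (liftN N hNT (conjIrrN N (t : G) θ) : N.subgroupOf T → ℂ) := rfl

theorem liftN_injective : Function.Injective (liftN N hNT (T := T)) := fun θ φ h =>
  Subtype.ext (funext fun n => by
    have := congrFun (congrArg Subtype.val h) ((Subgroup.subgroupOfEquivOfLe hNT).symm n)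
    simpa [liftN] using this)

/-- Constituents of a character of `T` are conjugate under `T`. -/
theorem exists_conj_mem {ψ : IrrCharacter T} {θ φ : IrrCharacter N}
    (hθ : classInner (resN N hNT (ψ : T → ℂ)) (θ : N → ℂ) ≠ 0)
    (hφ : classInner (resN N hNT (ψ : T → ℂ)) (φ : N → ℂ) ≠ 0) :
    ∃ t : T, conjIrrN N (t : G) θ = φ := by
  haveI := Fintype.ofFinite (N.subgroupOf T)
  obtain ⟨t, ht⟩ := exists_conjFun_eq (N.subgroupOf T) ψ.2 (liftN N hNT θ).2 (liftN N hNT φ).2
    (by rwa [classInner_liftN]) (by rwa [classInner_liftN])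
  exact ⟨t, liftN_injective N hNT (Subtype.ext (by rw [← ht, conjFun_liftN]))⟩

theorem degree_eq_over {ψ : IrrCharacter T} {θ : IrrCharacter N}
    (hθ : classInner (resN N hNT (ψ : T → ℂ)) (θ : N → ℂ) ≠ 0) :
    (ψ : T → ℂ) 1 = classInner (resN N hNT (ψ : T → ℂ)) (θ : N → ℂ) *
      (((inertia N (θ : N → ℂ)).relIndex T : ℕ) : ℂ) * (θ : N → ℂ) 1 := by
  haveI := Fintype.ofFinite (N.subgroupOf T)
  have hI : inertia (N.subgroupOf T) (liftN N hNT θ : N.subgroupOf T → ℂ) =
      (inertia N (θ : N → ℂ)).subgroupOf T := by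
    ext t
    rw [Subgroup.mem_subgroupOf, mem_inertia_iff, mem_inertia_iff, conjFun_liftN]
    exact ⟨fun h => congrArg Subtype.val (liftN_injective N hNT (Subtype.ext h)),
      fun h => congrArg Subtype.val (congrArg (liftN N hNT)
        (Subtype.ext h : conjIrrN N (t : G) θ = θ))⟩
  have h := degree_eq (N.subgroupOf T) ψ.2 (liftN N hNT θ).2 (by rwa [classInner_liftN])
  rw [classInner_liftN, hI] at h
  rw [h]
  rfl

theorem classInner_resN_eq_sum [Fintype (IrrCharacter T)] (χ : IrrCharacter G) (θ : N → ℂ) :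
    classInner (fun n : N => (χ : G → ℂ) n) θ = ∑ φ : IrrCharacter T,
      classInner (fun t : T => (χ : G → ℂ) t) (φ : T → ℂ) *
        classInner (resN N hNT (φ : T → ℂ)) θ := by
  have hd := eq_sum_classInner
    (IsCharacter.isClassFunction (IsCharacter.restrict (irr_isCharacter χ) T))
  rw [show (fun n : N => (χ : G → ℂ) n) = ∑ φ : IrrCharacter T,
      classInner (fun t : T => (χ : G → ℂ) t) (φ : T → ℂ) • resN N hNT (φ : T → ℂ) from
    funext fun n => by
      simpa [resN, Finset.sum_apply] using congrFun hd ⟨(n : G), hNT n.2⟩,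
    classInner_sum_left]
  simp only [classInner_smul_left]

section Correspondence

variable {N} {b : Set (IrrCharacter N)} (hb : IsPBlock M b)
  (hT : ∀ g : G, g ∈ T ↔ ∀ θ ∈ b, conjIrrN N g θ ∈ b)

include hb in
theorem conjIrrN_mem_of_exists {g : G} {θ : IrrCharacter N} (hθ : θ ∈ b)
    (hg : conjIrrN N g θ ∈ b) : ∀ φ ∈ b, conjIrrN N g φ ∈ b := fun φ hφ =>
  (IsPBlock.mem_iff hb hg).2 (sameBlock_conjFun N (IsPBlock.sameBlock hb hθ hφ) g)

include hb hT in
theorem mem_of_conj {g : G} {θ : IrrCharacter N} (hθ : θ ∈ b) (hg : conjIrrN N g θ ∈ b) :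
    g ∈ T := (hT g).2 (conjIrrN_mem_of_exists hb hθ hg)

include hb hT in
theorem inertia_le {θ : IrrCharacter N} (hθ : θ ∈ b) : inertia N (θ : N → ℂ) ≤ T := fun g hg =>
  mem_of_conj hb hT hθ (by rwa [(Subtype.ext hg : conjIrrN N g θ = θ)])

include hT in
theorem constituent_mem {ψ : IrrCharacter T} {θ φ : IrrCharacter N} (hθb : θ ∈ b)
    (hθ : classInner (resN N hNT (ψ : T → ℂ)) (θ : N → ℂ) ≠ 0)
    (hφ : classInner (resN N hNT (ψ : T → ℂ)) (φ : N → ℂ) ≠ 0) : φ ∈ b := by
  obtain ⟨t, rfl⟩ := exists_conj_mem N hNT hθ hφ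
  exact (hT _).1 t.2 θ hθb

include hb hT in
/-- Induction from the stabiliser is irreducible over `b`. -/
theorem indFun_eq_of_constituent {ψ : IrrCharacter T} {θ : IrrCharacter N} (hθb : θ ∈ b)
    (hθ : classInner (resN N hNT (ψ : T → ℂ)) (θ : N → ℂ) ≠ 0) {χ : IrrCharacter G}
    (hψ : classInner (fun t : T => (χ : G → ℂ) t) (ψ : T → ℂ) ≠ 0) :
    indFun T (ψ : T → ℂ) = (χ : G → ℂ) ∧
      classInner (fun n : N => (χ : G → ℂ) n) (θ : N → ℂ) =
        classInner (resN N hNT (ψ : T → ℂ)) (θ : N → ℂ) := by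
  classical
  haveI := Fintype.ofFinite (IrrCharacter T)
  have hres := IsCharacter.restrict (irr_isCharacter χ) T
  choose m hm using fun φ : IrrCharacter T =>
    IsCharacter.exists_classInner_nat hres (irr_isCharacter φ)
  choose f hf using fun φ : IrrCharacter T =>
    IsCharacter.exists_classInner_nat (IsCharacter.comp (irr_isCharacter φ) (Subgroup.inclusion hNT))
      (irr_isCharacter θ)
  have hf' : ∀ φ : IrrCharacter T, classInner (resN N hNT (φ : T → ℂ)) (θ : N → ℂ) = f φ := hf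
  have he : classInner (fun n : N => (χ : G → ℂ) n) (θ : N → ℂ) =
      ((∑ φ : IrrCharacter T, m φ * f φ : ℕ) : ℂ) := by
    rw [classInner_resN_eq_sum N hNT χ (θ : N → ℂ)]
    push_cast
    exact Finset.sum_congr rfl fun φ _ => by rw [hm, hf']
  set e := ∑ φ : IrrCharacter T, m φ * f φ with hedef
  have hm0 : 1 ≤ m ψ := Nat.one_le_iff_ne_zero.2 fun h => hψ (by rw [hm, h, Nat.cast_zero])
  have hf0 : 1 ≤ f ψ := Nat.one_le_iff_ne_zero.2 fun h => hθ (by rw [hf', h, Nat.cast_zero])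
  have hle : m ψ * f ψ ≤ e :=
    Finset.single_le_sum (f := fun φ => m φ * f φ) (fun φ _ => Nat.zero_le _) (Finset.mem_univ ψ)
  have hcθ : classInner (fun n : N => (χ : G → ℂ) n) (θ : N → ℂ) ≠ 0 := by
    rw [he, Nat.cast_ne_zero]; nlinarith
  have hχ1 := degree_eq N χ.2 θ.2 hcθ
  have hψ1 := degree_eq_over N hNT hθ
  have hidx := Subgroup.relIndex_mul_index (inertia_le hb hT hθb)
  have h1 : classInner (indFun T (ψ : T → ℂ)) (χ : G → ℂ) ≠ 0 := by
    rw [classInner_indFun T _ (irr_isClassFunction χ), ← classInner_conj_symm, hm, map_natCast,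
      Nat.cast_ne_zero]
    omega
  obtain ⟨ζ, hζ, hdec⟩ := IsCharacter.exists_add_of_classInner_ne_zero
    (IsCharacter.indFun T (irr_isCharacter ψ)) χ.2 h1
  obtain ⟨z, hz⟩ := IsCharacter.exists_apply_one hζ
  obtain ⟨d, hd, hd'⟩ := IsIrrCharacter.exists_apply_one θ.2
  have hdeg := congrFun hdec 1
  rw [indFun_one, hψ1, hf', Pi.add_apply, hχ1, he, hd', hz, ← hidx] at hdeg
  have hdeg' : T.index * (f ψ * (inertia N (θ : N → ℂ)).relIndex T * d) =
      e * ((inertia N (θ : N → ℂ)).relIndex T * T.index) * d + z := by exact_mod_cast hdeg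
  have hX : 0 < T.index * (inertia N (θ : N → ℂ)).relIndex T * d := by
    refine Nat.mul_pos (Nat.mul_pos (Nat.pos_of_ne_zero Subgroup.index_ne_zero_of_finite) ?_) hd
    refine Nat.pos_of_ne_zero fun h => ?_
    rw [h, zero_mul] at hidx
    exact Subgroup.index_ne_zero_of_finite hidx.symm
  have hfe : f ψ ≤ e := le_trans (Nat.le_mul_of_pos_left _ hm0) hle
  have hz0 : z = 0 := by
    have := Nat.mul_le_mul_left (T.index * (inertia N (θ : N → ℂ)).relIndex T * d) hfe
    nlinarith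
  have hef : f ψ = e := by
    rw [hz0, add_zero] at hdeg'
    refine Nat.eq_of_mul_eq_mul_left hX ?_
    calc T.index * (inertia N (θ : N → ℂ)).relIndex T * d * f ψ
        = T.index * (f ψ * (inertia N (θ : N → ℂ)).relIndex T * d) := by ring
      _ = _ := by rw [hdeg']; ring
  refine ⟨?_, by rw [he, hf', hef]⟩
  rw [hdec]
  have : ζ = 0 := by
    obtain ⟨n, ρ, rfl⟩ := hζ
    rw [ρ.char_one, hz0, Nat.cast_zero, Nat.cast_eq_zero] at hz
    haveI : Subsingleton (Fin n → ℂ) := Module.finrank_zero_iff.mp hz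
    funext g
    simp [Representation.character, Subsingleton.elim (ρ g) 0]
  rw [this, add_zero]

include hb hT in
theorem isIrrCharacter_indFun {ψ : IrrCharacter T} {θ : IrrCharacter N} (hθb : θ ∈ b)
    (hθ : classInner (resN N hNT (ψ : T → ℂ)) (θ : N → ℂ) ≠ 0) :
    ∃ χ : IrrCharacter G, (χ : G → ℂ) = indFun T (ψ : T → ℂ) ∧
      classInner (fun t : T => (χ : G → ℂ) t) (ψ : T → ℂ) ≠ 0 := by
  obtain ⟨χ, hχ⟩ := IsCharacter.exists_constituent (IsCharacter.indFun T (irr_isCharacter ψ))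
    fun h => by
      have h1 := congrFun h 1
      rw [indFun_one, Pi.zero_apply, mul_eq_zero] at h1
      exact h1.elim (Nat.cast_ne_zero.2 T.index_ne_zero_of_finite)
        (IsIrrCharacter.apply_one_ne_zero ψ.2)
  have hψ : classInner (fun t : T => (χ : G → ℂ) t) (ψ : T → ℂ) ≠ 0 := fun h => hχ (by
    rw [classInner_indFun T _ (irr_isClassFunction χ), ← classInner_conj_symm, h, map_zero])
  exact ⟨χ, (indFun_eq_of_constituent hNT hb hT hθb hθ hψ).1.symm, hψ⟩

include hb hT in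
theorem over_of_constituent {ψ : IrrCharacter T} {θ : IrrCharacter N} (hθb : θ ∈ b)
    (hθ : classInner (resN N hNT (ψ : T → ℂ)) (θ : N → ℂ) ≠ 0) {χ : IrrCharacter G}
    (hψ : classInner (fun t : T => (χ : G → ℂ) t) (ψ : T → ℂ) ≠ 0) :
    classInner (fun n : N => (χ : G → ℂ) n) (θ : N → ℂ) ≠ 0 := by
  rw [(indFun_eq_of_constituent hNT hb hT hθb hθ hψ).2]
  exact hθ

include hb hT in
/-- Only one constituent on `T` lies over `b`. -/
theorem constituent_unique {χ : IrrCharacter G} {ψ ψ' : IrrCharacter T}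
    {θ θ' : IrrCharacter N} (hθb : θ ∈ b) (hθ'b : θ' ∈ b)
    (hθ : classInner (resN N hNT (ψ : T → ℂ)) (θ : N → ℂ) ≠ 0)
    (hθ' : classInner (resN N hNT (ψ' : T → ℂ)) (θ' : N → ℂ) ≠ 0)
    (hψ : classInner (fun t : T => (χ : G → ℂ) t) (ψ : T → ℂ) ≠ 0)
    (hψ' : classInner (fun t : T => (χ : G → ℂ) t) (ψ' : T → ℂ) ≠ 0) :
    ψ = ψ' ∧ classInner (fun t : T => (χ : G → ℂ) t) (ψ : T → ℂ) = 1 := by
  classical
  haveI := Fintype.ofFinite (IrrCharacter T)
  obtain ⟨g, hg⟩ := exists_conjIrrN_eq N (over_of_constituent hNT hb hT hθb hθ hψ)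
    (over_of_constituent hNT hb hT hθ'b hθ' hψ')
  have hgT : g ∈ T := mem_of_conj hb hT hθb (hg.symm ▸ hθ'b)
  have hψ'θ : classInner (resN N hNT (ψ' : T → ℂ)) (θ : N → ℂ) ≠ 0 := by
    haveI := Fintype.ofFinite (N.subgroupOf T)
    intro h
    apply hθ'
    rw [← hg, ← classInner_liftN, ← conjFun_liftN N hNT ⟨g, hgT⟩,
      classInner_restrict_conjFun _ (irr_isClassFunction ψ'), classInner_liftN, h]
  have he := (indFun_eq_of_constituent hNT hb hT hθb hθ hψ).2
  rw [classInner_resN_eq_sum N hNT χ (θ : N → ℂ)] at he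
  choose m hm using fun φ : IrrCharacter T =>
    IsCharacter.exists_classInner_nat (IsCharacter.restrict (irr_isCharacter χ) T)
      (irr_isCharacter φ)
  choose f hf using fun φ : IrrCharacter T =>
    IsCharacter.exists_classInner_nat (IsCharacter.comp (irr_isCharacter φ) (Subgroup.inclusion hNT))
      (irr_isCharacter θ)
  have hf' : ∀ φ : IrrCharacter T, classInner (resN N hNT (φ : T → ℂ)) (θ : N → ℂ) = f φ := hf
  simp only [hm, hf'] at he hψ hψ' hθ hψ'θ ⊢
  rw [Nat.cast_ne_zero] at hψ hψ' hθ hψ'θ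
  have he' : ∑ φ : IrrCharacter T, m φ * f φ = f ψ := by exact_mod_cast he
  have hpos : 0 < f ψ := Nat.pos_of_ne_zero hθ
  have heq : ψ = ψ' := by
    by_contra hne
    have h2 := Finset.add_le_sum (f := fun φ => m φ * f φ) (fun φ _ => Nat.zero_le _)
      (Finset.mem_univ ψ) (Finset.mem_univ ψ') hne
    have h3 : f ψ ≤ m ψ * f ψ := Nat.le_mul_of_pos_left _ (Nat.pos_of_ne_zero hψ)
    have h4 : 0 < m ψ' * f ψ' := Nat.mul_pos (Nat.pos_of_ne_zero hψ') (Nat.pos_of_ne_zero hψ'θ)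
    omega
  refine ⟨heq, ?_⟩
  have h2 : m ψ * f ψ ≤ f ψ := he' ▸ Finset.single_le_sum (f := fun φ => m φ * f φ)
    (fun φ _ => Nat.zero_le _) (Finset.mem_univ ψ)
  have h3 : m ψ ≤ 1 := Nat.le_of_mul_le_mul_right (by rw [one_mul]; exact h2) hpos
  rw [show m ψ = 1 by omega, Nat.cast_one]

include hb hT in
/-- Every character over `b` is induced from `T`. -/
theorem exists_correspondent {χ : IrrCharacter G} {θ : IrrCharacter N} (hθb : θ ∈ b)
    (hθ : classInner (fun n : N => (χ : G → ℂ) n) (θ : N → ℂ) ≠ 0) :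
    ∃ ψ : IrrCharacter T, classInner (resN N hNT (ψ : T → ℂ)) (θ : N → ℂ) ≠ 0 ∧
      classInner (fun t : T => (χ : G → ℂ) t) (ψ : T → ℂ) ≠ 0 ∧
      indFun T (ψ : T → ℂ) = (χ : G → ℂ) := by
  classical
  haveI := Fintype.ofFinite (IrrCharacter T)
  rw [classInner_resN_eq_sum N hNT χ (θ : N → ℂ)] at hθ
  obtain ⟨ψ, -, hψ⟩ := Finset.exists_ne_zero_of_sum_ne_zero hθ
  obtain ⟨h1, h2⟩ := ne_zero_and_ne_zero_of_mul hψ
  exact ⟨ψ, h2, h1, (indFun_eq_of_constituent hNT hb hT hθb h2 h1).1⟩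

include hb hT in
theorem forall_over (hM : IsPModular p M) {B' : Set (IrrCharacter T)} (hB' : IsPBlock M B')
    (hcov : ∃ ψ ∈ B', ∃ θ ∈ b, classInner (resN N hNT (ψ : T → ℂ)) (θ : N → ℂ) ≠ 0) :
    ∀ ψ ∈ B', ∃ θ ∈ b, classInner (resN N hNT (ψ : T → ℂ)) (θ : N → ℂ) ≠ 0 := by
  classical
  obtain ⟨ψ₀, hψ₀, θ₀, hθ₀, h₀⟩ := hcov
  intro ψ hψ
  haveI := Fintype.ofFinite (N.subgroupOf T)
  have hcl : ∀ η ∈ liftN N hNT '' b, blockOf M (η : N.subgroupOf T → ℂ) ⊆ liftN N hNT '' b := by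
    rintro _ ⟨θ, hθ, rfl⟩ η hη
    refine ⟨compEquivIrr (Subgroup.subgroupOfEquivOfLe hNT).symm η, ?_, ?_⟩
    · have h := sameBlock_compEquivIrr (Subgroup.subgroupOfEquivOfLe hNT).symm
        (χ := liftN N hNT θ) (ψ := η) hη
      rw [show compEquivIrr (Subgroup.subgroupOfEquivOfLe hNT).symm (liftN N hNT θ) = θ from
        Subtype.ext (funext fun n => congrArg (θ : N → ℂ) ((Subgroup.subgroupOfEquivOfLe hNT).apply_symm_apply n))] at h
      exact (IsPBlock.mem_iff hb hθ).2 h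
    · exact Subtype.ext (funext fun x => congrArg (η : N.subgroupOf T → ℂ)
        ((Subgroup.subgroupOfEquivOfLe hNT).symm_apply_apply x))
  obtain ⟨η, hη⟩ := exists_constituent_restrict (N.subgroupOf T) ψ
  obtain ⟨t, _, ⟨θ, hθ, rfl⟩, rfl⟩ := constituent_mem_conjClosure (N.subgroupOf T) hM hcl
    (IsPBlock.sameBlock hB' hψ₀ hψ) (Set.mem_image_of_mem _ hθ₀)
    (by rwa [classInner_liftN]) hη
  refine ⟨conjIrrN N (t : G) θ, (hT _).1 t.2 θ hθ, ?_⟩
  rw [← classInner_liftN N hNT, ← conjFun_liftN]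
  exact hη

/-- Induced images of a set of characters. -/
def indImage (B' : Set (IrrCharacter T)) : Set (IrrCharacter G) :=
  {χ | ∃ ψ ∈ B', (χ : G → ℂ) = indFun T (ψ : T → ℂ)}

theorem constituent_of_eq_indFun {χ : IrrCharacter G} {ψ : IrrCharacter T}
    (h : (χ : G → ℂ) = indFun T (ψ : T → ℂ)) :
    classInner (fun t : T => (χ : G → ℂ) t) (ψ : T → ℂ) ≠ 0 := by
  intro h0
  have h1 := classInner_indFun T (ψ : T → ℂ) (irr_isClassFunction χ)
  rw [← h, IsIrrCharacter.classInner_self χ.2, ← classInner_conj_symm, h0, map_zero] at h1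
  exact one_ne_zero h1

theorem omega_indFun_eq (f : T → ℂ) (χ : IrrCharacter G) :
    omega (χ : G → ℂ) (indFun T f) =
      (T.index : ℂ) * (∑ t : T, f t * (χ : G → ℂ) t) / (χ : G → ℂ) 1 := by
  rw [omega, sum_indFun_mul T f (irr_isClassFunction χ)]

theorem inducedCentralChar_eq {χ : IrrCharacter G} {ψ : IrrCharacter T}
    (h : (χ : G → ℂ) = indFun T (ψ : T → ℂ)) (g : G) :
    inducedCentralChar T (ψ : T → ℂ) g = centralChar (χ : G → ℂ) g := by
  rw [inducedCentralChar_eq_omega, ← omega_classIndicator (irr_isClassFunction χ), omega, omega, h,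
    indFun_one, show (∑ x : G, classIndicator g x * indFun T (ψ : T → ℂ) x) =
      ∑ x : G, indFun T (ψ : T → ℂ) x * classIndicator g x from
      Finset.sum_congr rfl fun x _ => mul_comm _ _,
    sum_indFun_mul T _ (isClassFunction_classIndicator g),
    mul_div_mul_left _ _ (Nat.cast_ne_zero.2 T.index_ne_zero_of_finite)]
  congr 1
  exact Finset.sum_congr rfl fun x _ => mul_comm (classIndicator g (x : G)) _

include hb hT in
theorem blockCoeff_indImage (hM : IsPModular p M) {B' : Set (IrrCharacter T)}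
    (hB' : IsPBlock M B')
    (hcov : ∃ ψ ∈ B', ∃ θ ∈ b, classInner (resN N hNT (ψ : T → ℂ)) (θ : N → ℂ) ≠ 0) :
    indFun T (blockCoeff B') = blockCoeff (indImage B') := by
  classical
  haveI := Fintype.ofFinite (IrrCharacter T)
  refine ext_omega (isClassFunction_indFun _ _) (isClassFunction_blockCoeff _) fun χ => ?_
  have hd := eq_sum_classInner
    (IsCharacter.isClassFunction (IsCharacter.restrict (irr_isCharacter χ) T))
  have hsum : ∑ t : T, blockCoeff B' t * (χ : G → ℂ) t = ∑ φ : IrrCharacter T,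
      classInner (fun t : T => (χ : G → ℂ) t) (φ : T → ℂ) *
        (if φ ∈ B' then (φ : T → ℂ) 1 else 0) := by
    have h2 : ∀ t : T, (χ : G → ℂ) t = ∑ φ : IrrCharacter T,
        classInner (fun t : T => (χ : G → ℂ) t) (φ : T → ℂ) * (φ : T → ℂ) t := fun t => by
      simpa [Finset.sum_apply] using congrFun hd t
    rw [Finset.sum_congr rfl fun t _ => (congrArg (blockCoeff B' t * ·) (h2 t)).trans
      (Finset.mul_sum _ _ _), Finset.sum_comm]
    refine Finset.sum_congr rfl fun φ _ => ?_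
    rw [show (if φ ∈ B' then (φ : T → ℂ) 1 else 0) =
      omega (φ : T → ℂ) (blockCoeff B') * (φ : T → ℂ) 1 by
        rw [omega_blockCoeff]; split_ifs <;> simp,
      omega_mul_apply_one φ.2, Finset.mul_sum]
    exact Finset.sum_congr rfl fun t _ => by ring
  rw [omega_indFun_eq, hsum, omega_blockCoeff]
  have hne := IsIrrCharacter.apply_one_ne_zero χ.2
  by_cases hχ : χ ∈ indImage B'
  · obtain ⟨ψ, hψ, hψe⟩ := id hχ
    obtain ⟨θ, hθb, hθ⟩ := forall_over hNT hb hT hM hB' hcov ψ hψ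
    rw [if_pos hχ, Finset.sum_eq_single ψ]
    · have hu := constituent_unique hNT hb hT hθb hθb hθ hθ (constituent_of_eq_indFun hψe)
        (constituent_of_eq_indFun hψe)
      rw [if_pos hψ, hu.2, one_mul, div_eq_one_iff_eq hne, hψe, indFun_one]
    · intro φ _ hφ
      by_cases hφB : φ ∈ B'
      · obtain ⟨θ', hθ'b, hθ'⟩ := forall_over hNT hb hT hM hB' hcov φ hφB
        rw [if_pos hφB, mul_eq_zero]
        left
        by_contra hc
        exact hφ (constituent_unique hNT hb hT hθb hθ'b hθ hθ' (constituent_of_eq_indFun hψe) hc).1.symm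
      · rw [if_neg hφB, mul_zero]
    · simp
  · rw [if_neg hχ, Finset.sum_eq_zero, mul_zero, zero_div]
    intro φ _
    by_cases hφB : φ ∈ B'
    · obtain ⟨θ', hθ'b, hθ'⟩ := forall_over hNT hb hT hM hB' hcov φ hφB
      rw [if_pos hφB, mul_eq_zero]
      left
      by_contra hc
      exact hχ ⟨φ, hφB, (indFun_eq_of_constituent hNT hb hT hθ'b hθ' hc).1.symm⟩
    · rw [if_neg hφB, mul_zero]

include hb hT in
/-- The Fong-Reynolds image is a block, the induced one. -/
theorem isInducedBlock_indImage (hM : IsPModular p M) {B' : Set (IrrCharacter T)}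
    (hB' : IsPBlock M B')
    (hcov : ∃ ψ ∈ B', ∃ θ ∈ b, classInner (resN N hNT (ψ : T → ℂ)) (θ : N → ℂ) ≠ 0) :
    IsInducedBlock M T B' (indImage B') := by
  classical
  obtain ⟨ψ₀, hψ₀, θ₀, hθ₀, h₀⟩ := id hcov
  obtain ⟨χ₀, hχ₀, -⟩ := isIrrCharacter_indFun hNT hb hT hθ₀ h₀
  have hmem : χ₀ ∈ indImage B' := ⟨ψ₀, hψ₀, hχ₀⟩
  have he := isRCentral_blockCoeff hM hB'
  have hR : IsRCentral M (blockCoeff (indImage B')) := by
    rw [← blockCoeff_indImage hNT hb hT hM hB' hcov]
    exact ⟨isClassFunction_indFun _ _, memLocalRing_indFun T he.1 he.2⟩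
  have hsub := blockOf_subset_of_isRCentral hR hmem
  have hpair : IsInducedBlock M T B' (blockOf M (χ₀ : G → ℂ)) :=
    isInducedBlock_of_pair hB' (isPBlock_blockOf χ₀) hψ₀ (self_mem_blockOf χ₀) fun g => by
      rw [← inducedCentralChar_eq_omega, inducedCentralChar_eq hχ₀, sub_self]
      exact memLocalIdeal_zero
  have heq : indImage B' = blockOf M (χ₀ : G → ℂ) := by
    refine Set.Subset.antisymm ?_ hsub
    rintro χ ⟨ψ, hψ, hψe⟩
    show SameBlock M (χ₀ : G → ℂ) (χ : G → ℂ)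
    intro g
    have h := hpair.2.2 ψ hψ χ₀ (self_mem_blockOf χ₀) g
    rw [inducedCentralChar_eq hψe] at h
    simpa using memLocalIdeal_neg h
  rwa [heq]

include hb hT in
/-- The correspondence is injective. -/
theorem indImage_injective (hM : IsPModular p M) {B₁ B₂ : Set (IrrCharacter T)}
    (hB₁ : IsPBlock M B₁) (hB₂ : IsPBlock M B₂)
    (hcov₁ : ∃ ψ ∈ B₁, ∃ θ ∈ b, classInner (resN N hNT (ψ : T → ℂ)) (θ : N → ℂ) ≠ 0)
    (hcov₂ : ∃ ψ ∈ B₂, ∃ θ ∈ b, classInner (resN N hNT (ψ : T → ℂ)) (θ : N → ℂ) ≠ 0)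
    {B : Set (IrrCharacter G)} (h₁ : IsInducedBlock M T B₁ B) (h₂ : IsInducedBlock M T B₂ B) :
    B₁ = B₂ := by
  obtain ⟨ψ, hψ, θ, hθb, hθ⟩ := id hcov₁
  obtain ⟨χ, hχ, hχψ⟩ := isIrrCharacter_indFun hNT hb hT hθb hθ
  have h1 : B = indImage B₁ :=
    IsInducedBlock.unique h₁ (isInducedBlock_indImage hNT hb hT hM hB₁ hcov₁)
  have h2 : B = indImage B₂ :=
    IsInducedBlock.unique h₂ (isInducedBlock_indImage hNT hb hT hM hB₂ hcov₂)
  obtain ⟨ψ', hψ', hψ'e⟩ : χ ∈ indImage B₂ := h2 ▸ h1.symm ▸ (⟨ψ, hψ, hχ⟩ : χ ∈ indImage B₁)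
  obtain ⟨θ', hθ'b, hθ'⟩ := forall_over hNT hb hT hM hB₂ hcov₂ ψ' hψ'
  have := (constituent_unique hNT hb hT hθb hθ'b hθ hθ' hχψ (constituent_of_eq_indFun hψ'e)).1
  exact IsPBlock.eq_of_mem hB₁ hB₂ hψ (this ▸ hψ')

end Correspondence

end Cfsg.Agent.Lib.Blocks
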