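import Cfsg.Agent.Lib.Characters
import Cfsg.Agent.Lib.InvChar.GaloisChar
import Mathlib.FieldTheory.IsAlgClosed.Classification

/-!
# Automorphisms of the complex numbers acting on characters
-/

set_option autoImplicit false
set_option linter.unusedSectionVars false

namespace Cfsg.Agent.Lib.Blocks

open Cfsg Cfsg.Agent.Lib.Characters Cfsg.Agent.Lib.BlockHeights Cfsg.Agent.Lib.InvChar

/-- An automorphism of a subfield extends to the complex numbers. -/
theorem exists_complexAut_extend (K : IntermediateField ℚ ℂ) (σ : K ≃+* K) :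
    ∃ τ : ℂ ≃+* ℂ, ∀ k : K, τ (k : ℂ) = (σ k : ℂ) := by
  obtain ⟨s, hs⟩ := exists_isTranscendenceBasis K ℂ
  let A := Algebra.adjoin K (Set.range ((↑) : s → ℂ))
  haveI : IsAlgClosure A ℂ := IsAlgClosed.isAlgClosure_of_transcendence_basis _ hs
  let eS : A ≃+* A := hs.1.aevalEquiv.symm.toRingEquiv.trans
    ((MvPolynomial.mapEquiv (σ := s) σ).trans hs.1.aevalEquiv.toRingEquiv)
  refine ⟨IsAlgClosure.equivOfEquiv ℂ ℂ eS, fun k => ?_⟩
  have h1 : eS (algebraMap K A k) = algebraMap K A (σ k) := by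
    show hs.1.aevalEquiv (MvPolynomial.mapEquiv (σ := s) σ (hs.1.aevalEquiv.symm (algebraMap K A k))) = _
    rw [AlgEquiv.commutes, MvPolynomial.algebraMap_eq, MvPolynomial.mapEquiv_apply, MvPolynomial.map_C,
      ← MvPolynomial.algebraMap_eq, AlgEquiv.commutes]
    rfl
  have h2 := IsAlgClosure.equivOfEquiv_algebraMap ℂ ℂ eS (algebraMap K A k)
  rw [h1] at h2
  exact h2

/-- An automorphism of `ℂ` raising all `n`-th roots of unity to the power `k`. -/
theorem exists_complexAut_pow {n : ℕ} [NeZero n] {k : ℕ} (hk : Nat.Coprime k n) :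
    ∃ τ : ℂ ≃+* ℂ, ∀ z : ℂ, z ^ n = 1 → τ z = z ^ k := by
  obtain ⟨σ, hσ⟩ := exists_aut_pow (n := n) hk
  obtain ⟨τ, hτ⟩ := exists_complexAut_extend (cycField n) σ.toRingEquiv
  refine ⟨τ, fun z hz => ?_⟩
  have hz' : (⟨z, mem_cycField_of_pow_eq_one hz⟩ : cycField n) ^ n = 1 := Subtype.ext (by simpa using hz)
  have h := hτ ⟨z, mem_cycField_of_pow_eq_one hz⟩
  rw [show σ.toRingEquiv ⟨z, mem_cycField_of_pow_eq_one hz⟩ = σ ⟨z, mem_cycField_of_pow_eq_one hz⟩ from rfl,
    hσ _ hz'] at h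
  simpa using h

universe u

variable {G : Type u} [Group G]

/-- The image of an irreducible character under an automorphism of `ℂ` is irreducible. -/
theorem complexAut_isIrr [Finite G] (τ : ℂ ≃+* ℂ) {χ : G → ℂ} (hχ : IsIrrCharacter G χ) :
    IsIrrCharacter G (fun g => τ (χ g)) := by
  classical
  haveI := Fintype.ofFinite G
  have hc : IsCharacter G χ := IsIrrCharacter.isCharacter hχ
  have hc' : IsCharacter G (fun g => τ (χ g)) := by
    obtain ⟨n, ρ, hρ⟩ := hc
    let A : G →* Matrix (Fin n) (Fin n) ℂ :=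
      (τ.toRingHom.mapMatrix (m := Fin n)).toMonoidHom.comp
        ((LinearMap.toMatrixAlgEquiv' : _ ≃ₐ[ℂ] Matrix (Fin n) (Fin n) ℂ).toAlgHom.toRingHom.toMonoidHom.comp ρ)
    refine ⟨n, ((Matrix.toLinAlgEquiv' : Matrix (Fin n) (Fin n) ℂ ≃ₐ[ℂ] _).toAlgHom.toRingHom.toMonoidHom.comp
      A : Representation ℂ G (Fin n → ℂ)), funext fun g => ?_⟩
    symm
    show τ (χ g) = LinearMap.trace ℂ _ (Matrix.toLinAlgEquiv' ((LinearMap.toMatrixAlgEquiv' (ρ g)).map τ))
    rw [show Matrix.toLinAlgEquiv' ((LinearMap.toMatrixAlgEquiv' (ρ g)).map τ) =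
      Matrix.toLin' ((LinearMap.toMatrix' (ρ g)).map τ) from rfl, Matrix.trace_toLin'_eq, ← hρ]
    show τ (LinearMap.trace ℂ _ (ρ g)) = _
    conv_lhs => rw [← Matrix.toLin'_toMatrix' (ρ g), Matrix.trace_toLin'_eq]
    exact map_sum τ _ _
  rw [IsCharacter.isIrr_iff hc', classInner_eq_sum_inv hc']
  have h := congrArg τ ((classInner_eq_sum_inv hc χ).symm.trans (IsIrrCharacter.classInner_self hχ))
  rw [map_mul, map_inv₀, map_natCast, map_sum, map_one] at h
  simpa only [map_mul] using h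

end Cfsg.Agent.Lib.Blocks
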