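import Cfsg.Agent.Lib.Blocks.DefectOneInputs
import Cfsg.Agent.Lib.Blocks.ComplexAut

/-!
# Field automorphisms and the sections at a subgroup of order `p`
-/

set_option autoImplicit false
set_option linter.unusedSectionVars false
set_option linter.unusedVariables false

namespace Cfsg.Agent.Lib.Blocks

open Cfsg Cfsg.Agent.Lib.Characters

universe u

variable {G : Type u} [Group G] [Fintype G] {p : ℕ} [hp : Fact p.Prime] {P O : Subgroup G} {u : G}

/-- The image of an irreducible character under an automorphism of `ℂ`. -/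
noncomputable def autIrr (τ : ℂ ≃+* ℂ) (χ : IrrCharacter G) : IrrCharacter G :=
  ⟨fun g => τ ((χ : G → ℂ) g), complexAut_isIrr τ χ.2⟩

theorem autIrr_apply (τ : ℂ ≃+* ℂ) (χ : IrrCharacter G) (g : G) :
    (autIrr τ χ : G → ℂ) g = τ ((χ : G → ℂ) g) := rfl

/-- An automorphism fixing the `n`-th roots of unity fixes the values at elements of order dividing
`n`. -/
theorem complexAut_apply_char {K : Type u} [Group K] [Finite K] {χ : K → ℂ} (hχ : IsCharacter K χ)
    {n : ℕ} {τ : ℂ ≃+* ℂ} (hτ : ∀ z : ℂ, z ^ n = 1 → τ z = z) {g : K} (hg : orderOf g ∣ n) :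
    τ (χ g) = χ g := by
  obtain ⟨ι, hι, μ, hμ, h⟩ := Cfsg.Agent.Lib.BlockHeights.exists_eigen_sum hχ g
  have h1 := h 1
  simp only [pow_one] at h1
  rw [h1, map_sum]
  refine Finset.sum_congr rfl fun i _ => hτ _ ?_
  obtain ⟨c, rfl⟩ := hg
  rw [pow_mul, hμ i, one_pow]

namespace PrimeSplit

/-- A `p`-singular element is conjugate to some `u ^ i * y`. -/
theorem exists_conj_singular (S : PrimeSplit p P O u) {g : G} (hg : p ∣ orderOf g) :
    ∃ (c : G) (i : ZMod p) (y : O), i ≠ 0 ∧ c * g * c⁻¹ = upow u i * (y : G) := by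
  classical
  obtain ⟨m, hm⟩ := hg
  have hpm : ¬ p ∣ m := fun hd => S.sq (by
    refine Dvd.dvd.trans ?_ (orderOf_dvd_natCard g)
    rw [hm, pow_two]
    exact Nat.mul_dvd_mul_left p hd)
  set k : ℕ := m * ((m : ZMod p)⁻¹).val with hk
  have hk1 : (k : ZMod p) = 1 := by
    rw [hk, Nat.cast_mul, ZMod.natCast_zmod_val, mul_inv_cancel₀]
    rwa [Ne, ZMod.natCast_eq_zero_iff]
  set a := g ^ k with ha
  have hap : a ^ p = 1 := by
    rw [ha, ← pow_mul, ← orderOf_dvd_iff_pow_eq_one, hm, hk]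
    exact ⟨((m : ZMod p)⁻¹).val, by ring⟩
  have ha1 : a ≠ 1 := by
    intro h
    rw [ha, ← orderOf_dvd_iff_pow_eq_one, hm] at h
    have h2 : p ∣ k := dvd_of_mul_right_dvd h
    rw [← ZMod.natCast_eq_zero_iff, hk1] at h2
    exact one_ne_zero h2
  have haord : orderOf a = p := orderOf_eq_prime hap ha1
  have hfac : (Nat.card G).factorization p = 1 := by
    have hd : p ∣ Nat.card G := haord ▸ orderOf_dvd_natCard a
    refine le_antisymm ?_ (hp.out.factorization_pos_of_dvd Nat.card_pos.ne' hd)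
    by_contra hlt
    exact S.sq ((pow_dvd_pow p (by omega : 2 ≤ (Nat.card G).factorization p)).trans (Nat.ordProj_dvd _ _))
  let Pa : Sylow p G := Sylow.ofCard (Subgroup.zpowers a) (by rw [Nat.card_zpowers, haord, hfac, pow_one])
  let PP : Sylow p G := Sylow.ofCard P (by rw [S.card_P, hfac, pow_one])
  obtain ⟨c, hc⟩ := MulAction.exists_smul_eq G Pa PP
  have hca : c * a * c⁻¹ ∈ P := by
    have h2 : MulAut.conj c • a ∈ ((c • Pa : Sylow p G) : Subgroup G) := by
      rw [Sylow.coe_subgroup_smul]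
      exact Subgroup.smul_mem_pointwise_smul a _ _ (Subgroup.mem_zpowers a)
    rw [hc] at h2
    have h3 : c * a * c⁻¹ ∈ (PP : Subgroup G) := by simpa using h2
    exact h3
  obtain ⟨i, hi⟩ := exists_upow_eq S.card_P S.mem S.ne_one hca
  have hi0 : i ≠ 0 := fun h => ha1 (by
    rw [h, upow_zero] at hi
    simpa [mul_assoc] using congrArg (fun z => c⁻¹ * z * c) hi.symm)
  set b := a⁻¹ * g with hb
  have hbm : b ^ m = 1 := by
    rw [hb, ((Commute.refl g).pow_left k).inv_left.mul_pow, inv_pow, ← pow_mul, inv_mul_eq_one]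
    rw [pow_eq_pow_iff_modEq, hm, mul_comm p m, mul_comm k m]
    refine Nat.ModEq.mul_left' m ?_ |>.trans (by rw [mul_one])
    rwa [← ZMod.natCast_eq_natCast_iff, Nat.cast_one]
  have hbC : c * b * c⁻¹ ∈ Subgroup.centralizer (P : Set G) := by
    rw [← S.centralizer_upow hi0, Subgroup.mem_centralizer_singleton_iff, hi]
    have hcomm : Commute b a := by
      rw [hb]
      exact ((Commute.refl a).inv_left).mul_left ((Commute.refl g).pow_right k)
    rw [show c * b * c⁻¹ * (c * a * c⁻¹) = c * (b * a) * c⁻¹ by group, hcomm.eq]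
    group
  have hbr : ¬ p ∣ orderOf (c * b * c⁻¹) := by
    rw [show c * b * c⁻¹ = MulAut.conj c b from rfl, MulEquiv.orderOf_eq]
    exact fun h => hpm (h.trans (orderOf_dvd_of_pow_eq_one hbm))
  refine ⟨c, i, ⟨c * b * c⁻¹, (S.mem_iff _).2 ⟨hbC, hbr⟩⟩, hi0, ?_⟩
  show c * g * c⁻¹ = upow u i * (c * b * c⁻¹)
  rw [hi, hb]
  group

variable [Fintype O]

theorem secCoeff_autIrr (S : PrimeSplit p P O u) {τ : ℂ ≃+* ℂ}
    (hτ : ∀ z : ℂ, z ^ Nat.card O = 1 → τ z = z) (η : IrrCharacter O) (χ : IrrCharacter G)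
    (i : ZMod p) : secCoeff u (η : O → ℂ) (autIrr τ χ) i = τ (secCoeff u (η : O → ℂ) χ i) := by
  rw [secCoeff, secCoeff, map_mul, map_inv₀, map_natCast, map_sum]
  refine congrArg _ (Finset.sum_congr rfl fun y _ => ?_)
  rw [map_mul, autIrr_apply, complexAut_apply_char (irr_isCharacter η) hτ (orderOf_dvd_natCard _)]

variable {θ : IrrCharacter O} {t : G} {r n e : ℕ} {S : PrimeSplit p P O u}

/-- A character of the block is determined by its regular values and its sections at `θ`. -/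
theorem StabData.eq_of_sections (D : S.StabData θ t r n e) {χ χ' : IrrCharacter G}
    (hin : ∀ η : IrrCharacter O, (∀ (g : G) (hg : g ∈ Subgroup.normalizer (P : Set G)),
        ∃ y : O, (η : O → ℂ) y ≠ (θ : O → ℂ) ⟨g * (y : G) * g⁻¹, S.normal g hg y y.2⟩) →
      ∀ i : ZMod p, i ≠ 0 → secCoeff u (η : O → ℂ) χ i = 0)
    (hin' : ∀ η : IrrCharacter O, (∀ (g : G) (hg : g ∈ Subgroup.normalizer (P : Set G)),
        ∃ y : O, (η : O → ℂ) y ≠ (θ : O → ℂ) ⟨g * (y : G) * g⁻¹, S.normal g hg y y.2⟩) →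
      ∀ i : ZMod p, i ≠ 0 → secCoeff u (η : O → ℂ) χ' i = 0)
    (hreg : ∀ g : G, ¬ p ∣ orderOf g → (χ : G → ℂ) g = (χ' : G → ℂ) g)
    (hsec : ∀ i : ZMod p, i ≠ 0 → secCoeff u (θ : O → ℂ) χ i = secCoeff u (θ : O → ℂ) χ' i) :
    χ = χ' := by
  refine Subtype.ext (funext fun g => ?_)
  by_cases hg : p ∣ orderOf g
  · obtain ⟨c, i, y, hi, hc⟩ := S.exists_conj_singular hg
    have hv : ∀ φ : IrrCharacter G, (φ : G → ℂ) g = (φ : G → ℂ) (upow u i * (y : G)) := fun φ => by
      rw [← hc, irr_isClassFunction φ]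
    have hr0 : (r : ZMod p) ≠ 0 := D.prim.ne_zero (Nat.mul_pos D.n_pos D.e_pos).ne'
    rw [hv, hv, D.section_eq hin hi y, D.section_eq hin' hi y]
    exact Finset.sum_congr rfl fun s _ => by rw [hsec _ (mul_ne_zero (pow_ne_zero _ hr0) hi)]
  · exact hreg g hg

end PrimeSplit

end Cfsg.Agent.Lib.Blocks
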