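import Cfsg.Agent.Lib.Blocks.DefectOneGalois
import Cfsg.Agent.Lib.Blocks.Sections
import Cfsg.Agent.Lib.Blocks.DefectZero

/-!
# The number of `p`-conjugates of an irreducible character
-/

set_option autoImplicit false
set_option linter.unusedSectionVars false
set_option linter.unusedVariables false
set_option linter.style.haveILetI false

namespace Cfsg.Agent.Lib.Blocks

open Cfsg Cfsg.Agent.Lib.Characters
open scoped ComplexConjugate

universe u

/-- The units of `ℤ/p^(b+1)` in a sum of powers of a root of unity. -/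
theorem sum_units_pow {p b : ℕ} (hp : p.Prime) {β : ℂ} (hβ : β ^ p ^ (b + 1) = 1)
    [NeZero (p ^ (b + 1))] : ∃ k : ℤ, ∑ u : (ZMod (p ^ (b + 1)))ˣ, β ^ (u : ZMod (p ^ (b + 1))).val =
      (p ^ b : ℕ) * (k : ℂ) := by
  classical
  have h1 : ∑ u : (ZMod (p ^ (b + 1)))ˣ, β ^ (u : ZMod (p ^ (b + 1))).val =
      ∑ x ∈ (Finset.range (p ^ (b + 1))).filter (fun x => ¬ p ∣ x), β ^ x := by
    refine Finset.sum_bij (fun u _ => (u : ZMod (p ^ (b + 1))).val) (fun u _ => ?_) (fun u _ v _ h => ?_)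
      (fun x hx => ?_) fun u _ => rfl
    · simp only [Finset.mem_filter, Finset.mem_range]
      refine ⟨ZMod.val_lt _, fun hd => hp.ne_one ?_⟩
      exact Nat.dvd_one.1 (ZMod.val_coe_unit_coprime u ▸ Nat.dvd_gcd hd (dvd_pow_self p b.succ_ne_zero))
    · exact Units.ext (ZMod.val_injective _ h)
    · obtain ⟨hx, hpx⟩ := Finset.mem_filter.1 hx
      refine ⟨ZMod.unitOfCoprime x (((hp.coprime_iff_not_dvd.2 hpx).symm).pow_right _), Finset.mem_univ _, ?_⟩
      rw [ZMod.coe_unitOfCoprime, ZMod.val_cast_of_lt (Finset.mem_range.1 hx)]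
  have h2 : ∑ x ∈ (Finset.range (p ^ (b + 1))).filter (fun x => p ∣ x), β ^ x =
      ∑ y ∈ Finset.range (p ^ b), (β ^ p) ^ y := by
    symm
    refine Finset.sum_bij (fun y _ => p * y) (fun y hy => ?_) (fun u _ v _ h => Nat.eq_of_mul_eq_mul_left hp.pos h)
      (fun x hx => ?_) fun y _ => by rw [← pow_mul]
    · simp only [Finset.mem_filter, Finset.mem_range]
      refine ⟨?_, dvd_mul_right _ _⟩
      rw [pow_succ']
      exact Nat.mul_lt_mul_of_pos_left (Finset.mem_range.1 hy) hp.pos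
    · obtain ⟨hx, y, rfl⟩ := Finset.mem_filter.1 hx
      refine ⟨y, Finset.mem_range.2 ?_, rfl⟩
      rw [Finset.mem_range, pow_succ'] at hx
      exact Nat.lt_of_mul_lt_mul_left hx
  have hgeom : ∀ (γ : ℂ) (m : ℕ), γ ^ m = 1 → ∃ e : ℤ, ∑ y ∈ Finset.range m, γ ^ y = (m : ℂ) * e := by
    intro γ m hγ
    by_cases h : γ = 1
    · exact ⟨1, by simp [h]⟩
    · exact ⟨0, by rw [geom_sum_eq h, hγ]; simp⟩
  obtain ⟨e, he⟩ := hgeom β _ hβ
  obtain ⟨e', he'⟩ := hgeom (β ^ p) (p ^ b) (by rw [← pow_mul, ← pow_succ']; exact hβ)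
  refine ⟨p * e - e', ?_⟩
  have h3 := Finset.sum_filter_add_sum_filter_not (Finset.range (p ^ (b + 1))) (fun x => p ∣ x) (fun x => β ^ x)
  rw [h1]
  rw [h2, he, he'] at h3
  push_cast [pow_succ] at h3 ⊢
  linear_combination h3

/-- An automorphism of `ℂ` acts on the roots of unity of a given order as a power map. -/
theorem exists_exponent (σ : ℂ ≃+* ℂ) {n : ℕ} (hn : n ≠ 0) :
    ∃ t : ℕ, Nat.Coprime t n ∧ ∀ z : ℂ, z ^ n = 1 → σ z = z ^ t := by
  haveI : NeZero n := ⟨hn⟩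
  have hz : IsPrimitiveRoot (Complex.exp (2 * Real.pi * Complex.I / n)) n :=
    Complex.isPrimitiveRoot_exp n hn
  have hσz := hz.map_of_injective σ.injective
  obtain ⟨t, -, ht⟩ := hz.eq_pow_of_pow_eq_one hσz.pow_eq_one
  refine ⟨t, (hz.pow_iff_coprime (Nat.pos_of_ne_zero hn) t).1 (ht ▸ hσz), fun z hz1 => ?_⟩
  obtain ⟨i, -, rfl⟩ := hz.eq_pow_of_pow_eq_one hz1
  rw [map_pow, ← ht, ← pow_mul, ← pow_mul, mul_comm i t]

/-- An automorphism fixing the roots of order `c` has exponent one modulo `c`. -/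
theorem exponent_modEq_one {σ : ℂ ≃+* ℂ} {n c q t : ℕ} (hn : n ≠ 0) (hq : q * c = n)
    (hσ : ∀ z : ℂ, z ^ c = 1 → σ z = z) (ht : ∀ z : ℂ, z ^ n = 1 → σ z = z ^ t) : t ≡ 1 [MOD c] := by
  have hc : c ≠ 0 := fun h => hn (by rw [← hq, h, mul_zero])
  have hw : IsPrimitiveRoot (Complex.exp (2 * Real.pi * Complex.I / c)) c := Complex.isPrimitiveRoot_exp c hc
  have h1 := hσ _ hw.pow_eq_one
  rw [ht _ (by rw [← hq, mul_comm q c, pow_mul, hw.pow_eq_one, one_pow])] at h1
  refine hw.pow_inj (Nat.mod_lt _ (Nat.pos_of_ne_zero hc)) (Nat.mod_lt _ (Nat.pos_of_ne_zero hc)) ?_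
  rw [← pow_eq_pow_mod _ hw.pow_eq_one, ← pow_eq_pow_mod _ hw.pow_eq_one, pow_one]
  exact h1

variable {G : Type u} [Group G] [Fintype G] {M : Ideal AlgInt} [hMp : M.IsPrime] {p : ℕ}
  [hp : Fact p.Prime]

/-- The idempotent of a union of blocks is supported on `p`-regular elements. -/
theorem blockCoeff_union_eq_zero (hM : IsPModular p M) :
    ∀ A : Set (IrrCharacter G), (∀ χ ∈ A, blockOf M (χ : G → ℂ) ⊆ A) → ∀ y : G, p ∣ orderOf y →
      blockCoeff A y = 0 := by
  classical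
  haveI := Fintype.ofFinite (IrrCharacter G)
  intro A
  induction hn : A.ncard using Nat.strong_induction_on generalizing A with
  | _ n ih =>
  intro hA y hy
  rcases A.eq_empty_or_nonempty with rfl | ⟨χ, hχ⟩
  · simp [blockCoeff]
  · set B := blockOf M (χ : G → ℂ) with hB
    have hsplit : blockCoeff A y = blockCoeff B y + blockCoeff (A \ B) y := by
      simp only [blockCoeff]
      rw [← mul_add, ← finsum_mem_union disjoint_sdiff_self_right (Set.toFinite _) (Set.toFinite _),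
        Set.union_sdiff_cancel (hA χ hχ)]
    rw [hsplit, blockCoeff_eq_zero_of_dvd hM (isPBlock_blockOf χ) hy, zero_add]
    refine ih _ ?_ _ rfl ?_ y hy
    · rw [← hn]
      exact Set.ncard_lt_ncard (Set.sdiff_ssubset_left_iff.2 ⟨χ, hχ, self_mem_blockOf χ⟩) (Set.toFinite _)
    · rintro ψ ⟨hψ, hψB⟩ φ hφ
      exact ⟨hA ψ hψ hφ, fun hφB => hψB (sameBlock_trans hφB (sameBlock_symm hφ))⟩

/-- The orbit of an irreducible character under the automorphisms fixing the roots of unity of order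
prime to `p`. -/
def pOrbit (p : ℕ) (χ : IrrCharacter G) : Set (IrrCharacter G) :=
  {ψ | ∃ σ : ℂ ≃+* ℂ, (∀ z : ℂ, z ^ (Nat.card G / p ^ (Nat.card G).factorization p) = 1 → σ z = z) ∧
    (ψ : G → ℂ) = fun g => σ ((χ : G → ℂ) g)}

/-- The average of an orbit is locally integral. -/
theorem memLocalRing_pOrbit_avg (hM : IsPModular p M) (χ : IrrCharacter G) (g : G) :
    MemLocalRing M (((Nat.card (pOrbit p χ) : ℕ) : ℂ)⁻¹ * ∑ᶠ ψ ∈ pOrbit p χ, (ψ : G → ℂ) g) ∧
      (pOrbit p χ).ncard ≠ 0 := by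
  classical
  haveI := Fintype.ofFinite (IrrCharacter G)
  set n := Nat.card G with hn
  set a := n.factorization p with ha
  set c := n / p ^ a with hc
  haveI : NeZero n := ⟨Nat.card_pos.ne'⟩
  haveI : NeZero (p ^ a) := ⟨pow_ne_zero _ hp.out.ne_zero⟩
  have hnc : p ^ a * c = n := Nat.ordProj_mul_ordCompl_eq_self n p
  have hcop : Nat.Coprime (p ^ a) c :=
    ((hp.out.coprime_iff_not_dvd).2 (Nat.not_dvd_ordCompl hp.out Nat.card_pos.ne')).pow_left a
  let k : (ZMod (p ^ a))ˣ → ℕ := fun u => (Nat.chineseRemainder hcop (u : ZMod (p ^ a)).val 1 : ℕ)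
  have hk1 : ∀ u, k u ≡ (u : ZMod (p ^ a)).val [MOD p ^ a] := fun u => (Nat.chineseRemainder hcop _ _).2.1
  have hk2 : ∀ u, k u ≡ 1 [MOD c] := fun u => (Nat.chineseRemainder hcop _ _).2.2
  have hkn : ∀ u, Nat.Coprime (k u) n := by
    intro u
    rw [← hnc]
    refine Nat.Coprime.mul_right ?_ ?_
    · rw [Nat.Coprime, (hk1 u).gcd_eq]
      exact ZMod.val_coe_unit_coprime u
    · rw [Nat.Coprime, (hk2 u).gcd_eq, Nat.gcd_one_left]
  choose τ hτ using fun u => exists_complexAut_pow (n := n) (hkn u)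
  have hroot : ∀ (g : G), ∃ (ι : Type) (_ : Fintype ι) (μ : ι → ℂ), (∀ i, μ i ^ n = 1) ∧
      (χ : G → ℂ) g = ∑ i, μ i := by
    intro g
    obtain ⟨ι, hι, μ, hμ, h⟩ := Cfsg.Agent.Lib.BlockHeights.exists_eigen_sum (irr_isCharacter χ) g
    refine ⟨ι, hι, μ, fun i => ?_, by simpa using h 1⟩
    obtain ⟨d, hd⟩ := orderOf_dvd_natCard g
    rw [hn, hd, pow_mul, hμ i, one_pow]
  let act : (ZMod (p ^ a))ˣ → IrrCharacter G := fun u => autIrr (τ u) χ
  have hmul : ∀ u v, act (u * v) = autIrr (τ u) (act v) := by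
    intro u v
    refine Subtype.ext (funext fun g => ?_)
    show τ (u * v) ((χ : G → ℂ) g) = τ u (τ v ((χ : G → ℂ) g))
    obtain ⟨ι, hι, μ, hμ, h⟩ := hroot g
    rw [h, map_sum, map_sum, map_sum]
    refine Finset.sum_congr rfl fun i _ => ?_
    rw [hτ _ _ (hμ i), hτ _ _ (hμ i), hτ _ _ (by rw [← pow_mul, mul_comm, pow_mul, hμ i, one_pow]), ← pow_mul]
    refine pow_eq_pow_of_modEq ?_ (hμ i)
    rw [← hnc]
    refine (Nat.modEq_and_modEq_iff_modEq_mul hcop).1 ⟨(hk1 _).trans ?_, (hk2 _).trans ((hk2 v).mul (hk2 u)).symm⟩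
    refine Nat.ModEq.trans ?_ ((hk1 v).mul (hk1 u)).symm
    rw [← ZMod.natCast_eq_natCast_iff]
    simp [mul_comm]
  have himg : ∀ ψ, ψ ∈ pOrbit p χ ↔ ∃ u, act u = ψ := by
    intro ψ
    constructor
    · rintro ⟨σ, hσ, hψ⟩
      obtain ⟨t, htc, hpw⟩ := exists_exponent σ (NeZero.ne n)
      have htc1 : t ≡ 1 [MOD c] := exponent_modEq_one (NeZero.ne n) hnc hσ hpw
      have htp : Nat.Coprime t (p ^ a) := Nat.Coprime.coprime_dvd_right ⟨c, hnc.symm⟩ htc
      refine ⟨ZMod.unitOfCoprime t htp, Subtype.ext (funext fun g => ?_)⟩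
      rw [hψ]
      show τ _ ((χ : G → ℂ) g) = σ ((χ : G → ℂ) g)
      obtain ⟨ι, hι, μ, hμ, h⟩ := hroot g
      rw [h, map_sum, map_sum]
      refine Finset.sum_congr rfl fun i _ => ?_
      rw [hτ _ _ (hμ i), hpw _ (hμ i)]
      refine pow_eq_pow_of_modEq ?_ (hμ i)
      rw [← hnc]
      refine (Nat.modEq_and_modEq_iff_modEq_mul hcop).1 ⟨(hk1 _).trans ?_, (hk2 _).trans htc1.symm⟩
      rw [ZMod.coe_unitOfCoprime, ZMod.val_natCast]
      exact Nat.mod_modEq _ _
    · rintro ⟨u, rfl⟩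
      refine ⟨τ u, fun z hz => ?_, rfl⟩
      rw [hτ u z (by rw [← hnc, mul_comm, pow_mul, hz, one_pow])]
      conv_rhs => rw [← pow_one z]
      exact pow_eq_pow_of_modEq (hk2 u) hz
  set I := (Finset.univ : Finset (ZMod (p ^ a))ˣ).image act with hI
  have hOI : pOrbit p χ = ↑I := Set.ext fun ψ => by simp [hI, himg]
  set m := ((Finset.univ : Finset (ZMod (p ^ a))ˣ).filter fun u => act u = act 1).card with hm
  have hfib : ∀ ψ ∈ I, ((Finset.univ : Finset (ZMod (p ^ a))ˣ).filter fun u => act u = ψ).card = m := by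
    intro ψ hψ
    obtain ⟨u₀, -, rfl⟩ := Finset.mem_image.1 hψ
    rw [hm]
    have hinj : ∀ x y : IrrCharacter G, autIrr (τ u₀) x = autIrr (τ u₀) y → x = y := fun x y h =>
      Subtype.ext (funext fun g => (τ u₀).injective (congrFun (congrArg Subtype.val h) g))
    refine Finset.card_bij' (fun u _ => u₀⁻¹ * u) (fun v _ => u₀ * v) ?_ ?_ (fun u _ => mul_inv_cancel_left u₀ u)
      (fun v _ => inv_mul_cancel_left u₀ v)
    · intro u hu
      simp only [Finset.mem_filter, Finset.mem_univ, true_and] at hu ⊢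
      refine hinj _ _ ?_
      rw [← hmul, ← hmul, mul_inv_cancel_left, mul_one, hu]
    · intro v hv
      simp only [Finset.mem_filter, Finset.mem_univ, true_and] at hv ⊢
      rw [hmul, hv, ← hmul, mul_one]
  have hm0 : m ≠ 0 := Finset.card_ne_zero.2 ⟨1, by simp⟩
  have hIc : (Nat.card (pOrbit p χ) : ℕ) = I.card := by rw [hOI, Nat.card_coe_set_eq, Set.ncard_coe_finset]
  have hI0 : I.card ≠ 0 := Finset.card_ne_zero.2 ⟨act 1, by simp [hI]⟩
  refine ⟨?_, by rw [hOI, Set.ncard_coe_finset]; exact hI0⟩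
  rw [hIc, hOI, finsum_mem_coe_finset]
  have hsum : ∑ u, (act u : G → ℂ) g = (m : ℂ) * ∑ ψ ∈ I, (ψ : G → ℂ) g := by
    rw [Finset.mul_sum, ← Finset.sum_fiberwise_of_maps_to (g := act) (t := I)
      (fun u hu => Finset.mem_image_of_mem _ hu)]
    refine Finset.sum_congr rfl fun ψ hψ => ?_
    rw [Finset.sum_congr rfl fun u hu => show (act u : G → ℂ) g = (ψ : G → ℂ) g by rw [(Finset.mem_filter.1 hu).2],
      Finset.sum_const, hfib ψ hψ, nsmul_eq_mul]
  have hcard : Fintype.card (ZMod (p ^ a))ˣ = m * I.card := by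
    rw [← Finset.card_univ, Finset.card_eq_sum_card_fiberwise (f := act) (t := I)
      (fun u hu => Finset.mem_image_of_mem _ hu), Finset.sum_congr rfl hfib, Finset.sum_const, smul_eq_mul,
      mul_comm]
  suffices h : MemLocalRing M ((Fintype.card (ZMod (p ^ a))ˣ : ℂ)⁻¹ * ∑ u, (act u : G → ℂ) g) by
    rw [hsum, hcard] at h
    convert h using 1
    push_cast
    field_simp
  -- the sum over all automorphisms
  obtain ⟨ι, hι, μ, hμ, h⟩ := hroot g
  have hact : ∀ u, (act u : G → ℂ) g = ∑ i, μ i ^ k u := fun u => by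
    show τ u ((χ : G → ℂ) g) = _
    rw [h, map_sum]
    exact Finset.sum_congr rfl fun i _ => hτ u _ (hμ i)
  simp only [hact]
  rw [Finset.sum_comm, Finset.mul_sum]
  refine memLocalRing_sum _ fun i _ => ?_
  obtain ⟨x, y, hxy⟩ : IsCoprime ((p ^ a : ℕ) : ℤ) (c : ℤ) := Nat.isCoprime_iff_coprime.2 hcop
  have hμ0 : μ i ≠ 0 := fun h0 => by
    have := hμ i; rw [h0, zero_pow (NeZero.ne n)] at this; exact zero_ne_one this
  set α := μ i ^ (x * ((p ^ a : ℕ) : ℤ)) with hα
  set β := μ i ^ (y * (c : ℤ)) with hβ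
  have hαβ : μ i = α * β := by rw [hα, hβ, ← zpow_add₀ hμ0, hxy, zpow_one]
  have hαc : α ^ c = 1 := by
    rw [hα, ← zpow_natCast, ← zpow_mul, mul_assoc, mul_comm x, ← Nat.cast_mul, hnc, zpow_mul, zpow_natCast,
      hμ i, one_zpow]
  have hβp : β ^ p ^ a = 1 := by
    rw [hβ, ← zpow_natCast, ← zpow_mul, mul_assoc, ← Nat.cast_mul, mul_comm c, hnc, mul_comm y, zpow_mul,
      zpow_natCast, hμ i, one_zpow]
  have hterm : ∀ u, μ i ^ k u = α * β ^ (u : ZMod (p ^ a)).val := fun u => by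
    rw [hαβ, mul_pow, pow_eq_pow_of_modEq (hk2 u) hαc, pow_one, pow_eq_pow_of_modEq (hk1 u) hβp]
  simp only [hterm, ← Finset.mul_sum]
  rw [mul_left_comm]
  refine memLocalRing_mul (memLocalRing_of_isIntegral' ?_) ?_
  · refine IsIntegral.of_pow (n := c) ?_ (hαc ▸ isIntegral_one)
    exact Nat.div_pos (Nat.le_of_dvd Nat.card_pos (Nat.ordProj_dvd n p)) (pow_pos hp.out.pos _)
  · rw [ZMod.card_units_eq_totient]
    clear_value a
    obtain rfl | ⟨b, rfl⟩ : a = 0 ∨ ∃ b, a = b + 1 := by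
      rcases a with _ | b
      · exact Or.inl rfl
      · exact Or.inr ⟨b, rfl⟩
    · rw [pow_zero] at hβp
      simp only [pow_one] at hβp
      simp only [hβp, one_pow, Finset.sum_const, Finset.card_univ, ZMod.card_units_eq_totient, nsmul_eq_mul, mul_one]
      rw [inv_mul_cancel₀ (Nat.cast_ne_zero.2 (Nat.totient_pos.2 (by simp)).ne')]
      exact memLocalRing_one
    · obtain ⟨e, he⟩ := sum_units_pow hp.out hβp
      rw [he, Nat.totient_prime_pow_succ hp.out, Nat.cast_mul, mul_inv, mul_mul_mul_comm,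
        inv_mul_cancel₀ (Nat.cast_ne_zero.2 (pow_ne_zero _ hp.out.ne_zero)), one_mul]
      refine memLocalRing_mul (memLocalRing_inv_natCast hM fun hd => ?_) (memLocalRing_intCast e)
      have h2 := hp.out.two_le
      have h3 := Nat.le_of_dvd (by omega) hd
      omega

theorem self_mem_pOrbit (χ : IrrCharacter G) : χ ∈ pOrbit p χ :=
  ⟨RingEquiv.refl ℂ, fun z _ => rfl, rfl⟩

theorem pOrbit_apply_one {χ ψ : IrrCharacter G} (h : ψ ∈ pOrbit p χ) : (ψ : G → ℂ) 1 = (χ : G → ℂ) 1 := by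
  obtain ⟨σ, -, hψ⟩ := h
  rw [hψ]
  show σ ((χ : G → ℂ) 1) = _
  rw [← charDegree_eq χ, map_natCast]

theorem factorization_pOrbit (hM : IsPModular p M) (χ : IrrCharacter G) :
    ((Nat.card (pOrbit p χ)) * charDegree (χ : G → ℂ)).factorization p ≤ (Nat.card G).factorization p ∧
      (p ^ (Nat.card G).factorization p ∣ (Nat.card (pOrbit p χ)) * charDegree (χ : G → ℂ) →
        p ^ (Nat.card G).factorization p ∣ charDegree (χ : G → ℂ)) := by
  classical
  haveI := Fintype.ofFinite (IrrCharacter G)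
  set r := Nat.card (pOrbit p χ) with hr
  set d := charDegree (χ : G → ℂ) with hd
  set a := (Nat.card G).factorization p with ha
  have hr0 : r ≠ 0 := by rw [hr, Nat.card_coe_set_eq]; exact (memLocalRing_pOrbit_avg hM χ 1).2
  have hrC : (r : ℂ) ≠ 0 := Nat.cast_ne_zero.2 hr0
  have hdC : (d : ℂ) ≠ 0 := Nat.cast_ne_zero.2 (charDegree_pos χ).ne'
  have hd1 : (χ : G → ℂ) 1 = (d : ℂ) := (charDegree_eq χ).symm
  let A : G → ℂ := fun g => (r : ℂ)⁻¹ * ∑ᶠ ψ ∈ pOrbit p χ, (ψ : G → ℂ) g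
  have hA : ∀ g, MemLocalRing M (A g) := fun g => (memLocalRing_pOrbit_avg hM χ g).1
  have hcoe : blockCoeff (pOrbit p χ) = fun g => (Nat.card G : ℂ)⁻¹ * ((d * r : ℂ) * A g⁻¹) := by
    funext g
    rw [blockCoeff_eq_finsum_inv]
    congr 1
    simp only [A]
    rw [← mul_assoc, mul_inv_cancel_right₀ hrC, finsum_mem_eq_toFinset_sum, finsum_mem_eq_toFinset_sum,
      Finset.mul_sum]
    exact Finset.sum_congr rfl fun ψ hψ => by rw [pOrbit_apply_one (Set.mem_toFinset.1 hψ), hd1]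
  have hF : IsRCentral M (fun g => A g⁻¹) := by
    refine ⟨fun g h => ?_, fun g => hA _⟩
    simp only [A]
    congr 1
    refine finsum_mem_congr rfl fun ψ _ => ?_
    rw [← irr_isClassFunction ψ g⁻¹ h]
    simp [mul_assoc]
  have hω : omega (χ : G → ℂ) (fun g => A g⁻¹) * ((d * r : ℕ) : ℂ) = (Nat.card G : ℂ) := by
    have h := omega_blockCoeff (pOrbit p χ) χ
    rw [if_pos (self_mem_pOrbit χ), hcoe] at h
    have hG : (Nat.card G : ℂ) ≠ 0 := natCard_ne_zero_complex
    rw [omega] at h ⊢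
    simp only [mul_assoc, ← Finset.mul_sum] at h
    push_cast
    field_simp at h ⊢
    linear_combination h
  have hG : p ^ a * (Nat.card G / p ^ a) = Nat.card G := Nat.ordProj_mul_ordCompl_eq_self _ p
  have hc : ¬ p ∣ Nat.card G / p ^ a := Nat.not_dvd_ordCompl hp.out Nat.card_pos.ne'
  constructor
  · by_contra hlt
    push Not at hlt
    have hdvd : p ^ (a + 1) ∣ r * d :=
      (pow_dvd_pow p hlt).trans (Nat.ordProj_dvd _ _)
    obtain ⟨w, hw⟩ := hdvd
    rw [mul_comm d r, hw] at hω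
    refine hc ((memLocalIdeal_natCast_iff hM _).1 ?_)
    have h2 := memLocalIdeal_of_p_mul hM (memLocalRing_mul (memLocalRing_omega hF χ) (memLocalRing_natCast w))
    convert h2 using 1
    refine mul_left_cancel₀ (pow_ne_zero a (Nat.cast_ne_zero.2 hp.out.ne_zero : (p : ℂ) ≠ 0)) ?_
    have hGC : ((p : ℂ) ^ a) * ((Nat.card G / p ^ a : ℕ) : ℂ) = (Nat.card G : ℂ) := by exact_mod_cast hG
    rw [hGC, ← hω]
    push_cast [pow_succ]
    ring
  · rintro ⟨w, hw⟩
    have hR : IsRCentral M (blockCoeff (pOrbit p χ)) := by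
      refine ⟨isClassFunction_blockCoeff _, fun g => ?_⟩
      rw [hcoe]
      have h2 := memLocalRing_mul (memLocalRing_mul (memLocalRing_inv_natCast hM hc) (memLocalRing_natCast w)) (hA g⁻¹)
      convert h2 using 1
      have hGC : ((p : ℂ) ^ a) * ((Nat.card G / p ^ a : ℕ) : ℂ) = (Nat.card G : ℂ) := by exact_mod_cast hG
      have hwC : (r : ℂ) * (d : ℂ) = (p : ℂ) ^ a * (w : ℂ) := by exact_mod_cast hw
      have hp0 : (p : ℂ) ^ a ≠ 0 := pow_ne_zero _ (Nat.cast_ne_zero.2 hp.out.ne_zero)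
      rw [← hGC, mul_comm (d : ℂ) r, hwC, mul_inv]
      field_simp
    have hzero : ∀ y : G, p ∣ orderOf y → A y = 0 := by
      intro y hy
      have h := blockCoeff_union_eq_zero hM (pOrbit p χ)
        (fun ψ hψ => blockOf_subset_of_isRCentral hR hψ) y⁻¹ (by rwa [orderOf_inv])
      rw [hcoe] at h
      simpa [hrC, hdC, natCard_ne_zero_complex] using h
    obtain ⟨P⟩ : Nonempty (Sylow p G) := inferInstance
    haveI := Fintype.ofFinite (P : Subgroup G)
    obtain ⟨k, hk⟩ := IsCharacter.exists_classInner_nat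
      (IsCharacter.restrict (irr_isCharacter χ) (P : Subgroup G))
      (irr_isCharacter (trivIrr ↥(P : Subgroup G)))
    rw [classInner, inv_mul_eq_iff_eq_mul₀ natCard_ne_zero_complex] at hk
    simp only [trivIrr_apply, map_one, mul_one] at hk
    -- every conjugate has the same sum over `P`
    have hψ : ∀ ψ ∈ pOrbit p χ, ∑ y : (P : Subgroup G), (ψ : G → ℂ) y = (Nat.card (P : Subgroup G) : ℂ) * k := by
      rintro ψ ⟨σ, -, hψ⟩
      rw [hψ]
      simp only
      rw [← map_sum, hk, map_mul, map_natCast, map_natCast]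
    have hsum : ∑ y : (P : Subgroup G), A y = (Nat.card (P : Subgroup G) : ℂ) * k := by
      simp only [A, ← Finset.mul_sum]
      rw [Finset.sum_congr rfl fun y _ => finsum_mem_eq_toFinset_sum _ _, Finset.sum_comm,
        Finset.sum_congr rfl fun ψ h => hψ ψ (Set.mem_toFinset.1 h), Finset.sum_const, nsmul_eq_mul,
        ← Nat.card_eq_card_toFinset, ← hr, inv_mul_cancel_left₀ hrC]
    rw [Finset.sum_eq_single (1 : (P : Subgroup G))] at hsum
    · have h1 : A ((1 : (P : Subgroup G)) : G) = (d : ℂ) := by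
        simp only [A, OneMemClass.coe_one]
        rw [finsum_mem_eq_toFinset_sum, Finset.sum_congr rfl fun ψ h => (pOrbit_apply_one (Set.mem_toFinset.1 h)).trans hd1,
          Finset.sum_const, nsmul_eq_mul, ← Nat.card_eq_card_toFinset, ← hr, inv_mul_cancel_left₀ hrC]
      rw [h1] at hsum
      refine ⟨k, ?_⟩
      rw [ha, ← Sylow.card_eq_multiplicity P]
      exact_mod_cast hsum
    · intro y _ hy
      refine hzero _ ?_
      obtain ⟨i, hi⟩ := IsPGroup.iff_orderOf.1 P.2 y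
      have hi0 : i ≠ 0 := by
        rintro rfl
        rw [pow_zero, orderOf_eq_one_iff] at hi
        exact hy hi
      rw [Subgroup.orderOf_coe, hi]
      exact dvd_pow_self p hi0
    · simp

end Cfsg.Agent.Lib.Blocks
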