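import Cfsg.Agent.Lib.Blocks.LocalRing
import Mathlib.RingTheory.Algebraic.Integral
import Mathlib.RingTheory.Polynomial.GaussLemma

/-!
# The local ring at `M` is a valuation ring of the algebraic numbers
-/

set_option autoImplicit false

namespace Cfsg.Agent.Lib.Blocks

open Cfsg Polynomial

variable {M : Ideal AlgInt} [hMp : M.IsPrime] {p : ℕ}

theorem memLocalRing_of_isIntegral_locSubring {z : ℂ} (h : IsIntegral (locSubring M) z) :
    MemLocalRing M z := by
  classical
  obtain ⟨f, hf, hz⟩ := h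
  have hd : ∀ i : ℕ, ∃ a b : AlgInt, b ∉ M ∧ (a : ℂ) / (b : ℂ) = (f.coeff i : ℂ) :=
    fun i => (f.coeff i).2
  choose a b hb hab using hd
  let d : AlgInt := ∏ i ∈ Finset.range f.natDegree, b i
  have hdM : d ∉ M := fun h => by
    obtain ⟨i, -, hi⟩ := (Ideal.IsPrime.prod_mem_iff (hp := hMp)).1 h
    exact hb i hi
  have hint : ∀ i ∈ Finset.range f.natDegree, IsIntegral ℤ ((d : ℂ) * (f.coeff i : ℂ)) := by
    intro i hi
    have : (d : ℂ) = (∏ j ∈ (Finset.range f.natDegree).erase i, (b j : ℂ)) * (b i : ℂ) := by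
      show ((∏ j ∈ Finset.range f.natDegree, b j : AlgInt) : ℂ) = _
      rw [show ((∏ j ∈ Finset.range f.natDegree, b j : AlgInt) : ℂ) =
        ∏ j ∈ Finset.range f.natDegree, (b j : ℂ) from map_prod AlgInt.val _ _, Finset.prod_erase_mul _ _ hi]
    rw [this, ← hab i, mul_assoc, mul_div_cancel₀ _ (algInt_coe_ne_zero (hb i))]
    exact (IsIntegral.prod _ fun j _ => (b j).2).mul (a i).2
  let g : AlgInt[X] := X ^ f.natDegree + ∑ i ∈ (Finset.range f.natDegree).attach,
    C (⟨(d : ℂ) * (f.coeff i.1 : ℂ), hint i.1 i.2⟩ * d ^ (f.natDegree - i.1 - 1)) * X ^ i.1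
  have hg : g.Monic := by
    refine monic_X_pow_add ?_
    refine lt_of_le_of_lt (degree_sum_le _ _) ?_
    rw [Finset.sup_lt_iff (WithBot.bot_lt_coe _)]
    intro i _
    exact lt_of_le_of_lt (degree_C_mul_X_pow_le _ _)
      (by exact_mod_cast Finset.mem_range.1 i.2)
  have hgz : Polynomial.aeval ((d : ℂ) * z) g = 0 := by
    have h0 : z ^ f.natDegree + ∑ i ∈ Finset.range f.natDegree, (f.coeff i : ℂ) * z ^ i = 0 := by
      have h1 := hz
      conv at h1 => lhs; rw [hf.as_sum]
      simp only [eval₂_add, eval₂_X_pow, eval₂_finsetSum, eval₂_mul, eval₂_C] at h1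
      exact h1
    simp only [g, map_add, map_sum, map_mul, map_pow, aeval_X, aeval_C]
    rw [Finset.sum_attach (Finset.range f.natDegree) (fun i =>
      if hi : i ∈ Finset.range f.natDegree then
        (algebraMap AlgInt ℂ ⟨(d : ℂ) * (f.coeff i : ℂ), hint i hi⟩ *
          algebraMap AlgInt ℂ d ^ (f.natDegree - i - 1)) * ((d : ℂ) * z) ^ i else 0) |>.trans
      (Finset.sum_congr rfl fun i hi => (dif_pos hi).trans (show _ =
        (d : ℂ) ^ f.natDegree * ((f.coeff i : ℂ) * z ^ i) from ?_)) |> fun e =>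
        (Finset.sum_congr rfl fun i _ => (dif_pos i.2).symm).trans e]
    · rw [mul_pow, ← Finset.mul_sum, ← mul_add, h0, mul_zero]
    · show (d : ℂ) * (f.coeff i : ℂ) * (d : ℂ) ^ (f.natDegree - i - 1) * _ = _
      have hi' := Finset.mem_range.1 hi
      rw [mul_pow, show f.natDegree = (f.natDegree - i - 1) + 1 + i by omega, pow_add, pow_add,
        pow_one, show f.natDegree - i - 1 + 1 + i - i - 1 = f.natDegree - i - 1 by omega]
      ring
  have hdz : IsIntegral ℤ ((d : ℂ) * z) := isIntegral_trans _ ⟨g, hg, hgz⟩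
  exact ⟨⟨_, hdz⟩, d, hdM, by
    show (d : ℂ) * z / (d : ℂ) = z
    exact mul_div_cancel_left₀ z (algInt_coe_ne_zero hdM)⟩

/-- A root of a polynomial with local coefficients, one of them a unit, or its inverse is local. -/
theorem memLocalRing_or_inv_of_root : ∀ (n : ℕ) (c : ℕ → ℂ) (z : ℂ),
    (∀ i, MemLocalRing M (c i)) → (∃ i ≤ n, ¬ MemLocalIdeal M (c i)) →
    ∑ i ∈ Finset.range (n + 1), c i * z ^ i = 0 → MemLocalRing M z ∨ MemLocalRing M z⁻¹ := by
  intro n
  induction n with
  | zero =>
    intro c z _ hu h0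
    obtain ⟨i, hi, hu⟩ := hu
    rw [Nat.le_zero.1 hi] at hu
    simp at h0
    exact absurd (h0 ▸ memLocalIdeal_zero) hu
  | succ n ih =>
    intro c z hc hu h0
    have hint : MemLocalRing M (c (n + 1) * z) := by
      refine memLocalRing_of_isIntegral_locSubring ⟨X ^ (n + 1) + ∑ i : Fin (n + 1),
        C (⟨c i * c (n + 1) ^ (n - (i : ℕ)),
          memLocalRing_mul (hc i) (memLocalRing_pow (hc _) _)⟩ : locSubring M) * X ^ (i : ℕ),
          monic_X_pow_add ?_, ?_⟩
      · refine lt_of_le_of_lt (degree_sum_le _ _) ?_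
        rw [Finset.sup_lt_iff (WithBot.bot_lt_coe _)]
        intro i _
        exact lt_of_le_of_lt (degree_C_mul_X_pow_le _ _) (by exact_mod_cast i.2)
      · simp only [eval₂_add, eval₂_X_pow, eval₂_finsetSum, eval₂_mul, eval₂_C]
        change (c (n + 1) * z) ^ (n + 1) + ∑ i : Fin (n + 1),
          (c i * c (n + 1) ^ (n - (i : ℕ))) * (c (n + 1) * z) ^ (i : ℕ) = 0
        rw [Finset.sum_range_succ, ← Fin.sum_univ_eq_sum_range] at h0
        calc _ = c (n + 1) ^ n * (∑ i : Fin (n + 1), c i * z ^ (i : ℕ) + c (n + 1) * z ^ (n + 1)) := by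
              rw [mul_add, Finset.mul_sum, add_comm]
              congr 1
              · refine Finset.sum_congr rfl fun i _ => ?_
                have hi := i.2
                rw [mul_pow, show c (n + 1) ^ n = c (n + 1) ^ (n - (i : ℕ)) * c (n + 1) ^ (i : ℕ) by
                  rw [← pow_add]; congr 1; omega]
                ring
              · rw [mul_pow, pow_succ (c (n + 1))]; ring
          _ = 0 := by rw [h0, mul_zero]
    by_cases htop : ¬ MemLocalIdeal M (c (n + 1))
    · left
      have := memLocalRing_mul (memLocalRing_inv (hc _) htop) hint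
      rwa [← mul_assoc, inv_mul_cancel₀ (ne_zero_of_not_memLocalIdeal htop), one_mul] at this
    push Not at htop
    by_cases hmid : ¬ MemLocalIdeal M (c (n + 1) * z)
    · right
      have h2 := ne_zero_of_not_memLocalIdeal hmid
      have := memLocalRing_mul (hc (n + 1)) (memLocalRing_inv hint hmid)
      rwa [mul_inv, ← mul_assoc, mul_inv_cancel₀ (left_ne_zero_of_mul h2), one_mul] at this
    push Not at hmid
    obtain ⟨i, hi, hu⟩ := hu
    have hin : i ≤ n := by
      rcases Nat.lt_or_ge i (n + 1) with h | h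
      · omega
      · exact absurd (le_antisymm hi h ▸ htop : MemLocalIdeal M (c i)) hu
    refine ih (fun j => if j = n then c n + c (n + 1) * z else c j) z (fun j => ?_) ⟨i, hin, ?_⟩ ?_
    · split_ifs
      exacts [memLocalRing_add (hc _) hint, hc _]
    · split_ifs with h
      · intro hm
        apply hu
        subst h
        simpa using memLocalIdeal_sub hm hmid
      · exact hu
    · rw [Finset.sum_range_succ, if_pos rfl]
      rw [Finset.sum_range_succ, Finset.sum_range_succ] at h0
      rw [Finset.sum_congr rfl fun j hj => by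
        rw [if_neg (Nat.ne_of_lt (Finset.mem_range.1 hj))]]
      rw [← h0]; ring

/-- An algebraic number or its inverse lies in the local ring. -/
theorem memLocalRing_or_inv (hM : IsPModular p M) {z : ℂ} (hz : IsAlgebraic ℤ z) :
    MemLocalRing M z ∨ MemLocalRing M z⁻¹ := by
  obtain ⟨f, hf0, hfz⟩ := hz
  have hc : f.content ≠ 0 := fun h => hf0 (content_eq_zero_iff.1 h)
  have hz' : Polynomial.aeval z f.primPart = 0 := by
    have h := hfz
    rw [f.eq_C_content_mul_primPart, map_mul, aeval_C, mul_eq_zero] at h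
    exact h.resolve_left (by simpa using hc)
  refine memLocalRing_or_inv_of_root f.primPart.natDegree (fun i => ((f.primPart.coeff i : ℤ) : ℂ))
    z (fun i => memLocalRing_intCast _) ?_ ?_
  · by_contra hcon
    push Not at hcon
    have hdvd : ∀ i, (p : ℤ) ∣ f.primPart.coeff i := by
      intro i
      by_cases hi : i ≤ f.primPart.natDegree
      · exact (memLocalIdeal_intCast_iff hM _).1 (hcon i hi)
      · rw [coeff_eq_zero_of_natDegree_lt (not_le.1 hi)]; exact dvd_zero _
    have := f.isPrimitive_primPart _ (C_dvd_iff_dvd_coeff _ _ |>.2 hdvd)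
    rw [Int.isUnit_iff] at this
    have := hM.1.two_le
    omega
  · rw [aeval_eq_sum_range] at hz'
    simpa [zsmul_eq_mul] using hz'

/-- A finite family of algebraic numbers can be scaled to be primitive in the local ring. -/
theorem exists_scaling (hM : IsPModular p M) {ι : Type*} [Fintype ι] (f : ι → ℂ)
    (halg : ∀ i, IsAlgebraic ℤ (f i)) (hne : ∃ i, f i ≠ 0) :
    ∃ i₀, f i₀ ≠ 0 ∧ ∀ i, MemLocalRing M ((f i₀)⁻¹ * f i) := by
  classical
  suffices h : ∀ s : Finset ι, (∃ i ∈ s, f i ≠ 0) →
      ∃ i₀, f i₀ ≠ 0 ∧ ∀ i ∈ s, MemLocalRing M ((f i₀)⁻¹ * f i) by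
    obtain ⟨i, hi⟩ := hne
    obtain ⟨i₀, h0, h1⟩ := h Finset.univ ⟨i, Finset.mem_univ i, hi⟩
    exact ⟨i₀, h0, fun j => h1 j (Finset.mem_univ j)⟩
  intro s
  induction s using Finset.induction_on with
  | empty => simp
  | insert a s ha ih =>
    intro hex
    by_cases hs : ∃ i ∈ s, f i ≠ 0
    · obtain ⟨i₀, h0, h1⟩ := ih hs
      by_cases hfa : f a = 0
      · refine ⟨i₀, h0, fun i hi => ?_⟩
        rcases Finset.mem_insert.1 hi with rfl | hi
        · rw [hfa, mul_zero]; exact memLocalRing_zero
        · exact h1 i hi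
      have ha' : IsAlgebraic ℤ ((f i₀)⁻¹ * f a) := (halg i₀).inv.mul (halg a)
      rcases memLocalRing_or_inv hM ha' with h | h
      · refine ⟨i₀, h0, fun i hi => ?_⟩
        rcases Finset.mem_insert.1 hi with rfl | hi
        exacts [h, h1 i hi]
      · refine ⟨a, hfa, fun i hi => ?_⟩
        rcases Finset.mem_insert.1 hi with rfl | hi
        · rw [inv_mul_cancel₀ hfa]; exact memLocalRing_one
        · have := memLocalRing_mul h (h1 i hi)
          rw [mul_inv, inv_inv] at this
          convert this using 1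
          field_simp
    · obtain ⟨i, hi, hfi⟩ := hex
      refine ⟨i, hfi, fun j hj => ?_⟩
      by_cases hj0 : f j = 0
      · rw [hj0, mul_zero]; exact memLocalRing_zero
      have hja : ∀ k ∈ insert a s, f k ≠ 0 → k = a := by
        intro k hk hk0
        rcases Finset.mem_insert.1 hk with rfl | hk
        exacts [rfl, absurd ⟨k, hk, hk0⟩ hs]
      rw [hja i hi hfi, hja j hj hj0]
      rw [inv_mul_cancel₀ (hja j hj hj0 ▸ hj0)]
      exact memLocalRing_one

end Cfsg.Agent.Lib.Blocks
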