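import Cfsg.Agent.Lib.Blocks.TwoDimCenter
import Cfsg.Agent.Lib.Blocks.NormalP
import Cfsg.Agent.Lib.Blocks.Valuation
import Cfsg.Agent.Lib.BlockHeights.RankOne

/-!
# Blocks with two irreducible characters

The block algebra over the residue field is a local symmetric algebra with centre of dimension
`k(B)`; for `k(B) = 2` this forces a defect group of order two (Brandt, Külshammer).
-/

set_option autoImplicit false
set_option linter.unusedSectionVars false
set_option linter.style.haveILetI false
set_option maxHeartbeats 800000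

namespace Cfsg.Agent.Lib.Blocks

open Cfsg Cfsg.Agent.Lib.Characters MonoidAlgebra
open scoped ComplexConjugate

universe u

variable {G : Type u} [Group G] [Fintype G] {M : Ideal AlgInt} [hMp : M.IsPrime] {p : ℕ}

/-- The residue field is algebraically closed. -/
theorem resField_isAlgClosed : IsAlgClosed (ResField M) := by
  refine IsAlgClosed.of_exists_root _ fun f hf hirr => ?_
  have hlift : f ∈ Polynomial.lifts (red M) := by
    rw [Polynomial.lifts_iff_coeff_lifts]
    exact fun n => red_surjective _
  obtain ⟨F, hF, hdeg, hFm⟩ := Polynomial.lifts_and_degree_eq_and_monic hlift hf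
  have h0 : (F.map (locSubring M).subtype).degree ≠ 0 := by
    rw [Polynomial.degree_map_eq_of_injective Subtype.val_injective, hdeg]
    exact (Polynomial.degree_pos_of_irreducible hirr).ne'
  obtain ⟨z, hz⟩ := IsAlgClosed.exists_root _ h0
  have hz' : MemLocalRing M z := memLocalRing_of_isIntegral_locSubring
    ⟨F, hFm, by rw [Polynomial.eval₂_eq_eval_map]; exact hz⟩
  refine ⟨red M ⟨z, hz'⟩, ?_⟩
  rw [← hF, Polynomial.eval_map, Polynomial.eval₂_at_apply]
  have : F.eval (⟨z, hz'⟩ : locSubring M) = 0 := by
    apply Subtype.ext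
    rw [← Subring.subtype_apply, ← Polynomial.eval₂_at_apply, Polynomial.eval₂_eq_eval_map]
    exact hz
  rw [this, map_zero]

/-! ### Idempotent matrices -/

theorem charpoly_of_idempotent {K : Type*} [Field K] {ι : Type*} [Fintype ι] [DecidableEq ι]
    (T : Matrix ι ι K) (hT : T * T = T) :
    T.charpoly = (Polynomial.X - 1) ^ Module.finrank K (LinearMap.range T.toLin') *
      Polynomial.X ^ Module.finrank K (LinearMap.ker T.toLin') := by
  have hproj : LinearMap.IsProj (LinearMap.range T.toLin') T.toLin' :=
    ⟨fun x => LinearMap.mem_range_self _ x, fun x ⟨z, hz⟩ => by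
      rw [← hz, ← LinearMap.comp_apply, ← Matrix.toLin'_mul, hT]⟩
  rw [← Matrix.charpoly_toLin']
  conv_lhs => rw [hproj.eq_conj_prodMap]
  rw [LinearEquiv.charpoly_conj, LinearMap.charpoly_prodMap, LinearMap.charpoly_zero,
    ← Module.End.one_eq_id, LinearMap.charpoly_one]

theorem rootMultiplicity_one {K : Type*} [Field K] (a b : ℕ) :
    Polynomial.rootMultiplicity (1 : K) ((Polynomial.X - 1) ^ a * Polynomial.X ^ b) = a := by
  have hne : (Polynomial.X - 1 : Polynomial K) ≠ 0 := by
    rw [← map_one (Polynomial.C : K →+* Polynomial K)]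
    exact Polynomial.X_sub_C_ne_zero 1
  rw [Polynomial.rootMultiplicity_mul (mul_ne_zero (pow_ne_zero _ hne)
    (pow_ne_zero _ Polynomial.X_ne_zero)), ← map_one (Polynomial.C : K →+* Polynomial K),
    Polynomial.rootMultiplicity_X_sub_C_pow, Polynomial.rootMultiplicity_eq_zero, add_zero]
  simp [Polynomial.IsRoot]

/-- Reduction preserves the rank of an idempotent matrix, which is its trace. -/
theorem finrank_range_red {ι : Type*} [Fintype ι] [DecidableEq ι]
    (T : Matrix ι ι (locSubring M)) (hT : T * T = T) :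
    ((Module.finrank (ResField M) (LinearMap.range (T.map (red M)).toLin') : ℕ) : ℂ) =
      ∑ i, ((T i i : locSubring M) : ℂ) := by
  set ι' := (locSubring M).subtype with hι'
  have hTC : T.map ι' * T.map ι' = T.map ι' := by rw [← Matrix.map_mul, hT]
  have hTk : T.map (red M) * T.map (red M) = T.map (red M) := by rw [← Matrix.map_mul, hT]
  have hC := charpoly_of_idempotent _ hTC
  set r := Module.finrank ℂ (LinearMap.range (T.map ι').toLin') with hr
  set c := Module.finrank ℂ (LinearMap.ker (T.map ι').toLin') with hc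
  have hP : T.charpoly = (Polynomial.X - 1) ^ r * Polynomial.X ^ c := by
    apply Polynomial.map_injective ι' Subtype.val_injective
    rw [← Matrix.charpoly_map, hC]
    simp
  have hk := charpoly_of_idempotent _ hTk
  rw [Matrix.charpoly_map, hP] at hk
  simp only [Polynomial.map_mul, Polynomial.map_pow, Polynomial.map_sub, Polynomial.map_one,
    Polynomial.map_X] at hk
  have hrr := congrArg (Polynomial.rootMultiplicity (1 : ResField M)) hk
  rw [rootMultiplicity_one, rootMultiplicity_one] at hrr
  rw [← hrr, hr]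
  have hproj : LinearMap.IsProj (LinearMap.range (T.map ι').toLin') (T.map ι').toLin' :=
    ⟨fun x => LinearMap.mem_range_self _ x, fun x ⟨z, hz⟩ => by
      rw [← hz, ← LinearMap.comp_apply, ← Matrix.toLin'_mul, hTC]⟩
  rw [← hproj.trace, Matrix.trace_toLin'_eq]
  rfl

/-! ### The reduction map -/

theorem redAlg_congr {f f' : G → ℂ} (hf : ∀ x, MemLocalRing M (f x))
    (hf' : ∀ x, MemLocalRing M (f' x)) (h : f = f') : redAlg f hf = redAlg f' hf' := by
  subst h; rfl

theorem redAlg_deltaOne_two : redAlg (M := M) (deltaOne : G → ℂ) isRCentral_deltaOne.2 = 1 := by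
  classical
  refine MonoidAlgebra.coeff_injective (Finsupp.ext fun y => ?_)
  rw [coeff_redAlg, MonoidAlgebra.one_def, MonoidAlgebra.coeff_single, Finsupp.single_apply]
  by_cases h : y = 1
  · rw [if_pos h.symm,
      show (⟨deltaOne y, isRCentral_deltaOne.2 y⟩ : locSubring M) = 1 from
        Subtype.ext (by simp [deltaOne_apply, h]), map_one]
  · rw [if_neg (Ne.symm h),
      show (⟨deltaOne y, isRCentral_deltaOne.2 y⟩ : locSubring M) = 0 from
        Subtype.ext (by simp [deltaOne_apply, h]), map_zero]

theorem redAlg_convPow {f : G → ℂ} (hf : IsRCentral M f) (n : ℕ) :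
    redAlg (convPow f n) (isRCentral_convPow hf n).2 = redAlg f hf.2 ^ n := by
  induction n with
  | zero => rw [pow_zero, ← redAlg_deltaOne_two]; rfl
  | succ k ih => rw [pow_succ', ← ih, ← redAlg_conv]; rfl

theorem redAlg_sub_smul {f : G → ℂ} (hf : IsRCentral M f) {c : ℂ} (hc : MemLocalRing M c) :
    redAlg (f - c • deltaOne) (hf.sub (isRCentral_deltaOne.smul hc)).2 =
      redAlg f hf.2 - red M ⟨c, hc⟩ • (1 : MonoidAlgebra (ResField M) G) := by
  classical
  refine MonoidAlgebra.coeff_injective (Finsupp.ext fun y => ?_)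
  rw [coeff_redAlg, MonoidAlgebra.coeff_sub, MonoidAlgebra.coeff_smul, Finsupp.sub_apply,
    Finsupp.smul_apply, coeff_redAlg, ← redAlg_deltaOne_two, coeff_redAlg, smul_eq_mul, ← map_mul,
    ← map_sub]
  rfl

theorem redAlg_comm {f : G → ℂ} (hf : ∀ x, MemLocalRing M (f x)) (hc : IsClassFunction G f)
    (a : MonoidAlgebra (ResField M) G) : redAlg f hf * a = a * redAlg f hf := by
  classical
  choose l hl using fun t : ResField M => red_surjective (M := M) t
  let a' : G → ℂ := fun x => (l (a.coeff x) : ℂ)
  have ha' : ∀ x, MemLocalRing M (a' x) := fun x => (l (a.coeff x)).2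
  have ha : redAlg a' ha' = a := MonoidAlgebra.coeff_injective (Finsupp.ext fun x => by
    rw [coeff_redAlg]; exact hl _)
  have h1 : ∀ x, MemLocalRing M (conv f a' x) := fun x =>
    memLocalRing_sum _ fun y _ => memLocalRing_mul (hf y) (ha' _)
  have h2 : ∀ x, MemLocalRing M (conv a' f x) := fun x =>
    memLocalRing_sum _ fun y _ => memLocalRing_mul (ha' y) (hf _)
  rw [← ha, ← redAlg_conv f a' hf ha' h1, ← redAlg_conv a' f ha' hf h2]
  exact redAlg_congr h1 h2 (conv_comm a' hc)

/-- The function on `G` attached to a function on a quotient set. -/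
noncomputable def spread {ι : Type*} (π : G → ι) :
    (ι → ResField M) →ₗ[ResField M] MonoidAlgebra (ResField M) G where
  toFun a := ∑ x, single x (a (π x))
  map_add' a b := by simp [Finset.sum_add_distrib, MonoidAlgebra.single_add]
  map_smul' c a := by simp [Finset.smul_sum, MonoidAlgebra.smul_single]

theorem coeff_spread {ι : Type*} (π : G → ι) (a : ι → ResField M) (x : G) :
    (spread π a).coeff x = a (π x) := by
  classical
  simp [spread, MonoidAlgebra.coeff_sum, Finsupp.single_apply]

/-- The dimension of the image of `spread` times an idempotent is the trace of its matrix. -/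
theorem finrank_spread_mul {ι : Type*} [Fintype ι] [DecidableEq ι] (π : G → ι)
    (hπ : Function.Surjective π) (e : G → ℂ) (he : ∀ x, MemLocalRing M (e x))
    (hee : ∀ a : ι → ℂ, conv (conv (a ∘ π) e) e = conv (a ∘ π) e)
    (T : Matrix ι ι (locSubring M))
    (hT : ∀ (a : ι → ℂ) (x : G), conv (a ∘ π) e x = ∑ d, (T (π x) d : ℂ) * a d) :
    ((Module.finrank (ResField M) (LinearMap.range
        ((LinearMap.mulRight (ResField M) (redAlg e he)).comp (spread π))) : ℕ) : ℂ) =
      ∑ i, (T i i : ℂ) := by
  classical
  have hTC : ∀ a : ι → ℂ, (fun i => ∑ d, (T i d : ℂ) * a d) ∘ π = conv (a ∘ π) e :=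
    fun a => funext fun x => (hT a x).symm
  have hTT : T * T = T := by
    refine Matrix.ext fun i j => Subtype.ext ?_
    obtain ⟨x, rfl⟩ := hπ i
    have h1 := hT (fun i => ∑ d, (T i d : ℂ) * (Pi.single j 1 : ι → ℂ) d) x
    rw [hTC, hee, hT] at h1
    simp only [Pi.single_apply, mul_ite, mul_one, mul_zero, Finset.sum_ite_eq', Finset.mem_univ,
      if_true] at h1
    rw [Matrix.mul_apply, AddSubmonoidClass.coe_finsetSum]
    exact h1.symm
  have hcomp : ∀ a : ι → ResField M,
      spread π a * redAlg e he = spread π ((T.map (red M)).toLin' a) := by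
    intro a
    choose l hl using fun i => red_surjective (M := M) (a i)
    let a' : ι → ℂ := fun i => (l i : ℂ)
    have ha' : ∀ x, MemLocalRing M ((a' ∘ π) x) := fun x => (l (π x)).2
    have hs : spread π a = redAlg (a' ∘ π) ha' := MonoidAlgebra.coeff_injective (Finsupp.ext
      fun x => by rw [coeff_spread, coeff_redAlg]; exact (hl _).symm)
    have hcv : ∀ x, MemLocalRing M (conv (a' ∘ π) e x) := fun x =>
      memLocalRing_sum _ fun y _ => memLocalRing_mul (ha' y) (he _)
    rw [hs, ← redAlg_conv _ _ ha' he hcv]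
    refine MonoidAlgebra.coeff_injective (Finsupp.ext fun x => ?_)
    rw [coeff_redAlg, coeff_spread, Matrix.toLin'_apply, Matrix.mulVec, dotProduct]
    rw [show (⟨conv (a' ∘ π) e x, hcv x⟩ : locSubring M) = ∑ d, T (π x) d * l d from
      Subtype.ext (by
        rw [AddSubmonoidClass.coe_finsetSum]
        exact hT a' x), map_sum]
    exact Finset.sum_congr rfl fun d _ => by rw [map_mul, hl]; rfl
  have hinj : Function.Injective (spread (M := M) π) := fun a b h => funext fun i => by
    obtain ⟨x, rfl⟩ := hπ i
    rw [← coeff_spread π a x, ← coeff_spread π b x, h]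
  rw [show (LinearMap.mulRight (ResField M) (redAlg e he)).comp (spread π) =
      (spread π).comp (T.map (red M)).toLin' from LinearMap.ext hcomp, LinearMap.range_comp,
    ← (Submodule.equivMapOfInjective _ hinj _).finrank_eq]
  exact finrank_range_red T hTT

/-- The trace of multiplication by the idempotent of a block. -/
theorem card_mul_blockCoeff_one (B : Set (IrrCharacter G)) :
    (Nat.card G : ℂ) * blockCoeff B 1 = ∑ᶠ χ ∈ B, ((charDegree (χ : G → ℂ) : ℕ) : ℂ) ^ 2 := by
  rw [blockCoeff, ← mul_assoc, mul_inv_cancel₀ (Nat.cast_ne_zero.2 Nat.card_pos.ne'), one_mul]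
  refine finsum_congr fun χ => finsum_congr fun _ => ?_
  rw [BlockHeights.irr_apply_one χ, Complex.conj_natCast, sq]

/-- The trace of the idempotent of a block on class functions. -/
theorem sum_classes_conv_blockCoeff [Fintype (ConjClasses G)] (B : Set (IrrCharacter G)) :
    ∑ C : ConjClasses G, conv (classIndicator (Quotient.out C)) (blockCoeff B) (Quotient.out C) =
      (Nat.card B : ℂ) := by
  classical
  haveI := Fintype.ofFinite (IrrCharacter G)
  have h0 : ∀ C : ConjClasses G,
      conv (classIndicator (Quotient.out C)) (blockCoeff B) (Quotient.out C) =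
        (Nat.card G : ℂ)⁻¹ * ∑ η : IrrCharacter G, if η ∈ B then (η : G → ℂ) 1 *
          (conj ((η : G → ℂ) (Quotient.out C)) * centralChar (η : G → ℂ) (Quotient.out C)) else 0 := by
    intro C
    rw [eq_sum_omega (isClassFunction_conv (isClassFunction_classIndicator _)
      (isClassFunction_blockCoeff B))]
    congr 1
    refine Finset.sum_congr rfl fun η _ => ?_
    rw [omega_conv η.2 (isClassFunction_classIndicator _), omega_blockCoeff,
      omega_classIndicator (irr_isClassFunction η)]
    split_ifs <;> ring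
  rw [Finset.sum_congr rfl fun C _ => h0 C, ← Finset.mul_sum, Finset.sum_comm,
    inv_mul_eq_iff_eq_mul₀ (Nat.cast_ne_zero.2 Nat.card_pos.ne'),
    Nat.card_eq_fintype_card (α := B), Fintype.card_subtype]
  have h1 : ∀ η : IrrCharacter G, ∑ C : ConjClasses G, (η : G → ℂ) 1 *
      (conj ((η : G → ℂ) (Quotient.out C)) * centralChar (η : G → ℂ) (Quotient.out C)) =
        (Nat.card G : ℂ) := by
    intro η
    have hcl : IsClassFunction G fun x => conj ((η : G → ℂ) x) := fun x h => by
      show conj _ = conj _
      rw [irr_isClassFunction η]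
    rw [← Finset.mul_sum, ← omega_eq_sum_classes (irr_isClassFunction η) hcl, mul_comm,
      omega_mul_apply_one η.2]
    have h := IsIrrCharacter.classInner_self η.2
    rw [classInner, inv_mul_eq_iff_eq_mul₀ (Nat.cast_ne_zero.2 Nat.card_pos.ne'), mul_one] at h
    rw [← h]
    exact Finset.sum_congr rfl fun x _ => mul_comm _ _
  rw [Finset.sum_congr rfl fun η _ => show (∑ C : ConjClasses G, if η ∈ B then (η : G → ℂ) 1 *
      (conj ((η : G → ℂ) (Quotient.out C)) * centralChar (η : G → ℂ) (Quotient.out C)) else 0) =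
      if η ∈ B then (Nat.card G : ℂ) else 0 by
    by_cases hη : η ∈ B
    · simp only [if_pos hη]; exact h1 η
    · simp [hη]]
  rw [← Finset.sum_filter, Finset.sum_const, nsmul_eq_mul, mul_comm]

/-- The algebra structure of a corner at a central idempotent. -/
@[reducible]
noncomputable def cornerAlgebra {k R : Type*} [Field k] [Ring R] [Algebra k R] {e : R}
    (hid : IsIdempotentElem e) (hc : ∀ a, e * a = a * e) : Algebra k hid.Corner :=
  RingHom.toAlgebra'
    { toFun := fun c => ⟨c • e, ⟨c • 1, by
        show e * c • (1 : R) * e = c • e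
        rw [mul_smul_comm, mul_one, smul_mul_assoc, hid.eq]⟩⟩
      map_one' := Subtype.ext (one_smul k e)
      map_mul' := fun c d => Subtype.ext (show (c * d) • e = (c • e) * (d • e) by
        rw [smul_mul_smul_comm, hid.eq])
      map_zero' := Subtype.ext (zero_smul k e)
      map_add' := fun c d => Subtype.ext (add_smul c d e) }
    fun c x => Subtype.ext (show c • e * x.1 = x.1 * c • e by
      rw [smul_mul_assoc, mul_smul_comm, hc])

/-- **The block algebra**: the hypotheses of Külshammer's lemma. -/
theorem exists_two_mul_sq (hM : IsPModular p M) {B : Set (IrrCharacter G)} (hB : IsPBlock M B)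
    (hk : Nat.card B = 2) :
    ∃ n : ℕ, ∑ᶠ χ ∈ B, charDegree (χ : G → ℂ) ^ 2 = 2 * n ^ 2 := by
  classical
  haveI := resField_isAlgClosed (M := M)
  haveI : Finite (ConjClasses G) := Finite.of_surjective _ ConjClasses.mk_surjective
  haveI := Fintype.ofFinite (ConjClasses G)
  have heR := isRCentral_blockCoeff hM hB
  set e := redAlg (blockCoeff B) heR.2 with hedef
  have hid : IsIdempotentElem e := by
    show e * e = e
    rw [hedef, ← redAlg_conv _ _ heR.2 heR.2 (fun x => by rw [blockCoeff_conv_self]; exact heR.2 x)]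
    exact redAlg_congr _ _ (blockCoeff_conv_self B)
  have hcomm : ∀ a, e * a = a * e := redAlg_comm _ heR.1
  letI := cornerAlgebra (k := ResField M) hid hcomm
  let val : hid.Corner →ₗ[ResField M] MonoidAlgebra (ResField M) G :=
    { toFun := fun x => x.1
      map_add' := fun _ _ => rfl
      map_smul' := fun c x => by
        show c • e * x.1 = c • x.1
        rw [smul_mul_assoc, ((Subsemigroup.mem_corner_iff hid).mp x.2).1] }
  have hval : Function.Injective val := fun x y h => Subtype.ext h
  haveI : FiniteDimensional (ResField M) hid.Corner := Module.Finite.of_injective val hval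
  have hmem : ∀ z : MonoidAlgebra (ResField M) G, z * e ∈ Subsemigroup.corner e := fun z =>
    ⟨z, by show e * z * e = z * e; rw [hcomm z, mul_assoc, hid.eq]⟩
  -- the symmetrizing form
  let s : hid.Corner →ₗ[ResField M] ResField M :=
    { toFun := fun x => x.1.coeff 1
      map_add' := fun _ _ => rfl
      map_smul' := fun c x => by
        show (val (c • x)).coeff 1 = c * x.1.coeff 1
        rw [map_smul, MonoidAlgebra.coeff_smul]; rfl }
  have hsymG : ∀ a b : MonoidAlgebra (ResField M) G, (a * b).coeff 1 = (b * a).coeff 1 := by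
    intro a b
    induction a using MonoidAlgebra.induction_linear with
    | zero => simp
    | add u v hu hv => simp [add_mul, mul_add, hu, hv]
    | single g c =>
      induction b using MonoidAlgebra.induction_linear with
      | zero => simp
      | add u v hu hv => simp [add_mul, mul_add, hu, hv]
      | single h d =>
        simp [Finsupp.single_apply, mul_eq_one_comm (a := g) (b := h), mul_comm c d]
  have hnd : ∀ a : hid.Corner, (∀ b, s (a * b) = 0) → a = 0 := by
    intro a ha
    refine Subtype.ext (MonoidAlgebra.coeff_injective (Finsupp.ext fun g => ?_))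
    have h := ha ⟨single g⁻¹ 1 * e, hmem _⟩
    have h' : (a.1 * (single g⁻¹ (1 : ResField M) * e)).coeff 1 = 0 := h
    rw [← hcomm (single g⁻¹ 1), ← mul_assoc, ((Subsemigroup.mem_corner_iff hid).mp a.2).2,
      MonoidAlgebra.coeff_mul_single_apply] at h'
    refine Eq.trans ?_ (Finsupp.zero_apply (a := g)).symm
    simpa using h'
  -- dimensions
  have hdimA : ((Module.finrank (ResField M) hid.Corner : ℕ) : ℂ) =
      ∑ᶠ χ ∈ B, ((charDegree (χ : G → ℂ) : ℕ) : ℂ) ^ 2 := by
    let T : Matrix G G (locSubring M) := Matrix.of fun x y => ⟨blockCoeff B (y⁻¹ * x), heR.2 _⟩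
    have hT : ∀ (a : G → ℂ) (x : G), conv (a ∘ id) (blockCoeff B) x =
        ∑ d, (T (id x) d : ℂ) * a d := fun a x => Finset.sum_congr rfl fun y _ => mul_comm _ _
    have hee : ∀ a : G → ℂ, conv (conv (a ∘ id) (blockCoeff B)) (blockCoeff B) =
        conv (a ∘ id) (blockCoeff B) := by
      intro a
      funext x
      have hstep : conv (conv a (blockCoeff B)) (blockCoeff B) x =
          conv a (conv (blockCoeff B) (blockCoeff B)) x := by
        simp only [conv, Finset.sum_mul, Finset.mul_sum]
        rw [Finset.sum_comm]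
        refine Finset.sum_congr rfl fun y _ => ?_
        rw [← Equiv.sum_comp (Equiv.mulLeft y)]
        refine Finset.sum_congr rfl fun z _ => ?_
        simp only [Equiv.coe_mulLeft, inv_mul_cancel_left, mul_inv_rev, mul_assoc]
      show conv (conv a _) _ x = conv a _ x
      rw [hstep, blockCoeff_conv_self]
    have h := finrank_spread_mul id Function.surjective_id (blockCoeff B) heR.2 hee T hT
    rw [← card_mul_blockCoeff_one, ← LinearMap.finrank_range_of_inj hval]
    rw [show LinearMap.range val = LinearMap.range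
        ((LinearMap.mulRight (ResField M) e).comp (spread id)) by
      ext z
      constructor
      · rintro ⟨x, rfl⟩
        refine ⟨fun g => x.1.coeff g, ?_⟩
        show spread id _ * e = x.1
        rw [show spread id (fun g => x.1.coeff g) = x.1 from
          MonoidAlgebra.coeff_injective (Finsupp.ext fun g => coeff_spread _ _ g)]
        exact ((Subsemigroup.mem_corner_iff hid).mp x.2).2
      · rintro ⟨a, rfl⟩
        exact ⟨⟨_, hmem _⟩, rfl⟩, h]
    simp [T, Finset.card_univ, Nat.card_eq_fintype_card]
  have hcen : Module.finrank (ResField M) (Subalgebra.center (ResField M) hid.Corner) = 2 := by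
    let T : Matrix (ConjClasses G) (ConjClasses G) (locSubring M) := Matrix.of fun C D =>
      ⟨conv (classIndicator (Quotient.out D)) (blockCoeff B) (Quotient.out C),
        ((isRCentral_classIndicator _).conv heR).2 _⟩
    have hcl : ∀ a : ConjClasses G → ℂ, IsClassFunction G (a ∘ ConjClasses.mk) := fun a x h =>
      congrArg a (ConjClasses.mk_eq_mk_iff_isConj.2 (isConj_iff.2 ⟨h, rfl⟩).symm)
    have hout : ∀ C : ConjClasses G, ConjClasses.mk (Quotient.out C) = C := fun C => Quotient.out_eq C
    have hT : ∀ (a : ConjClasses G → ℂ) (x : G), conv (a ∘ ConjClasses.mk) (blockCoeff B) x =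
        ∑ d, (T (ConjClasses.mk x) d : ℂ) * a d := by
      intro a x
      have hcv := isClassFunction_conv (hcl a) heR.1
      rw [classFunction_conj hcv (ConjClasses.mk_eq_mk_iff_isConj.1 (hout (ConjClasses.mk x))).symm]
      conv_lhs => rw [classFunction_eq_sum_classes (hcl a)]
      simp only [conv, Finset.sum_apply, Pi.smul_apply, smul_eq_mul, Function.comp_apply, hout,
        Finset.sum_mul, T, Matrix.of_apply]
      rw [Finset.sum_comm]
      exact Finset.sum_congr rfl fun D _ => Finset.sum_congr rfl fun y _ => by ring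
    have hee : ∀ a : ConjClasses G → ℂ, conv (conv (a ∘ ConjClasses.mk) (blockCoeff B))
        (blockCoeff B) = conv (a ∘ ConjClasses.mk) (blockCoeff B) := fun a => by
      rw [conv_assoc (hcl a) heR.1 heR.1, blockCoeff_conv_self]
    have h := finrank_spread_mul ConjClasses.mk ConjClasses.mk_surjective (blockCoeff B) heR.2
      hee T hT
    rw [show ∑ C, ((T C C : locSubring M) : ℂ) = (Nat.card B : ℂ) from
      sum_classes_conv_blockCoeff B, hk] at h
    have h2 : Module.finrank (ResField M) (LinearMap.range
        ((LinearMap.mulRight (ResField M) e).comp (spread ConjClasses.mk))) = 2 := by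
      exact_mod_cast h
    rw [← h2, ← LinearMap.finrank_range_of_inj
      (f := val.comp (Subalgebra.center (ResField M) hid.Corner).val.toLinearMap)
      (hval.comp Subtype.val_injective)]
    refine congrArg (fun S : Submodule (ResField M) (MonoidAlgebra (ResField M) G) =>
      Module.finrank (ResField M) S) ?_
    ext z
    constructor
    · rintro ⟨⟨x, hx⟩, rfl⟩
      show x.1 ∈ _
      have hxe := (Subsemigroup.mem_corner_iff hid).mp x.2
      have hxc : ∀ w, x.1 * w = w * x.1 := by
        intro w
        have h' : (w * e) * x.1 = x.1 * (w * e) :=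
          congrArg Subtype.val (Subalgebra.mem_center_iff.1 hx ⟨w * e, hmem w⟩)
        rw [mul_assoc, hxe.1, ← mul_assoc, ← hcomm (x.1 * w), ← mul_assoc, hxe.1] at h'
        exact h'.symm
      refine ⟨fun C => x.1.coeff (Quotient.out C), ?_⟩
      show spread ConjClasses.mk _ * e = x.1
      rw [show spread ConjClasses.mk (fun C => x.1.coeff (Quotient.out C)) = x.1 from
        MonoidAlgebra.coeff_injective (Finsupp.ext fun g => by
          rw [coeff_spread]
          obtain ⟨c, hc⟩ := isConj_iff.1
            (ConjClasses.mk_eq_mk_iff_isConj.1 (hout (ConjClasses.mk g))).symm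
          have h' := congrArg (fun t : MonoidAlgebra (ResField M) G => t.coeff (c * g))
            (hxc (single c 1))
          simp only [MonoidAlgebra.coeff_mul_single_apply, MonoidAlgebra.coeff_single_mul_apply,
            mul_one, one_mul, inv_mul_cancel_left] at h'
          rw [← hc]
          exact h')]
      exact hxe.2
    · rintro ⟨a, rfl⟩
      have hzc : ∀ w, spread ConjClasses.mk a * w = w * spread ConjClasses.mk a := by
        intro w
        choose l hl using fun C => red_surjective (M := M) (a C)
        have hs : spread ConjClasses.mk a = redAlg ((fun C => (l C : ℂ)) ∘ ConjClasses.mk)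
            (fun x => show MemLocalRing M (((fun C => (l C : ℂ)) ∘ ConjClasses.mk) x) from
              (l (ConjClasses.mk x)).2) := MonoidAlgebra.coeff_injective (Finsupp.ext
          fun x => by rw [coeff_spread, coeff_redAlg]; exact (hl _).symm)
        rw [hs]
        exact redAlg_comm _ (hcl fun C => (l C : ℂ)) w
      refine ⟨⟨⟨_, hmem (spread ConjClasses.mk a)⟩, Subalgebra.mem_center_iff.2 fun b =>
        Subtype.ext ?_⟩, rfl⟩
      show b.1 * (spread ConjClasses.mk a * e) = spread ConjClasses.mk a * e * b.1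
      rw [← mul_assoc, ← hzc, mul_assoc (spread ConjClasses.mk a) b.1 e, ← hcomm, ← mul_assoc]
  -- no central idempotent apart from `0` and `1`
  have hloc : ∀ f : hid.Corner, f * f = f → (∀ a, f * a = a * f) → f = 0 ∨ f = 1 := by
    intro f hff hfc
    have hfe := (Subsemigroup.mem_corner_iff hid).mp f.2
    have hfcG : ∀ w, f.1 * w = w * f.1 := by
      intro w
      have h' : f.1 * (w * e) = (w * e) * f.1 := congrArg Subtype.val (hfc ⟨w * e, hmem w⟩)
      rw [mul_assoc w, hfe.1, ← mul_assoc, ← hcomm (f.1 * w), ← mul_assoc, hfe.1] at h'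
      exact h'
    choose l hl using fun t : ResField M => red_surjective (M := M) t
    let F : G → ℂ := fun x => (l (f.1.coeff x) : ℂ)
    have hF : IsRCentral M F := ⟨fun x c => by
      have h' := congrArg (fun t : MonoidAlgebra (ResField M) G => t.coeff (c * x))
        (hfcG (single c 1))
      simp only [MonoidAlgebra.coeff_mul_single_apply, MonoidAlgebra.coeff_single_mul_apply,
        mul_one, one_mul, inv_mul_cancel_left] at h'
      show (l (f.1.coeff _) : ℂ) = _
      rw [h'], fun x => (l _).2⟩
    have hFf : redAlg F hF.2 = f.1 := MonoidAlgebra.coeff_injective (Finsupp.ext fun x => by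
      rw [coeff_redAlg]; exact hl _)
    obtain ⟨χ₀, hχ₀⟩ := IsPBlock.nonempty hB
    set c := omega (χ₀ : G → ℂ) F with hcdef
    have hc : MemLocalRing M c := memLocalRing_omega hF χ₀
    have hFc : IsRCentral M (F - c • deltaOne) := hF.sub (isRCentral_deltaOne.smul hc)
    obtain ⟨N, hN⟩ := exists_convPow_memLocalIdeal hM (hFc.conv heR) fun η => by
      rw [omega_conv η.2 hFc.1, omega_blockCoeff]
      by_cases hη : η ∈ B
      · rw [if_pos hη, mul_one, omega_sub, omega_smul, omega_deltaOne η.2, mul_one, hcdef]
        exact omega_congr_of_sameBlock (χ := η) (ψ := χ₀) (IsPBlock.sameBlock hB hη hχ₀) hF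
      · rw [if_neg hη, mul_zero]; exact memLocalIdeal_zero
    have hnil : (f.1 - red M ⟨c, hc⟩ • e) ^ N = 0 := by
      have h1 : redAlg (conv (F - c • deltaOne) (blockCoeff B)) (hFc.conv heR).2 =
          f.1 - red M ⟨c, hc⟩ • e := by
        rw [redAlg_conv _ _ hFc.2 heR.2, redAlg_sub_smul hF hc, hFf, ← hedef, sub_mul, hfe.2,
          smul_mul_assoc, one_mul]
      rw [← h1, ← redAlg_convPow (hFc.conv heR)]
      refine MonoidAlgebra.coeff_injective (Finsupp.ext fun x => ?_)
      rw [coeff_redAlg]
      simpa using red_eq_zero_iff.2 (hN N le_rfl x)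
    have hff' : f.1 * f.1 = f.1 := congrArg Subtype.val hff
    set c' := red M ⟨c, hc⟩
    by_cases hc1 : c' = 1
    · right
      have hg : (e - f.1) * (f.1 - c' • e) = -(e - f.1) := by
        rw [hc1, one_smul, sub_mul, mul_sub, mul_sub, hfe.1, hid.eq, hff', hfe.2]; abel
      have hpow : ∀ n : ℕ, (e - f.1) * (f.1 - c' • e) ^ n = (-1 : ℤ) ^ n • (e - f.1) := by
        intro n
        induction n with
        | zero => simp
        | succ n ih =>
          rw [pow_succ, ← mul_assoc, ih, smul_mul_assoc, hg, pow_succ, mul_smul, neg_one_zsmul]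
      have h0 := hpow N
      rw [hnil, mul_zero] at h0
      have h1 : e - f.1 = 0 := by
        rcases neg_one_pow_eq_or ℤ N with h | h <;> rw [h] at h0
        · rw [one_smul] at h0; exact h0.symm
        · rw [neg_one_zsmul] at h0; exact neg_eq_zero.1 h0.symm
      exact Subtype.ext (sub_eq_zero.1 h1).symm
    · left
      have hg : f.1 * (f.1 - c' • e) = (1 - c') • f.1 := by
        rw [mul_sub, hff', mul_smul_comm, hfe.2, sub_smul, one_smul]
      have hpow : ∀ n : ℕ, f.1 * (f.1 - c' • e) ^ n = (1 - c') ^ n • f.1 := by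
        intro n
        induction n with
        | zero => simp
        | succ n ih => rw [pow_succ, ← mul_assoc, ih, smul_mul_assoc, hg, smul_smul, pow_succ]
      have h0 := hpow N
      rw [hnil, mul_zero] at h0
      refine Subtype.ext ?_
      exact (smul_eq_zero.1 h0.symm).resolve_left (pow_ne_zero _ (sub_ne_zero.2 (Ne.symm hc1)))
  obtain ⟨n, hn⟩ := TwoDimCenter.finrank_eq_two_mul_sq s (fun a b => hsymG a.1 b.1) hnd hcen hloc
  refine ⟨n, ?_⟩
  rw [← hn]
  apply Nat.cast_injective (R := ℂ)
  rw [hdimA, finsum_mem_eq_finite_toFinset_sum _ (Set.toFinite B),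
    finsum_mem_eq_finite_toFinset_sum _ (Set.toFinite B), Nat.cast_sum]
  simp only [Nat.cast_pow]

/-- **Brandt.** A block with exactly two irreducible characters has a defect group of order two. -/
theorem card_defectGroup_of_card_eq_two (hM : IsPModular p M) {B : Set (IrrCharacter G)}
    (hB : IsPBlock M B) {D : Subgroup G} (hD : IsDefectGroup p M B D) (hk : Nat.card B = 2) :
    Nat.card D = 2 := by
  classical
  obtain ⟨hle, h01, h0⟩ := BlockHeights.blockRank_defect_zero hM hB
  have hd : blockDefect p B ≠ 0 := fun h => by have := (h01.1 h).1; omega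
  have hl : blockRank p B = 1 := by
    have h1 := BlockHeights.blockRank_pos hM hB
    have h2 : Nat.card B ≠ blockRank p B := fun h => hd (h0.2 h)
    omega
  obtain ⟨φ, d, ⟨m, hm⟩, hval, hsum⟩ := BlockHeights.rank_one_data hM hB hD hl
  obtain ⟨n, hn⟩ := exists_two_mul_sq hM hB hk
  obtain ⟨χ₁, χ₂, hne, hset⟩ : ∃ χ₁ χ₂ : IrrCharacter G, χ₁ ≠ χ₂ ∧ B = {χ₁, χ₂} :=
    Set.ncard_eq_two.1 (by rw [← Nat.card_coe_set_eq]; exact hk)
  have hcard := IsDefectGroup.card_eq hM hB hD
  rw [hset, finsum_mem_pair hne] at hsum hn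
  have h1 : χ₁ ∈ B := hset ▸ Set.mem_insert _ _
  have h2 : χ₂ ∈ B := hset ▸ Set.mem_insert_of_mem _ rfl
  set a := charDegree (χ₁ : G → ℂ) with ha
  set b := charDegree (χ₂ : G → ℂ) with hb
  have hab : a * d χ₂ = b * d χ₁ := by
    have e1 := hval χ₁ h1 1 (BlockHeights.isPRegular_one hM.1)
    have e2 := hval χ₂ h2 1 (BlockHeights.isPRegular_one hM.1)
    rw [BlockHeights.irr_apply_one χ₁] at e1
    rw [BlockHeights.irr_apply_one χ₂] at e2
    have : ((a * d χ₂ : ℕ) : ℂ) = ((b * d χ₁ : ℕ) : ℂ) := by push_cast; rw [ha, hb, e1, e2]; ring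
    exact_mod_cast this
  have hapos : 0 < a := BlockHeights.charDegree_irr_pos χ₁
  have hbpos : 0 < b := BlockHeights.charDegree_irr_pos χ₂
  have hd1 : d χ₁ ≠ 0 := fun h => by
    rw [h, mul_zero] at hab
    rw [h, (mul_eq_zero.1 hab).resolve_left hapos.ne', hcard] at hsum
    simp at hsum
    exact absurd hsum.symm (pow_ne_zero _ hM.1.ne_zero)
  have hd2 : d χ₂ ≠ 0 := fun h => by
    rw [h, mul_zero] at hab
    exact hd1 ((mul_eq_zero.1 hab.symm).resolve_left hbpos.ne')
  rw [hcard] at hsum ⊢
  have key : 2 * (n * d χ₁) ^ 2 = p ^ blockDefect p B * a ^ 2 := by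
    rw [← hsum]
    calc 2 * (n * d χ₁) ^ 2 = (2 * n ^ 2) * d χ₁ ^ 2 := by ring
      _ = (a ^ 2 + b ^ 2) * d χ₁ ^ 2 := by rw [hn]
      _ = a ^ 2 * d χ₁ ^ 2 + (b * d χ₁) ^ 2 := by ring
      _ = a ^ 2 * d χ₁ ^ 2 + (a * d χ₂) ^ 2 := by rw [hab]
      _ = _ := by ring
  have hn0 : n ≠ 0 := fun h => by
    rw [h] at hn
    have : 0 < a ^ 2 := by positivity
    omega
  have h2v := congrArg (fun m => m.factorization 2) key
  simp only [Nat.factorization_mul (pow_ne_zero _ hM.1.ne_zero) (pow_ne_zero _ hapos.ne'),
    Nat.factorization_mul two_ne_zero (pow_ne_zero _ (mul_ne_zero hn0 hd1)),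
    Nat.factorization_pow, Finsupp.coe_add, Finsupp.coe_smul, Pi.add_apply, Pi.smul_apply,
    smul_eq_mul, Nat.prime_two.factorization_self] at h2v
  have hp2 : p = 2 := by
    by_contra hne2
    rw [hM.1.factorization, Finsupp.single_eq_of_ne (Ne.symm hne2)] at h2v
    omega
  subst hp2
  rw [Nat.prime_two.factorization_self] at h2v
  set t := blockDefect 2 B with ht
  -- two squares summing to an odd power of two
  by_contra hne'
  have ht3 : 3 ≤ t := by
    rcases (show t = 1 ∨ t = 2 ∨ 3 ≤ t by omega) with h | h | h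
    · rw [h] at hne'; simp at hne'
    · omega
    · exact h
  have h8 : 8 ∣ d χ₁ ^ 2 + d χ₂ ^ 2 := by
    rw [hsum]; exact pow_dvd_pow 2 ht3
  have heven : ∀ x y : ℕ, 8 ∣ x ^ 2 + y ^ 2 → 2 ∣ x ∧ 2 ∣ y := by
    intro x y h
    have h' : (x % 8) ^ 2 % 8 = x ^ 2 % 8 := (Nat.pow_mod x 2 8).symm
    have h'' : (y % 8) ^ 2 % 8 = y ^ 2 % 8 := (Nat.pow_mod y 2 8).symm
    have hx := Nat.mod_lt x (show 8 > 0 by norm_num)
    have hy := Nat.mod_lt y (show 8 > 0 by norm_num)
    interval_cases hx8 : x % 8 <;> interval_cases hy8 : y % 8 <;> omega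
  obtain ⟨⟨u, hu⟩, ⟨v, hv⟩⟩ := heven _ _ h8
  have hφ1 : φ 1 ≠ 0 := fun h => by
    have := hval χ₁ h1 1 (BlockHeights.isPRegular_one hM.1)
    rw [h, mul_zero] at this
    exact IsIrrCharacter.apply_one_ne_zero χ₁.2 this
  have hbez := hm 1 (BlockHeights.isPRegular_one hM.1)
  rw [hset, finsum_mem_pair hne, hval χ₁ h1 1 (BlockHeights.isPRegular_one hM.1),
    hval χ₂ h2 1 (BlockHeights.isPRegular_one hM.1), hu, hv] at hbez
  have : ((1 : ℤ) : ℂ) = ((2 * (m χ₁ * u + m χ₂ * v) : ℤ) : ℂ) := by
    apply mul_right_cancel₀ hφ1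
    push_cast at hbez ⊢
    linear_combination hbez
  have h12 : (1 : ℤ) = 2 * (m χ₁ * u + m χ₂ * v) := by exact_mod_cast this
  omega

end Cfsg.Agent.Lib.Blocks
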