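import Cfsg.Agent.Lib.Blocks.DefectTwoBound
import Cfsg.Agent.Lib.BlockHeights.PositiveHeight

/-!
# The number of characters of a block in terms of the defect

`k ≤ p ^ d` for `d ≤ 2` and `k ≤ p ^ (2 * d - 2)` beyond.
-/

set_option autoImplicit false
set_option linter.unusedSectionVars false
set_option linter.style.haveILetI false
set_option maxHeartbeats 1600000

namespace Cfsg.Agent.Lib.Blocks

open Cfsg Cfsg.Agent.Lib.Characters Cfsg.Agent.Lib.BlockHeights Cfsg.Agent.Lib.BrauerPairs
open scoped ComplexConjugate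

universe u

variable {G : Type u} [Group G] [Fintype G] {M : Ideal AlgInt} [hMp : M.IsPrime] {p : ℕ}

/-- **Brauer, Robinson.** Pairs of contributions at a major subsection. -/
theorem height_pairs_le (hM : IsPModular p M) {C : Subgroup G} [Fintype C] {x : G}
    (hC : ∀ g, g ∈ C ↔ Commute x g) (hx : ∃ k : ℕ, orderOf x = p ^ k)
    {e : Set (IrrCharacter C)} {B : Set (IrrCharacter G)} (hind : IsInducedBlock M C e B)
    (hd : blockDefect p e = blockDefect p B) :
    Nat.card {χ : IrrCharacter G // χ ∈ B ∧ blockHeight p B (χ : G → ℂ) = 0} *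
        (Nat.card {χ : IrrCharacter G // χ ∈ B ∧ blockHeight p B (χ : G → ℂ) = 0} +
          4 * Nat.card {χ : IrrCharacter G // χ ∈ B ∧ blockHeight p B (χ : G → ℂ) ≠ 0}) ≤
      p ^ (2 * blockDefect p B) * blockRank p e := by
  classical
  haveI := Fact.mk hM.1
  haveI := Fintype.ofFinite (IrrCharacter G)
  haveI := Fintype.ofFinite (IrrCharacter C)
  haveI : Fintype {χ // χ ∈ B} := Fintype.ofFinite _
  haveI : Fintype {η // η ∈ e} := Fintype.ofFinite _
  obtain ⟨k, hk⟩ := id hx
  have hxC : x ∈ C := (hC x).2 (Commute.refl x)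
  have hN : 0 < p ^ k := pow_pos hM.1.pos k
  haveI : NeZero (p ^ k) := ⟨hN.ne'⟩
  obtain ⟨ζ, hζ⟩ : ∃ ζ : ℂ, IsPrimitiveRoot ζ (p ^ k) := ⟨_, Complex.isPrimitiveRoot_exp _ hN.ne'⟩
  have hxk : x ^ p ^ k = 1 := by rw [← hk, pow_orderOf_eq_one]
  choose em hem1 hem2 using fun η : IrrCharacter C =>
    hζ.eq_pow_of_pow_eq_one (centralRoot_pow hC hxC η hxk)
  choose mult hmult using fun (χ : {χ // χ ∈ B}) (η : IrrCharacter C) =>
    exists_resMult_nat (C := C) χ.1 η
  have hconjζ : conj ζ * ζ = 1 := by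
    rw [mul_comm, Complex.mul_conj', Complex.norm_eq_one_of_pow_eq_one hζ.pow_eq_one hN.ne']
    norm_num
  set n : IrrCharacter C × IrrCharacter C → Fin (p ^ k) := fun q =>
    ⟨(em q.1 + (p ^ k - em q.2)) % p ^ k, Nat.mod_lt _ hN⟩ with hn
  set c : {χ // χ ∈ B} → {χ // χ ∈ B} → Fin (p ^ k) → ℤ := fun χ ψ j =>
    ∑ q : IrrCharacter C × IrrCharacter C,
      if n q = j then (mult χ q.1 : ℤ) * mult ψ q.2 * contribCoef p e q.1 q.2 else 0 with hc
  have hCu : ∀ u ∈ unitExps (p ^ k), ∀ g, g ∈ C ↔ Commute (x ^ u) g := by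
    intro u hu g
    have hcop : Nat.Coprime u (orderOf x) := by rw [hk]; exact (Finset.mem_filter.1 hu).2
    obtain ⟨w, hw⟩ := exists_pow_eq_self_of_coprime hcop
    refine ⟨fun h => ((hC g).1 h).pow_left u, fun h => (hC g).2 ?_⟩
    have := h.pow_left w
    rwa [hw] at this
  have heval : ∀ (u : ℕ), (∀ g, g ∈ C ↔ Commute (x ^ u) g) → ∀ χ ψ,
      contrib p (x ^ u) e χ.1 ψ.1 = evalPow ζ (c χ ψ) u := by
    intro u hu χ ψ
    rw [contrib_eq hM hu (pow_mem hxC _) hind.1]
    simp only [evalPow, hc, Int.cast_sum, Finset.sum_mul]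
    conv_rhs => rw [Finset.sum_comm, Fintype.sum_prod_type]
    refine Finset.sum_congr rfl fun η _ => Finset.sum_congr rfl fun η' _ => ?_
    simp only [Int.cast_ite, Int.cast_zero, ite_mul, zero_mul, Finset.sum_ite_eq, Finset.mem_univ,
      if_true, Int.cast_mul, Int.cast_natCast]
    rw [centralRoot_apply_pow hC hxC η, centralRoot_apply_pow hC hxC η', map_pow, ← mul_pow,
      ← hem2 η, ← hem2 η', hmult χ η, hmult ψ η']
    have hroot : ζ ^ em η * conj (ζ ^ em η') = ζ ^ (n (η, η') : ℕ) := by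
      have h2 : conj (ζ ^ em η') * ζ ^ em η' = 1 := by rw [map_pow, ← mul_pow, hconjζ, one_pow]
      have : conj (ζ ^ em η') = ζ ^ (p ^ k - em η') :=
        calc conj (ζ ^ em η') = conj (ζ ^ em η') * (ζ ^ em η' * ζ ^ (p ^ k - em η')) := by
              rw [← pow_add, Nat.add_sub_cancel' (hem1 η').le, hζ.pow_eq_one, mul_one]
          _ = _ := by rw [← mul_assoc, h2, one_mul]
      rw [this, ← pow_add]
      conv_lhs => rw [← Nat.mod_add_div (em η + (p ^ k - em η')) (p ^ k), pow_add, pow_mul,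
        hζ.pow_eq_one, one_pow, mul_one]
    rw [hroot, ← pow_mul, mul_comm u]
    ring
  have hone : ∀ χ ψ, contrib p x e χ.1 ψ.1 = evalPow ζ (c χ ψ) 1 := fun χ ψ => by
    have h := heval 1 (by simpa using hC) χ ψ
    rwa [pow_one] at h
  set Hs : {χ // χ ∈ B} → Prop := fun χ => blockHeight p B (χ.1 : G → ℂ) = 0 with hHs
  set t : ℝ := ((unitExps (p ^ k)).card : ℝ) with ht
  set W : {χ // χ ∈ B} → {χ // χ ∈ B} → ℝ := fun χ ψ =>
    if Hs χ then (if Hs ψ then 1 else 2) else (if Hs ψ then 2 else 0) with hW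
  have hlow : ∀ χ ψ, W χ ψ * t ≤
      ∑ u ∈ unitExps (p ^ k), Complex.normSq (evalPow ζ (c χ ψ) u) := by
    intro χ ψ
    have key : ∀ φ ξ : {χ // χ ∈ B}, Hs ξ →
        (if Hs φ then (1 : ℝ) else 2) * t ≤
          ∑ u ∈ unitExps (p ^ k), Complex.normSq (evalPow ζ (c φ ξ) u) := by
      intro φ ξ hξ
      obtain ⟨hne, hsm⟩ := contrib_height hM hC hx hind hd φ.2 ξ.2 hξ
      rw [hone] at hne hsm
      obtain ⟨h1, h2⟩ := weight_evalPow hM.1 hM hζ (c φ ξ) hne
      split_ifs with h
      · rw [one_mul]; exact h1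
      · exact h2 (hsm h)
    have hswap : ∑ u ∈ unitExps (p ^ k), Complex.normSq (evalPow ζ (c χ ψ) u) =
        ∑ u ∈ unitExps (p ^ k), Complex.normSq (evalPow ζ (c ψ χ) u) := by
      refine Finset.sum_congr rfl fun u hu => ?_
      rw [← heval u (hCu u hu), ← heval u (hCu u hu), ← Complex.normSq_conj]
      congr 1
      simp only [contrib, map_mul, map_pow, map_natCast, classInner_conj_symm]
    by_cases hψ : Hs ψ
    · have h := key χ ψ hψ
      simp only [hW, if_pos hψ]
      exact h
    · by_cases hχ : Hs χ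
      · have h := key ψ χ hχ
        rw [if_neg hψ, ← hswap] at h
        simp only [hW, if_pos hχ, if_neg hψ]
        exact h
      · simp only [hW, if_neg hχ, if_neg hψ, zero_mul]
        exact Finset.sum_nonneg fun _ _ => Complex.normSq_nonneg _
  have htot : ∀ u ∈ unitExps (p ^ k), ∑ χ, ∑ ψ, Complex.normSq (evalPow ζ (c χ ψ) u) =
      ((p ^ (2 * blockDefect p B) * blockRank p e : ℕ) : ℝ) := by
    intro u hu
    have hpow : ∃ k' : ℕ, orderOf (x ^ u) = p ^ k' := by
      obtain ⟨m', -, hm'⟩ := (Nat.dvd_prime_pow hM.1).1 (hk ▸ orderOf_pow_dvd u)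
      exact ⟨m', hm'⟩
    have hkernel : ∀ s t, ∑ i : {χ // χ ∈ B}, sect p (x ^ u) e (i.1 : G → ℂ) s *
        conj (sect p (x ^ u) e (i.1 : G → ℂ) t) = ∑ j : {η // η ∈ e},
          pRegularPart p (j.1 : C → ℂ) s * conj (pRegularPart p (j.1 : C → ℂ) t) := fun s t => by
      have h1 := sum_sect_block hM (hCu u hu) hpow hind s t
      rw [finsum_irr_eq_sum_ite, ← Finset.sum_filter, ← Finset.sum_filter] at h1
      rw [Finset.sum_subtype (p := (· ∈ B)) _ (fun x => by simp)
        (fun χ => sect p (x ^ u) e (χ : G → ℂ) s * conj (sect p (x ^ u) e (χ : G → ℂ) t)),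
        Finset.sum_subtype (p := (· ∈ e)) _ (fun x => by simp)
        (fun η => pRegularPart p (η : C → ℂ) s * conj (pRegularPart p (η : C → ℂ) t))] at h1
      exact h1
    apply Complex.ofReal_injective
    simp only [Complex.ofReal_sum, ← Complex.mul_conj, ← heval u (hCu u hu), contrib, hd]
    have h1 : ∀ z : ℂ, (p : ℂ) ^ blockDefect p B * z * conj ((p : ℂ) ^ blockDefect p B * z) =
        (p : ℂ) ^ (2 * blockDefect p B) * (z * conj z) := fun z => by
      rw [map_mul, map_pow, map_natCast, two_mul, pow_add]; ring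
    simp only [h1, ← Finset.mul_sum]
    rw [sum_classInner_sq_eq _ _ hkernel]
    push_cast
    congr 1
    rw [blockRank_eq_sum_regInner hM hind.1]
    refine Finset.sum_congr rfl fun j _ => ?_
    have h2 := classInner_eq_sum_irr (isClassFunction_pRegularPart p (irr_isClassFunction j.1))
      (isClassFunction_pRegularPart p (irr_isClassFunction j.1))
    rw [← regInner_self_right] at h2
    rw [h2, ← Finset.sum_subset (Finset.subset_univ (Finset.univ.filter (· ∈ e))) fun ψ _ hψ => by
      rw [show classInner (pRegularPart p (j.1 : C → ℂ)) (ψ : C → ℂ) = 0 from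
        regInner_eq_zero hM hind.1 j.2 (by simpa using hψ), zero_mul],
      Finset.sum_subtype (p := (· ∈ e)) _ (fun x => by simp)
      (fun ψ => classInner (pRegularPart p (j.1 : C → ℂ)) (ψ : C → ℂ) *
        conj (classInner (pRegularPart p (j.1 : C → ℂ)) (ψ : C → ℂ)))]
    exact Finset.sum_congr rfl fun j' _ => by rw [← regInner_self_right, regInner]
  have ht0 : 0 < t := by
    rw [ht]
    refine Nat.cast_pos.2 (Finset.card_pos.2 ?_)
    rcases k with _ | a
    · rw [pow_zero, unitExps_one]; exact Finset.singleton_nonempty 0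
    · exact ⟨1, by rw [unitExps, Finset.mem_filter, Finset.mem_range]
                   exact ⟨Nat.one_lt_pow a.succ_ne_zero hM.1.one_lt, Nat.coprime_one_left _⟩⟩
  have h1 := Finset.sum_le_sum fun χ (_ : χ ∈ (Finset.univ : Finset {χ // χ ∈ B})) =>
    Finset.sum_le_sum fun ψ (_ : ψ ∈ (Finset.univ : Finset {χ // χ ∈ B})) => hlow χ ψ
  rw [Finset.sum_congr rfl fun χ _ => Finset.sum_comm (s := Finset.univ) (t := unitExps (p ^ k)),
    Finset.sum_comm (s := Finset.univ) (t := unitExps (p ^ k)), Finset.sum_congr rfl htot,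
    Finset.sum_const, nsmul_eq_mul, mul_comm ((unitExps (p ^ k)).card : ℝ)] at h1
  simp only [← Finset.sum_mul] at h1
  have h2 := le_of_mul_le_mul_right h1 ht0
  set k0 := (Finset.univ.filter fun χ : {χ // χ ∈ B} => Hs χ).card with hk0
  set k1 := (Finset.univ.filter fun χ : {χ // χ ∈ B} => ¬ Hs χ).card with hk1
  have hsumW : ∑ χ, ∑ ψ, W χ ψ = (k0 : ℝ) * ((k0 : ℝ) + 4 * k1) := by
    have hite : ∀ a b : ℝ, ∑ χ, (if Hs χ then a else b) = (k0 : ℝ) * a + (k1 : ℝ) * b := fun a b => by
      rw [← Finset.sum_filter_add_sum_filter_not Finset.univ Hs,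
        Finset.sum_congr rfl fun χ hχ => if_pos (Finset.mem_filter.1 hχ).2,
        Finset.sum_congr rfl fun χ hχ => if_neg (Finset.mem_filter.1 hχ).2,
        Finset.sum_const, Finset.sum_const, nsmul_eq_mul, nsmul_eq_mul]
    have hrow : ∀ χ, ∑ ψ, W χ ψ = if Hs χ then (k0 : ℝ) + 2 * k1 else 2 * k0 := fun χ => by
      simp only [hW]
      by_cases h : Hs χ
      · simp only [if_pos h]; rw [hite]; ring
      · simp only [if_neg h]; rw [hite]; ring
    simp only [hrow]
    rw [hite]
    ring
  rw [hsumW] at h2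
  have e0 : Nat.card {χ : IrrCharacter G // χ ∈ B ∧ blockHeight p B (χ : G → ℂ) = 0} = k0 := by
    rw [hk0, ← Fintype.card_subtype, ← Nat.card_eq_fintype_card]
    exact Nat.card_congr (Equiv.subtypeSubtypeEquivSubtypeInter _ _).symm
  have e1 : Nat.card {χ : IrrCharacter G // χ ∈ B ∧ blockHeight p B (χ : G → ℂ) ≠ 0} = k1 := by
    rw [hk1, ← Fintype.card_subtype, ← Nat.card_eq_fintype_card]
    exact Nat.card_congr (Equiv.subtypeSubtypeEquivSubtypeInter _ _).symm
  rw [e0, e1]
  exact_mod_cast h2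

/-- Central elements of order `p` in a defect group. -/
theorem exists_central_order_p (hM : IsPModular p M) {B : Set (IrrCharacter G)}
    (hB : IsPBlock M B) {D : Subgroup G} (hD : IsDefectGroup p M B D)
    (hd : blockDefect p B ≠ 0) :
    ∃ x ∈ D, (∀ g ∈ D, g * x = x * g) ∧ orderOf x = p := by
  haveI := Fact.mk hM.1
  haveI : Nontrivial D := Finite.one_lt_card_iff_nontrivial.1
    ((card_isDefectGroup hM hB hD).symm ▸ Nat.one_lt_pow hd hM.1.one_lt)
  haveI := IsPGroup.center_nontrivial (IsDefectGroup.isPGroup hD)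
  have hpd : p ∣ Nat.card (Subgroup.center D) := by
    obtain ⟨n, hn, hn'⟩ := ((IsDefectGroup.isPGroup hD).to_subgroup _).nontrivial_iff_card.1
      (inferInstance : Nontrivial (Subgroup.center D))
    rw [hn']
    exact dvd_pow_self p hn.ne'
  obtain ⟨⟨⟨x, hxD⟩, hz⟩, hzo⟩ := exists_prime_orderOf_dvd_card' p hpd
  rw [Subgroup.orderOf_mk, Subgroup.orderOf_mk] at hzo
  exact ⟨x, hxD, fun g hg => congrArg Subtype.val (Subgroup.mem_center_iff.1 hz ⟨g, hg⟩), hzo⟩

theorem card_bound_arith {k0 k1 A : ℕ} (h1 : k0 * (k0 + 4 * k1) ≤ A * A) (h2 : 4 * k1 ≤ A) :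
    k0 + k1 ≤ A := by
  rcases le_or_gt k1 (2 * k0) with h | h
  · refine Nat.mul_self_le_mul_self_iff.1 ?_
    nlinarith [Nat.mul_le_mul_left k1 h]
  · omega

/-- **The bound by the defect.** -/
theorem card_block_le_pow (hM : IsPModular p M) :
    ∀ (d : ℕ) {G : Type u} [Group G] [Fintype G] {B : Set (IrrCharacter G)},
      IsPBlock M B → blockDefect p B = d →
      (d ≤ 2 → Nat.card B ≤ p ^ d) ∧ (3 ≤ d → Nat.card B ≤ p ^ (2 * d - 2)) := by
  intro d
  induction d using Nat.strong_induction_on with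
  | _ d ih =>
    intro G _ _ B hB hd
    classical
    haveI := Fact.mk hM.1
    rcases Nat.lt_or_ge d 2 with hd2 | hd2
    · refine ⟨fun _ => ?_, fun h => absurd h (by omega)⟩
      by_cases hd0 : d = 0
      · rw [((blockRank_defect_zero hM hB).2.1.1 (hd.trans hd0)).1, hd0, pow_zero]
      obtain ⟨D, hD⟩ := exists_isDefectGroup hM hB
      obtain ⟨x, hxD, hxc, hxo⟩ := exists_central_order_p hM hB hD (hd ▸ hd0)
      obtain ⟨e, D', hind, hD', hde, hD'card⟩ := exists_major_subsection hM hB hD hxD hxc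
      haveI := Fintype.ofFinite (Subgroup.centralizer (Subgroup.zpowers x : Set G))
      have hC : ∀ g, g ∈ Subgroup.centralizer (Subgroup.zpowers x : Set G) ↔ Commute x g :=
        fun g => mem_centralizer_zpowers_iff
      have hxC := (hC x).2 (Commute.refl x)
      set z : Subgroup.centralizer (Subgroup.zpowers x : Set G) := ⟨x, hxC⟩ with hz
      have hzc : Subgroup.zpowers z ≤ Subgroup.center _ := Subgroup.zpowers_le.2
        (Subgroup.mem_center_iff.2 fun g => Subtype.ext ((hC g.1).1 g.2).eq.symm)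
      haveI : (Subgroup.zpowers z).Normal := ⟨fun n hn g => by
        rw [Subgroup.mem_center_iff.1 (hzc hn) g, mul_inv_cancel_right]; exact hn⟩
      have hzo : orderOf z = p := by rw [hz, Subgroup.orderOf_mk, hxo]
      have hle : Subgroup.zpowers z ≤ D' := le_of_isDefectGroup hM
        (IsPGroup.of_card (n := 1) (by rw [Nat.card_zpowers, hzo, pow_one])) hind.1 hD'
      have hD'z : D' ≤ Subgroup.center _ := by
        rw [← Subgroup.eq_of_le_of_card_ge hle (by
          rw [hD'card, Nat.card_zpowers, hzo, hd, show d = 1 by omega, pow_one])]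
        exact hzc
      have h := card_block_le_of_major hM hC ⟨1, by rw [pow_one, hxo]⟩ hind hde
        (by rw [blockRank_eq_one_of_central hM hind.1 hD' hD'z]; norm_num)
      rwa [hd] at h
    · by_cases hd3 : d = 2
      · subst hd3
        exact ⟨fun _ => card_block_le_sq hM hB hd, fun h => absurd h (by omega)⟩
      have hd3' : 3 ≤ d := by omega
      refine ⟨fun h => absurd h (by omega), fun _ => ?_⟩
      obtain ⟨D, hD⟩ := exists_isDefectGroup hM hB
      obtain ⟨x, hxD, hxc, hxo⟩ := exists_central_order_p hM hB hD (by omega)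
      obtain ⟨e, D', hind, hD', hde, hD'card⟩ := exists_major_subsection hM hB hD hxD hxc
      haveI := Fintype.ofFinite (Subgroup.centralizer (Subgroup.zpowers x : Set G))
      have hC : ∀ g, g ∈ Subgroup.centralizer (Subgroup.zpowers x : Set G) ↔ Commute x g :=
        fun g => mem_centralizer_zpowers_iff
      have hxC := (hC x).2 (Commute.refl x)
      set K : Subgroup (Subgroup.centralizer (Subgroup.zpowers x : Set G)) :=
        Subgroup.zpowers ⟨x, hxC⟩ with hK
      have hKZ : K ≤ Subgroup.center _ := Subgroup.zpowers_le.2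
        (Subgroup.mem_center_iff.2 fun g => Subtype.ext ((hC g.1).1 g.2).eq.symm)
      haveI : K.Normal := ⟨fun n hn g => by
        rw [Subgroup.mem_center_iff.1 (hKZ hn) g, mul_inv_cancel_right]; exact hn⟩
      have hKcard : Nat.card K = p := by rw [hK, Nat.card_zpowers, Subgroup.orderOf_mk, hxo]
      have hKp : IsPGroup p K := IsPGroup.of_card (n := 1) (by rw [hKcard, pow_one])
      haveI := Fintype.ofFinite (Subgroup.centralizer (Subgroup.zpowers x : Set G) ⧸ K)
      obtain ⟨eb, heb, hinfl, hdef⟩ := exists_block_image_defect hM hKp hind.1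
      have hdeb : blockDefect p eb = d - 1 := by
        have h : Nat.card (K.subgroupOf D') * K.relIndex D' = Nat.card D' :=
          (K.subgroupOf D').card_mul_index
        rw [Nat.card_congr (Subgroup.subgroupOfEquivOfLe
          (le_of_isDefectGroup hM hKp hind.1 hD')).toEquiv, hKcard, hD'card, hd] at h
        have h2 : Nat.card (D'.map (QuotientGroup.mk' K)) = K.relIndex D' := by
          rw [← Subgroup.relIndex_ker (f := QuotientGroup.mk' K), QuotientGroup.ker_mk']
        have h3 := card_isDefectGroup hM heb ((hdef _).2 ⟨D', hD', rfl⟩)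
        rw [h2] at h3
        rw [h3, ← pow_succ'] at h
        have := Nat.pow_right_injective hM.1.two_le h
        omega
      have hl : blockRank p e ≤ p ^ (2 * d - 4) := by
        refine le_trans (blockRank_le_quotient hM K hKp hKZ hind.1 heb hinfl)
          (le_trans (blockRank_le_card hM heb) ?_)
        obtain ⟨ha, hb⟩ := ih (d - 1) (by omega) heb hdeb
        by_cases hd4 : d = 3
        · subst hd4; exact ha le_rfl
        · exact le_trans (hb (by omega)) (Nat.pow_le_pow_right hM.1.pos (by omega))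
      have hpairs := height_pairs_le hM hC ⟨1, by rw [pow_one, hxo]⟩ hind hde
      rw [hd] at hpairs
      haveI : Fintype {χ // χ ∈ B} := Fintype.ofFinite _
      set k0 := Nat.card {χ : IrrCharacter G // χ ∈ B ∧ blockHeight p B (χ : G → ℂ) = 0} with hk0
      set k1 := Nat.card {χ : IrrCharacter G // χ ∈ B ∧ blockHeight p B (χ : G → ℂ) ≠ 0} with hk1
      have hA : p ^ (2 * d) * p ^ (2 * d - 4) = p ^ (2 * d - 2) * p ^ (2 * d - 2) := by
        rw [← pow_add, ← pow_add]; congr 1; omega
      have hk : Nat.card B = k0 + k1 := by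
        rw [hk0, hk1, Nat.card_congr (Equiv.subtypeSubtypeEquivSubtypeInter _ _).symm,
          Nat.card_congr (Equiv.subtypeSubtypeEquivSubtypeInter _ _).symm, ← Nat.card_sum]
        exact (Nat.card_congr (Equiv.sumCompl _)).symm
      have hbf := four_mul_sum_height_le hM hB
      have hweight : k0 + p ^ 2 * k1 ≤ ∑ᶠ χ ∈ B, p ^ (2 * blockHeight p B (χ : G → ℂ)) := by
        rw [← finsum_set_coe_eq_finsum_mem, finsum_eq_sum_of_fintype,
          ← Finset.sum_filter_add_sum_filter_not Finset.univ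
            (fun χ : {χ // χ ∈ B} => blockHeight p B (χ.1 : G → ℂ) = 0), hk0, hk1,
          Nat.card_congr (Equiv.subtypeSubtypeEquivSubtypeInter _ _).symm,
          Nat.card_congr (Equiv.subtypeSubtypeEquivSubtypeInter _ _).symm,
          Nat.card_eq_fintype_card, Nat.card_eq_fintype_card, Fintype.card_subtype,
          Fintype.card_subtype, mul_comm (p ^ 2)]
        refine add_le_add (le_of_eq ?_) ?_
        · rw [Finset.card_eq_sum_ones]
          exact Finset.sum_congr rfl fun χ hχ => by rw [(Finset.mem_filter.1 hχ).2, mul_zero, pow_zero]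
        · rw [← smul_eq_mul, ← Finset.sum_const]
          refine Finset.sum_le_sum fun χ hχ => Nat.pow_le_pow_right hM.1.pos ?_
          have := (Finset.mem_filter.1 hχ).2
          omega
      have hk0pos : 1 ≤ k0 := by
        obtain ⟨ψ, hψ, hmin⟩ := exists_nu_eq_minExp (p := p) (IsPBlock.nonempty hB)
        have hψ0 : blockHeight p B (ψ : G → ℂ) = 0 := by
          have := minExp_add_blockHeight (p := p) hψ; omega
        haveI : Nonempty {χ : IrrCharacter G // χ ∈ B ∧ blockHeight p B (χ : G → ℂ) = 0} :=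
          ⟨⟨ψ, hψ, hψ0⟩⟩
        exact Nat.card_pos
      rw [hk]
      refine card_bound_arith (hA ▸ hpairs.trans (Nat.mul_le_mul_left _ hl)) ?_
      rw [hd] at hbf
      have he : p ^ (2 * d) = p ^ 2 * p ^ (2 * d - 2) := by rw [← pow_add]; congr 1; omega
      refine Nat.le_of_mul_le_mul_left ?_ (pow_pos hM.1.pos 2)
      rw [← he, show p ^ 2 * (4 * k1) = 4 * (p ^ 2 * k1) by ring]
      omega

end Cfsg.Agent.Lib.Blocks
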