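import Cfsg.Agent.Lib.Blocks.LocalRing
import Cfsg.Agent.Lib.Characters

/-!
# Class functions under convolution and central characters

For a class function `f` the scalar by which `∑ f x • x` acts on the module of `χ` is
`omega χ f`.  These functionals are multiplicative for the convolution `conv`, separate class
functions, and on class indicators give `centralChar`.
-/

set_option autoImplicit false
set_option linter.unusedSectionVars false
set_option linter.style.haveILetI false

namespace Cfsg.Agent.Lib.Blocks

open Cfsg Cfsg.Agent.Lib.Characters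
open scoped ComplexConjugate

universe u

variable {G : Type u} [Group G] [Fintype G]

/-- The central character of `χ` evaluated at the class function `f`. -/
noncomputable def omega (χ f : G → ℂ) : ℂ := (∑ x, f x * χ x) / χ 1

/-- Convolution of functions on `G`. -/
noncomputable def conv (f f' : G → ℂ) : G → ℂ := fun y => ∑ x, f x * f' (x⁻¹ * y)

/-- The unit of convolution. -/
noncomputable def deltaOne : G → ℂ := classIndicator (1 : G)

theorem deltaOne_apply [DecidableEq G] (x : G) : (deltaOne : G → ℂ) x = if x = 1 then 1 else 0 := by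
  unfold deltaOne classIndicator
  simp only [isConj_one_right]

theorem deltaOne_conv (f : G → ℂ) : conv deltaOne f = f := by
  classical
  funext y
  simp [conv, deltaOne_apply]

theorem isClassFunction_deltaOne : IsClassFunction G (deltaOne : G → ℂ) :=
  isClassFunction_classIndicator 1

theorem isClassFunction_conv {f f' : G → ℂ} (hf : IsClassFunction G f)
    (hf' : IsClassFunction G f') : IsClassFunction G (conv f f') := by
  intro g h
  simp only [conv]
  rw [← Equiv.sum_comp (MulAut.conj h).toEquiv]
  refine Finset.sum_congr rfl fun x _ => ?_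
  simp only [MulEquiv.toEquiv_eq_coe, MulEquiv.coe_toEquiv, MulAut.conj_apply, hf x h]
  rw [show (h * x * h⁻¹)⁻¹ * (h * g * h⁻¹) = h * (x⁻¹ * g) * h⁻¹ by group, hf' _ h]

theorem classFunction_conj {f : G → ℂ} (hf : IsClassFunction G f) {a b : G} (h : IsConj a b) :
    f a = f b :=
  IsClassFunction.eq_of_isConj hf h

theorem classFunction_mul_comm {f : G → ℂ} (hf : IsClassFunction G f) (a b : G) :
    f (a * b) = f (b * a) :=
  classFunction_conj hf (isConj_iff.2 ⟨b, by group⟩)

theorem conv_comm {f : G → ℂ} (f' : G → ℂ) (hf : IsClassFunction G f) :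
    conv f f' = conv f' f := by
  funext y
  simp only [conv]
  refine Fintype.sum_equiv ((Equiv.inv G).trans (Equiv.mulRight y)) _ _ fun x => ?_
  simp only [Equiv.trans_apply, Equiv.inv_apply, Equiv.coe_mulRight]
  rw [show (x⁻¹ * y)⁻¹ * y = y⁻¹ * (x * y) by group, classFunction_mul_comm hf y⁻¹ (x * y),
    mul_inv_cancel_right, mul_comm]

/-! ### Schur's lemma -/

/-- Schur's lemma: a class function acts on an irreducible module as `omega`. -/
theorem sum_mul_char_mul {χ f : G → ℂ} (hχ : IsIrrCharacter G χ) (hf : IsClassFunction G f)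
    (z : G) : ∑ x, f x * χ (x * z) = omega χ f * χ z := by
  obtain ⟨n, ρ, hρ, rfl⟩ := hχ
  obtain ⟨c, hc⟩ := exists_smul_of_commute ρ (opSum ρ f) (opSum_comm ρ f hf)
  have hgen : ∀ z, ∑ x, f x * ρ.character (x * z) = c * ρ.character z := by
    intro z
    have h : LinearMap.trace ℂ _ (opSum ρ f * ρ z) = c * ρ.character z := by
      rw [hc, smul_mul_assoc, map_smul, smul_eq_mul]
      rfl
    rw [← h, opSum, Finset.sum_mul, map_sum]
    refine Finset.sum_congr rfl fun x _ => ?_
    rw [smul_mul_assoc, map_smul, smul_eq_mul, ← map_mul]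
    rfl
  have hne : ρ.character 1 ≠ 0 := by
    rw [ρ.char_one]; exact_mod_cast (finrank_pos_of_isIrreducible ρ).ne'
  have hω : omega ρ.character f = c := by
    have := hgen 1
    simp only [mul_one] at this
    rw [omega, this, mul_div_assoc, div_self hne, mul_one]
  rw [hgen, hω]

theorem omega_conv {χ f : G → ℂ} (hχ : IsIrrCharacter G χ) (hf : IsClassFunction G f)
    (f' : G → ℂ) : omega χ (conv f f') = omega χ f * omega χ f' := by
  have h : ∑ y, conv f f' y * χ y = omega χ f * ∑ z, f' z * χ z := by
    simp only [conv, Finset.sum_mul]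
    rw [Finset.sum_comm, Finset.mul_sum]
    have : ∀ x, ∑ y, f x * f' (x⁻¹ * y) * χ y = ∑ z, f x * f' z * χ (x * z) := fun x =>
      Fintype.sum_equiv (Equiv.mulLeft x⁻¹) _ _ fun y => by simp
    simp only [this]
    rw [Finset.sum_comm]
    refine Finset.sum_congr rfl fun z _ => ?_
    rw [mul_left_comm, ← sum_mul_char_mul hχ hf, Finset.mul_sum]
    exact Finset.sum_congr rfl fun x _ => by ring
  rw [omega, h, omega, omega, mul_div_assoc]

theorem omega_add (χ f f' : G → ℂ) : omega χ (f + f') = omega χ f + omega χ f' := by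
  simp [omega, add_mul, Finset.sum_add_distrib, add_div]

theorem omega_sub (χ f f' : G → ℂ) : omega χ (f - f') = omega χ f - omega χ f' := by
  simp [omega, sub_mul, Finset.sum_sub_distrib, sub_div]

theorem omega_smul (χ f : G → ℂ) (c : ℂ) : omega χ (c • f) = c * omega χ f := by
  simp [omega, mul_assoc, ← Finset.mul_sum, mul_div_assoc]

theorem omega_zero (χ : G → ℂ) : omega χ (0 : G → ℂ) = 0 := by simp [omega]

theorem omega_sum {ι : Type*} (s : Finset ι) (χ : G → ℂ) (f : ι → G → ℂ) :
    omega χ (∑ i ∈ s, f i) = ∑ i ∈ s, omega χ (f i) := by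
  classical
  induction s using Finset.induction with
  | empty => simp [omega_zero]
  | insert i s hi ih => rw [Finset.sum_insert hi, Finset.sum_insert hi, omega_add, ih]

theorem omega_classIndicator {χ : G → ℂ} (hχ : IsClassFunction G χ) (g : G) :
    omega χ (classIndicator g) = centralChar χ g := by
  classical
  have h1 : ∀ x, classIndicator g x * χ x = if IsConj g x then χ g else 0 := by
    intro x
    unfold classIndicator
    split_ifs with hx
    · rw [one_mul, classFunction_conj hχ hx]
    · rw [zero_mul]
  rw [omega, centralChar, ← card_conj_eq_index g, Finset.sum_congr rfl fun x _ => h1 x,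
    ← Finset.sum_filter, Finset.sum_const, nsmul_eq_mul, Nat.card_eq_fintype_card,
    Fintype.card_subtype]

theorem omega_deltaOne {χ : G → ℂ} (hχ : IsIrrCharacter G χ) : omega χ deltaOne = 1 := by
  classical
  simp [omega, deltaOne_apply, IsIrrCharacter.apply_one_ne_zero hχ]

theorem omega_mul_apply_one {χ : G → ℂ} (hχ : IsIrrCharacter G χ) (f : G → ℂ) :
    omega χ f * χ 1 = ∑ x, f x * χ x :=
  div_mul_cancel₀ _ (IsIrrCharacter.apply_one_ne_zero hχ)

/-! ### Fourier inversion -/

/-- A class function is recovered from the central characters. -/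
theorem eq_sum_omega [Fintype (IrrCharacter G)] {f : G → ℂ} (hf : IsClassFunction G f) (g : G) :
    f g = (Nat.card G : ℂ)⁻¹ *
      ∑ χ : IrrCharacter G, omega (χ : G → ℂ) f * (χ : G → ℂ) 1 * conj ((χ : G → ℂ) g) := by
  have hcl : IsClassFunction G (fun x => f x⁻¹) := fun x h => by
    show f (h * x * h⁻¹)⁻¹ = f x⁻¹
    rw [show (h * x * h⁻¹)⁻¹ = h * x⁻¹ * h⁻¹ by group, hf]
  have h0 := congrFun (eq_sum_classInner hcl) g⁻¹
  simp only [inv_inv, Finset.sum_apply, Pi.smul_apply, smul_eq_mul] at h0
  rw [h0, Finset.mul_sum]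
  refine Finset.sum_congr rfl fun χ _ => ?_
  rw [IsCharacter.apply_inv (irr_isCharacter χ), omega_mul_apply_one χ.2,
    classInner_eq_sum_inv (irr_isCharacter χ)]
  rw [Fintype.sum_equiv (Equiv.inv G) (fun x => f x⁻¹ * (χ : G → ℂ) x⁻¹)
    (fun x => f x * (χ : G → ℂ) x) (fun x => rfl), mul_assoc]

theorem ext_omega {f f' : G → ℂ} (hf : IsClassFunction G f) (hf' : IsClassFunction G f')
    (h : ∀ χ : IrrCharacter G, omega (χ : G → ℂ) f = omega (χ : G → ℂ) f') : f = f' := by
  haveI := Fintype.ofFinite (IrrCharacter G)
  funext g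
  rw [eq_sum_omega hf g, eq_sum_omega hf' g]
  simp only [h]

theorem conv_assoc {f f' f'' : G → ℂ} (hf : IsClassFunction G f) (hf' : IsClassFunction G f')
    (hf'' : IsClassFunction G f'') : conv (conv f f') f'' = conv f (conv f' f'') := by
  refine ext_omega (isClassFunction_conv (isClassFunction_conv hf hf') hf'')
    (isClassFunction_conv hf (isClassFunction_conv hf' hf'')) fun χ => ?_
  rw [omega_conv χ.2 (isClassFunction_conv hf hf'), omega_conv χ.2 hf, omega_conv χ.2 hf,
    omega_conv χ.2 hf', mul_assoc]

/-! ### Products of character values -/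

/-- `∑_g φ (g b g⁻¹)` as a sum over the class of `b`. -/
theorem sum_conj_eq (φ : G → ℂ) (b : G) :
    ∑ g : G, φ (g * b * g⁻¹) =
      (Nat.card (Subgroup.centralizer ({b} : Set G)) : ℂ) * ∑ x, classIndicator b x * φ x := by
  classical
  rw [← Finset.sum_fiberwise_of_maps_to (s := Finset.univ) (t := Finset.univ.filter (IsConj b))
    (g := fun g : G => g * b * g⁻¹) (fun g _ => by simp [isConj_iff]) ]
  rw [Finset.mul_sum, Finset.sum_filter]
  refine Finset.sum_congr rfl fun x _ => ?_
  unfold classIndicator
  split_ifs with hx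
  · obtain ⟨c, rfl⟩ := isConj_iff.1 hx
    rw [Finset.sum_congr rfl (fun g hg => congrArg φ (Finset.mem_filter.1 hg).2), Finset.sum_const,
      nsmul_eq_mul, one_mul]
    congr 1
    rw [← Fintype.card_subtype, Nat.card_eq_fintype_card, Nat.cast_inj]
    refine Fintype.card_congr ((Equiv.mulLeft c⁻¹).subtypeEquiv fun g => ?_)
    simp only [Equiv.coe_mulLeft, SetLike.mem_coe, Subgroup.mem_centralizer_iff,
      Set.mem_singleton_iff, forall_eq]
    constructor
    · intro h
      have := congrArg (fun t => c⁻¹ * t * g) h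
      simp only [mul_assoc, inv_mul_cancel, mul_one, inv_mul_cancel_left] at this
      simpa [mul_assoc] using this.symm
    · intro h
      have := congrArg (fun t => c * t * g⁻¹) h
      simp only [mul_assoc, mul_inv_cancel, mul_one, mul_inv_cancel_left] at this
      simpa [mul_assoc] using this.symm
  · simp

/-- `∑_g χ (a g b g⁻¹) = |G| χ a χ b / χ 1`. -/
theorem sum_char_mul_conj {χ : G → ℂ} (hχ : IsIrrCharacter G χ) (a b : G) :
    ∑ g : G, χ (a * (g * b * g⁻¹)) = (Nat.card G : ℂ) * χ a * χ b / χ 1 := by
  have hcl := IsCharacter.isClassFunction (IsIrrCharacter.isCharacter hχ)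
  rw [sum_conj_eq (fun x => χ (a * x)) b]
  have h1 : ∑ x, classIndicator b x * χ (a * x) = centralChar χ b * χ a := by
    rw [← omega_classIndicator hcl, ← sum_mul_char_mul hχ (isClassFunction_classIndicator b)]
    exact Finset.sum_congr rfl fun x _ => by rw [classFunction_mul_comm hcl]
  rw [h1, centralChar, ← Subgroup.index_mul_card (Subgroup.centralizer ({b} : Set G))]
  push_cast
  ring

/-! ### Integrality -/

theorem isIntegral_char (χ : IrrCharacter G) (g : G) : IsIntegral ℤ ((χ : G → ℂ) g) :=
  IsCharacter.isIntegral (irr_isCharacter χ) g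

theorem isIntegral_conj_char (χ : IrrCharacter G) (g : G) :
    IsIntegral ℤ (conj ((χ : G → ℂ) g)) := by
  rw [← IsCharacter.apply_inv (irr_isCharacter χ)]
  exact isIntegral_char χ g⁻¹

theorem isIntegral_centralChar_irr {χ : G → ℂ} (hχ : IsIrrCharacter G χ) (g : G) :
    IsIntegral ℤ (centralChar χ g) := by
  rw [centralChar, ← card_conj_eq_index g]
  exact IsIrrCharacter.isIntegral_centralChar hχ g

/-! ### Class representatives -/

theorem classFunction_eq_sum_classes [Fintype (ConjClasses G)] {f : G → ℂ}
    (hf : IsClassFunction G f) :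
    f = ∑ C : ConjClasses G, f (Quotient.out C) • classIndicator (Quotient.out C) := by
  classical
  funext x
  simp only [Finset.sum_apply, Pi.smul_apply, smul_eq_mul]
  have h1 : ∀ C : ConjClasses G, IsConj (Quotient.out C) x ↔ C = ConjClasses.mk x := fun C => by
    rw [← ConjClasses.mk_eq_mk_iff_isConj]
    show ConjClasses.mk (Quotient.out C) = ConjClasses.mk x ↔ _
    rw [show ConjClasses.mk (Quotient.out C) = C from Quotient.out_eq C]
  rw [Finset.sum_eq_single (ConjClasses.mk x)]
  · have hx : IsConj (Quotient.out (ConjClasses.mk x)) x := (h1 _).2 rfl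
    unfold classIndicator
    rw [if_pos hx, mul_one, classFunction_conj hf hx]
  · intro C _ hC
    unfold classIndicator
    rw [if_neg (fun h => hC ((h1 C).1 h)), mul_zero]
  · simp

theorem omega_eq_sum_classes [Fintype (ConjClasses G)] {χ f : G → ℂ} (hχ : IsClassFunction G χ)
    (hf : IsClassFunction G f) :
    omega χ f = ∑ C : ConjClasses G, f (Quotient.out C) * centralChar χ (Quotient.out C) := by
  conv_lhs => rw [classFunction_eq_sum_classes hf]
  simp [omega_sum, omega_smul, omega_classIndicator hχ]

end Cfsg.Agent.Lib.Blocks
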