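import Cfsg.Agent.Lib.BlockHeights.CentralQuotientRank
import Cfsg.Agent.Lib.BlockHeights.CentralRank
import Cfsg.Agent.Lib.BrauerPairs.Fusion
import Cfsg.Agent.Lib.Characters.BrauerMain
import Cfsg.Agent.Lib.Characters.Sections

/-!
# Blocks above a central `p`-subgroup

The regular parts of a block are integral combinations of the inflations it contains, and major
subsections exist at central elements of a defect group.
-/

set_option autoImplicit false
set_option linter.unusedSectionVars false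
set_option linter.style.haveILetI false

namespace Cfsg.Agent.Lib.Blocks

open Cfsg Cfsg.Agent.Lib.Characters Cfsg.Agent.Lib.BlockHeights Cfsg.Agent.Lib.BrauerPairs
open scoped ComplexConjugate

universe u

variable {G : Type u} [Group G] [Fintype G] {M : Ideal AlgInt} [hMp : M.IsPrime] {p : ℕ}

/-- An exponent fixing the regular elements and killing the `p`-elements. -/
theorem exists_regular_exponent (hp : p.Prime) (G : Type u) [Group G] [Fintype G] :
    ∃ m : ℕ, (∀ y : G, IsPRegular p y → y ^ m = y) ∧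
      ∀ z : G, (∃ k : ℕ, orderOf z = p ^ k) → z ^ m = 1 := by
  have hcop : (ordPart p G).Coprime (p ^ (Nat.card G).factorization p) :=
    ((hp.coprime_iff_not_dvd.2 (Nat.not_dvd_ordCompl hp Nat.card_pos.ne')).symm).pow_right _
  obtain ⟨m, h1, h0⟩ := Nat.chineseRemainder hcop 1 0
  refine ⟨m, fun y hy => ?_, fun z hz => ?_⟩
  · conv_rhs => rw [← pow_one y]
    exact pow_eq_pow_iff_modEq.2 (h1.of_dvd (orderOf_dvd_ordCompl hp hy))
  · obtain ⟨k, hk⟩ := hz
    refine orderOf_dvd_iff_pow_eq_one.1 (dvd_trans ?_ (Nat.modEq_zero_iff_dvd.1 h0))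
    rw [hk]
    refine Nat.pow_dvd_pow p ?_
    rw [← hp.pow_dvd_iff_le_factorization Nat.card_pos.ne', ← hk]
    exact orderOf_dvd_natCard z

/-- **The character read on the regular component is a generalized character.** -/
theorem isGeneralizedCharacter_pow_exponent (hp : p.Prime) {m : ℕ}
    (hreg : ∀ y : G, IsPRegular p y → y ^ m = y)
    (hpel : ∀ z : G, (∃ k : ℕ, orderOf z = p ^ k) → z ^ m = 1) {χ : G → ℂ}
    (hχ : IsCharacter G χ) : IsGeneralizedCharacter G (fun g => χ (g ^ m)) := by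
  classical
  refine isGeneralizedCharacter_of_elementary (fun g h => ?_) fun E q hq hE => ?_
  · show χ ((h * g * h⁻¹) ^ m) = χ (g ^ m)
    rw [conj_pow, IsCharacter.isClassFunction hχ]
  have hdvd : Nat.card E ∣ ordPart p G * p ^ (Nat.card G).factorization p := by
    rw [mul_comm, Nat.ordProj_mul_ordCompl_eq_self]
    exact Subgroup.card_subgroup_dvd_card E
  have hcop : (ordPart p G).Coprime (p ^ (Nat.card G).factorization p) :=
    ((hp.coprime_iff_not_dvd.2 (Nat.not_dvd_ordCompl hp Nat.card_pos.ne')).symm).pow_right _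
  obtain ⟨A, B, hA, hB, hAB, hcompl⟩ : ∃ A B : Subgroup E, Nat.card A ∣ ordPart p G ∧
      Nat.card B ∣ p ^ (Nat.card G).factorization p ∧
      (∀ a ∈ A, ∀ b ∈ B, Commute a b) ∧ Subgroup.IsComplement' A B := by
    by_cases hqm : q ∣ ordPart p G
    · obtain ⟨Z, K, h1, h2, h3, h4⟩ := exists_split hq hE (mul_comm (ordPart p G) _ ▸ hdvd) hcop.symm
        fun h => hq.ne_one (Nat.eq_one_of_dvd_coprimes hcop hqm h)
      exact ⟨K, Z, h2, h1, fun a ha b hb => (h3 b hb a ha).symm, h4.symm⟩
    · exact exists_split hq hE hdvd hcop hqm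
  have hval : ∀ a ∈ A, ∀ b ∈ B, (a * b : E) ^ m = a := by
    intro a ha b hb
    rw [(hAB a ha b hb).mul_pow]
    have hb1 : b ^ m = 1 := by
      apply Subtype.ext
      rw [SubgroupClass.coe_pow]
      refine hpel _ ?_
      have h := (Subgroup.orderOf_dvd_natCard _ hb).trans hB
      rw [← Subgroup.orderOf_coe] at h
      obtain ⟨k, -, hk⟩ := (Nat.dvd_prime_pow hp).1 h
      exact ⟨k, hk⟩
    have ha1 : a ^ m = a := by
      apply Subtype.ext
      rw [SubgroupClass.coe_pow]
      refine hreg _ ?_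
      have h := (Subgroup.orderOf_dvd_natCard _ ha).trans hA
      rw [← Subgroup.orderOf_coe] at h
      exact fun hd => Nat.not_dvd_ordCompl hp Nat.card_pos.ne' (hd.trans h)
    rw [ha1, hb1, mul_one]
  have hdec : ∀ e : E, ∃ a ∈ A, ∃ b ∈ B, e = a * b := fun e => by
    obtain ⟨⟨⟨a, ha⟩, ⟨b, hb⟩⟩, he⟩ := hcompl.2 e
    exact ⟨a, ha, b, hb, he.symm⟩
  let π : E →* E :=
    { toFun := fun e => e ^ m
      map_one' := one_pow m
      map_mul' := fun e e' => by
        obtain ⟨a, ha, b, hb, rfl⟩ := hdec e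
        obtain ⟨a', ha', b', hb', rfl⟩ := hdec e'
        rw [show a * b * (a' * b') = a * (b * a') * b' by group, ← (hAB a' ha' b hb).eq,
          show a * (a' * b) * b' = (a * a') * (b * b') by group,
          hval _ (mul_mem ha ha') _ (mul_mem hb hb'), hval a ha b hb, hval a' ha' b' hb'] }
  have h := IsGeneralizedCharacter.comp
    (IsCharacter.isGeneralizedCharacter (IsCharacter.restrict hχ E)) π
  convert h using 1
  funext e
  show χ ((e : G) ^ m) = χ ((π e : E) : G)
  rw [← SubgroupClass.coe_pow]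
  rfl

/-- The regular part read through an inflation. -/
theorem pRegularPart_inflIrr (hp : p.Prime) (K : Subgroup G) [K.Normal] (η : IrrCharacter (G ⧸ K)) :
    pRegularPart p (inflIrr K η : G → ℂ) =
      fun x => regInd p x * pRegularPart p (η : G ⧸ K → ℂ) (QuotientGroup.mk' K x) := by
  classical
  funext x
  simp only [pRegularPart_eq]
  by_cases hx : IsPRegular p x
  · rw [regInd_of_regular hx, regInd_of_regular (show IsPRegular p (QuotientGroup.mk' K x) from
      fun hd => hx (hd.trans (orderOf_map_dvd _ x))), one_mul, one_mul, one_mul]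
    rfl
  · simp [regInd_of_singular hx]

/-- The members of a block inflated from the quotient by a central `p`-subgroup. -/
theorem mem_of_infl (hM : IsPModular p M) (K : Subgroup G) [K.Normal] [Fintype (G ⧸ K)]
    (hK : IsPGroup p K) (hKZ : K ≤ Subgroup.center G) {B : Set (IrrCharacter G)}
    (hB : IsPBlock M B) {Bbar : Set (IrrCharacter (G ⧸ K))} (hBbar : IsPBlock M Bbar)
    (hinfl : ∀ η ∈ Bbar, inflIrr K η ∈ B) {η : IrrCharacter (G ⧸ K)} (h : inflIrr K η ∈ B) :
    η ∈ Bbar := by
  obtain ⟨η₀, hη₀⟩ := IsPBlock.nonempty hBbar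
  have hC : ∀ x : G, ¬ p ∣ orderOf x → x ∈ Subgroup.centralizer (K : Set G) := fun x _ =>
    mem_centralizer_subgroup_iff.2 fun u hu => (Subgroup.mem_center_iff.1 (hKZ hu) x).symm
  exact (IsPBlock.mem_iff hBbar hη₀).2 ((sameBlock_comp_mk_iff K hM hK hC η₀ η).2
    (IsPBlock.sameBlock hB (hinfl η₀ hη₀) h))

/-- **The rank does not grow above a central `p`-subgroup.** -/
theorem blockRank_le_quotient (hM : IsPModular p M) (K : Subgroup G) [K.Normal] [Fintype (G ⧸ K)]
    (hK : IsPGroup p K) (hKZ : K ≤ Subgroup.center G) {B : Set (IrrCharacter G)}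
    (hB : IsPBlock M B) {Bbar : Set (IrrCharacter (G ⧸ K))} (hBbar : IsPBlock M Bbar)
    (hinfl : ∀ η ∈ Bbar, inflIrr K η ∈ B) : blockRank p B ≤ blockRank p Bbar := by
  classical
  let L : (G ⧸ K → ℂ) →ₗ[ℂ] (G → ℂ) :=
    { toFun := fun w x => regInd p x * w (QuotientGroup.mk' K x)
      map_add' := fun v w => funext fun x => by simp [mul_add]
      map_smul' := fun c v => funext fun x => by simp [mul_left_comm] }
  rw [blockRank, blockRank]
  refine le_trans (Submodule.finrank_mono ?_) (Submodule.finrank_map_le L _)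
  refine Submodule.span_le.2 ?_
  rintro _ ⟨χ, hχ, rfl⟩
  refine Submodule.span_le.2 ?_ (pRegularPart_mem_span_infl hM K hK hKZ hB hχ)
  rintro _ ⟨η, hη, rfl⟩
  exact ⟨_, Submodule.subset_span ⟨η, mem_of_infl hM K hK hKZ hB hBbar hinfl hη, rfl⟩,
    (pRegularPart_inflIrr hM.1 K η).symm⟩

/-- **Regular parts are integral combinations of inflated regular parts.** -/
theorem exists_int_infl_expansion (hM : IsPModular p M) (K : Subgroup G) [K.Normal]
    [Fintype (G ⧸ K)] (hK : IsPGroup p K) (hKZ : K ≤ Subgroup.center G)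
    {B : Set (IrrCharacter G)} (hB : IsPBlock M B) {Bbar : Set (IrrCharacter (G ⧸ K))}
    (hBbar : IsPBlock M Bbar) (hinfl : ∀ η ∈ Bbar, inflIrr K η ∈ B) [Fintype {η // η ∈ Bbar}]
    {χ : IrrCharacter G} (hχ : χ ∈ B) :
    ∃ n : {η // η ∈ Bbar} → ℤ, pRegularPart p (χ : G → ℂ) =
      ∑ η, (n η : ℂ) • pRegularPart p (inflIrr K η.1 : G → ℂ) := by
  classical
  haveI := Fact.mk hM.1
  haveI := Fintype.ofFinite (IrrCharacter G)
  obtain ⟨m, hreg, hpel⟩ := exists_regular_exponent hM.1 G
  have hF := isGeneralizedCharacter_pow_exponent hM.1 hreg hpel (irr_isCharacter χ)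
  set F : G → ℂ := fun g => (χ : G → ℂ) (g ^ m) with hFdef
  choose a ha using fun ψ : IrrCharacter G =>
    IsGeneralizedCharacter.exists_classInner_int hF (IsCharacter.isGeneralizedCharacter (irr_isCharacter ψ))
  have hexp : pRegularPart p (χ : G → ℂ) =
      ∑ ψ : IrrCharacter G, (a ψ : ℂ) • pRegularPart p (ψ : G → ℂ) := by
    funext x
    simp only [pRegularPart_eq, Finset.sum_apply, Pi.smul_apply, smul_eq_mul]
    by_cases hx : IsPRegular p x
    · have h := congrFun (eq_sum_classInner (IsGeneralizedCharacter.isClassFunction hF)) x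
      simp only [hFdef, hreg x hx, Finset.sum_apply, Pi.smul_apply, smul_eq_mul] at h
      simp only [regInd_of_regular hx, one_mul]
      rw [h]
      exact Finset.sum_congr rfl fun ψ _ => by rw [← ha]
    · simp [regInd_of_singular hx]
  have hker : ∀ ψ : IrrCharacter G, a ψ ≠ 0 → ∀ z ∈ K, (ψ : G → ℂ) z = (ψ : G → ℂ) 1 := by
    intro ψ hψ z hz
    obtain ⟨ω, hω⟩ := exists_central_scalar ψ
    have hzm : z ^ m = 1 := hpel z (by
      obtain ⟨k, hk⟩ := IsPGroup.iff_orderOf.1 hK ⟨z, hz⟩
      exact ⟨k, by rwa [Subgroup.orderOf_mk] at hk⟩)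
    have hzF : ∀ y, F (z * y) = F y := fun y => by
      simp only [hFdef]
      rw [(show Commute z y from ((Subgroup.mem_center_iff.1 (hKZ hz)) y).symm).mul_pow, hzm,
        one_mul]
    have h1 : (a ψ : ℂ) = conj (ω z) * (a ψ : ℂ) := by
      rw [← ha, classInner, mul_left_comm]
      congr 1
      conv_lhs => rw [← Equiv.sum_comp (Equiv.mulLeft z)]
      rw [Finset.mul_sum]
      refine Finset.sum_congr rfl fun y _ => ?_
      rw [Equiv.coe_mulLeft, hzF, (hω z (hKZ hz)).1, map_mul]
      ring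
    have hw : conj (ω z) = 1 := by
      have h2 : (conj (ω z) - 1) * (a ψ : ℂ) = 0 := by rw [sub_one_mul, ← h1, sub_self]
      exact sub_eq_zero.1 ((mul_eq_zero.1 h2).resolve_right (Int.cast_ne_zero.2 hψ))
    have hw' : ω z = 1 := by
      have := congrArg conj hw
      rwa [Complex.conj_conj, map_one] at this
    have := (hω z (hKZ hz)).1 1
    rwa [mul_one, hw', one_mul] at this
  refine ⟨fun η => a (inflIrr K η.1), ?_⟩
  set S := Finset.univ.filter (fun ψ : IrrCharacter G => ψ ∈ B) with hS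
  have hBsplit : pRegularPart p (χ : G → ℂ) = ∑ ψ ∈ S, (a ψ : ℂ) • pRegularPart p (ψ : G → ℂ) := by
    have hin : pRegularPart p (χ : G → ℂ) - ∑ ψ ∈ S, (a ψ : ℂ) • pRegularPart p (ψ : G → ℂ) ∈
        Submodule.span ℂ ((fun ψ : IrrCharacter G => pRegularPart p (ψ : G → ℂ)) '' B) :=
      Submodule.sub_mem _ (Submodule.subset_span ⟨χ, hχ, rfl⟩) (Submodule.sum_mem _ fun ψ hψ =>
        Submodule.smul_mem _ _ (Submodule.subset_span ⟨ψ, (Finset.mem_filter.1 hψ).2, rfl⟩))
    have heq : pRegularPart p (χ : G → ℂ) - ∑ ψ ∈ S, (a ψ : ℂ) • pRegularPart p (ψ : G → ℂ) =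
        ∑ ψ ∈ Sᶜ, (a ψ : ℂ) • pRegularPart p (ψ : G → ℂ) := by
      rw [hexp, ← Finset.sum_add_sum_compl S, add_sub_cancel_left]
    have hout : ∑ ψ ∈ Sᶜ, (a ψ : ℂ) • pRegularPart p (ψ : G → ℂ) ∈
        Submodule.span ℂ ((fun ψ : IrrCharacter G => pRegularPart p (ψ : G → ℂ)) '' {ψ | ψ ∉ B}) :=
      Submodule.sum_mem _ fun ψ hψ => Submodule.smul_mem _ _
        (Submodule.subset_span ⟨ψ, fun h => by simp [hS, h] at hψ, rfl⟩)
    exact sub_eq_zero.1 (Submodule.disjoint_def.1 (disjoint_span_of_notMem (p := p) hM hB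
      (S := {ψ | ψ ∉ B}) fun ψ hψ => hψ) _ hin (heq ▸ hout))
  rw [hBsplit]
  symm
  refine Finset.sum_bij_ne_zero (fun η _ _ => inflIrr K η.1)
    (fun η _ _ => Finset.mem_filter.2 ⟨Finset.mem_univ _, hinfl η.1 η.2⟩)
    (fun η _ _ η' _ _ e => Subtype.ext (Subtype.ext (funext fun c => ?_)))
    (fun ψ hψ hne => ?_) fun η _ _ => rfl
  · obtain ⟨g, rfl⟩ := QuotientGroup.mk'_surjective K c
    exact congrFun (congrArg Subtype.val e) g
  · have hψa : a ψ ≠ 0 := fun h => hne (by rw [h, Int.cast_zero, zero_smul])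
    obtain ⟨θ, hθ, hθe⟩ := IsIrrCharacter.exists_quotient ψ.2 K (hker ψ hψa)
    have he : inflIrr K (⟨θ, hθ⟩ : IrrCharacter (G ⧸ K)) = ψ := Subtype.ext hθe.symm
    have hm : (⟨θ, hθ⟩ : IrrCharacter (G ⧸ K)) ∈ Bbar :=
      mem_of_infl hM K hK hKZ hB hBbar hinfl (he ▸ (Finset.mem_filter.1 hψ).2)
    exact ⟨⟨_, hm⟩, Finset.mem_univ _, by simp only [he]; exact hne, he⟩

/-- **Inner products of inflated regular parts.** -/
theorem classInner_regular_infl (hM : IsPModular p M) (K : Subgroup G) [K.Normal]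
    [Fintype (G ⧸ K)] (hK : IsPGroup p K) (hKZ : K ≤ Subgroup.center G) (v w : G ⧸ K → ℂ) :
    (Nat.card K : ℂ) * classInner (fun x => regInd p x * v (QuotientGroup.mk' K x))
      (fun x => regInd p x * w (QuotientGroup.mk' K x)) =
      classInner (fun c => regInd p c * v c) (fun c => regInd p c * w c) := by
  classical
  haveI := Fact.mk hM.1
  obtain ⟨m, hreg, hpel⟩ := exists_regular_exponent hM.1 G
  have hcard : (Nat.card G : ℂ) = (Nat.card (G ⧸ K) : ℂ) * (Nat.card K : ℂ) := by
    rw [← Nat.cast_mul, ← Subgroup.card_eq_card_quotient_mul_card_subgroup]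
  rw [classInner, classInner, hcard, mul_inv, ← mul_assoc, mul_comm (Nat.card K : ℂ),
    inv_mul_cancel_right₀ natCard_ne_zero_complex]
  congr 1
  rw [← Finset.sum_filter_of_ne (p := fun x => IsPRegular p x) (fun x _ h => by
      by_contra hx; exact h (by simp [regInd_of_singular hx])),
    ← Finset.sum_filter_of_ne (s := (Finset.univ : Finset (G ⧸ K))) (p := fun c => IsPRegular p c)
      (fun c _ h => by by_contra hc; exact h (by simp [regInd_of_singular hc]))]
  have hmapreg : ∀ x : G, IsPRegular p x → IsPRegular p (QuotientGroup.mk' K x) := fun x hx hd =>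
    hx (hd.trans (orderOf_map_dvd _ x))
  refine Finset.sum_bij (fun x _ => QuotientGroup.mk' K x)
    (fun x hx => Finset.mem_filter.2 ⟨Finset.mem_univ _, hmapreg x (Finset.mem_filter.1 hx).2⟩)
    (fun x hx y hy e => eq_of_regular_of_commute K hM.1 hK (Finset.mem_filter.1 hy).2
      (mem_centralizer_subgroup_iff.2 fun u hu => (Subgroup.mem_center_iff.1 (hKZ hu) y).symm)
      (Finset.mem_filter.1 hx).2 e) (fun c hc => ?_) (fun x hx => ?_)
  · obtain ⟨g, rfl⟩ := QuotientGroup.mk'_surjective K c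
    have hc' := (Finset.mem_filter.1 hc).2
    obtain ⟨i, hi⟩ : ∃ i, orderOf g ∣ p ^ i * ordPart p G :=
      ⟨(Nat.card G).factorization p, by
        rw [Nat.ordProj_mul_ordCompl_eq_self]; exact orderOf_dvd_natCard g⟩
    have hgm : IsPRegular p (g ^ m) := by
      intro hd
      have h1 : ((g ^ m) ^ ordPart p G) = 1 := by
        rw [← pow_mul, mul_comm, pow_mul]
        refine hpel _ ?_
        obtain ⟨k, -, hk⟩ := (Nat.dvd_prime_pow hM.1).1 (show orderOf (g ^ ordPart p G) ∣ p ^ i from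
          orderOf_dvd_of_pow_eq_one (by
            rw [← pow_mul, mul_comm]; exact orderOf_dvd_iff_pow_eq_one.1 hi))
        exact ⟨k, hk⟩
      exact Nat.not_dvd_ordCompl hM.1 Nat.card_pos.ne' (hd.trans (orderOf_dvd_of_pow_eq_one h1))
    refine ⟨g ^ m, Finset.mem_filter.2 ⟨Finset.mem_univ _, hgm⟩, ?_⟩
    rw [map_pow]
    conv_rhs => rw [← pow_one (QuotientGroup.mk' K g)]
    refine pow_eq_pow_iff_modEq.2 ?_
    obtain ⟨y, hy, hyg⟩ : ∃ y : G, orderOf (QuotientGroup.mk' K g) ∣ orderOf y ∧ IsPRegular p y := by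
      refine ⟨g ^ p ^ i, ?_, fun hd => Nat.not_dvd_ordCompl hM.1 Nat.card_pos.ne'
        (hd.trans (orderOf_dvd_of_pow_eq_one (by
          rw [← pow_mul]; exact orderOf_dvd_iff_pow_eq_one.1 hi)))⟩
      refine dvd_trans (dvd_of_eq ?_) (orderOf_map_dvd (QuotientGroup.mk' K) (g ^ p ^ i))
      rw [map_pow, Nat.Coprime.orderOf_pow]
      exact ((hM.1.coprime_iff_not_dvd.2 hc').pow_left i).symm
    have h2 := pow_eq_pow_iff_modEq.1 ((hreg y hyg).trans (pow_one y).symm)
    exact h2.of_dvd hy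
  · have h := (Finset.mem_filter.1 hx).2
    rw [regInd_of_regular h, regInd_of_regular (hmapreg x h)]

/-- **Major subsections at central elements of a defect group.** -/
theorem exists_major_subsection (hM : IsPModular p M) {B : Set (IrrCharacter G)}
    (hB : IsPBlock M B) {D : Subgroup G} (hD : IsDefectGroup p M B D) {x : G} (hxD : x ∈ D)
    (hxc : ∀ g ∈ D, g * x = x * g) :
    ∃ (b : Set (IrrCharacter (Subgroup.centralizer (Subgroup.zpowers x : Set G))))
      (D' : Subgroup (Subgroup.centralizer (Subgroup.zpowers x : Set G))),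
      IsInducedBlock M (Subgroup.centralizer (Subgroup.zpowers x : Set G)) b B ∧
      IsDefectGroup p M b D' ∧ blockDefect p b = blockDefect p B ∧
      Nat.card D' = p ^ blockDefect p B := by
  classical
  haveI := Fact.mk hM.1
  haveI := Fintype.ofFinite (Subgroup.centralizer (Subgroup.zpowers x : Set G))
  obtain ⟨e, he⟩ := exists_maximal_defect hM hB hD
  obtain ⟨b, hb, hle⟩ := exists_subpairLE hM he.1.1 (Subgroup.zpowers_le.2 hxD)
  have hind := isInducedBlock_of_isBrauerPairOf_zpowers hM (isBrauerPairOf_of_subpairLE hM he hle)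
  obtain ⟨D', hD', hge⟩ := (defectGroups_centralizer hM he hle).1
  obtain ⟨E, hE, hDE⟩ := exists_le_defectGroup hM hind hD'
  have hDC : D ⊓ Subgroup.centralizer (Subgroup.zpowers x : Set G) = D :=
    inf_eq_left.2 fun g hg => mem_centralizer_zpowers_iff.2 (hxc g hg).symm
  have h1 : Nat.card D ≤ Nat.card D' := by
    have h2 := Subgroup.card_le_of_le hge
    rwa [Cfsg.Agent.Lib.BrauerPairs.card_subgroupOf inf_le_right, hDC] at h2
  have h2 : Nat.card D' ≤ Nat.card E := by
    have := Subgroup.card_le_of_le hDE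
    rwa [card_map_subtype] at this
  rw [card_isDefectGroup hM hB hE] at h2
  rw [card_isDefectGroup hM hB hD] at h1
  have hc : Nat.card D' = p ^ blockDefect p B := le_antisymm h2 h1
  exact ⟨b, D', hind, hD', Nat.pow_right_injective hM.1.two_le
    ((card_isDefectGroup hM hind.1 hD').symm.trans hc), hc⟩

end Cfsg.Agent.Lib.Blocks
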