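import Cfsg.Agent.Lib.Blocks.DefectZero
import Cfsg.Agent.Lib.BlockHeights.CharTools

/-!
# Character values at `p`-elements modulo `M`
-/

set_option autoImplicit false
set_option linter.unusedSectionVars false

namespace Cfsg.Agent.Lib.Blocks

open Cfsg Cfsg.Agent.Lib.Characters

universe u

variable {M : Ideal AlgInt} [hMp : M.IsPrime] {p : ℕ}

/-- A root of unity of `p`-power order is congruent to one. -/
theorem memLocalIdeal_root_sub_one (hM : IsPModular p M) {z : ℂ} {k : ℕ} (hz : z ^ p ^ k = 1) :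
    MemLocalIdeal M (z - 1) := by
  haveI := Fact.mk hM.1
  haveI := resField_charP (M := M) hM
  have hzi : IsIntegral ℤ z :=
    IsIntegral.of_pow (pow_pos hM.1.pos k) (by rw [hz]; exact isIntegral_one)
  have hzR : MemLocalRing M z := memLocalRing_of_isIntegral' hzi
  let Z : locSubring M := ⟨z, hzR⟩
  have h1 : red M Z ^ p ^ k = 1 := by
    rw [← map_pow, show Z ^ p ^ k = 1 from Subtype.ext (by simpa [Z] using hz), map_one]
  have h2 : (red M Z - 1) ^ p ^ k = 0 := by
    rw [sub_pow_char_pow, h1, one_pow, sub_self]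
  have h3 : red M (Z - 1) = 0 := by rw [map_sub, map_one, eq_zero_of_pow_eq_zero h2]
  simpa [Z] using red_eq_zero_iff.1 h3

/-- A character value at a `p`-element is congruent to the degree. -/
theorem memLocalIdeal_apply_sub_one {G : Type u} [Group G] [Finite G] (hM : IsPModular p M)
    {χ : G → ℂ} (hχ : IsCharacter G χ) {x : G} (hx : ∃ k : ℕ, orderOf x = p ^ k) :
    MemLocalIdeal M (χ x - χ 1) := by
  classical
  obtain ⟨k, hk⟩ := hx
  obtain ⟨ι, hι, μ, hμ, h⟩ := Cfsg.Agent.Lib.BlockHeights.exists_eigen_sum hχ x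
  have h1 := h 1
  have h0 := h 0
  simp only [pow_one, pow_zero] at h1 h0
  rw [h1, h0, ← Finset.sum_sub_distrib]
  exact memLocalIdeal_sum _ fun i _ => memLocalIdeal_root_sub_one hM (k := k) (by rw [← hk]; exact hμ i)

end Cfsg.Agent.Lib.Blocks
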