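import Cfsg.Agent.Lib.Blocks.HeightZero
import Cfsg.Agent.Lib.Blocks.Sections
import Cfsg.Agent.Lib.BlockHeights.DegreeSum

/-!
Green's theorem: a normal defect group is the intersection of two Sylow subgroups.
-/

set_option autoImplicit false
set_option linter.style.haveILetI false
set_option linter.unusedSectionVars false
set_option linter.unusedVariables false

namespace Cfsg.Agent.Lib.Blocks

open Cfsg Cfsg.Agent.Lib.Characters
open scoped ComplexConjugate

variable {G : Type*} [Group G] [Fintype G] {p : ℕ} [Fact p.Prime] {M : Ideal AlgInt} [hMp : M.IsPrime]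

/-- The sum of a class function of the block centre over a Sylow subgroup, scaled. -/
theorem sum_sylow_conv_blockCoeff [Fintype (IrrCharacter G)] (hM : IsPModular p M)
    {B : Set (IrrCharacter G)} (hB : IsPBlock M B) (P : Sylow p G) [Fintype (P : Subgroup G)] :
    ∃ c : IrrCharacter G → ℂ, (∀ η, MemLocalRing M (c η)) ∧ ∀ f : G → ℂ, IsClassFunction G f →
      ∑ u : (P : Subgroup G), conv f (blockCoeff B) u =
        (p : ℂ) ^ BlockHeights.minExp p B * ∑ η : IrrCharacter G, omega (η : G → ℂ) f * c η := by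
  classical
  set k := BlockHeights.minExp p B with hk
  obtain ⟨m, hm, hmnd⟩ := exists_eq_pow_mul hM.1 (Nat.card_pos (α := G)).ne'
  have hint : ∀ η : IrrCharacter G, ∃ z : ℤ,
      ∑ u : (P : Subgroup G), conj ((η : G → ℂ) u) = (Nat.card (P : Subgroup G) : ℂ) * z := by
    intro η
    obtain ⟨z, hz⟩ := IsGeneralizedCharacter.exists_classInner_int
      (IsCharacter.isGeneralizedCharacter (IsIrrCharacter.isCharacter (trivIrr (P : Subgroup G)).2))
      (IsCharacter.isGeneralizedCharacter
        (IsCharacter.restrict (irr_isCharacter η) (P : Subgroup G)))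
    refine ⟨z, ?_⟩
    rw [← hz, classInner, ← mul_assoc, mul_inv_cancel₀ (Nat.cast_ne_zero.2 Nat.card_pos.ne'), one_mul]
    simp
  choose z hz using hint
  have hdvd : ∀ η : IrrCharacter G, η ∈ B → p ^ k ∣ charDegree (η : G → ℂ) := fun η hη =>
    (pow_dvd_pow p (BlockHeights.minExp_le (p := p) hη)).trans
      (Nat.ordProj_dvd (charDegree (η : G → ℂ)) p)
  refine ⟨fun η => if η ∈ B then
    ((charDegree (η : G → ℂ) / p ^ k : ℕ) : ℂ) * (z η : ℂ) * (m : ℂ)⁻¹ else 0, fun η => ?_, ?_⟩
  · dsimp only
    split_ifs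
    · exact memLocalRing_mul (memLocalRing_mul (memLocalRing_natCast _) (memLocalRing_intCast _))
        (memLocalRing_inv_natCast hM hmnd)
    · exact memLocalRing_zero
  intro f hf
  simp only [eq_sum_omega (isClassFunction_conv hf (isClassFunction_blockCoeff B))]
  rw [← Finset.mul_sum, Finset.sum_comm, Finset.mul_sum, Finset.mul_sum]
  refine Finset.sum_congr rfl fun η _ => ?_
  rw [← Finset.mul_sum, hz, omega_conv η.2 hf, omega_blockCoeff]
  split_ifs with hη
  · obtain ⟨d, hd⟩ := hdvd η hη
    rw [← charDegree_eq η, hd, Nat.mul_div_cancel_left _ (pow_pos hM.1.pos k), hm,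
      Sylow.card_eq_multiplicity]
    have hp0 : (p : ℂ) ≠ 0 := Nat.cast_ne_zero.2 hM.1.ne_zero
    have hm0 : (m : ℂ) ≠ 0 := Nat.cast_ne_zero.2 fun h => hmnd (h ▸ dvd_zero p)
    push_cast
    field_simp
  · simp

/-- The scaled value of the block idempotent at `1` is a unit. -/
theorem not_memLocalIdeal_blockCoeff_one (hM : IsPModular p M) {B : Set (IrrCharacter G)}
    (hB : IsPBlock M B) :
    ¬ MemLocalIdeal M (blockCoeff B 1 / (p : ℂ) ^ BlockHeights.minExp p B) := by
  classical
  haveI := Fintype.ofFinite (IrrCharacter G)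
  set k := BlockHeights.minExp p B with hk
  obtain ⟨m, hm, hmnd⟩ := exists_eq_pow_mul hM.1 (Nat.card_pos (α := G)).ne'
  have hfac := BlockHeights.factorization_sum_degree_sq hM hB
  set N := ∑ᶠ χ ∈ B, charDegree (χ : G → ℂ) ^ 2 with hN
  have hN0 : N ≠ 0 := by
    obtain ⟨χ, hχ⟩ := IsPBlock.nonempty hB
    rw [hN, finsum_mem_eq_toFinset_sum]
    intro h0
    have := (Finset.sum_eq_zero_iff.1 h0) χ (Set.mem_toFinset.2 hχ)
    exact (charDegree_pos χ).ne' (pow_eq_zero_iff two_ne_zero |>.1 this)
  obtain ⟨N', hN', hNnd⟩ := exists_eq_pow_mul hM.1 hN0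
  have he : blockCoeff B 1 = (Nat.card G : ℂ)⁻¹ * (N : ℂ) := by
    rw [blockCoeff, hN, finsum_mem_eq_toFinset_sum, finsum_mem_eq_toFinset_sum, Nat.cast_sum]
    congr 1
    refine Finset.sum_congr rfl fun χ _ => ?_
    rw [← charDegree_eq, map_natCast, Nat.cast_pow, pow_two]
  have hp0 : (p : ℂ) ≠ 0 := Nat.cast_ne_zero.2 hM.1.ne_zero
  have hm0 : (m : ℂ) ≠ 0 := Nat.cast_ne_zero.2 fun h => hmnd (h ▸ dvd_zero p)
  generalize (Nat.card G).factorization p = a at hm hfac
  rw [he, hN', hfac, hm, show ((p ^ (a + k) * N' : ℕ) : ℂ) =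
    (p : ℂ) ^ a * (p : ℂ) ^ k * N' by push_cast; ring,
    show (((p ^ a * m : ℕ) : ℂ))⁻¹ *
      ((p : ℂ) ^ a * (p : ℂ) ^ k * N') / (p : ℂ) ^ k = (N' : ℂ) * (m : ℂ)⁻¹ by
        push_cast; field_simp]
  refine not_memLocalIdeal_mul (memLocalRing_natCast _) (memLocalRing_inv_natCast hM hmnd)
    (fun h => hNnd ((memLocalIdeal_natCast_iff hM _).1 h)) fun h => not_memLocalIdeal_one (M := M) ?_
  have := memLocalIdeal_mul_left (memLocalRing_natCast (M := M) m) h
  rwa [mul_inv_cancel₀ hm0] at this

/-- **Green's theorem**, normal defect group. -/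
theorem exists_inter_sylow_eq (hM : IsPModular p M) {B : Set (IrrCharacter G)} (hB : IsPBlock M B)
    {D : Subgroup G} [D.Normal] (hD : IsDefectGroup p M B D) (P : Sylow p G) :
    ∃ x : G, x ∈ Subgroup.centralizer (D : Set G) ∧ ¬ p ∣ orderOf x ∧
      (∀ R : Subgroup G, IsPGroup p R → R ≤ Subgroup.centralizer ({x} : Set G) → R ≤ D) ∧
      (P : Subgroup G) ⊓ (P : Subgroup G).map (MulAut.conj x).toMonoidHom = D := by
  classical
  haveI := Fintype.ofFinite (IrrCharacter G)
  haveI := Fintype.ofFinite (P : Subgroup G)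
  set e := blockCoeff B with he
  have heC := isRCentral_blockCoeff hM hB
  have hDP : D ≤ (P : Subgroup G) := by
    obtain ⟨Q, hQ⟩ := (IsDefectGroup.isPGroup hD).exists_le_sylow
    obtain ⟨g, hg⟩ := MulAction.exists_smul_eq G Q P
    intro x hx
    rw [← hg]
    exact ⟨g⁻¹ * x * g, hQ (by simpa using (inferInstance : D.Normal).conj_mem x hx g⁻¹),
      by simp [mul_assoc]⟩
  have hcardD := IsDefectGroup.card_eq hM hB hD
  have hlow : ∀ (v : G) (R : Subgroup G), IsPGroup p R → v ∈ Subgroup.centralizer (R : Set G) →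
      ¬ MemLocalIdeal M (e v) → R ≤ D := by
    intro v R hR hv he'
    obtain ⟨g, hg, S, hDS⟩ := hD
    obtain ⟨a, ha⟩ := isConjLE_of_coeff hM hB hg S hR hv he'
    have hDS' : D = sylowSub S := hDS
    rw [← hDS'] at ha
    intro y hy
    simpa [mul_assoc] using (inferInstance : D.Normal).conj_mem _ (ha ⟨y, hy, rfl⟩) a⁻¹
  obtain ⟨g, hg, S, hDS⟩ := id hD
  set k := BlockHeights.minExp p B with hk
  obtain ⟨c, hc, hsum⟩ := sum_sylow_conv_blockCoeff hM hB P
  -- the scaled sum is a unit
  have he1 : ∑ u : (P : Subgroup G), e u = e 1 := by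
    refine Finset.sum_eq_single 1 (fun u _ hu => ?_) (by simp)
    refine blockCoeff_eq_zero_of_dvd hM hB ?_
    obtain ⟨j, hj⟩ := P.2 u
    obtain ⟨i, -, hi⟩ := (Nat.dvd_prime_pow hM.1).1 (orderOf_dvd_of_pow_eq_one hj)
    rw [Subgroup.orderOf_coe, hi]
    exact dvd_pow_self p fun h0 => hu (orderOf_eq_one_iff.1 (by rw [hi, h0, pow_zero]))
  have hp0 : (p : ℂ) ^ k ≠ 0 := pow_ne_zero _ (Nat.cast_ne_zero.2 hM.1.ne_zero)
  have hS : ¬ MemLocalIdeal M
      ((∑ u : (P : Subgroup G), conv (classIndicator g) e u) / (p : ℂ) ^ k) := by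
    rw [hsum _ (isRCentral_classIndicator (M := M) g).1, mul_div_cancel_left₀ _ hp0]
    obtain ⟨χ₀, hχ₀⟩ := IsPBlock.nonempty hB
    have hcB : ∑ η : IrrCharacter G, omega (η : G → ℂ) e * c η = e 1 / (p : ℂ) ^ k := by
      rw [eq_div_iff hp0, mul_comm, ← hsum _ heC.1, blockCoeff_conv_self, he1]
    intro h
    refine not_memLocalIdeal_blockCoeff_one hM hB ?_
    rw [← he, ← hk, ← hcB]
    have hω₀ := hg.2.2 χ₀ hχ₀
    rw [← omega_classIndicator (irr_isClassFunction χ₀)] at hω₀
    have hR := memLocalRing_omega (isRCentral_classIndicator (M := M) g) χ₀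
    refine ((memLocalIdeal_mul_iff hR ?_).1 ?_).resolve_left hω₀
    · exact memLocalRing_sum _ fun η _ => memLocalRing_mul (memLocalRing_omega heC η) (hc η)
    · have hcong : MemLocalIdeal M (omega (χ₀ : G → ℂ) (classIndicator g) *
          (∑ η : IrrCharacter G, omega (η : G → ℂ) e * c η) -
          ∑ η : IrrCharacter G, omega (η : G → ℂ) (conv e (classIndicator g)) * c η) := by
        rw [Finset.mul_sum, ← Finset.sum_sub_distrib]
        refine memLocalIdeal_sum _ fun η _ => ?_
        rw [omega_conv η.2 heC.1, he, omega_blockCoeff]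
        split_ifs with hη
        · rw [one_mul, one_mul, ← sub_mul]
          exact memLocalIdeal_mul_right (omega_congr_of_sameBlock
            (IsPBlock.sameBlock hB hχ₀ hη) (isRCentral_classIndicator g)) (hc η)
        · simp [memLocalIdeal_zero]
      have h' : MemLocalIdeal M
          (∑ η : IrrCharacter G, omega (η : G → ℂ) (conv e (classIndicator g)) * c η) := by
        have h2 : ∑ η : IrrCharacter G, omega (η : G → ℂ) (conv e (classIndicator g)) * c η =
            ∑ η : IrrCharacter G, omega (η : G → ℂ) (classIndicator g) * c η := by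
          apply mul_left_cancel₀ hp0
          rw [← hsum _ (isRCentral_classIndicator (M := M) g).1,
            ← hsum _ (isClassFunction_conv heC.1 (isRCentral_classIndicator (M := M) g).1)]
          refine Finset.sum_congr rfl fun u _ => congrFun ?_ _
          refine ext_omega (isClassFunction_conv (isClassFunction_conv heC.1
            (isRCentral_classIndicator (M := M) g).1) heC.1)
            (isClassFunction_conv (isRCentral_classIndicator (M := M) g).1 heC.1) fun ψ => ?_
          rw [omega_conv ψ.2 (isClassFunction_conv heC.1 (isRCentral_classIndicator (M := M) g).1),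
            omega_conv ψ.2 heC.1, omega_conv ψ.2 (isRCentral_classIndicator (M := M) g).1,
            omega_blockCoeff]
          split_ifs <;> simp
        rw [h2]; exact h
      simpa using memLocalIdeal_add hcong h'
  -- some coset sum is a unit
  let R : G → ℂ := fun w => ∑ u : (P : Subgroup G), e (w * u)
  have hRR : ∀ w, MemLocalRing M (R w) := fun w => memLocalRing_sum _ fun u _ => heC.2 _
  have hconvR : ∑ u : (P : Subgroup G), conv (classIndicator g) e u =
      ∑ y : G, classIndicator g y * R y⁻¹ := by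
    simp only [conv, R, Finset.mul_sum]
    exact Finset.sum_comm
  have hex : ∃ y : G, IsConj g y ∧ ¬ MemLocalIdeal M (R y⁻¹) := by
    by_contra hcon
    push Not at hcon
    apply hS
    rw [hconvR]
    let φ : (P : Subgroup G) →* ConjAct G :=
      (ConjAct.toConjAct : G ≃* ConjAct G).toMonoidHom.comp (P : Subgroup G).subtype
    letI : MulAction (P : Subgroup G) G := MulAction.compHom G φ
    have hact : ∀ (q : (P : Subgroup G)) (y : G), q • y = (q : G) * y * (q : G)⁻¹ := fun q y => rfl
    haveI : Fintype (MulAction.orbitRel.Quotient (P : Subgroup G) G) := Fintype.ofFinite _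
    rw [← Finset.sum_fiberwise Finset.univ
      (fun y : G => (Quotient.mk'' y : MulAction.orbitRel.Quotient (P : Subgroup G) G)),
      Finset.sum_div]
    refine memLocalIdeal_sum _ fun O _ => ?_
    obtain ⟨y₀, rfl⟩ := Quotient.mk''_surjective O
    have hinv : ∀ y ∈ Finset.univ.filter (fun y : G => (Quotient.mk'' y :
        MulAction.orbitRel.Quotient (P : Subgroup G) G) = Quotient.mk'' y₀),
        classIndicator g y * R y⁻¹ = classIndicator g y₀ * R y₀⁻¹ := by
      intro y hy
      obtain ⟨q, hq⟩ := MulAction.mem_orbit_iff.1 (MulAction.orbitRel_apply.1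
        (Quotient.eq''.1 (Finset.mem_filter.1 hy).2))
      rw [← hq, hact, (isRCentral_classIndicator (M := M) g).1]
      congr 1
      simp only [R]
      rw [← Equiv.sum_comp (MulAut.conj q).toEquiv]
      refine Finset.sum_congr rfl fun u _ => ?_
      show e (((q : G) * y₀ * (q : G)⁻¹)⁻¹ * ((q : G) * u * (q : G)⁻¹)) = _
      rw [show ((q : G) * y₀ * (q : G)⁻¹)⁻¹ * ((q : G) * u * (q : G)⁻¹) =
        (q : G) * (y₀⁻¹ * u) * (q : G)⁻¹ by group]
      exact heC.1 _ _
    rw [Finset.sum_congr rfl hinv, Finset.sum_const, nsmul_eq_mul]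
    by_cases hy₀ : IsConj g y₀
    swap
    · rw [show classIndicator g y₀ = 0 from if_neg hy₀]
      simp [memLocalIdeal_zero]
    have hcardO : (Finset.univ.filter (fun y : G => (Quotient.mk'' y :
        MulAction.orbitRel.Quotient (P : Subgroup G) G) = Quotient.mk'' y₀)).card =
        (MulAction.stabilizer (P : Subgroup G) y₀).index := by
      rw [MulAction.index_stabilizer, ← Nat.card_coe_set_eq, Nat.card_eq_fintype_card,
        ← Set.toFinset_card]
      congr 1
      ext y
      simp only [Finset.mem_filter, Finset.mem_univ, true_and, Set.mem_toFinset, Quotient.eq'']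
      exact MulAction.orbitRel_apply
    have hdvd : p ^ k ∣ (MulAction.stabilizer (P : Subgroup G) y₀).index := by
      obtain ⟨j, hj⟩ := (P.2.to_subgroup (MulAction.stabilizer (P : Subgroup G) y₀)).exists_card_eq
      have hle : (MulAction.stabilizer (P : Subgroup G) y₀).map (P : Subgroup G).subtype ≤
          Subgroup.centralizer ({y₀} : Set G) := by
        rintro _ ⟨q, hq, rfl⟩ w hw
        rw [Set.mem_singleton_iff] at hw
        rw [hw]
        exact (mul_inv_eq_iff_eq_mul.1 hq).symm
      have h1 := Subgroup.card_dvd_of_le hle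
      rw [Subgroup.card_map_of_injective (P : Subgroup G).subtype_injective, hj] at h1
      have hcent : Nat.card (Subgroup.centralizer ({y₀} : Set G)) =
          Nat.card (Subgroup.centralizer ({g} : Set G)) := by
        have hi := card_conj_eq_index y₀
        have hi' := card_conj_eq_index g
        have hset : Nat.card {x : G // IsConj y₀ x} = Nat.card {x : G // IsConj g x} :=
          Nat.card_congr (Equiv.subtypeEquivRight fun x => ⟨hy₀.trans, hy₀.symm.trans⟩)
        have e1 := Subgroup.card_mul_index (Subgroup.centralizer ({y₀} : Set G))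
        have e2 := Subgroup.card_mul_index (Subgroup.centralizer ({g} : Set G))
        rw [← hi, hset, hi'] at e1
        exact Nat.eq_of_mul_eq_mul_right (Nat.pos_of_ne_zero Subgroup.index_ne_zero_of_finite)
          (e1.trans e2.symm)
      rw [hcent, hM.1.pow_dvd_iff_le_factorization Nat.card_pos.ne'] at h1
      have hd : (Nat.card (Subgroup.centralizer ({g} : Set G))).factorization p = blockDefect p B := by
        refine Nat.pow_right_injective hM.1.two_le ?_
        show p ^ _ = p ^ _
        rw [← hcardD, hDS]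
        exact (card_sylowSub S).symm
      have hprod := Subgroup.card_mul_index (MulAction.stabilizer (P : Subgroup G) y₀)
      rw [hj, Sylow.card_eq_multiplicity] at hprod
      have hak := BlockHeights.blockDefect_add_minExp (p := p) hB
      have : p ^ j * p ^ k ∣ p ^ j * (MulAction.stabilizer (P : Subgroup G) y₀).index := by
        rw [hprod, ← pow_add]
        exact pow_dvd_pow p (by omega)
      exact Nat.dvd_of_mul_dvd_mul_left (pow_pos hM.1.pos j) this
    rw [hcardO]
    obtain ⟨r, hr⟩ := hdvd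
    rw [hr, show classIndicator g y₀ = 1 from if_pos hy₀, one_mul, Nat.cast_mul, Nat.cast_pow,
      mul_assoc, mul_div_cancel_left₀ _ hp0]
    exact memLocalIdeal_mul_left (memLocalRing_natCast r) (hcon y₀ hy₀)
  obtain ⟨y, hy, hyR⟩ := hex
  set w := y⁻¹ with hw
  -- conjugation by `P ⊓ wPw⁻¹` fixes the coset `wP`
  set Q := (P : Subgroup G) ⊓ (P : Subgroup G).map (MulAut.conj w).toMonoidHom with hQ
  have hQp : IsPGroup p Q := P.2.to_le inf_le_left
  have hmem : ∀ v : G, (∃ u : (P : Subgroup G), w * u = v) ↔ w⁻¹ * v ∈ (P : Subgroup G) :=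
    fun v => ⟨fun ⟨u, hu⟩ => by rw [← hu, inv_mul_cancel_left]; exact u.2,
      fun h => ⟨⟨_, h⟩, mul_inv_cancel_left w v⟩⟩
  let F : G → ℂ := fun v => if w⁻¹ * v ∈ (P : Subgroup G) then e v else 0
  have hF : ∑ v, F v = R w := by
    simp only [F]
    rw [← Finset.sum_filter]
    refine (Finset.sum_bij (fun (u : (P : Subgroup G)) _ => w * u) ?_ ?_ ?_ ?_).symm
    · intro u _; simp
    · intro u _ u' _ h; exact Subtype.ext (mul_left_cancel h)
    · intro v hv
      obtain ⟨u, hu⟩ := (hmem v).2 (Finset.mem_filter.1 hv).2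
      exact ⟨u, Finset.mem_univ _, hu⟩
    · intro u _; rfl
  have hFR : ∀ v, MemLocalRing M (F v) := fun v => by
    simp only [F]; split_ifs; exacts [heC.2 v, memLocalRing_zero]
  have hFi : IsPInv Q F := by
    intro q hq v
    obtain ⟨hqP, q', hq', hqq'⟩ := hq
    have hiff : w⁻¹ * (q * v * q⁻¹) ∈ (P : Subgroup G) ↔ w⁻¹ * v ∈ (P : Subgroup G) := by
      have h1 : w⁻¹ * (q * v * q⁻¹) = q' * (w⁻¹ * v) * q⁻¹ := by
        rw [← hqq']
        show w⁻¹ * (w * q' * w⁻¹ * v * (w * q' * w⁻¹)⁻¹) = q' * (w⁻¹ * v) * (w * q' * w⁻¹)⁻¹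
        group
      rw [h1, Subgroup.mul_mem_cancel_right _ (inv_mem hqP), Subgroup.mul_mem_cancel_left _ hq']
    simp only [F, hiff]
    split_ifs
    · exact heC.1 v q
    · rfl
  have hfix : ∃ v, v ∈ Subgroup.centralizer (Q : Set G) ∧ w⁻¹ * v ∈ (P : Subgroup G) ∧
      ¬ MemLocalIdeal M (e v) := by
    by_contra hcon
    push Not at hcon
    refine hyR ?_
    have h := memLocalIdeal_sum_sub_sum_centralizer hM Q hQp F hFR hFi
    rw [hF] at h
    refine (memLocalIdeal_iff_of_sub h).2 (memLocalIdeal_sum _ fun v _ => ?_)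
    split_ifs with hv
    · simp only [F]
      split_ifs with hv'
      · exact hcon v hv hv'
      · exact memLocalIdeal_zero
    · exact memLocalIdeal_zero
  obtain ⟨v, hvQ, hvP, hve⟩ := hfix
  have hQD : Q = D := by
    refine le_antisymm (hlow v Q hQp hvQ hve) (le_inf hDP fun x hx => ?_)
    exact ⟨w⁻¹ * x * w, hDP (by simpa using (inferInstance : D.Normal).conj_mem x hx w⁻¹),
      by simp [mul_assoc]⟩
  refine ⟨v, hQD ▸ hvQ, fun h => hve (by rw [he, blockCoeff_eq_zero_of_dvd hM hB h]; exact memLocalIdeal_zero),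
    fun R hR hRv => hlow v R hR (le_centralizer_singleton_iff.1 hRv) hve, ?_⟩
  have hvw : (P : Subgroup G).map (MulAut.conj v).toMonoidHom =
      (P : Subgroup G).map (MulAut.conj w).toMonoidHom := by
    have hv' : v = w * (w⁻¹ * v) := (mul_inv_cancel_left w v).symm
    rw [hv', map_mul]
    change (P : Subgroup G).map ((MulAut.conj w).toMonoidHom.comp (MulAut.conj (w⁻¹ * v)).toMonoidHom) = _
    rw [← Subgroup.map_map]
    exact congrArg (Subgroup.map (MulAut.conj w).toMonoidHom)
      (Subgroup.mem_normalizer_iff_map_conj_eq.1 (Subgroup.le_normalizer hvP))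
  rw [hvw]
  exact hQD

end Cfsg.Agent.Lib.Blocks
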