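import Cfsg.Agent.Lib.Chev.RadicalCent
import Cfsg.Agent.Lib.Chev.DefectZeroChar
import Cfsg.Agent.Lib.Chev.All
import Cfsg.Agent.Lib.Compute.SingleBlock
import Cfsg.Agent.Lib.Blocks.Green
import Cfsg.Agent.Lib.BrauerPairs.FirstMain
import Cfsg.Agent.Lib.Blocks.DefectZero
import Cfsg.Agent.Lib.LocalEven2.CharPLocal

/-!
The blocks in defining characteristic of a Chevalley group with trivial centre: one of defect
zero and the principal block.
-/

set_option autoImplicit false
set_option linter.unusedSectionVars false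
set_option linter.style.haveILetI false

namespace Cfsg.Agent.Lib.Chev

open Cfsg Cfsg.Lie
open Cfsg.Agent.Lib Cfsg.Agent.Lib.Blocks Cfsg.Agent.Lib.Characters Cfsg.Agent.Lib.BrauerPairs
open scoped _root_.Classical

section abstract

universe u

variable {H : Type u} [Group H] [Fintype H] {p : ℕ} [Fact p.Prime] {M : Ideal AlgInt} [M.IsPrime]

/-- A defect group is an intersection of two Sylow subgroups. -/
theorem exists_inter_sylow (hM : IsPModular p M) {B : Set (IrrCharacter H)} (hB : IsPBlock M B)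
    {E : Subgroup H} (hE : IsDefectGroup p M B E) :
    ∃ (S : Sylow p H) (c : H), ∀ y : H,
      y ∈ E ↔ y ∈ (S : Subgroup H) ∧ c⁻¹ * y * c ∈ (S : Subgroup H) := by
  set N := Subgroup.normalizer (E : Set H) with hN
  haveI : Fintype N := Fintype.ofFinite _
  obtain ⟨b, hb, hbE, -⟩ := exists_correspondent_normalizer hM hB hE
  haveI : (E.subgroupOf N).Normal := subgroupOf_normal_of_le_normalizer (le_refl N)
  obtain ⟨S'⟩ : Nonempty (Sylow p N) := inferInstance
  obtain ⟨x, hxC, -, -, hxS⟩ := exists_inter_sylow_eq hM hb.1 hbE S'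
  obtain ⟨S, hS⟩ := (S'.isPGroup'.map N.subtype).exists_le_sylow
  have hEN : E ≤ N := Subgroup.le_normalizer
  have hSN : ∀ z : N, (z : H) ∈ (S : Subgroup H) → z ∈ (S' : Subgroup N) := fun z hz => by
    have h := S'.is_maximal' (S.isPGroup'.comap_of_injective N.subtype N.subtype_injective)
      (fun w hw => hS ⟨w, hw, rfl⟩)
    rw [← h]; exact hz
  have hmem : ∀ z : N, (z : H) ∈ E ↔ z ∈ (S' : Subgroup N) ∧ x⁻¹ * z * x ∈ (S' : Subgroup N) := by
    intro z
    rw [← Subgroup.mem_subgroupOf, ← hxS, Subgroup.mem_inf, Subgroup.mem_map]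
    refine and_congr_right fun _ => ⟨?_, fun h => ⟨_, h, ?_⟩⟩
    · rintro ⟨w, hw, rfl⟩
      simpa [mul_assoc] using hw
    · show x * (x⁻¹ * z * x) * x⁻¹ = z
      group
  set A : Subgroup H :=
    (S : Subgroup H) ⊓ (S : Subgroup H).comap (MulAut.conj (x : H)⁻¹).toMonoidHom with hA
  have hAmem : ∀ y : H, y ∈ A ↔
      y ∈ (S : Subgroup H) ∧ (x : H)⁻¹ * y * x ∈ (S : Subgroup H) := fun y => by
    simp [hA, Subgroup.mem_inf]
  refine ⟨S, x, fun y => (?_ : y ∈ E ↔ _).trans (hAmem y)⟩
  have hEA : E ≤ A := fun z hz => by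
    obtain ⟨h1, h2⟩ := (hmem ⟨z, hEN hz⟩).1 hz
    exact (hAmem z).2 ⟨hS ⟨_, h1, rfl⟩, hS ⟨_, h2, rfl⟩⟩
  have hcap : ∀ z ∈ A, z ∈ N → z ∈ E := fun z hz hzN => by
    obtain ⟨h1, h2⟩ := (hAmem z).1 hz
    exact (hmem ⟨z, hzN⟩).2 ⟨hSN _ h1, hSN (x⁻¹ * ⟨z, hzN⟩ * x) h2⟩
  suffices h : A ≤ E from ⟨fun hy => hEA hy, fun hy => h hy⟩
  by_contra hne
  haveI : Group.IsNilpotent A := (S.isPGroup'.to_le inf_le_left).isNilpotent
  have hlt : E.subgroupOf A < ⊤ := lt_top_iff_ne_top.2 fun h => hne fun z hz => by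
    have : (⟨z, hz⟩ : A) ∈ E.subgroupOf A := h ▸ Subgroup.mem_top _
    exact this
  obtain ⟨w, hw, hwE⟩ :=
    SetLike.exists_of_lt (Group.normalizerCondition_of_isNilpotent (E.subgroupOf A) hlt)
  refine hwE (hcap w w.2 (Subgroup.mem_normalizer_iff.2 fun z => ⟨fun hz => ?_, fun hz => ?_⟩))
  · exact (Subgroup.mem_normalizer_iff.1 hw ⟨z, hEA hz⟩).1 hz
  · have hzA : z ∈ A := by
      have := mul_mem (mul_mem (inv_mem w.2) (hEA hz)) w.2
      simpa [mul_assoc] using this
    exact (Subgroup.mem_normalizer_iff.1 hw ⟨z, hzA⟩).2 hz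

/-- A block with a defect group containing an element whose centralizer has characteristic `p`
is principal. -/
theorem eq_principal_of_mem (hM : IsPModular p M) {B : Set (IrrCharacter H)} (hB : IsPBlock M B)
    {E : Subgroup H} (hE : IsDefectGroup p M B E) {x : H} (hx : x ∈ E)
    (hC : LocalEven2.IsCharPIn p (Subgroup.centralizer ({x} : Set H))) :
    B = principalBlock M H := by
  have hEp := IsDefectGroup.isPGroup hE
  obtain ⟨g, hg, P, rfl⟩ := hE
  have hZ : IsPGroup p (Subgroup.zpowers x) := hEp.to_le (Subgroup.zpowers_le.2 hx)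
  have hxg : g ∈ Subgroup.centralizer ((Subgroup.zpowers x : Subgroup H) : Set H) := by
    rw [Subgroup.mem_centralizer_iff]
    intro y hy
    obtain ⟨z, -, rfl⟩ := (Subgroup.zpowers_le.2 hx) hy
    exact (Subgroup.mem_centralizer_iff.1 z.2 g rfl).symm
  rw [← centralizer_zpowers_eq, LocalEven2.isCharPIn_iff] at hC
  refine Compute.eq_principal_of_pair hM hZ (fun e he => ?_) hB hxg hg.2.1
  exact Compute.block_eq_principal_of_constrained hM (Cores.pCore_isPGroup p _) hC he

end abstract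

/-- Every positive root can be raised to one of the listed roots. -/
def chkClimb (D : ChevalleyDatum) (T : Tables) (tops : List ℕ) : Bool :=
  (List.range D.nroots).all fun s => decide (s < npos D) || tops.contains s ||
    (List.range D.rank).any fun i => decide (s < T.w i s)

/-- The pairing of a coroot with a root, computed. -/
def pairI (D : ChevalleyDatum) (T : Tables) (r s : ℕ) : ℤ :=
  isum D.rank fun j => T.c r j * T.A j s

/-- The root is dominant, and the roots above it form a stable closed set not containing it. -/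
def chkTop (D : ChevalleyDatum) (T : Tables) (r : ℕ) (L : List ℕ) : Bool :=
  decide (npos D ≤ r) && decide (r < D.nroots) &&
  ((List.range D.nroots).all fun q => decide (q ≤ r) || L.contains q) && !(L.contains r) &&
  (L.all fun q => (List.range D.rank).all fun i => L.contains (T.w i q)) &&
  ((r :: L).all fun a => (r :: L).all fun b => decide (a < npos D) || decide (b < npos D) ||
    b == a || (T.terms a b).all fun c => (r :: L).contains c.1) &&
  ((List.range D.rank).all fun i => decide (0 ≤ T.A i r) && (!(T.A i r == 0) || T.w i r == r)) &&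
  ((List.range D.rank).any fun i => !(T.w i r == r)) &&
  (List.range (npos D)).all fun q => decide (pairI D T q r ≤ 0)

variable {D : ChevalleyDatum} {T : Tables} {F : Type*} [Field F]

namespace Good

variable (G : Good D T)
include G

theorem P_wl_blocks {l : List ℕ} (hl : IsW D l) {a b : ℕ} (ha : a < D.nroots) (hb : b < D.nroots) :
    P D T (wl T l a) (wl T l b) = P D T a b := by
  induction l with
  | nil => rfl
  | cons c l ih =>
    have hc : c < D.rank := hl c List.mem_cons_self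
    have hl' : IsW D l := fun x hx => hl x (List.mem_cons_of_mem _ hx)
    show P D T (T.w c (wl T l a)) (T.w c (wl T l b)) = _
    rw [G.P_w hc (G.wl_lt hl' ha) (G.wl_lt hl' hb), ih hl']

/-- A monomial element fixing a dominant root lies in its parabolic subgroup. -/
theorem mono_mem_parabolic {r : ℕ} (hr : r < D.nroots)
    (hdom : ∀ i < D.rank, 0 ≤ T.A i r ∧ (T.A i r = 0 → T.w i r = r))
    (hneg : ∀ q < npos D, pairI D T q r ≤ 0) :
    ∀ (k : ℕ) (n : GL D.Idx F) (l : List ℕ), G.Rep F n l → (invSet D T l).card = k →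
      wl T l r = r → n ∈ D.parabolicSubgroup F {j | j < D.rank ∧ T.w j r = r} := by
  intro k
  induction k using Nat.strong_induction_on with
  | _ k ih =>
    intro n l hl hk hfix
    by_cases hall : ∀ i < D.rank, npos D ≤ wl T l (sim D i)
    · have h1 := G.nl_mem_diag_of_pos (F := F) _ rfl hl.1 hall
      have h2 := mul_mem hl.2 h1
      rw [inv_mul_cancel_right] at h2
      exact Subgroup.mem_sup_left (Subgroup.mem_sup_right h2)
    push Not at hall
    obtain ⟨i, hi, hni⟩ := hall
    have hA : T.A i r = 0 := by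
      have h1 := hneg _ hni
      rw [pairI, isum_eq, show (∑ j ∈ Finset.range D.rank, T.c (wl T l (sim D i)) j * T.A j r) =
        P D T (wl T l (sim D i)) r from rfl] at h1
      conv at h1 => lhs; arg 4; rw [← hfix]
      rw [G.P_wl_blocks hl.1 (G.sim_lt hi) hr, G.P_sim hi] at h1
      have h2 := (hdom i hi).1
      omega
    have hwi := (hdom i hi).2 hA
    have hl' : G.Rep F (n * G.ni F i) (l ++ [i]) := G.rep_mul hl (G.rep_ni hi)
    have hcard : (invSet D T (l ++ [i])).card < k := by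
      have hpos' : npos D ≤ wl T (l ++ [i]) (sim D i) := by
        rw [wl_append]
        show npos D ≤ wl T l (T.w i (sim D i))
        rw [G.w_sim hi, G.wl_ng hl.1 (G.sim_lt hi)]
        exact (G.ng_pos_iff (G.wl_lt hl.1 (G.sim_lt hi))).2 hni
      have h3 := G.inv_succ hl'.1 hi hpos'
      have e : invSet D T (l ++ [i] ++ [i]) = invSet D T l := by
        ext s
        rw [mem_invSet, mem_invSet, wl_append, wl_append]
        refine and_congr_right fun hs => ?_
        show _ ∧ wl T l (T.w i (T.w i s)) < _ ↔ _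
        rw [G.w_w hi hs]
      rw [e] at h3
      omega
    have hfix' : wl T (l ++ [i]) r = r := by
      rw [wl_append]
      show wl T l (T.w i r) = r
      rw [hwi, hfix]
    have hJ : i ∈ {j | j < D.rank ∧ T.w j r = r} := ⟨hi, hwi⟩
    have h4 := mul_mem (ih _ hcard _ _ hl' rfl hfix')
      (inv_mem (G.ni_mem_parabolic (F := F) hJ hi))
    rwa [mul_inv_cancel_right] at h4

/-- The centralizer of a root element of a top root lies in a parabolic subgroup. -/
theorem centralizer_top [Finite F] {r : ℕ} {L : List ℕ} (h : chkTop D T r L = true) {t : F}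
    (ht : t ≠ 0) {g : GL D.Idx F} (hg : g ∈ D.group F)
    (hgc : g * G.X F r t = G.X F r t * g) :
    g ∈ D.parabolicSubgroup F {j | j < D.rank ∧ T.w j r = r} := by
  simp only [chkTop, Bool.and_eq_true, decide_eq_true_eq, List.all_eq_true, List.mem_range,
    Bool.or_eq_true, beq_iff_eq, List.contains_iff_mem, Bool.not_eq_true', beq_eq_false_iff_ne,
    List.any_eq_true] at h
  obtain ⟨⟨⟨⟨⟨⟨⟨⟨hp, hr⟩, habove⟩, hnot⟩, hinv⟩, hclosed⟩, hdom⟩, -⟩, hneg⟩ := h
  replace hnot : r ∉ L := by simpa using hnot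
  have hwl : ∀ l, IsW D l → ∀ q ∈ L, wl T l q ∈ L := by
    intro l
    induction l with
    | nil => exact fun _ q hq => hq
    | cons c l ih =>
      intro hl q hq
      exact hinv _ (ih (fun x hx => hl x (List.mem_cons_of_mem _ hx)) q hq) c
        (hl c List.mem_cons_self)
  set S : Set ℕ := {q | q ∈ r :: L} with hS
  have hSc : Closed D T S := by
    intro a ha b hb _ _ hpa hpb hne c hc
    rcases hclosed a ha b hb with ((h1 | h1) | h1) | h1
    · omega
    · omega
    · exact absurd h1 hne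
    · exact h1 c hc
  obtain ⟨b, hb, n, l, hl, u, hu, rfl⟩ := G.exists_normal_form hg
  obtain ⟨w, hw, d, hd, rfl⟩ := G.mem_borel.1 hb
  obtain ⟨c', hc', hdc⟩ := G.exists_tor (inv_mem hd)
  have hχ := G.isChar_tor (F := F) (c := c') fun j _ => hc' j
  set y := (G.X F r t)⁻¹ * (u * G.X F r t * u⁻¹) with hy
  have hyt : y ∈ G.tailU F (r + 1) := G.lead_conj (G.USub_le_pos _ hu) hr hp t
  obtain ⟨hlt, c, hc, hcn⟩ := G.rep_act hl r hr
  -- the image lies in `X_r tailU (r+1)`
  have htail : ∀ {k : ℕ}, k ≤ r + 1 → G.tailU F (r + 1) ≤ G.tailU F k := fun hk =>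
    (Subgroup.closure_le _).2 (by
      rintro x ⟨q, v, hq, hq', hrq, rfl⟩
      exact G.X_mem_tail hq hq' (by omega) v)
  have htS : G.tailU F r ≤ G.USub F S := (Subgroup.closure_le _).2 (by
    rintro x ⟨q, v, hq, hq', hrq, rfl⟩
    refine G.X_mem_USub hq hq' ?_ v
    rcases hrq.eq_or_lt with rfl | hlt'
    · exact List.mem_cons_self
    · exact List.mem_cons_of_mem _ ((habove q hq).resolve_left (by omega)))
  have hR : n * (G.X F r t * y) * n⁻¹ ∈ G.tailU F r := by
    have e : n * (G.X F r t * y) * n⁻¹ = d⁻¹ * (w⁻¹ * G.X F r t * w) * d := by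
      rw [hy, mul_inv_cancel_left]
      calc n * (u * G.X F r t * u⁻¹) * n⁻¹
          = d⁻¹ * w⁻¹ * ((w * d * n * u) * G.X F r t) * (w * d * n * u)⁻¹ * w * d := by group
        _ = _ := by rw [hgc]; group
    rw [e]
    have h1 := mul_mem (G.X_mem_tail (F := F) hr hp le_rfl t)
      (htail (Nat.le_succ r) (G.lead_conj (inv_mem hw) hr hp t))
    rw [mul_inv_cancel_left, inv_inv] at h1
    have hnorm := Subgroup.mem_normalizer_iff.1 (G.diag_normalizes {q | r ≤ q} (inv_mem hd))
    have heq : G.USub F {q | r ≤ q} = G.tailU F r := le_antisymm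
      (G.USub_le_of fun q hq hq' hqS v => G.X_mem_tail hq hq' hqS v)
      ((Subgroup.closure_le _).2 (by
        rintro x ⟨q, v, hq, hq', hrq, rfl⟩
        exact G.X_mem_USub hq hq' hrq v))
    rw [heq] at hnorm
    simpa using (hnorm _).1 h1
  have hRpos : n * (G.X F r t * y) * n⁻¹ ∈ D.borelSubgroup F :=
    Subgroup.mem_sup_left (G.USub_le_pos _ (htS hR))
  -- split the tail along `l`
  obtain ⟨a, ha, b', hb', hab⟩ := G.exists_keep_flip (l := l) (D.nroots - (r + 1)) (r + 1)
    (by omega) (by omega) y hyt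
  have hna : n * a * n⁻¹ ∈ D.borelSubgroup F := Subgroup.mem_sup_left
    (G.keep_conj hl.1 (G.rep_act hl) (G.USub_mono (fun _ _ _ h => h.1) ha))
  have hwp : npos D ≤ wl T l r := by
    by_contra hlow
    obtain ⟨a₁, ha₁, b₁, hb₁, hab₁⟩ := G.exists_keep_flip (l := l) (D.nroots - r) r hp (by omega)
      (G.X F r t * y) (mul_mem (G.X_mem_tail hr hp le_rfl t) (htail (Nat.le_succ r) hyt))
    have h1 : n * b₁ * n⁻¹ ∈ D.borelSubgroup F := by
      have := mul_mem (inv_mem (Subgroup.mem_sup_left (T := D.diagonalSubgroup F)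
        (G.keep_conj hl.1 (G.rep_act hl) (G.USub_mono (fun _ _ _ h => h.1) ha₁)))) hRpos
      rw [hab₁] at this
      simpa [mul_assoc, ChevalleyDatum.borelSubgroup] using this
    have h2 : n * b₁ * n⁻¹ = 1 := Subgroup.mem_bot.1 (G.borel_inf_neg (F := F) ▸
      Subgroup.mem_inf.2 ⟨h1, G.flip_conj hl.1 (G.rep_act hl)
        (G.USub_mono (fun _ _ _ h => h.1) hb₁)⟩)
    rw [conj_eq_one_iff.1 h2, mul_one] at hab₁
    have h3 : G.X F r t * y ∈ G.tailU F (r + 1) := by
      rw [hab₁]
      refine G.USub_le_of (fun q hq hq' hqS v => G.X_mem_tail hq hq' ?_ v) ha₁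
      have h4 : r ≠ q := by
        rintro rfl
        exact hlow hqS.1
      have h5 : r ≤ q := hqS.2
      omega
    exact ht (G.X_tail_eq_zero hr hp ((Subgroup.mul_mem_cancel_right _ hyt).1 h3))
  have hbone : b' = 1 := by
    have h1 : n * b' * n⁻¹ ∈ D.borelSubgroup F := by
      have h2 := mul_mem (inv_mem (mul_mem (Subgroup.mem_sup_left (T := D.diagonalSubgroup F)
        (G.X_mem_posUnipotent hlt hwp (c * t))) hna)) hRpos
      rw [← hcn, hab] at h2
      simpa [mul_assoc, ChevalleyDatum.borelSubgroup] using h2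
    exact conj_eq_one_iff.1 (Subgroup.mem_bot.1 (G.borel_inf_neg (F := F) ▸
      Subgroup.mem_inf.2 ⟨h1, G.flip_conj hl.1 (G.rep_act hl)
        (G.USub_mono (S := flipSet D T l ∩ {x | r + 1 ≤ x}) (fun _ _ _ h => h.1) hb')⟩))
  have hnyS : n * y * n⁻¹ ∈ G.USub F S := by
    rw [hab, hbone, mul_one]
    refine G.act_conj_USub (G.rep_act hl) (fun q hq _ hqS v => ?_) ha
    exact G.X_mem_USub (G.wl_lt hl.1 hq) hqS.1 (List.mem_cons_of_mem _
      (hwl l hl.1 q ((habove q hq).resolve_left (by have h5 : r + 1 ≤ q := hqS.2; omega)))) v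
  have hXS : G.X F (wl T l r) (c * t) ∈ G.USub F S := by
    have h1 := mul_mem (htS hR) (inv_mem hnyS)
    rw [← hcn]
    simpa [mul_assoc] using h1
  have hinS : wl T l r ∈ S := by
    by_contra hno
    have hsing : Closed D T {q | q = wl T l r} := fun a ha b hb _ _ _ _ hne =>
      absurd (hb.trans ha.symm) hne
    have h1 := G.USub_disjoint (F := F) hSc hsing
      (fun q _ _ hqS hq => hno (by rw [← (show q = wl T l r from hq)]; exact hqS))
    have h2 : G.X F (wl T l r) (c * t) = 1 := Subgroup.mem_bot.1 (h1 ▸ Subgroup.mem_inf.2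
      ⟨hXS, G.X_mem_USub (S := {q | q = wl T l r}) hlt hwp rfl _⟩)
    exact mul_ne_zero hc ht ((G.X_eq_one_iff hlt _).1 h2)
  have hfix : wl T l r = r := by
    rcases List.mem_cons.1 hinS with h1 | h1
    · exact h1
    · exact absurd (G.wl_reverse_wl hl.1 hr ▸ hwl l.reverse hl.1.reverse _ h1) hnot
  refine mul_mem (mul_mem (Subgroup.mem_sup_left hb) ?_) ?_
  · exact G.mono_mem_parabolic hr
      (fun i hi => ⟨(hdom i hi).1, fun h0 => (hdom i hi).2.resolve_left (not_not_intro h0)⟩)
      hneg _ n l hl rfl hfix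
  · exact Subgroup.mem_sup_left (Subgroup.mem_sup_left (G.USub_le_pos _ hu))

/-- A root element, inside the group. -/
def xg (F : Type*) [Field F] {r : ℕ} (hr : r < D.nroots) (t : F) : ↥(D.group F) :=
  ⟨G.X F r t, G.X_mem_group hr t⟩

theorem isCharPIn_top_centralizer [Fintype F] (hP : chkPar D T = true) (hL : chkLink D T = true)
    (p : ℕ) [Fact p.Prime] [CharP F p] {r : ℕ} {L : List ℕ} (h : chkTop D T r L = true)
    (hr : r < D.nroots) {t : F} (ht : t ≠ 0) :
    LocalEven2.IsCharPIn p (Subgroup.centralizer ({G.xg F hr t} : Set ↥(D.group F))) := by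
  have h' := h
  simp only [chkTop, Bool.and_eq_true, decide_eq_true_eq, List.any_eq_true, List.mem_range,
    Bool.not_eq_true', beq_eq_false_iff_ne] at h'
  obtain ⟨i₀, hi₀, hwi⟩ := h'.1.2
  have hp : npos D ≤ r := h'.1.1.1.1.1.1.1.1
  set J : Set ℕ := {j | j < D.rank ∧ T.w j r = r}
  set P := D.parabolicSubgroup F J with hPdef
  have hPG : P ≤ D.group F := G.parabolic_le_group hP J
  obtain ⟨Q, hQ⟩ := G.exists_sylow (F := F) p
  have hU : IsPGroup p ↥(D.posUnipotent F) :=
    (hQ ▸ Q.isPGroup' : IsPGroup p ((D.posUnipotent F).subgroupOf (D.group F))).of_equiv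
      (Subgroup.subgroupOfEquivOfLe ((le_sup_left : _ ≤ D.borelSubgroup F).trans G.borel_le_group))
  have hQp : IsPGroup p ↥((D.unipotentRadical F J).subgroupOf P) :=
    (hU.to_le (by rw [G.radical_eq hP]; exact G.USub_le_pos _)).comap_of_injective _
      P.subtype_injective
  haveI hQn : ((D.unipotentRadical F J).subgroupOf P).Normal :=
    ⟨fun x hx g => (Subgroup.mem_normalizer_iff.1 (G.parabolic_le_normalizer hP J g.2) x).1 hx⟩
  have hPc : LocalEven2.IsCharPIn p P := (LocalEven2.isCharPIn_iff P).2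
    ((Subgroup.centralizer_le (le_sSup ⟨hQn, hQp⟩ : _ ≤ Cfsg.pCore p ↥P)).trans
      (le_sSup ⟨Subgroup.normal_centralizer,
        G.radical_centralizer_isPGroup hP hL p ⟨i₀, hi₀, fun hJ => hwi hJ.2⟩⟩))
  rw [← Subgroup.map_subgroupOf_eq_of_le hPG, show Subgroup.map (D.group F).subtype
    (P.subgroupOf (D.group F)) = (P.subgroupOf (D.group F)).map (D.group F).subtype from rfl,
    LocalEven2.isCharPIn_map _ (D.group F).subtype_injective] at hPc
  set x := G.xg F hr t with hxdef
  set R := Subgroup.zpowers x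
  have hxU : x ∈ (D.posUnipotent F).subgroupOf (D.group F) := G.X_mem_posUnipotent hr hp t
  have hRp : IsPGroup p ↥R := (hQ ▸ Q.isPGroup' : IsPGroup p
    ((D.posUnipotent F).subgroupOf (D.group F))).to_le (Subgroup.zpowers_le.2 hxU)
  have hxP : x ∈ P.subgroupOf (D.group F) :=
    Subgroup.mem_sup_left (Subgroup.mem_sup_left (G.X_mem_posUnipotent hr hp t))
  have hCP : Subgroup.centralizer ({x} : Set ↥(D.group F)) ≤ P.subgroupOf (D.group F) := by
    intro g hg
    refine G.centralizer_top h ht g.2 ?_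
    exact congrArg Subtype.val (Subgroup.mem_centralizer_singleton_iff.1 hg)
  have hCR : Subgroup.centralizer (R : Set ↥(D.group F)) =
      Subgroup.centralizer ({x} : Set ↥(D.group F)) := centralizer_zpowers_eq x
  refine (hPc.inf_normalizer hRp (Subgroup.zpowers_le.2 hxP)).of_normalized
    (le_inf hCP (hCR ▸ Subgroup.centralizer_le_normalizer _)) ?_
  refine (LocalEven2.pCoreOf_le _).trans (inf_le_right.trans ?_)
  rw [← hCR]
  exact normalizer_le_normalizer_centralizer R

/-- A non-trivial root element in `U` is conjugate to one of a listed top root. -/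
theorem exists_conj_top {tops : List ℕ} (hc : chkClimb D T tops = true) :
    ∀ (k : ℕ) {s : ℕ} (hs : s < D.nroots), npos D ≤ s → D.nroots - s ≤ k → ∀ {t : F}, t ≠ 0 →
      ∃ r ∈ tops, ∃ (hr : r < D.nroots) (t' : F), t' ≠ 0 ∧
        ∃ a : ↥(D.group F), a * G.xg F hs t * a⁻¹ = G.xg F hr t' := by
  simp only [chkClimb, List.all_eq_true, List.mem_range, Bool.or_eq_true, decide_eq_true_eq,
    List.contains_iff_mem, List.any_eq_true] at hc
  intro k
  induction k with
  | zero => intro s hs _ h; omega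
  | succ k ih =>
    intro s hs hps hk t ht
    rcases hc s hs with (h | h) | ⟨i, hi, hlt⟩
    · omega
    · exact ⟨s, h, hs, t, ht, 1, by simp⟩
    · obtain ⟨r, hr', hr, t', ht', a, ha⟩ := ih (G.w_lt hi hs) (by omega) (by omega)
        (t := (T.eta i s : F) * t) (mul_ne_zero (by
          rcases T.eta_eq_or i s with e | e <;> simp [e]) ht)
      refine ⟨r, hr', hr, t', ht', a * ⟨G.ni F i, G.monomial_le_group
        (G.monomial_of_rep (G.rep_ni hi))⟩, ?_⟩
      rw [← ha]
      refine Subtype.ext ?_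
      simp only [xg, Subgroup.coe_mul, Subgroup.coe_inv, mul_inv_rev, mul_assoc]
      rw [← G.ni_conj_X hi hs]
      simp [mul_assoc]

variable [Fintype F] [Fintype ↥(D.group F)]

/-- A non-trivial defect group contains a conjugate of a top root element. -/
theorem exists_top_mem (p : ℕ) [Fact p.Prime] [CharP F p] {M : Ideal AlgInt} [M.IsPrime]
    (hM : IsPModular p M) {tops : List ℕ} (hc : chkClimb D T tops = true)
    {B : Set (IrrCharacter ↥(D.group F))} (hB : IsPBlock M B)
    {E : Subgroup ↥(D.group F)} (hE : IsDefectGroup p M B E) (hne : E ≠ ⊥) :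
    ∃ r ∈ tops, ∃ (hr : r < D.nroots) (t : F), t ≠ 0 ∧
      ∃ E' : Subgroup ↥(D.group F), IsDefectGroup p M B E' ∧ G.xg F hr t ∈ E' := by
  set U := (D.posUnipotent F).subgroupOf (D.group F)
  obtain ⟨Q, hQ⟩ := G.exists_sylow (F := F) p
  obtain ⟨S, c, hSc⟩ := exists_inter_sylow hM hB hE
  obtain ⟨a, ha⟩ := MulAction.exists_smul_eq ↥(D.group F) Q S
  have hS : ∀ y, y ∈ (S : Subgroup ↥(D.group F)) ↔ a⁻¹ * y * a ∈ U := fun y => by
    rw [← ha, Sylow.coe_subgroup_smul, hQ, Subgroup.mem_pointwise_smul_iff_inv_smul_mem]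
    simp [MulAut.smul_def, U]
  obtain ⟨b, hb, n, l, hl, u, hu, hg⟩ := G.exists_normal_form (a⁻¹ * c * a).2
  have hnorm : ∀ z ∈ D.borelSubgroup F, ∀ y,
      z * y * z⁻¹ ∈ D.posUnipotent F ↔ y ∈ D.posUnipotent F := by
    intro z hz y
    obtain ⟨v, hv, d, hd, rfl⟩ := G.mem_borel.1 hz
    have : v * d ∈ Subgroup.normalizer (D.posUnipotent F : Set (GL D.Idx F)) :=
      mul_mem (Subgroup.le_normalizer hv) (G.diag_normalizes_pos hd)
    exact (Subgroup.mem_normalizer_iff.1 this y).symm
  set β : ↥(D.group F) := ⟨b, G.borel_le_group hb⟩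
  by_cases hkeep : ∃ q, q < D.nroots ∧ npos D ≤ q ∧ npos D ≤ wl T l q
  · obtain ⟨q, hq, hpq, hwq⟩ := hkeep
    obtain ⟨hlt, e, he, hen⟩ := G.rep_act hl q hq
    obtain ⟨r, hrt, hr, t, ht, a', ha'⟩ := G.exists_conj_top (F := F) hc _ hlt hwq le_rfl
      (mul_ne_zero he one_ne_zero)
    refine ⟨r, hrt, hr, t, ht, _, IsDefectGroup.map_conj hE (a' * β⁻¹ * a⁻¹), ?_⟩
    rw [← ha']
    refine ⟨a * β * G.xg F hlt (e * 1) * β⁻¹ * a⁻¹, (hSc _).2 ⟨?_, ?_⟩, ?_⟩
    · rw [hS]
      show ((a⁻¹ * (a * β * G.xg F hlt (e * 1) * β⁻¹ * a⁻¹) * a : ↥(D.group F)) : GL D.Idx F) ∈ D.posUnipotent F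
      rw [show a⁻¹ * (a * β * G.xg F hlt (e * 1) * β⁻¹ * a⁻¹) * a =
        β * G.xg F hlt (e * 1) * β⁻¹ by group]
      exact (hnorm b hb _).2 (G.X_mem_posUnipotent hlt hwq _)
    · rw [hS]
      show ((a⁻¹ * (c⁻¹ * (a * β * G.xg F hlt (e * 1) * β⁻¹ * a⁻¹) * c) * a :
        ↥(D.group F)) : GL D.Idx F) ∈ D.posUnipotent F
      rw [show a⁻¹ * (c⁻¹ * (a * β * G.xg F hlt (e * 1) * β⁻¹ * a⁻¹) * c) * a =
        (a⁻¹ * c * a)⁻¹ * β * G.xg F hlt (e * 1) * β⁻¹ * (a⁻¹ * c * a) by group]
      simp only [Subgroup.coe_mul, Subgroup.coe_inv] at hg ⊢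
      rw [hg]
      have e2 : (b * n * u)⁻¹ * b * (n * G.X F q 1 * n⁻¹) * b⁻¹ * (b * n * u) =
          u⁻¹ * G.X F q 1 * u := by group
      show (b * n * u)⁻¹ * b * G.X F (wl T l q) (e * 1) * b⁻¹ * (b * n * u) ∈ _
      rw [← hen, e2]
      exact mul_mem (mul_mem (inv_mem (G.USub_le_pos _ hu)) (G.X_mem_posUnipotent hq hpq 1))
        (G.USub_le_pos _ hu)
    · show a' * β⁻¹ * a⁻¹ * _ * (a' * β⁻¹ * a⁻¹)⁻¹ = _
      group
  · push Not at hkeep
    refine absurd (eq_bot_iff.2 fun y hy => ?_) hne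
    obtain ⟨h1, h2⟩ := (hSc y).1 hy
    rw [hS] at h1 h2
    replace h1 : ((a⁻¹ * y * a : ↥(D.group F)) : GL D.Idx F) ∈ D.posUnipotent F := h1
    replace h2 : ((a⁻¹ * (c⁻¹ * y * c) * a : ↥(D.group F)) : GL D.Idx F) ∈ D.posUnipotent F := h2
    rw [show a⁻¹ * (c⁻¹ * y * c) * a = (a⁻¹ * c * a)⁻¹ * (a⁻¹ * y * a) * (a⁻¹ * c * a) by group]
      at h2
    simp only [Subgroup.coe_mul, Subgroup.coe_inv] at hg h1 h2
    rw [hg] at h2
    set z := (a : GL D.Idx F)⁻¹ * y * a
    have hU : D.posUnipotent F ≤ G.USub F (flipSet D T l) :=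
      G.posUnipotent_le_of fun q hq hpq v => G.X_mem_USub hq hpq (hkeep q hq hpq) v
    have h3 : n⁻¹ * (b⁻¹ * z * b) * n ∈ D.posUnipotent F := by
      have := mul_mem (mul_mem (G.USub_le_pos _ hu) h2) (inv_mem (G.USub_le_pos _ hu))
      convert this using 1
      group
    have h4 : b⁻¹ * z * b ∈ D.negUnipotent F := by
      have := G.flip_conj hl.1 (G.rep_act hl) (hU h3)
      convert this using 1
      group
    have h5 : b⁻¹ * z * b ∈ D.borelSubgroup F := by
      have := (hnorm _ (inv_mem hb) z).2 h1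
      rw [inv_inv] at this
      exact Subgroup.mem_sup_left this
    have h6 : b⁻¹ * z * b = 1 :=
      Subgroup.mem_bot.1 (G.borel_inf_neg (F := F) ▸ Subgroup.mem_inf.2 ⟨h5, h4⟩)
    replace h6 : z = 1 := by
      calc z = b * (b⁻¹ * z * b) * b⁻¹ := by group
        _ = 1 := by rw [h6]; group
    rw [Subgroup.mem_bot]
    refine Subtype.ext ?_
    rw [Subgroup.coe_one]
    calc (y : GL D.Idx F) = (a : GL D.Idx F) * z * (a : GL D.Idx F)⁻¹ := by
          simp only [z]; group
      _ = 1 := by rw [h6]; group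

set_option maxHeartbeats 1000000 in
/-- **Two blocks.** -/
theorem card_blocks_eq_two (hP : chkPar D T = true) (hL : chkLink D T = true)
    {tops : List ℕ} (hc : chkClimb D T tops = true)
    (htop : ∀ r ∈ tops, ∃ L, chkTop D T r L = true) (hn : 1 < D.nroots)
    (p : ℕ) [hp : Fact p.Prime] [CharP F p] {M : Ideal AlgInt} (hM : IsPModular p M) :
    Nat.card {B : Set (IrrCharacter ↥(D.group F)) // IsPBlock M B} = 2 := by
  haveI := isPrime_of_isPModular hM
  set v := (Nat.card ↥(D.group F)).factorization p with hv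
  obtain ⟨Q, hQ⟩ := G.exists_sylow (F := F) p
  have hq : p ^ v = Fintype.card F ^ (D.nroots / 2) := by
    rw [hv, ← Sylow.card_eq_multiplicity Q, hQ, Nat.card_congr (Subgroup.subgroupOfEquivOfLe
      ((le_sup_left : _ ≤ D.borelSubgroup F).trans G.borel_le_group)).toEquiv, G.card_pos]
  have hq1 : 1 < Fintype.card F ^ (D.nroots / 2) :=
    Nat.one_lt_pow (by omega) Fintype.one_lt_card
  set χ₀ : IrrCharacter ↥(D.group F) := ⟨D.steinbergCharacter F, G.steinberg_isIrr⟩
  have hdeg : charDegree (χ₀ : ↥(D.group F) → ℂ) = p ^ v := by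
    have h1 := charDegree_eq χ₀
    rw [show (χ₀ : ↥(D.group F) → ℂ) 1 = _ from G.steinberg_one, ← Nat.cast_pow, Nat.cast_inj] at h1
    rw [h1, hq]
  have hsing : blockOf M (χ₀ : ↥(D.group F) → ℂ) = {χ₀} := by
    refine Blocks.blockOf_eq_singleton hM χ₀ ?_
    rw [hdeg]
    exact Nat.not_dvd_ordCompl hp.out Nat.card_pos.ne'
  have hcases : ∀ B, IsPBlock M B → B = blockOf M (χ₀ : ↥(D.group F) → ℂ) ∨ B = principalBlock M ↥(D.group F) := by
    intro B hB
    obtain ⟨E, hE⟩ := exists_isDefectGroup hM hB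
    by_cases hE1 : E = ⊥
    · left
      have hcard := BlockHeights.card_isDefectGroup hM hB hE
      rw [hE1, Subgroup.card_bot] at hcard
      have h0 : blockDefect p B = 0 := (Nat.pow_eq_one.1 hcard.symm).resolve_left hp.out.ne_one
      obtain ⟨χ, hχ⟩ := IsPBlock.nonempty hB
      have hd : p ^ v ∣ charDegree (χ : ↥(D.group F) → ℂ) := by
        refine (hp.out.pow_dvd_iff_le_factorization (charDegree_pos χ).ne').2 ?_
        have h1 : sInf ((fun χ : IrrCharacter ↥(D.group F) => (charDegree (χ : ↥(D.group F) → ℂ)).factorization p) '' B) ≤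
            (charDegree (χ : ↥(D.group F) → ℂ)).factorization p := Nat.sInf_le ⟨χ, hχ, rfl⟩
        have h2 : v ≤ sInf ((fun χ : IrrCharacter ↥(D.group F) =>
            (charDegree (χ : ↥(D.group F) → ℂ)).factorization p) '' B) := Nat.sub_eq_zero_iff_le.1 h0
        omega
      have hχ0 : χ = χ₀ := Subtype.ext
        (G.eq_steinberg_of_defect_zero hP p χ χ.2 ⟨_, (charDegree_eq χ).symm, hd⟩)
      rw [IsPBlock.eq_blockOf hB hχ, hχ0]
    · right
      obtain ⟨r, hrt, hr, t, ht, E', hE', hx⟩ := G.exists_top_mem p hM hc hB hE hE1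
      obtain ⟨L, hL'⟩ := htop r hrt
      exact eq_principal_of_mem hM hB hE' hx (G.isCharPIn_top_centralizer hP hL p hL' hr ht)
  have hne : blockOf M (χ₀ : ↥(D.group F) → ℂ) ≠ principalBlock M ↥(D.group F) := fun e => by
    have h1 : trivIrr ↥(D.group F) ∈ ({χ₀} : Set (IrrCharacter ↥(D.group F))) := by
      rw [← hsing, e, principalBlock]; exact self_mem_blockOf (trivIrr ↥(D.group F))
    have h2 : charDegree (χ₀ : ↥(D.group F) → ℂ) = 1 := by
      rw [← Set.mem_singleton_iff.1 h1]
      simp [charDegree]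
    rw [hdeg, hq] at h2
    omega
  have hset : {B : Set (IrrCharacter ↥(D.group F)) | IsPBlock M B} =
      {blockOf M (χ₀ : ↥(D.group F) → ℂ), principalBlock M ↥(D.group F)} := by
    ext B
    refine ⟨fun hB => hcases B hB, ?_⟩
    rintro (rfl | rfl)
    · exact isPBlock_blockOf _
    · exact isPBlock_principalBlock
  show Nat.card ↥{B : Set (IrrCharacter ↥(D.group F)) | IsPBlock M B} = 2
  rw [hset, Nat.card_coe_set_eq, Set.ncard_pair hne]

end Good

theorem climbG2 : chkClimb chevG2 tabG2 [9, 11] = true := by decide +kernel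
theorem climbF4 : chkClimb chevF4 tabF4 [44, 47] = true := by decide +kernel
theorem climbE8 : chkClimb chevE8 tabE8 [239] = true := by decide +kernel
theorem topG2a : chkTop chevG2 tabG2 9 [0, 1, 5, 6, 10, 11] = true := by decide +kernel
theorem topG2b : chkTop chevG2 tabG2 11 [] = true := by decide +kernel
theorem topF4a : chkTop chevF4 tabF4 44
    [0, 1, 2, 4, 5, 6, 15, 16, 17, 21, 22, 23, 24, 25, 26, 30, 31, 32, 41, 42, 43, 45, 46, 47] =
      true := by decide +kernel
theorem topF4b : chkTop chevF4 tabF4 47 [] = true := by decide +kernel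
theorem topE8 : chkTop chevE8 tabE8 239 [] = true := by decide +kernel

theorem exists_topG2 : ∀ r ∈ [9, 11], ∃ L, chkTop chevG2 tabG2 r L = true := by
  intro r hr
  rcases List.mem_cons.1 hr with rfl | hr
  · exact ⟨_, topG2a⟩
  · rw [List.mem_singleton] at hr; subst hr; exact ⟨_, topG2b⟩

theorem exists_topF4 : ∀ r ∈ [44, 47], ∃ L, chkTop chevF4 tabF4 r L = true := by
  intro r hr
  rcases List.mem_cons.1 hr with rfl | hr
  · exact ⟨_, topF4a⟩
  · rw [List.mem_singleton] at hr; subst hr; exact ⟨_, topF4b⟩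

theorem exists_topE8 : ∀ r ∈ [239], ∃ L, chkTop chevE8 tabE8 r L = true := by
  intro r hr
  rw [List.mem_singleton] at hr; subst hr; exact ⟨_, topE8⟩

end Cfsg.Agent.Lib.Chev
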