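import Cfsg.Agent.Lib.Blocks.PrimeOrderCorner

/-!
# A twisted operator on a corner of a matrix algebra
-/

set_option autoImplicit false
set_option linter.unusedSectionVars false
set_option linter.unusedVariables false

namespace Cfsg.Agent.Lib.Blocks

variable {k R : Type*} [Field k] [Ring R] [Algebra k R]

/-- If `T` normalises the span of matrix units, some element of the corner stands for it. -/
theorem exists_corner_twist {d : ℕ} (E : Fin d → Fin d → R) (i₀ : Fin d)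
    (hE : ∀ a b c c', E a b * E c c' = if b = c then E a c' else 0)
    (hne : E i₀ i₀ ≠ 0) (T : Rˣ) (u : R) (r e : ℕ) (he : 0 < e)
    (hT : ∀ a b, (T : R) * E a b * (↑T⁻¹ : R) ∈
      Submodule.span k (Set.range fun ab : Fin d × Fin d => E ab.1 ab.2))
    (hT' : ∀ a b, (↑T⁻¹ : R) * E a b * T ∈
      Submodule.span k (Set.range fun ab : Fin d × Fin d => E ab.1 ab.2))
    (hTe : (T : R) * ∑ a, E a a = (∑ a, E a a) * T)
    (hu : ∀ a b, Commute (E a b) u) (hTu : (T : R) * u = u ^ r * T)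
    (hTpow : ∀ a, (T : R) ^ e * E a i₀ ∈
      Submodule.span k (Set.range fun ab : Fin d × Fin d => E ab.1 ab.2)) :
    ∃ (τ : R) (c : k), c ≠ 0 ∧ E i₀ i₀ * τ = τ ∧ τ * E i₀ i₀ = τ ∧ τ * u = u ^ r * τ ∧
      τ ^ e = c • E i₀ i₀ ∧
      ∀ φ : R, E i₀ i₀ * φ = φ → φ * E i₀ i₀ = φ → Commute φ τ →
        Commute (∑ a, E a i₀ * φ * E i₀ a) (T : R) := by
  classical
  set A := Submodule.span k (Set.range fun ab : Fin d × Fin d => E ab.1 ab.2) with hA
  set π := E i₀ i₀ with hπ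
  set eA := ∑ a, E a a with heA
  have hππ : π * π = π := by rw [hπ, hE, if_pos rfl]
  have hcorner : ∀ x ∈ A, ∀ a b, ∃ c : k, E i₀ a * x * E b i₀ = c • π := by
    intro x hx a b
    refine Submodule.span_induction ?_ ⟨0, by simp⟩ ?_ ?_ hx
    · rintro _ ⟨⟨a', b'⟩, rfl⟩
      simp only [hE]
      by_cases h1 : a = a'
      · rw [if_pos h1, hE]
        by_cases h2 : b' = b
        · exact ⟨1, by rw [if_pos h2, one_smul]⟩
        · exact ⟨0, by rw [if_neg h2, zero_smul]⟩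
      · exact ⟨0, by rw [if_neg h1, zero_mul, zero_smul]⟩
    · rintro x y - - ⟨c, hc⟩ ⟨c', hc'⟩
      exact ⟨c + c', by rw [mul_add, add_mul, hc, hc', add_smul]⟩
    · rintro s x - ⟨c, hc⟩
      exact ⟨s * c, by rw [mul_smul_comm, smul_mul_assoc, hc, smul_smul]⟩
  have hAmul : ∀ x ∈ A, ∀ y ∈ A, x * y ∈ A := by
    intro x hx y hy
    refine Submodule.span_induction ?_ (by simp) (fun a b _ _ ha hb => by rw [add_mul]; exact add_mem ha hb)
      (fun s a _ ha => by rw [smul_mul_assoc]; exact Submodule.smul_mem _ _ ha) hx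
    rintro _ ⟨⟨a, b⟩, rfl⟩
    refine Submodule.span_induction ?_ (by simp) (fun z w _ _ hz hw => by rw [mul_add]; exact add_mem hz hw)
      (fun s z _ hz => by rw [mul_smul_comm]; exact Submodule.smul_mem _ _ hz) hy
    rintro _ ⟨⟨c, c'⟩, rfl⟩
    simp only [hE]
    split_ifs
    · exact Submodule.subset_span ⟨(a, c'), rfl⟩
    · exact zero_mem _
  -- choose the row
  obtain ⟨a₀, c, hc, hτ₁⟩ : ∃ (a₀ : Fin d) (c : k), c ≠ 0 ∧
      π * (↑T⁻¹ : R) * E a₀ i₀ * (E i₀ a₀ * T * π) = c • π := by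
    by_contra hcon
    apply hne
    have hTinv : (↑T⁻¹ : R) * eA * T = eA := by
      rw [mul_assoc, ← hTe, ← mul_assoc, Units.inv_mul, one_mul]
    have h0 : π = π * eA * π := by
      rw [heA, Finset.mul_sum, Finset.sum_mul, Finset.sum_eq_single i₀]
      · rw [← hπ, hππ, hππ]
      · intro b _ hb
        rw [hπ, hE, if_neg (Ne.symm hb), zero_mul]
      · simp
    show π = 0
    rw [h0, ← hTinv, heA, Finset.mul_sum, Finset.sum_mul, Finset.mul_sum, Finset.sum_mul]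
    refine Finset.sum_eq_zero fun a _ => ?_
    obtain ⟨c, hc⟩ := hcorner _ (hT' a a) i₀ i₀
    have he' : π * (↑T⁻¹ : R) * E a i₀ * (E i₀ a * T * π) = c • π := by
      rw [← hc, show π * (↑T⁻¹ : R) * E a i₀ * (E i₀ a * T * π) =
        π * ((↑T⁻¹ : R) * (E a i₀ * E i₀ a) * T) * π by simp only [mul_assoc], hE, if_pos rfl]
    have hc0 : c = 0 := by
      by_contra hne'
      exact hcon ⟨a, c, hne', he'⟩
    rw [hc, hc0, zero_smul]
  set τ := E i₀ a₀ * T * π with hτ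
  set τ₁ := π * (↑T⁻¹ : R) * E a₀ i₀ with hτ₁def
  have hπτ : π * τ = τ := by rw [hτ, ← mul_assoc, ← mul_assoc, hπ, hE, if_pos rfl]
  have hτπ : τ * π = τ := by rw [hτ, mul_assoc, hππ]
  have hτ0 : τ ≠ 0 := fun h => by
    rw [h, mul_zero] at hτ₁
    exact hne ((smul_eq_zero.1 hτ₁.symm).resolve_left hc)
  obtain ⟨c', hc'⟩ : ∃ c' : k, τ * τ₁ = c' • π := by
    obtain ⟨c', hc'⟩ := hcorner _ (hT i₀ i₀) a₀ a₀
    refine ⟨c', ?_⟩
    rw [← hc', hτ, hτ₁def, show E i₀ a₀ * T * π * (π * (↑T⁻¹ : R) * E a₀ i₀) =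
      E i₀ a₀ * (T * (π * π) * (↑T⁻¹ : R)) * E a₀ i₀ by simp only [mul_assoc], hππ]
  have hcc : c' = c := by
    have h : τ * (τ₁ * τ) = τ * τ₁ * τ := (mul_assoc _ _ _).symm
    rw [hτ₁, hc', mul_smul_comm, smul_mul_assoc, hτπ, hπτ] at h
    by_contra hne'
    have : (c - c') • τ = 0 := by rw [sub_smul, h, sub_self]
    exact hτ0 ((smul_eq_zero.1 this).resolve_left (sub_ne_zero.2 (Ne.symm hne')))
  rw [hcc] at hc'
  -- powers
  have hconjA : ∀ j : ℕ, ∀ x ∈ A, (T : R) * x * (↑T⁻¹ : R) ∈ A := by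
    intro j x hx
    refine Submodule.span_induction ?_ (by simp) (fun a b _ _ ha hb => by
      rw [mul_add, add_mul]; exact add_mem ha hb)
      (fun s a _ ha => by rw [mul_smul_comm, smul_mul_assoc]; exact Submodule.smul_mem _ _ ha) hx
    rintro _ ⟨⟨a, b⟩, rfl⟩
    exact hT a b
  have hpow : ∀ j : ℕ, ∃ x ∈ A, τ ^ (j + 1) = π * x * (T : R) ^ (j + 1) * π := by
    intro j
    induction j with
    | zero =>
      refine ⟨E i₀ a₀, Submodule.subset_span ⟨(i₀, a₀), rfl⟩, ?_⟩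
      rw [zero_add, pow_one, pow_one, hπ, hE, if_pos rfl]
    | succ j ih =>
      obtain ⟨x, hx, hxj⟩ := ih
      refine ⟨E i₀ a₀ * ((T : R) * (π * x) * (↑T⁻¹ : R)), hAmul _ (Submodule.subset_span ⟨(i₀, a₀), rfl⟩) _
        (hconjA 0 _ (hAmul _ (Submodule.subset_span ⟨(i₀, i₀), rfl⟩) _ hx)), ?_⟩
      rw [pow_succ' τ, hxj, pow_succ' (T : R) (j + 1), hτ]
      simp only [mul_assoc, Units.inv_mul_cancel_left]
      rw [← mul_assoc π π, hππ, ← mul_assoc π (E i₀ a₀), hπ, hE, if_pos rfl]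
  obtain ⟨c₂, hc₂⟩ : ∃ c₂ : k, τ ^ e = c₂ • π := by
    obtain ⟨j, rfl⟩ : ∃ j, e = j + 1 := ⟨e - 1, by omega⟩
    obtain ⟨x, hx, hxj⟩ := hpow j
    obtain ⟨c₂, hc₂⟩ := hcorner _ (hAmul _ hx _ (hTpow i₀)) i₀ i₀
    refine ⟨c₂, ?_⟩
    rw [hxj, ← hc₂]
    simp only [mul_assoc]
    rw [hππ]
  have hc₂0 : c₂ ≠ 0 := by
    intro h0
    rw [h0, zero_smul] at hc₂
    have hdown : ∀ j : ℕ, 0 < j → τ ^ j = 0 → π = 0 := by
      intro j
      induction j with
      | zero => omega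
      | succ j ih =>
        intro _ hz
        have h : τ₁ * τ ^ (j + 1) = 0 := by rw [hz, mul_zero]
        rw [pow_succ', ← mul_assoc, hτ₁, smul_mul_assoc, smul_eq_zero] at h
        rcases Nat.eq_zero_or_pos j with rfl | hj
        · rw [pow_zero, mul_one] at h; exact h.resolve_left hc
        · refine ih hj ?_
          have hzj : π * τ ^ j = τ ^ j := by
            obtain ⟨i, rfl⟩ : ∃ i, j = i + 1 := ⟨j - 1, by omega⟩
            rw [pow_succ', ← mul_assoc, hπτ]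
          rw [← hzj]; exact h.resolve_left hc
    exact hne (hdown e he hc₂)
  refine ⟨τ, c₂, hc₂0, hπτ, hτπ, ?_, hc₂, fun φ hφl hφr hφτ => ?_⟩
  · have hupow : ∀ a b, Commute (E a b) (u ^ r) := fun a b => (hu a b).pow_right r
    rw [hτ]
    simp only [mul_assoc]
    rw [(hu i₀ i₀).eq, ← mul_assoc (T : R) u, hTu]
    simp only [← mul_assoc]
    rw [(hupow i₀ a₀).eq]
  · set ψ := ∑ a, E a i₀ * φ * E i₀ a with hψ
    have hEψ : ∀ b, E i₀ b * ψ = φ * E i₀ b := by
      intro b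
      rw [hψ, Finset.mul_sum, Finset.sum_eq_single b]
      · rw [← mul_assoc, ← mul_assoc, hE, if_pos rfl, hφl]
      · intro x _ hx
        rw [← mul_assoc, ← mul_assoc, hE, if_neg (Ne.symm hx), zero_mul, zero_mul]
      · simp
    have hψE : ∀ b, ψ * E b i₀ = E b i₀ * φ := by
      intro b
      rw [hψ, Finset.sum_mul, Finset.sum_eq_single b]
      · rw [mul_assoc, hE, if_pos rfl, mul_assoc, hφr]
      · intro x _ hx
        rw [mul_assoc, hE, if_neg hx, mul_zero]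
      · simp
    have heψ : eA * ψ = ψ := by
      rw [heA, hψ, Finset.sum_mul]
      refine Finset.sum_congr rfl fun b _ => ?_
      rw [Finset.mul_sum, Finset.sum_eq_single b]
      · rw [← mul_assoc, ← mul_assoc, hE, if_pos rfl]
      · intro x _ hx; rw [← mul_assoc, ← mul_assoc, hE, if_neg (Ne.symm hx), zero_mul, zero_mul]
      · simp
    have hψe : ψ * eA = ψ := by
      rw [heA, hψ, Finset.sum_mul]
      refine Finset.sum_congr rfl fun b _ => ?_
      rw [Finset.mul_sum, Finset.sum_eq_single b]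
      · rw [mul_assoc, hE, if_pos rfl]
      · intro x _ hx; rw [mul_assoc, hE, if_neg (Ne.symm hx), mul_zero]
      · simp
    -- every block of `T` is a multiple of `τ`
    have hblock : ∀ a b, ∃ s : k, E i₀ a * T * E b i₀ = s • τ := by
      intro a b
      obtain ⟨s, hs⟩ : ∃ s : k, τ₁ * (E i₀ a * T * E b i₀) = s • π := by
        obtain ⟨s, hs⟩ := hcorner _ (hT' a₀ a) i₀ b
        refine ⟨s, ?_⟩
        rw [← hs, hτ₁def, show π * (↑T⁻¹ : R) * E a₀ i₀ * (E i₀ a * T * E b i₀) =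
          π * ((↑T⁻¹ : R) * (E a₀ i₀ * E i₀ a) * T) * E b i₀ by simp only [mul_assoc], hE, if_pos rfl]
      refine ⟨c⁻¹ * s, ?_⟩
      have h := congrArg (fun z => τ * z) hs
      simp only [← mul_assoc, hc', mul_smul_comm, hτπ, smul_mul_assoc] at h
      rw [hπ, hE, if_pos rfl] at h
      rw [mul_smul, ← h, smul_smul, inv_mul_cancel₀ hc, one_smul]
    have hrep : ∀ X : R, eA * X = X → X * eA = X →
        X = ∑ b, ∑ c, E b i₀ * (E i₀ b * X * E c i₀) * E i₀ c := by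
      intro X h1 h2
      conv_lhs => rw [← h1, ← h2, heA, Finset.sum_mul, Finset.mul_sum]
      refine Finset.sum_congr rfl fun b _ => ?_
      rw [Finset.mul_sum]
      refine Finset.sum_congr rfl fun c _ => ?_
      rw [show E b i₀ * (E i₀ b * X * E c i₀) * E i₀ c = (E b i₀ * E i₀ b) * X * (E c i₀ * E i₀ c) by
        simp only [mul_assoc], hE, if_pos rfl, hE, if_pos rfl, ← mul_assoc]
    show ψ * (T : R) = (T : R) * ψ
    rw [hrep (ψ * T) (by rw [← mul_assoc, heψ]) (by rw [mul_assoc, hTe, ← mul_assoc, hψe]),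
      hrep ((T : R) * ψ) (by rw [← mul_assoc, ← hTe, mul_assoc, heψ]) (by rw [mul_assoc, hψe])]
    refine Finset.sum_congr rfl fun b _ => Finset.sum_congr rfl fun c _ => ?_
    congr 2
    obtain ⟨s, hs⟩ := hblock b c
    calc E i₀ b * (ψ * (T : R)) * E c i₀ = φ * (E i₀ b * T * E c i₀) := by
          rw [← mul_assoc, hEψ]; simp only [mul_assoc]
      _ = (E i₀ b * T * E c i₀) * φ := by rw [hs, mul_smul_comm, hφτ.eq, smul_mul_assoc]
      _ = E i₀ b * ((T : R) * ψ) * E c i₀ := by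
          simp only [mul_assoc, hψE]

end Cfsg.Agent.Lib.Blocks
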