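import Mathlib.Algebra.MonoidAlgebra.Basic
import Mathlib.RingTheory.HopkinsLevitzki
import Mathlib.RingTheory.Jacobson.Semiprimary
import Mathlib.RingTheory.SimpleModule.Basic
import Mathlib.LinearAlgebra.FiniteDimensional.Basic
import Mathlib.GroupTheory.QuotientGroup.Basic

/-!
# Annihilator of a central idempotent in a normal group algebra

For `N ⊴ G` and a central idempotent `E` of `k[G]`, the annihilator of `E` in `k[N]` is generated by
a central idempotent of `k[N]` invariant under `G`.
-/

set_option autoImplicit false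

namespace Cfsg.Agent.Lib.Blocks.CoverIdem

open MonoidAlgebra

variable {k : Type*} [Field k] {G : Type*} [Group G] [Fintype G] (N : Subgroup G) [hN : N.Normal]
  [Fintype N]

/-- Inclusion of the subgroup algebra. -/
noncomputable abbrev incl : MonoidAlgebra k N →+* MonoidAlgebra k G :=
  mapDomainRingHom k N.subtype

/-- Restriction of coefficients to the subgroup. -/
noncomputable def proj : MonoidAlgebra k G →+ MonoidAlgebra k N where
  toFun a := ∑ n : N, single n (a.coeff (n : G))
  map_zero' := by simp
  map_add' a b := by simp [single_add, Finset.sum_add_distrib]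

theorem coeff_proj (a : MonoidAlgebra k G) (n : N) :
    (proj N a).coeff n = a.coeff (n : G) := by
  classical
  simp [proj, MonoidAlgebra.coeff_sum, Finsupp.single_apply]

theorem proj_single_of_mem {g : G} (hg : g ∈ N) (c : k) :
    proj N (single g c) = single (⟨g, hg⟩ : N) c := by
  classical
  refine coeff_injective (Finsupp.ext fun n => ?_)
  rw [coeff_proj, coeff_single, coeff_single, Finsupp.single_apply, Finsupp.single_apply]
  simp [Subtype.ext_iff]

theorem proj_single_of_notMem {g : G} (hg : g ∉ N) (c : k) :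
    proj N (single g c) = 0 := by
  classical
  refine coeff_injective (Finsupp.ext fun n => ?_)
  rw [coeff_proj, coeff_single, Finsupp.single_apply, if_neg fun h : g = (n : G) => hg (by rw [h]; exact n.2)]
  simp

theorem proj_incl_mul (r : MonoidAlgebra k N) (a : MonoidAlgebra k G) :
    proj N (incl N r * a) = r * proj N a := by
  induction r using MonoidAlgebra.induction_linear with
  | zero => simp
  | add x y hx hy => simp only [map_add, add_mul, mul_add, hx, hy]
  | single n c =>
    induction a using MonoidAlgebra.induction_linear with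
    | zero => simp
    | add x y hx hy => simp only [map_add, add_mul, mul_add, hx, hy]
    | single g d =>
      rw [incl, mapDomainRingHom_apply, mapDomain_single, Subgroup.coe_subtype, single_mul_single]
      by_cases hg : g ∈ N
      · rw [proj_single_of_mem N (mul_mem n.2 hg), proj_single_of_mem N hg, single_mul_single]
        rfl
      · rw [proj_single_of_notMem N (fun h => hg ?_), proj_single_of_notMem N hg, mul_zero]
        simpa using mul_mem (inv_mem n.2) h

theorem proj_mul_incl (r : MonoidAlgebra k N) (a : MonoidAlgebra k G) :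
    proj N (a * incl N r) = proj N a * r := by
  induction r using MonoidAlgebra.induction_linear with
  | zero => simp
  | add x y hx hy => simp only [map_add, add_mul, mul_add, hx, hy]
  | single n c =>
    induction a using MonoidAlgebra.induction_linear with
    | zero => simp
    | add x y hx hy => simp only [map_add, add_mul, mul_add, hx, hy]
    | single g d =>
      rw [incl, mapDomainRingHom_apply, mapDomain_single, Subgroup.coe_subtype, single_mul_single]
      by_cases hg : g ∈ N
      · rw [proj_single_of_mem N (mul_mem hg n.2), proj_single_of_mem N hg, single_mul_single]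
        rfl
      · rw [proj_single_of_notMem N (fun h => hg ?_), proj_single_of_notMem N hg, zero_mul]
        simpa using mul_mem h (inv_mem n.2)

theorem eq_sum_cosets [Fintype (G ⧸ N)] (a : MonoidAlgebra k G) :
    a = ∑ C : G ⧸ N, incl N (proj N (a * single (Quotient.out C)⁻¹ 1)) *
      single (Quotient.out C) 1 := by
  classical
  induction a using MonoidAlgebra.induction_linear with
  | zero => simp
  | add x y hx hy =>
    simp only [add_mul, map_add, Finset.sum_add_distrib]
    rw [← hx, ← hy]
  | single g c =>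
    have hout : g * (Quotient.out (g : G ⧸ N))⁻¹ ∈ N := by
      have h := QuotientGroup.out_eq' (g : G ⧸ N)
      rw [QuotientGroup.eq] at h
      simpa [mul_assoc] using hN.conj_mem _ h (Quotient.out (g : G ⧸ N))
    rw [Finset.sum_eq_single (g : G ⧸ N)]
    · rw [single_mul_single, mul_one, proj_single_of_mem N hout, incl, mapDomainRingHom_apply,
        mapDomain_single, single_mul_single, mul_one]
      simp
    · intro C _ hC
      rw [single_mul_single, mul_one, proj_single_of_notMem N (fun h => hC ?_), map_zero, zero_mul]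
      rw [← QuotientGroup.out_eq' C, eq_comm, QuotientGroup.eq]
      simpa [mul_assoc] using inv_mem (hN.conj_mem _ h g⁻¹)
    · simp

/-- Conjugation on the subgroup algebra. -/
noncomputable abbrev conjR (g : G) : MonoidAlgebra k N ≃+* MonoidAlgebra k N :=
  mapDomainRingEquiv k (MulAut.conjNormal g : MulAut N)

theorem single_mul_incl (g : G) (c : k) (r : MonoidAlgebra k N) :
    single g c * incl N r = incl N (conjR N g r) * single g c := by
  induction r using MonoidAlgebra.induction_linear with
  | zero => simp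
  | add x y hx hy => simp only [map_add, mul_add, add_mul, hx, hy]
  | single n d =>
    simp [mul_comm c d, mul_assoc]

theorem exists_left_unit_mod_jacobson {R : Type*} [Ring R] [IsArtinianRing R] (W : Ideal R)
    [hW : W.IsTwoSided] : ∃ w ∈ W, ∀ u ∈ W, (1 - w) * u ∈ Ring.jacobson R := by
  let q := Ideal.Quotient.mk (Ring.jacobson R)
  let W' : Ideal (R ⧸ Ring.jacobson R) := W.map q
  have hmem : ∀ z, z ∈ W' ↔ ∃ x ∈ W, q x = z := fun z =>
    Ideal.mem_map_iff_of_surjective q Ideal.Quotient.mk_surjective
  haveI : IsSemisimpleRing (R ⧸ Ring.jacobson R) := IsSemiprimaryRing.isSemisimpleRing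
  obtain ⟨L, hL⟩ := exists_isCompl W'
  have h1 : (1 : R ⧸ Ring.jacobson R) ∈ W' ⊔ L := by rw [hL.sup_eq_top]; trivial
  obtain ⟨f, hf, l, hl, hfl⟩ := Submodule.mem_sup.1 h1
  have hr : ∀ u ∈ W', u * l = 0 := by
    intro u hu
    obtain ⟨x, hx, rfl⟩ := (hmem u).1 hu
    obtain ⟨y, rfl⟩ := Ideal.Quotient.mk_surjective l
    have : q (x * y) ∈ W' ⊓ L := ⟨(hmem _).2 ⟨x * y, W.mul_mem_right y hx, rfl⟩,
      by rw [map_mul]; exact L.mul_mem_left _ hl⟩
    rw [hL.inf_eq_bot, Submodule.mem_bot, map_mul] at this
    exact this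
  obtain ⟨w, hw, rfl⟩ := (hmem f).1 hf
  refine ⟨w, hw, fun u hu => ?_⟩
  rw [← Ideal.Quotient.eq_zero_iff_mem]
  set y : R ⧸ Ring.jacobson R := q ((1 - w) * u) with hy
  have hl' : l = q (1 - w) := by rw [map_sub, map_one, ← hfl, add_sub_cancel_left]
  have hyy : ∀ z : R ⧸ Ring.jacobson R, y * z * y = 0 := by
    intro z
    obtain ⟨z', rfl⟩ := Ideal.Quotient.mk_surjective z
    have hm : q ((1 - w) * u * z') ∈ W' :=
      (hmem _).2 ⟨_, W.mul_mem_right z' (W.mul_mem_left _ hu), rfl⟩
    have := hr _ hm
    rw [hy, ← map_mul, map_mul q (1 - w) u, ← hl', ← mul_assoc, this, zero_mul]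
  obtain ⟨L', hL'⟩ := exists_isCompl (Ideal.span {y})
  have h2 : (1 : R ⧸ Ring.jacobson R) ∈ Ideal.span {y} ⊔ L' := by rw [hL'.sup_eq_top]; trivial
  obtain ⟨a, ha, l', hl'', hal⟩ := Submodule.mem_sup.1 h2
  obtain ⟨r, rfl⟩ := Ideal.mem_span_singleton'.1 ha
  have h3 : y = y * l' := by
    conv_lhs => rw [← mul_one y, ← hal, mul_add, ← mul_assoc, hyy, zero_add]
  have h4 : y ∈ Ideal.span {y} ⊓ L' :=
    ⟨Ideal.mem_span_singleton_self y, h3 ▸ L'.mul_mem_left y hl''⟩
  rw [hL'.inf_eq_bot, Submodule.mem_bot] at h4
  exact h4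

/-- The annihilator of a central idempotent of `k[G]` in `k[N]` is generated by a `G`-invariant
central idempotent. -/
theorem exists_idempotent (E : MonoidAlgebra k G) (hE : E * E = E) (hEc : ∀ a, E * a = a * E) :
    ∃ i : MonoidAlgebra k N, i * i = i ∧ (∀ r, i * r = r * i) ∧
      (∀ r, incl N r * E = 0 ↔ r * i = r) ∧ ∀ g : G, conjR N g i = i := by
  classical
  haveI := Fintype.ofFinite (G ⧸ N)
  haveI : Module.Finite k (MonoidAlgebra k N) :=
    Module.Finite.equiv (MonoidAlgebra.coeffLinearEquiv k).symm
  haveI : IsArtinianRing (MonoidAlgebra k N) := IsArtinianRing.of_finite k _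
  let W : Ideal (MonoidAlgebra k N) :=
    { carrier := {r | ∃ a, proj N (E * a) = r}
      zero_mem' := ⟨0, by simp⟩
      add_mem' := by
        rintro _ _ ⟨a, rfl⟩ ⟨b, rfl⟩
        exact ⟨a + b, by rw [mul_add, map_add]⟩
      smul_mem' := by
        rintro r _ ⟨a, rfl⟩
        refine ⟨incl N r * a, ?_⟩
        rw [smul_eq_mul, ← proj_incl_mul, ← mul_assoc, hEc (incl N r), mul_assoc] }
  haveI : W.IsTwoSided := ⟨fun {x} y hx => by
    obtain ⟨a, rfl⟩ := hx
    exact ⟨a * incl N y, by rw [← proj_mul_incl, mul_assoc]⟩⟩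
  -- annihilated elements kill `W`
  have hkl : ∀ r, incl N r * E = 0 → ∀ u ∈ W, r * u = 0 ∧ u * r = 0 := by
    rintro r hr _ ⟨a, rfl⟩
    refine ⟨?_, ?_⟩
    · rw [← proj_incl_mul, ← mul_assoc, hr, zero_mul, map_zero]
    · rw [← proj_mul_incl, hEc a, mul_assoc, hEc (incl N r), hr, mul_zero, map_zero]
  obtain ⟨w, hw, hwJ⟩ := exists_left_unit_mod_jacobson W
  set J := Ring.jacobson (MonoidAlgebra k N) with hJ
  have hJconj : ∀ (g : G), ∀ j ∈ J, conjR N g j ∈ J := fun g j hj => by
    haveI : RingHomSurjective (conjR (k := k) N g).toRingHom := ⟨(conjR (k := k) N g).surjective⟩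
    exact Ring.map_jacobson_le (conjR (k := k) N g).toRingHom ⟨j, hj, rfl⟩
  let K : ℕ → AddSubmonoid (MonoidAlgebra k G) := fun m =>
    AddSubmonoid.closure {x | ∃ j ∈ J ^ m, ∃ b, incl N j * b = x}
  set d := incl N (1 - w) * E with hd
  have hd1 : d ∈ K 1 := by
    have : d = ∑ C : G ⧸ N, incl N ((1 - w) * proj N (E * single (Quotient.out C)⁻¹ 1)) *
        single (Quotient.out C) 1 := by
      rw [hd]
      conv_lhs => rw [eq_sum_cosets N E, Finset.mul_sum]
      refine Finset.sum_congr rfl fun C _ => ?_
      rw [(incl N).map_mul (1 - w), mul_assoc]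
    rw [this]
    refine AddSubmonoid.sum_mem _ fun C _ => AddSubmonoid.subset_closure ⟨_, ?_, _, rfl⟩
    rw [Submodule.pow_one]
    exact hwJ _ ⟨_, rfl⟩
  have hK : ∀ m, ∀ x ∈ K m, ∀ y ∈ K 1, x * y ∈ K (m + 1) := by
    intro m x hx
    induction hx using AddSubmonoid.closure_induction with
    | zero => intro y _; rw [zero_mul]; exact zero_mem _
    | add a b _ _ ha hb => intro y hy; rw [add_mul]; exact add_mem (ha y hy) (hb y hy)
    | mem x hx =>
      obtain ⟨j, hj, b, rfl⟩ := hx
      intro y hy
      induction hy using AddSubmonoid.closure_induction with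
      | zero => rw [mul_zero]; exact zero_mem _
      | add a c _ _ ha hc => rw [mul_add]; exact add_mem ha hc
      | mem y hy =>
        obtain ⟨j', hj', c, rfl⟩ := hy
        rw [Submodule.pow_one] at hj'
        induction b using MonoidAlgebra.induction_linear with
        | zero => simp
        | add u v hu hv => rw [mul_add, add_mul]; exact add_mem hu hv
        | single g e =>
          refine AddSubmonoid.subset_closure ⟨j * conjR N g j', ?_, single g e * c, ?_⟩
          · rw [Submodule.pow_succ]; exact Submodule.mul_mem_mul hj (hJconj g j' hj')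
          · rw [map_mul, mul_assoc (incl N j), ← mul_assoc (incl N (conjR N g j')),
              ← single_mul_incl]
            simp only [mul_assoc]
  obtain ⟨n, hn⟩ : IsNilpotent J := IsSemiprimaryRing.isNilpotent
  have hdK : ∀ m, d ^ (m + 1) ∈ K (m + 1) := by
    intro m
    induction m with
    | zero => simpa using hd1
    | succ m ih => rw [pow_succ]; exact hK _ _ ih _ hd1
  have hdn : d ^ (n + 1) = 0 := by
    have h := hdK n
    have hbot : K (n + 1) ≤ ⊥ := by
      refine AddSubmonoid.closure_le.2 ?_
      rintro _ ⟨j, hj, b, rfl⟩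
      have : j ∈ (⊥ : Ideal (MonoidAlgebra k N)) := by
        have h0 : J ^ (n + 1) = ⊥ := by rw [Submodule.pow_succ, hn]; simp
        rwa [h0] at hj
      rw [Submodule.mem_bot] at this
      simp [this]
    exact AddSubmonoid.mem_bot.1 (hbot h)
  let i := (1 - w) ^ (n + 1)
  have hi : incl N i * E = 0 := by
    rw [← hdn, hd, (show Commute (incl N (1 - w)) E from (hEc _).symm).mul_pow, map_pow,
      (show IsIdempotentElem E from hE).pow_succ_eq]
  have hiW : 1 - i ∈ W := by
    obtain ⟨c, hc⟩ : ∃ c, 1 - (1 - w) ^ (n + 1) = c * w := by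
      refine ⟨∑ m ∈ Finset.range (n + 1), (1 - w) ^ m, ?_⟩
      rw [← geom_sum_mul_neg, sub_sub_cancel]
    show 1 - (1 - w) ^ (n + 1) ∈ W
    rw [hc]
    exact W.mul_mem_left c hw
  have hannih : ∀ r, incl N r * E = 0 → r * i = r ∧ i * r = r := fun r hr => by
    obtain ⟨h1, h2⟩ := hkl r hr _ hiW
    constructor
    · rw [mul_sub, mul_one, sub_eq_zero] at h1; exact h1.symm
    · rw [sub_mul, one_mul, sub_eq_zero] at h2; exact h2.symm
  have hcen : ∀ r, i * r = r * i := by
    intro r
    have h1 : incl N (r * i) * E = 0 := by rw [map_mul, mul_assoc, hi, mul_zero]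
    have h2 : incl N (i * r) * E = 0 := by
      rw [map_mul, mul_assoc, ← hEc, ← mul_assoc, hi, zero_mul]
    calc i * r = i * r * i := ((hannih _ h2).1).symm
      _ = i * (r * i) := mul_assoc _ _ _
      _ = r * i := (hannih _ h1).2
  have hconj : ∀ g : G, incl N (conjR N g i) * E = 0 := by
    intro g
    have h := single_mul_incl N g (1 : k) i
    have h1 : incl N (conjR N g i) = single g 1 * incl N i * single g⁻¹ (1 : k) := by
      rw [h, mul_assoc, single_mul_single, mul_inv_cancel, mul_one, ← MonoidAlgebra.one_def, mul_one]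
    rw [h1, mul_assoc, ← hEc, ← mul_assoc, mul_assoc (single g (1 : k)), hi, mul_zero, zero_mul]
  refine ⟨i, (hannih i hi).1, hcen, fun r => ⟨fun h => (hannih r h).1, fun h => by
    rw [← h, map_mul, mul_assoc, hi, mul_zero]⟩, fun g => ?_⟩
  have h1 : conjR N g i * i = conjR N g i := (hannih _ (hconj g)).1
  have h2 : conjR N g⁻¹ i * i = conjR N g⁻¹ i := (hannih _ (hconj g⁻¹)).1
  have h3 := congrArg (conjR N g) h2
  have h4 : ∀ r : MonoidAlgebra k N, conjR N g (conjR N g⁻¹ r) = r := by
    intro r
    induction r using MonoidAlgebra.induction_linear with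
    | zero => simp
    | add x y hx hy => simp only [map_add, hx, hy]
    | single n c =>
      simp
  rw [map_mul, h4, hcen] at h3
  exact h1.symm.trans h3

end Cfsg.Agent.Lib.Blocks.CoverIdem
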