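import Cfsg.Agent.Lib.Blocks.Covering
import Cfsg.Agent.Lib.Blocks.NormalP
import Cfsg.Agent.Lib.Blocks.CoverIdem
import Cfsg.Agent.Lib.Blocks.Valuation

/-!
# A covered block embeds in the covering block

If `B` covers `b`, multiplication by the idempotent of `B` is injective on the reduced block
algebra of `b`.  In particular every member of `b` lies under a member of `B`.
-/

set_option autoImplicit false
set_option linter.unusedSectionVars false
set_option linter.style.haveILetI false

namespace Cfsg.Agent.Lib.Blocks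

open Cfsg Cfsg.Agent.Lib.Characters
open scoped ComplexConjugate

universe u

variable {G : Type u} [Group G] [Fintype G] {M : Ideal AlgInt} [hMp : M.IsPrime] {p : ℕ}

/-- A class function with all values in the local ideal has all central characters there. -/
theorem memLocalIdeal_mul_omega {f : G → ℂ} (h : ∀ x, MemLocalIdeal M (f x)) (χ : IrrCharacter G)
    (hf : IsClassFunction G f) : MemLocalIdeal M (omega (χ : G → ℂ) f) := by
  haveI : Finite (ConjClasses G) := Finite.of_surjective _ ConjClasses.mk_surjective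
  haveI := Fintype.ofFinite (ConjClasses G)
  rw [omega_eq_sum_classes (irr_isClassFunction χ) hf]
  exact memLocalIdeal_sum _ fun C _ =>
    memLocalIdeal_mul_right (h _) (memLocalRing_centralChar χ _)

/-- Convolution is associative. -/
theorem conv_assoc' (f f' f'' : G → ℂ) : conv (conv f f') f'' = conv f (conv f' f'') := by
  funext y
  simp only [conv, Finset.sum_mul, Finset.mul_sum]
  rw [Finset.sum_comm]
  refine Finset.sum_congr rfl fun z _ => ?_
  refine Fintype.sum_equiv (Equiv.mulLeft z⁻¹) _ _ fun x => ?_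
  simp only [Equiv.coe_mulLeft, mul_inv_rev, inv_inv, mul_assoc, mul_inv_cancel_left]

theorem memLocalRing_conv {f f' : G → ℂ} (hf : ∀ x, MemLocalRing M (f x))
    (hf' : ∀ x, MemLocalRing M (f' x)) (y : G) : MemLocalRing M (conv f f' y) :=
  memLocalRing_sum _ fun x _ => memLocalRing_mul (hf x) (hf' _)

theorem memLocalRing_extZero (N : Subgroup G) {a : N → ℂ} (ha : ∀ n, MemLocalRing M (a n))
    (x : G) : MemLocalRing M (extendByZero N a x) := by
  by_cases hx : x ∈ N
  · rw [extendByZero_of_mem _ _ hx]; exact ha _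
  · rw [extendByZero_of_not_mem _ _ hx]; exact memLocalRing_zero

theorem redAlg_eq_iff {f f' : G → ℂ} (hf : ∀ x, MemLocalRing M (f x))
    (hf' : ∀ x, MemLocalRing M (f' x)) :
    redAlg f hf = redAlg f' hf' ↔ ∀ x, MemLocalIdeal M (f x - f' x) := by
  constructor
  · intro h x
    have h1 := congrArg (fun t : MonoidAlgebra (ResField M) G => t.coeff x) h
    simp only [coeff_redAlg] at h1
    rw [← sub_eq_zero, ← map_sub, red_eq_zero_iff] at h1
    exact h1
  · intro h
    refine MonoidAlgebra.coeff_injective (Finsupp.ext fun x => ?_)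
    rw [coeff_redAlg, coeff_redAlg, ← sub_eq_zero, ← map_sub, red_eq_zero_iff]
    exact h x

theorem redAlg_eq_zero_iff {f : G → ℂ} (hf : ∀ x, MemLocalRing M (f x)) :
    redAlg f hf = 0 ↔ ∀ x, MemLocalIdeal M (f x) := by
  constructor
  · intro h x
    have h1 := congrArg (fun t : MonoidAlgebra (ResField M) G => t.coeff x) h
    simp only [coeff_redAlg] at h1
    exact red_eq_zero_iff.1 (h1.trans (by simp))
  · intro h
    refine MonoidAlgebra.coeff_injective (Finsupp.ext fun x => ?_)
    rw [coeff_redAlg, red_eq_zero_iff.2 (show MemLocalIdeal M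
      ((⟨f x, hf x⟩ : locSubring M) : ℂ) from h x)]
    simp

theorem redAlg_deltaOne :
    redAlg (deltaOne : G → ℂ) (isRCentral_deltaOne (M := M)).2 = 1 := by
  classical
  refine MonoidAlgebra.coeff_injective (Finsupp.ext fun x => ?_)
  rw [coeff_redAlg, MonoidAlgebra.one_def, MonoidAlgebra.coeff_single, Finsupp.single_apply]
  by_cases hx : (1 : G) = x
  · rw [if_pos hx, ← map_one (red M)]
    congr 1
    exact Subtype.ext (by subst hx; simp [deltaOne_apply])
  · rw [if_neg hx, red_eq_zero_iff]
    show MemLocalIdeal M ((deltaOne : G → ℂ) x)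
    rw [deltaOne_apply, if_neg (fun h => hx h.symm)]
    exact memLocalIdeal_zero

theorem redAlg_central {f : G → ℂ} (hf : IsRCentral M f) (a : MonoidAlgebra (ResField M) G) :
    redAlg f hf.2 * a = a * redAlg f hf.2 := by
  classical
  induction a using MonoidAlgebra.induction_linear with
  | zero => simp
  | add x y hx hy => rw [mul_add, add_mul, hx, hy]
  | single g c =>
    rw [redAlg, Finset.sum_mul, Finset.mul_sum]
    refine Fintype.sum_equiv (MulAut.conj g⁻¹).toEquiv _ _ fun x => ?_
    rw [MonoidAlgebra.single_mul_single, MonoidAlgebra.single_mul_single]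
    change _ = MonoidAlgebra.single (g * (g⁻¹ * x * g⁻¹⁻¹)) (c * red M ⟨f (g⁻¹ * x * g⁻¹⁻¹), hf.2 _⟩)
    have h : (⟨f (g⁻¹ * x * g⁻¹⁻¹), hf.2 _⟩ : locSubring M) = ⟨f x, hf.2 x⟩ := Subtype.ext (by
      exact hf.1 x g⁻¹)
    rw [h, mul_comm c]
    congr 1
    group

theorem incl_redAlg (N : Subgroup G) [Fintype N] {a : N → ℂ} (ha : ∀ n, MemLocalRing M (a n)) :
    CoverIdem.incl N (redAlg a ha) =
      redAlg (extendByZero N a) (memLocalRing_extZero N ha) := by
  classical
  refine MonoidAlgebra.coeff_injective (Finsupp.ext fun x => ?_)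
  rw [coeff_redAlg, CoverIdem.incl, MonoidAlgebra.mapDomainRingHom_apply,
    MonoidAlgebra.coeff_mapDomain]
  by_cases hx : x ∈ N
  · rw [show x = N.subtype ⟨x, hx⟩ from rfl, Finsupp.mapDomain_apply N.subtype_injective,
      coeff_redAlg]
    congr 1
    exact Subtype.ext (extendByZero_coe N a ⟨x, hx⟩).symm
  · rw [Finsupp.mapDomain_notin_range _ _ (by rintro ⟨n, rfl⟩; exact hx n.2)]
    symm
    rw [red_eq_zero_iff]
    show MemLocalIdeal M (extendByZero N a x)
    rw [extendByZero_of_not_mem _ _ hx]
    exact memLocalIdeal_zero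

variable (N : Subgroup G) [hN : N.Normal] [Fintype N]

theorem isRCentral_of_mem_block {K : Type u} [Group K] [Fintype K] (hM : IsPModular p M)
    {A : Set (IrrCharacter K)} (hA : ∀ χ ∈ A, blockOf M (χ : K → ℂ) ⊆ A) :
    IsRCentral M (blockCoeff A) := isRCentral_blockCoeff_of_closed hM hA

/-- A product of an idempotent with an element annihilated by all its central characters
vanishes. -/
theorem redAlg_mul_eq_zero {K : Type u} [Group K] [Fintype K] (hM : IsPModular p M)
    {A : Set (IrrCharacter K)} (hA : ∀ χ ∈ A, blockOf M (χ : K → ℂ) ⊆ A)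
    {F : K → ℂ} (hF : IsRCentral M F) (hid : redAlg F hF.2 * redAlg F hF.2 = redAlg F hF.2)
    (hω : ∀ η ∈ A, MemLocalIdeal M (omega (η : K → ℂ) F)) :
    redAlg (blockCoeff A) (isRCentral_blockCoeff_of_closed hM hA).2 * redAlg F hF.2 = 0 := by
  classical
  have he := isRCentral_blockCoeff_of_closed hM hA
  have hz := he.conv hF
  obtain ⟨n, hn⟩ := exists_convPow_memLocalIdeal hM hz fun η => by
    rw [omega_conv η.2 he.1, omega_blockCoeff]
    split_ifs with h
    · rw [one_mul]; exact hω η h
    · rw [zero_mul]; exact memLocalIdeal_zero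
  rw [← redAlg_conv _ _ he.2 hF.2 hz.2]
  have hidem : IsIdempotentElem (redAlg (conv (blockCoeff A) F) hz.2) := by
    show _ * _ = _
    have h1 : redAlg (conv (blockCoeff A) (blockCoeff A)) (he.conv he).2 =
        redAlg (blockCoeff A) he.2 :=
      (redAlg_eq_iff _ _).2 fun x => by rw [blockCoeff_conv_self, sub_self]; exact memLocalIdeal_zero
    rw [redAlg_conv _ _ he.2 he.2] at h1
    rw [redAlg_conv _ _ he.2 hF.2, mul_assoc, ← mul_assoc (redAlg F hF.2),
      ← redAlg_central he (redAlg F hF.2), mul_assoc (redAlg (blockCoeff A) he.2) (redAlg F hF.2),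
      hid, ← mul_assoc, h1]
  have hpow : ∀ m, redAlg (convPow (conv (blockCoeff A) F) m) (isRCentral_convPow hz m).2 =
      redAlg (conv (blockCoeff A) F) hz.2 ^ m := by
    intro m
    induction m with
    | zero => rw [pow_zero]; exact redAlg_deltaOne
    | succ m ih =>
      rw [pow_succ', ← ih, ← redAlg_conv]
      rfl
  rw [← hidem.pow_succ_eq n, ← hpow, redAlg_eq_zero_iff]
  exact hn _ (Nat.le_succ n)

theorem IsPBlock.blockOf_subset {B : Set (IrrCharacter G)} (hB : IsPBlock M B) :
    ∀ χ ∈ B, blockOf M (χ : G → ℂ) ⊆ B := fun χ hχ => (IsPBlock.eq_blockOf hB hχ).ge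

/-- **Injectivity**: if `B` covers `b` then the idempotent of `B` annihilates no nonzero
element of the block algebra of `b` modulo `M`. -/
theorem covered_injective (hM : IsPModular p M) {B : Set (IrrCharacter G)} (hB : IsPBlock M B)
    {b : Set (IrrCharacter N)} (hb : IsPBlock M b)
    (hcov : ∃ χ ∈ B, ∃ θ ∈ b, classInner (fun n : N => (χ : G → ℂ) n) (θ : N → ℂ) ≠ 0)
    {a : N → ℂ} (ha : ∀ n, MemLocalRing M (a n))
    (hab : ∀ n, MemLocalIdeal M (conv a (blockCoeff b) n - a n))
    (haB : ∀ x, MemLocalIdeal M (conv (extendByZero N a) (blockCoeff B) x)) :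
    ∀ n, MemLocalIdeal M (a n) := by
  classical
  obtain ⟨χ₀, hχ₀, θ₀, hθ₀, hne₀⟩ := hcov
  have heB := isRCentral_blockCoeff hM hB
  have heb := isRCentral_blockCoeff hM hb
  set E := redAlg (blockCoeff B) heB.2 with hE
  have hEE : E * E = E := by
    rw [hE, ← redAlg_conv _ _ heB.2 heB.2 (heB.conv heB).2, redAlg_eq_iff]
    intro x
    rw [blockCoeff_conv_self, sub_self]
    exact memLocalIdeal_zero
  obtain ⟨i, hii, hic, hI, hinv⟩ := CoverIdem.exists_idempotent N E hEE (redAlg_central heB)
  -- a lift of `i`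
  let F : N → ℂ := fun n => ((red_surjective (M := M) (i.coeff n)).choose : ℂ)
  have hFred : ∀ n, red M ⟨F n, (red_surjective (M := M) (i.coeff n)).choose.2⟩ = i.coeff n :=
    fun n => (red_surjective (M := M) (i.coeff n)).choose_spec
  have hcoef : ∀ (g : G) (n : N), i.coeff ((MulAut.conjNormal g : MulAut N) n) = i.coeff n := by
    intro g n
    conv_lhs => rw [← hinv g]
    rw [CoverIdem.conjR, MonoidAlgebra.coeff_mapDomainRingEquiv, Finsupp.equivMapDomain_apply]
    simp
  have hFconj : ∀ (g : G) (n : N), F ((MulAut.conjNormal g : MulAut N) n) = F n := fun g n => by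
    show ((red_surjective (M := M) (i.coeff _)).choose : ℂ) =
      ((red_surjective (M := M) (i.coeff n)).choose : ℂ)
    congr! 3
    rw [hcoef]
  have hF : IsRCentral M F := ⟨fun x c => by
    rw [← hFconj (c : G) x]
    exact congrArg F (Subtype.ext (by rw [MulAut.conjNormal_apply]; rfl)),
    fun n => (red_surjective (M := M) (i.coeff n)).choose.2⟩
  have hFi : redAlg F hF.2 = i :=
    MonoidAlgebra.coeff_injective (Finsupp.ext fun n => by rw [coeff_redAlg, hFred])
  have hid : redAlg F hF.2 * redAlg F hF.2 = redAlg F hF.2 := by rw [hFi, hii]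
  -- the value of `i` at the block
  have hsq : MemLocalIdeal M
      (omega (θ₀ : N → ℂ) F * omega (θ₀ : N → ℂ) F - omega (θ₀ : N → ℂ) F) := by
    rw [← omega_conv θ₀.2 hF.1, ← omega_sub]
    refine memLocalIdeal_mul_omega ?_ θ₀ ((hF.conv hF).sub hF).1
    intro x
    have := (redAlg_eq_iff (hF.conv hF).2 hF.2).1 (by rw [redAlg_conv _ _ hF.2 hF.2, hid]) x
    exact this
  by_cases h0 : MemLocalIdeal M (omega (θ₀ : N → ℂ) F)
  · -- `i` kills the block, so the annihilator meets it trivially
    have hz := redAlg_mul_eq_zero hM (IsPBlock.blockOf_subset hb) hF hid fun η hη =>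
      (memLocalIdeal_iff_of_sub (omega_congr_of_sameBlock (IsPBlock.sameBlock hb hη hθ₀) hF)).2 h0
    rw [← redAlg_eq_zero_iff ha]
    have hIa : CoverIdem.incl N (redAlg a ha) * E = 0 := by
      rw [incl_redAlg N ha, hE, ← redAlg_conv _ _ _ heB.2
        (memLocalRing_conv (memLocalRing_extZero N ha) heB.2), redAlg_eq_zero_iff]
      exact haB
    have hab' : redAlg a ha * redAlg (blockCoeff b) heb.2 = redAlg a ha := by
      rw [← redAlg_conv _ _ ha heb.2 (memLocalRing_conv ha heb.2), redAlg_eq_iff]
      exact hab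
    rw [← (hI _).1 hIa, ← hFi, ← hab', mul_assoc, hz, mul_zero]
  · -- otherwise the orbit idempotent would annihilate `B`
    exfalso
    have h1 : MemLocalIdeal M (omega (θ₀ : N → ℂ) F - 1) := by
      have h2 : MemLocalIdeal M (omega (θ₀ : N → ℂ) F * (omega (θ₀ : N → ℂ) F - 1)) := by
        rw [mul_sub, mul_one]; exact hsq
      rcases (memLocalIdeal_mul_iff (memLocalRing_omega hF θ₀)
        (memLocalRing_sub (memLocalRing_omega hF θ₀) memLocalRing_one)).1 h2 with h3 | h3
      exacts [absurd h3 h0, h3]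
    let F' : N → ℂ := deltaOne - F
    have hF' : IsRCentral M F' := isRCentral_deltaOne.sub hF
    have hF'i : redAlg F' hF'.2 = 1 - i := by
      rw [← hFi, eq_sub_iff_add_eq, ← redAlg_deltaOne (G := N) (M := M)]
      refine MonoidAlgebra.coeff_injective (Finsupp.ext fun n => ?_)
      rw [MonoidAlgebra.coeff_add, Finsupp.add_apply, coeff_redAlg, coeff_redAlg, coeff_redAlg,
        ← map_add]
      congr 1
      exact Subtype.ext (by simp [F'])
    have hid' : redAlg F' hF'.2 * redAlg F' hF'.2 = redAlg F' hF'.2 := by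
      rw [hF'i, sub_mul, one_mul, mul_sub, mul_one, hii, sub_self, sub_zero]
    have hcl : ∀ θ ∈ conjClosure N b, blockOf M (θ : N → ℂ) ⊆ conjClosure N b := by
      rintro _ ⟨g, θ, hθ, rfl⟩ ψ hψ
      refine ⟨g, conjIrrN N g⁻¹ ψ, IsPBlock.blockOf_subset hb θ hθ ?_,
        (conjIrrN_cancel_inv N g ψ).symm⟩
      have h := sameBlock_conjFun N hψ g⁻¹
      rw [conjIrrN_inv_cancel] at h
      exact h
    have hz := redAlg_mul_eq_zero hM hcl hF' hid' fun η hη => by
      obtain ⟨g, θ, hθ, rfl⟩ := hη
      have e : omega (conjIrrN N g θ : N → ℂ) F = omega (θ : N → ℂ) F := by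
        show omega (conjFun N g (θ : N → ℂ)) F = _
        rw [omega_conjFun]
        congr 1
        funext n
        rw [← hFconj g⁻¹ n]
        exact congrArg F (Subtype.ext (by simp))
      rw [show omega (conjIrrN N g θ : N → ℂ) F' = 1 - omega (θ : N → ℂ) F by
        rw [show F' = deltaOne - F from rfl, omega_sub, omega_deltaOne (conjIrrN N g θ).2, e],
        show (1 : ℂ) - omega (θ : N → ℂ) F =
          -(omega (θ : N → ℂ) F - omega (θ₀ : N → ℂ) F) - (omega (θ₀ : N → ℂ) F - 1) by ring]
      exact memLocalIdeal_sub (memLocalIdeal_neg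
        (omega_congr_of_sameBlock (IsPBlock.sameBlock hb hθ hθ₀) hF)) h1
    rw [hF'i, mul_sub, mul_one, sub_eq_zero] at hz
    have hO := (hI _).2 hz.symm
    rw [incl_redAlg N, hE] at hO
    change redAlg (orbitIdem N b) (isRCentral_orbitIdem N hM (IsPBlock.blockOf_subset hb)).2 *
      redAlg (blockCoeff B) heB.2 = 0 at hO
    rw [← redAlg_conv _ _ _ heB.2
      ((isRCentral_orbitIdem N hM (IsPBlock.blockOf_subset hb)).conv heB).2,
      redAlg_eq_zero_iff] at hO
    have h5 : MemLocalIdeal M (omega (χ₀ : G → ℂ) (conv (orbitIdem N b) (blockCoeff B))) :=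
      memLocalIdeal_mul_omega hO χ₀
        (isClassFunction_conv (isClassFunction_orbitIdem N b) heB.1)
    rw [omega_conv χ₀.2 (isClassFunction_orbitIdem N b), omega_orbitIdem N b hne₀,
      if_pos (subset_conjClosure N b hθ₀), omega_blockCoeff, if_pos hχ₀, one_mul] at h5
    exact not_memLocalIdeal_one h5

end Cfsg.Agent.Lib.Blocks

namespace Cfsg.Agent.Lib.Blocks

open Cfsg Cfsg.Agent.Lib.Characters
open scoped ComplexConjugate

universe v

variable {G : Type v} [Group G] [Fintype G] {M : Ideal AlgInt} [hMp : M.IsPrime] {p : ℕ}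
variable (N : Subgroup G) [hN : N.Normal] [Fintype N]

theorem conv_extZero (a c : N → ℂ) :
    conv (extendByZero N a) (extendByZero N c) = extendByZero N (conv a c) := by
  classical
  funext y
  rw [conv, ← Finset.sum_subset (Finset.subset_univ (Finset.univ.filter (· ∈ N))) fun x _ hx => by
    rw [extendByZero_of_not_mem _ _ fun hh => hx (Finset.mem_filter.2 ⟨Finset.mem_univ _, hh⟩),
      zero_mul],
    Finset.sum_subtype (p := fun x => x ∈ N) _ (fun x => by simp)
      (fun x => extendByZero N a x * extendByZero N c (x⁻¹ * y))]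
  by_cases hy : y ∈ N
  · rw [extendByZero_of_mem _ _ hy, conv]
    exact Finset.sum_congr rfl fun x _ => by
      rw [extendByZero_coe, extendByZero_of_mem _ _ (mul_mem (inv_mem x.2) hy)]; rfl
  · rw [extendByZero_of_not_mem _ _ hy]
    refine Finset.sum_eq_zero fun x _ => ?_
    rw [extendByZero_of_not_mem N c fun h => hy (by simpa using mul_mem x.2 h), mul_zero]

/-- **Every character of a covered block lies under the covering block.** -/
theorem exists_over_in_block (hM : IsPModular p M) {B : Set (IrrCharacter G)}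
    (hB : IsPBlock M B) {b : Set (IrrCharacter N)} (hb : IsPBlock M b)
    (hcov : ∃ χ ∈ B, ∃ θ ∈ b, classInner (fun n : N => (χ : G → ℂ) n) (θ : N → ℂ) ≠ 0)
    {θ : IrrCharacter N} (hθ : θ ∈ b) :
    ∃ χ ∈ B, classInner (fun n : N => (χ : G → ℂ) n) (θ : N → ℂ) ≠ 0 := by
  classical
  by_contra hcon
  push Not at hcon
  set f := blockCoeff ({θ} : Set (IrrCharacter N)) with hf
  have hf1 : f 1 ≠ 0 := by
    rw [hf, blockCoeff_singleton]
    obtain ⟨d, hd, hd'⟩ := IsIrrCharacter.exists_apply_one θ.2
    rw [hd', map_natCast]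
    exact mul_ne_zero (inv_ne_zero (Nat.cast_ne_zero.2 Nat.card_pos.ne'))
      (mul_ne_zero (Nat.cast_ne_zero.2 hd.ne') (Nat.cast_ne_zero.2 hd.ne'))
  have halg : ∀ n, IsAlgebraic ℤ (f n) := fun n => by
    rw [hf, blockCoeff_singleton]
    exact ((isIntegral_algebraMap (R := ℤ) (A := ℂ) (x := (Nat.card N : ℤ))).isAlgebraic.inv
      |> fun h => (by simpa using h : IsAlgebraic ℤ ((Nat.card N : ℂ)⁻¹))).mul
      (((isIntegral_char θ 1).mul (isIntegral_conj_char θ n)).isAlgebraic)
  obtain ⟨i₀, hi₀, hloc⟩ := exists_scaling hM f halg ⟨1, hf1⟩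
  set a : N → ℂ := (f i₀)⁻¹ • f with hadef
  have hfc : IsClassFunction N f := isClassFunction_blockCoeff _
  have hac : IsClassFunction N a := fun x g => by
    simp only [hadef, Pi.smul_apply, hfc x g]
  have homega : ∀ η : IrrCharacter N, omega (η : N → ℂ) a =
      if η = θ then (f i₀)⁻¹ else 0 := fun η => by
    rw [hadef, omega_smul, hf, omega_blockCoeff]
    simp only [Set.mem_singleton_iff]
    split_ifs <;> simp
  have hab : conv a (blockCoeff b) = a := by
    refine ext_omega (isClassFunction_conv hac (isClassFunction_blockCoeff b)) hac fun η => ?_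
    rw [omega_conv η.2 hac, omega_blockCoeff, homega]
    by_cases h : η = θ
    · rw [if_pos h, if_pos (show η ∈ b by rw [h]; exact hθ), mul_one]
    · rw [if_neg h, zero_mul]
  have haF : conv a (blockCoeff (conjClosure N {θ})) = a := by
    refine ext_omega (isClassFunction_conv hac (isClassFunction_blockCoeff _)) hac fun η => ?_
    rw [omega_conv η.2 hac, omega_blockCoeff, homega]
    by_cases h : η = θ
    · rw [if_pos (subset_conjClosure N {θ} h), mul_one]
    · rw [if_neg h, zero_mul]
  have hFB : conv (orbitIdem N {θ}) (blockCoeff B) = 0 := by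
    refine ext_omega (isClassFunction_conv (isClassFunction_orbitIdem N _)
      (isClassFunction_blockCoeff B)) (fun x g => rfl) fun η => ?_
    rw [omega_zero, omega_conv η.2 (isClassFunction_orbitIdem N _), omega_blockCoeff]
    by_cases hη : η ∈ B
    · obtain ⟨ψ, hψ⟩ := exists_constituent_restrict N η
      rw [omega_orbitIdem N _ hψ, if_neg, zero_mul]
      rintro ⟨g, φ, hφ, rfl⟩
      rw [Set.mem_singleton_iff] at hφ
      rw [classInner_restrict_conjIrrN, hφ] at hψ
      exact hψ (hcon η hη)
    · rw [if_neg hη, mul_zero]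
  have hzero : conv (extendByZero N a) (blockCoeff B) = 0 := by
    rw [← haF, ← conv_extZero, conv_assoc', show conv (extendByZero N
      (blockCoeff (conjClosure N {θ}))) (blockCoeff B) = 0 from hFB]
    funext y
    simp [conv]
  have h := covered_injective N hM hB hb hcov (a := a) (fun n => hloc n)
    (fun n => by rw [hab, sub_self]; exact memLocalIdeal_zero)
    (fun x => by rw [hzero]; exact memLocalIdeal_zero) i₀
  rw [hadef, Pi.smul_apply, smul_eq_mul, inv_mul_cancel₀ hi₀] at h
  exact not_memLocalIdeal_one h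

end Cfsg.Agent.Lib.Blocks
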