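import Cfsg.Agent.Lib.Blocks.SubsectionForm
import Cfsg.Agent.Lib.BlockHeights.SectionCount

/-!
# A major subsection of regular rank at most two

The number of characters of the block is at most the order of the defect group.
-/

set_option autoImplicit false
set_option linter.unusedSectionVars false
set_option linter.style.haveILetI false
set_option maxHeartbeats 1600000

namespace Cfsg.Agent.Lib.Blocks

open Cfsg Cfsg.Agent.Lib.Characters Cfsg.Agent.Lib.BlockHeights
open scoped ComplexConjugate

universe u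

variable {G : Type u} [Group G] [Fintype G] {M : Ideal AlgInt} [hMp : M.IsPrime] {p : ℕ}
  {C : Subgroup G} [Fintype C] {x : G}

/-- The class function of `G` carried by the `p`-section of `x` attached to a function on `C`. -/
noncomputable def sectionLift [DecidableEq G] (x : G) (f : C → ℂ) : G → ℂ := fun y =>
  (Nat.card C : ℂ)⁻¹ * ∑ g : G, ∑ s : C, if g * (x * (s : G)) * g⁻¹ = y then f s else 0

theorem sectionLift_local [DecidableEq G] (hM : IsPModular p M) (hC : ∀ g, g ∈ C ↔ Commute x g)
    (hx : ∃ k : ℕ, orderOf x = p ^ k) {f : C → ℂ} (hf : IsClassFunction C f)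
    (hreg : ∀ s, ¬ IsPRegular p s → f s = 0) (hloc : ∀ s, MemLocalRing M (f s)) :
    IsRCentral M (sectionLift x f) := by
  refine ⟨fun y h => ?_, fun y => ?_⟩
  · unfold sectionLift
    congr 1
    rw [← Equiv.sum_comp (Equiv.mulLeft h)]
    refine Finset.sum_congr rfl fun g _ => Finset.sum_congr rfl fun s _ => ?_
    congr 1
    refine eq_iff_iff.2 ⟨fun e => ?_, fun e => ?_⟩
    · simp only [Equiv.coe_mulLeft] at e
      calc g * (x * (s : G)) * g⁻¹ = h⁻¹ * (h * g * (x * (s : G)) * (h * g)⁻¹) * h := by group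
        _ = y := by rw [e]; group
    · simp only [Equiv.coe_mulLeft]
      rw [← e]; group
  · by_cases hex : ∃ (g₀ : G) (s₀ : C), IsPRegular p s₀ ∧ g₀ * (x * (s₀ : G)) * g₀⁻¹ = y
    · obtain ⟨g₀, s₀, hs₀, rfl⟩ := hex
      haveI : DecidablePred (· ∈ C) := Classical.decPred _
      have key : ∀ g : G, (∑ s : C, if g * (x * (s : G)) * g⁻¹ = g₀ * (x * (s₀ : G)) * g₀⁻¹
          then f s else 0) = if g₀⁻¹ * g ∈ C then f s₀ else 0 := by
        intro g
        by_cases hg : g₀⁻¹ * g ∈ C
        · rw [if_pos hg]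
          set c : C := ⟨g₀⁻¹ * g, hg⟩ with hc
          rw [Finset.sum_eq_single (c⁻¹ * s₀ * c)]
          · rw [if_pos]
            · rw [show c⁻¹ * s₀ * c = c⁻¹ * s₀ * c⁻¹⁻¹ by rw [inv_inv], hf]
            · have hcx := ((hC _).1 (c⁻¹).2).eq
              simp only [Subgroup.coe_mul, Subgroup.coe_inv] at hcx ⊢
              have hg' : g = g₀ * (g₀⁻¹ * g) := by group
              calc g * (x * ((g₀⁻¹ * g)⁻¹ * (s₀ : G) * (g₀⁻¹ * g))) * g⁻¹
                  = g * (x * (g₀⁻¹ * g)⁻¹) * (s₀ : G) * ((g₀⁻¹ * g) * g⁻¹) := by group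
                _ = g * ((g₀⁻¹ * g)⁻¹ * x) * (s₀ : G) * ((g₀⁻¹ * g) * g⁻¹) := by rw [hcx]
                _ = _ := by group
          · intro s _ hne
            by_cases hs : IsPRegular p s
            · rw [if_neg fun e => hne ?_]
              have e' : (g₀⁻¹ * g) * (x * (s : G)) * (g₀⁻¹ * g)⁻¹ = x * (s₀ : G) := by
                calc (g₀⁻¹ * g) * (x * (s : G)) * (g₀⁻¹ * g)⁻¹
                    = g₀⁻¹ * (g * (x * (s : G)) * g⁻¹) * g₀ := by group
                  _ = _ := by rw [e]; group
              obtain ⟨hg', he⟩ := (isConj_shift_iff hM hC hx hs hs₀ _).1 e'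
              rw [show c⁻¹ * s₀ * c = s by rw [← he, hc]; group]
            · simp [hreg s hs]
          · simp
        · rw [if_neg hg]
          refine Finset.sum_eq_zero fun s _ => ?_
          by_cases hs : IsPRegular p s
          · refine if_neg fun e => hg ?_
            have e' : (g₀⁻¹ * g) * (x * (s : G)) * (g₀⁻¹ * g)⁻¹ = x * (s₀ : G) := by
              calc (g₀⁻¹ * g) * (x * (s : G)) * (g₀⁻¹ * g)⁻¹
                  = g₀⁻¹ * (g * (x * (s : G)) * g⁻¹) * g₀ := by group
                _ = _ := by rw [e]; group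
            exact ((isConj_shift_iff hM hC hx hs hs₀ _).1 e').choose
          · simp [hreg s hs]
      unfold sectionLift
      rw [Finset.sum_congr rfl fun g _ => key g, ← Equiv.sum_comp (Equiv.mulLeft g₀)]
      simp only [Equiv.coe_mulLeft, inv_mul_cancel_left]
      rw [← Finset.sum_filter, Finset.sum_const, nsmul_eq_mul, ← mul_assoc,
        show ((Finset.univ.filter fun a : G => a ∈ C).card : ℕ) = Nat.card C by
          rw [Nat.card_eq_fintype_card, Fintype.card_subtype],
        inv_mul_cancel₀ (Nat.cast_ne_zero.2 Nat.card_pos.ne'), one_mul]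
      exact hloc s₀
    · simp only [not_exists, not_and] at hex
      unfold sectionLift
      rw [Finset.sum_eq_zero fun g _ => Finset.sum_eq_zero fun s _ => ?_, mul_zero]
      · exact memLocalRing_zero
      · by_cases hs : IsPRegular p s
        · exact if_neg (hex g s hs)
        · simp [hreg s hs]

theorem sum_sectionLift_mul [DecidableEq G] (f : C → ℂ) (χ : IrrCharacter G) :
    ∑ y : G, sectionLift x f y * (χ : G → ℂ) y =
      (Nat.card G : ℂ) * ((Nat.card C : ℂ)⁻¹ * ∑ s : C, f s * shiftRes C x (χ : G → ℂ) s) := by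
  unfold sectionLift
  simp only [mul_assoc, Finset.sum_mul]
  rw [← Finset.mul_sum, mul_left_comm (Nat.card G : ℂ)]
  congr 1
  rw [Finset.sum_comm]
  simp only [ite_mul, zero_mul]
  rw [Finset.sum_congr rfl fun g _ => Finset.sum_comm]
  simp only [Finset.sum_ite_eq, Finset.mem_univ, if_true]
  rw [Finset.sum_congr rfl fun g _ => Finset.sum_congr rfl fun s _ => show
    f s * (χ : G → ℂ) (g * (x * ((s : G) * g⁻¹))) = f s * shiftRes C x (χ : G → ℂ) s by
      rw [← mul_assoc x, ← mul_assoc g, irr_isClassFunction χ]; rfl,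
    Finset.sum_const, Finset.card_univ, nsmul_eq_mul, Nat.card_eq_fintype_card]

/-- The value of the root at a power of `x`. -/
theorem centralRoot_apply_pow (hC : ∀ g, g ∈ C ↔ Commute x g) (hxC : x ∈ C) (η : IrrCharacter C)
    (u : ℕ) : centralRoot (x ^ u) (pow_mem hxC u) η = centralRoot x hxC η ^ u := by
  have h : ∀ j : ℕ, (η : C → ℂ) ((⟨x, hxC⟩ : C) ^ j) =
      centralRoot x hxC η ^ j * (η : C → ℂ) 1 := fun j => by
    induction j with
    | zero => simp
    | succ j ih => rw [pow_succ', apply_central_mul hC, ih, pow_succ']; ring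
  rw [centralRoot, show (⟨x ^ u, pow_mem hxC u⟩ : C) = (⟨x, hxC⟩ : C) ^ u from Subtype.ext (by simp),
    h, mul_div_assoc, div_self (IsIrrCharacter.apply_one_ne_zero η.2), mul_one]

/-- The decomposition at a subsection as a combination of regular parts. -/
theorem sect_expand (hC : ∀ g, g ∈ C ↔ Commute x g) (hxC : x ∈ C) [Fintype (IrrCharacter C)]
    (e : Set (IrrCharacter C)) [DecidablePred (· ∈ e)] (χ : IrrCharacter G) :
    sect p x e (χ : G → ℂ) = ∑ η : IrrCharacter C,
      (if η ∈ e then centralRoot x hxC η * resMult C χ η else 0) •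
        pRegularPart p (η : C → ℂ) := by
  funext y
  rw [sect, pRegularPart_eq]
  show regInd p y * blockPart e (shiftRes C x (χ : G → ℂ)) y = _
  rw [BlockHeights.blockPart_eq_sum]
  simp only [Finset.sum_apply, Pi.smul_apply, smul_eq_mul, Finset.mul_sum, pRegularPart_eq]
  refine Finset.sum_congr rfl fun η _ => ?_
  split_ifs
  · rw [classInner_shiftRes hC hxC]; ring
  · ring

/-- The contribution against the shifted restriction. -/
theorem classInner_sect_eq (hM : IsPModular p M) (hC : ∀ g, g ∈ C ↔ Commute x g)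
    [Fintype (IrrCharacter C)] {e : Set (IrrCharacter C)} (he : IsPBlock M e)
    (χ ψ : IrrCharacter G) :
    classInner (sect p x e (χ : G → ℂ)) (sect p x e (ψ : G → ℂ)) =
      classInner (shiftRes C x (χ : G → ℂ)) (sect p x e (ψ : G → ℂ)) := by
  classical
  set f := shiftRes C x (χ : G → ℂ)
  set g := shiftRes C x (ψ : G → ℂ)
  have hf : IsClassFunction C f := isClassFunction_shiftRes hC (irr_isClassFunction χ)
  have hg : IsClassFunction C g := isClassFunction_shiftRes hC (irr_isClassFunction ψ)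
  show classInner (pRegularPart p (blockPart e f)) (pRegularPart p (blockPart e g)) =
    classInner f (pRegularPart p (blockPart e g))
  rw [classInner_pRegularPart_comm, show pRegularPart p (pRegularPart p (blockPart e g)) =
    pRegularPart p (blockPart e g) from funext fun y => by
      simp only [pRegularPart_eq]; rw [← mul_assoc, regInd_mul_self],
    ← blockPart_pRegularPart hM he hg,
    classInner_eq_sum_irr (isClassFunction_blockPart _ _) (isClassFunction_blockPart _ _),
    classInner_eq_sum_irr hf (isClassFunction_blockPart _ _)]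
  refine Finset.sum_congr rfl fun η _ => ?_
  simp only [classInner_blockPart]
  split_ifs <;> simp

/-- **Contributions as scaled central characters** of one function for each second argument. -/
theorem contrib_formula (hM : IsPModular p M) (hC : ∀ g, g ∈ C ↔ Commute x g)
    (hx : ∃ k : ℕ, orderOf x = p ^ k) {e : Set (IrrCharacter C)} {B : Set (IrrCharacter G)}
    (hind : IsInducedBlock M C e B) (hd : blockDefect p e = blockDefect p B) (ψ : IrrCharacter G) :
    ∃ Φ : G → ℂ, IsRCentral M Φ ∧ ∀ φ : IrrCharacter G, φ ∈ B → ∃ r : ℕ, ¬ p ∣ r ∧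
      contrib p x e φ ψ = (p : ℂ) ^ blockHeight p B (φ : G → ℂ) *
        ((r : ℂ) * (ordPart p G : ℂ)⁻¹ * omega (φ : G → ℂ) Φ) := by
  classical
  haveI := Fintype.ofFinite (IrrCharacter C)
  have hxC : x ∈ C := (hC x).2 (Commute.refl x)
  set f : C → ℂ := fun s => conj (sect p x e (ψ : G → ℂ) s)
  have hfcl : IsClassFunction C f := fun a b => by
    show conj _ = conj _
    rw [show sect p x e (ψ : G → ℂ) (b * a * b⁻¹) = sect p x e (ψ : G → ℂ) a from
      isClassFunction_pRegularPart p (isClassFunction_blockPart _ _) a b]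
  have hfreg : ∀ s, ¬ IsPRegular p s → f s = 0 := fun s hs => by
    show conj (sect p x e (ψ : G → ℂ) s) = 0
    rw [sect, pRegularPart_eq]
    simp [regInd_of_singular hs]
  have hroot : ∀ η : IrrCharacter C, IsIntegral ℤ (conj (centralRoot x hxC η)) := fun η =>
    isIntegral_of_pow_eq_one Nat.card_pos.ne'
      (by rw [← map_pow, centralRoot_pow hC hxC η (pow_card_eq_one' (x := x)), map_one])
  have hfloc : ∀ s, MemLocalRing M (f s) := fun s => by
    show MemLocalRing M (conj (sect p x e (ψ : G → ℂ) s))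
    rw [sect_expand hC hxC e ψ]
    simp only [Finset.sum_apply, Pi.smul_apply, smul_eq_mul, map_sum, map_mul]
    refine memLocalRing_sum _ fun η _ => memLocalRing_mul ?_ ?_
    · split_ifs
      · obtain ⟨m, hm⟩ := exists_resMult_nat (C := C) ψ η
        rw [hm, map_mul, map_natCast]
        exact memLocalRing_mul (memLocalRing_of_isIntegral' (hroot η)) (memLocalRing_natCast m)
      · rw [map_zero]; exact memLocalRing_zero
    · rw [pRegularPart_eq, map_mul, conj_regInd]
      by_cases hs : IsPRegular p s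
      · rw [regInd_of_regular hs, one_mul]
        exact memLocalRing_of_isIntegral' (isIntegral_conj_char η s)
      · rw [regInd_of_singular hs, zero_mul]; exact memLocalRing_zero
  have hΦ : IsRCentral M (sectionLift x f) := sectionLift_local hM hC hx hfcl hfreg hfloc
  set m := ordPart p G with hm
  have hm0 : (m : ℂ) ≠ 0 := ordPart_ne_zero
  have hp0 : (p : ℂ) ≠ 0 := Nat.cast_ne_zero.2 hM.1.ne_zero
  have hformula : ∀ φ : IrrCharacter G, φ ∈ B → ∃ r : ℕ, ¬ p ∣ r ∧
      contrib p x e φ ψ = (p : ℂ) ^ blockHeight p B (φ : G → ℂ) *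
        ((r : ℂ) * (m : ℂ)⁻¹ * omega (φ : G → ℂ) (sectionLift x f)) := by
    intro φ hφ
    have hpos := charDegree_irr_pos φ
    refine ⟨charDegree (φ : G → ℂ) / p ^ nu p (φ : G → ℂ),
      Nat.not_dvd_ordCompl hM.1 hpos.ne', ?_⟩
    have h1 := sum_sectionLift_mul (x := x) f φ
    rw [← omega_mul_apply_one φ.2] at h1
    have h2 : classInner (shiftRes C x (φ : G → ℂ)) (sect p x e (ψ : G → ℂ)) =
        (Nat.card C : ℂ)⁻¹ * ∑ s : C, f s * shiftRes C x (φ : G → ℂ) s := by
      rw [classInner]
      congr 1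
      exact Finset.sum_congr rfl fun s _ => mul_comm _ _
    rw [← h2, ← classInner_sect_eq hM hC hind.1] at h1
    have hdeg : (φ : G → ℂ) 1 = ((p : ℂ) ^ nu p (φ : G → ℂ)) *
        ((charDegree (φ : G → ℂ) / p ^ nu p (φ : G → ℂ) : ℕ) : ℂ) := by
      rw [irr_apply_one, ← Nat.cast_pow, ← Nat.cast_mul]
      congr 1
      exact (Nat.ordProj_mul_ordCompl_eq_self _ p).symm
    have hcardG : (Nat.card G : ℂ) =
        (p : ℂ) ^ (Nat.card G).factorization p * (m : ℂ) := natCard_eq_mul
    have hexp : blockDefect p B + nu p (φ : G → ℂ) =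
        (Nat.card G).factorization p + blockHeight p B (φ : G → ℂ) := by
      rw [← minExp_add_blockHeight (p := p) hφ, ← blockDefect_add_minExp (p := p) hind.2.1]; ring
    rw [contrib, hd]
    rw [hcardG] at h1
    apply mul_left_cancel₀ (mul_ne_zero (pow_ne_zero ((Nat.card G).factorization p) hp0) hm0)
    rw [mul_left_comm, ← h1, hdeg]
    have hpe : (p : ℂ) ^ blockDefect p B * (p : ℂ) ^ nu p (φ : G → ℂ) =
        (p : ℂ) ^ (Nat.card G).factorization p * (p : ℂ) ^ blockHeight p B (φ : G → ℂ) := by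
      rw [← pow_add, ← pow_add, hexp]
    field_simp
    linear_combination (((charDegree (φ : G → ℂ) / p ^ nu p (φ : G → ℂ) : ℕ) : ℂ) *
      omega (φ : G → ℂ) (sectionLift x f)) * hpe
  exact ⟨_, hΦ, hformula⟩

/-- **Contributions against a character of height zero.** -/
theorem contrib_height (hM : IsPModular p M) (hC : ∀ g, g ∈ C ↔ Commute x g)
    (hx : ∃ k : ℕ, orderOf x = p ^ k) {e : Set (IrrCharacter C)} {B : Set (IrrCharacter G)}
    (hind : IsInducedBlock M C e B) (hd : blockDefect p e = blockDefect p B)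
    {χ ψ : IrrCharacter G} (hχ : χ ∈ B) (hψ : ψ ∈ B)
    (hψ0 : blockHeight p B (ψ : G → ℂ) = 0) :
    contrib p x e χ ψ ≠ 0 ∧
      (blockHeight p B (χ : G → ℂ) ≠ 0 → MemLocalIdeal M (contrib p x e χ ψ)) := by
  classical
  obtain ⟨Φ, hΦ, hformula⟩ := contrib_formula hM hC hx hind hd ψ
  set m := ordPart p G with hm
  have hm0 : (m : ℂ) ≠ 0 := ordPart_ne_zero
  have hp0 : (p : ℂ) ≠ 0 := Nat.cast_ne_zero.2 hM.1.ne_zero
  have hinvm : MemLocalRing M (m : ℂ)⁻¹ :=
    memLocalRing_inv_natCast hM (Nat.not_dvd_ordCompl hM.1 Nat.card_pos.ne')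
  have hinvm' : ¬ MemLocalIdeal M (m : ℂ)⁻¹ := fun h => by
    have := memLocalIdeal_mul_right h (memLocalRing_natCast (M := M) m)
    rw [inv_mul_cancel₀ hm0] at this
    exact not_memLocalIdeal_one this
  obtain ⟨r, hr, hrψ⟩ := hformula ψ hψ
  have hunit := contrib_unit hM hC hx hind hψ hψ0 hψ hψ0
  rw [hrψ, hψ0, pow_zero, one_mul] at hunit
  have hωψ : ¬ MemLocalIdeal M (omega (ψ : G → ℂ) Φ) := fun h => hunit
    (memLocalIdeal_mul_left (memLocalRing_mul (memLocalRing_natCast r) hinvm) h)
  have hωχ : ¬ MemLocalIdeal M (omega (χ : G → ℂ) Φ) := fun h => hωψ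
    ((memLocalIdeal_iff_of_sub
      (omega_congr_of_sameBlock (IsPBlock.sameBlock hind.2.1 hχ hψ) hΦ)).1 h)
  obtain ⟨r', hr', hrχ⟩ := hformula χ hχ
  have hr'' : ¬ MemLocalIdeal M (r' : ℂ) := fun h => hr' ((memLocalIdeal_natCast_iff hM r').1 h)
  have hu : ¬ MemLocalIdeal M ((r' : ℂ) * (m : ℂ)⁻¹ * omega (χ : G → ℂ) Φ) :=
    not_memLocalIdeal_mul (memLocalRing_mul (memLocalRing_natCast r') hinvm)
      (memLocalRing_omega hΦ χ) (not_memLocalIdeal_mul (memLocalRing_natCast r') hinvm hr'' hinvm')
      hωχ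
  rw [hrχ]
  refine ⟨mul_ne_zero (pow_ne_zero _ hp0) (ne_zero_of_not_memLocalIdeal hu), fun h => ?_⟩
  refine memLocalIdeal_mul_right ?_ (memLocalRing_mul (memLocalRing_mul (memLocalRing_natCast r')
    hinvm) (memLocalRing_omega hΦ χ))
  rw [← Nat.cast_pow, memLocalIdeal_natCast_iff hM]
  exact dvd_pow_self p h

/-- Conjugation preserves linear independence. -/
theorem linearIndependent_conj {ι α : Type*} [Fintype ι] {v : ι → α → ℂ}
    (hv : LinearIndependent ℂ v) (a : ι → ℂ) (h : ∀ t, ∑ i, a i * conj (v i t) = 0) : a = 0 := by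
  funext i
  have h' : ∑ i, conj (a i) • v i = 0 := funext fun t => by
    have := congrArg conj (h t)
    simpa [map_sum, Finset.sum_apply] using this
  have := Fintype.linearIndependent_iff.1 hv _ h' i
  simpa using congrArg conj this

/-- **The bound for a major subsection of regular rank at most two.** -/
theorem card_block_le_of_major (hM : IsPModular p M) (hC : ∀ g, g ∈ C ↔ Commute x g)
    (hx : ∃ k : ℕ, orderOf x = p ^ k) {e : Set (IrrCharacter C)} {B : Set (IrrCharacter G)}
    (hind : IsInducedBlock M C e B) (hd : blockDefect p e = blockDefect p B)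
    (hl : blockRank p e ≤ 2) : Nat.card B ≤ p ^ blockDefect p B := by
  classical
  haveI := Fintype.ofFinite (IrrCharacter G)
  haveI := Fintype.ofFinite (IrrCharacter C)
  haveI : Fintype {χ // χ ∈ B} := Fintype.ofFinite _
  haveI : Fintype {η // η ∈ e} := Fintype.ofFinite _
  haveI := Fact.mk hM.1
  obtain ⟨k, hk⟩ := id hx
  have hxC : x ∈ C := (hC x).2 (Commute.refl x)
  set d := blockDefect p B with hdd
  -- the lattice of regular parts
  set r : {η // η ∈ e} → (C → ℂ) := fun η => pRegularPart p (η.1 : C → ℂ) with hr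
  set L := Submodule.span ℤ (Set.range r) with hL
  haveI : Module.Finite ℤ L := Module.Finite.span_of_finite ℤ (Set.finite_range r)
  haveI : Module.IsTorsionFree ℤ L := inferInstance
  haveI : Module.Free ℤ L := Module.free_of_finite_type_torsion_free'
  let b0 := Module.finBasis ℤ L
  set l := Module.finrank ℤ L with hldef
  set v : Fin l → (C → ℂ) := fun i => (b0 i : C → ℂ) with hv
  set c : {η // η ∈ e} → Fin l → ℤ :=
    fun η i => b0.repr ⟨r η, Submodule.subset_span ⟨η, rfl⟩⟩ i with hc
  have hrv : ∀ η, r η = ∑ i, (c η i : ℂ) • v i := fun η => by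
    have h := congrArg Subtype.val (b0.sum_repr ⟨r η, Submodule.subset_span ⟨η, rfl⟩⟩)
    simp only [AddSubmonoidClass.coe_finsetSum, Submodule.coe_smul] at h
    refine h.symm.trans (Finset.sum_congr rfl fun i _ => ?_)
    rw [Int.cast_smul_eq_zsmul]
  choose n hn using fun i => (Submodule.mem_span_range_iff_exists_fun ℤ).1 (b0 i).2
  have hvr : ∀ i, v i = ∑ η, (n i η : ℂ) • r η := fun i => by
    show (b0 i : C → ℂ) = _
    rw [← hn i]
    exact Finset.sum_congr rfl fun η _ => (Int.cast_smul_eq_zsmul ℂ _ _).symm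
  have hZ : ∀ a : Fin l → ℤ, ∑ i, (a i : ℂ) • v i = 0 → a = 0 := by
    intro a h
    have h' : ∑ i, a i • b0 i = 0 := by
      apply Subtype.ext
      simp only [AddSubmonoidClass.coe_finsetSum, Submodule.coe_smul, ZeroMemClass.coe_zero]
      rw [← h]
      exact Finset.sum_congr rfl fun i _ => (Int.cast_smul_eq_zsmul ℂ (a i) (v i)).symm
    exact funext fun i => Fintype.linearIndependent_iff.1 b0.linearIndependent a h' i
  -- the integral Gram matrix
  set K : {η // η ∈ e} → {η // η ∈ e} → ℤ := fun η η' => contribCoef p e η.1 η'.1 with hK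
  have hreg : ∀ η η' : {η // η ∈ e},
      (p : ℂ) ^ blockDefect p e * regInner p η.1 η'.1 = (K η η' : ℂ) := fun η η' => by
    have hp0 : (p : ℂ) ≠ 0 := Nat.cast_ne_zero.2 hM.1.ne_zero
    rw [regInner, classInner_pRegularPart hM.1, contribCoef_mul hM η.2 η'.2,
      ← blockDefect_add_minExp (p := p) hind.1]
    push_cast
    field_simp
    rw [pow_add]
  have hKr : ∀ η η' : {η // η ∈ e}, (p : ℂ) ^ d * classInner (r η) (r η') = (K η η' : ℂ) :=
    fun η η' => by rw [← hd, hr, ← regInner_self_right]; exact hreg η η'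
  set D : Fin l → Fin l → ℤ := fun i j => ∑ η, ∑ η', n i η * n j η' * K η η' with hD
  have hDv : ∀ i j, (p : ℂ) ^ d * classInner (v i) (v j) = (D i j : ℂ) := by
    intro i j
    rw [hvr, hvr, classInner_sum_left, Finset.mul_sum, hD, Int.cast_sum]
    refine Finset.sum_congr rfl fun η _ => ?_
    rw [classInner_sum_right, Finset.mul_sum, Int.cast_sum]
    refine Finset.sum_congr rfl fun η' _ => ?_
    rw [classInner_smul_left, classInner_smul_right, map_intCast]
    push_cast
    rw [← hKr η η']
    ring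
  set A : Fin l → Fin l → ℤ := fun i j => ∑ η, c η i * c η j with hA
  have hAD : ∀ i j, ∑ i', D j i' * A i' i = if i = j then (p : ℤ) ^ d else 0 := by
    intro i j
    -- the expansion of a member of the lattice
    have h1 : ∀ η' : {η // η ∈ e}, ((p : ℂ) ^ d) • r η' = ∑ η, (K η' η : ℂ) • r η := fun η' => by
      have h := congrArg (pRegularPart p) (pRegularPart_expand hM hind.1 η'.2)
      funext s
      have h' := congrFun h s
      simp only [pRegularPart_eq, Finset.sum_apply, Pi.smul_apply, smul_eq_mul, Finset.mul_sum] at h'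
      simp only [hr, pRegularPart_eq, Finset.sum_apply, Pi.smul_apply, smul_eq_mul]
      rw [← mul_assoc, regInd_mul_self] at h'
      rw [h', Finset.mul_sum]
      refine Finset.sum_congr rfl fun η _ => ?_
      rw [← hreg, hd]
      ring
    have h2 : ((p : ℂ) ^ d) • v j = ∑ i, ((∑ η, (∑ η', n j η' * K η' η) * c η i : ℤ) : ℂ) • v i := by
      rw [hvr j, Finset.smul_sum, Finset.sum_congr rfl fun η' _ => by rw [smul_comm, h1 η']]
      simp only [Finset.smul_sum, smul_smul]
      rw [Finset.sum_comm]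
      simp only [← Finset.sum_smul]
      rw [Finset.sum_congr rfl fun η _ => by rw [hrv η]]
      simp only [Finset.smul_sum, smul_smul]
      rw [Finset.sum_comm]
      simp only [← Finset.sum_smul]
      push_cast
      rfl
    have h3 := congrFun (hZ (fun i => (∑ η, (∑ η', n j η' * K η' η) * c η i) -
      if i = j then (p : ℤ) ^ d else 0) ?_) i
    · simp only [Pi.zero_apply, sub_eq_zero] at h3
      rw [← h3]
      simp only [hA, Finset.mul_sum]
      rw [Finset.sum_comm]
      refine Finset.sum_congr rfl fun η _ => ?_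
      have hW : ((∑ η', n j η' * K η' η : ℤ) : ℂ) = ((∑ i', D j i' * c η i' : ℤ) : ℂ) := by
        push_cast
        have e1 : (p : ℂ) ^ d * classInner (v j) (r η) = ∑ η', (n j η' : ℂ) * (K η' η : ℂ) := by
          rw [hvr, classInner_sum_left, Finset.mul_sum]
          refine Finset.sum_congr rfl fun η' _ => ?_
          rw [classInner_smul_left, ← hKr η' η]; ring
        rw [← e1, hrv η, classInner_sum_right, Finset.mul_sum]
        refine Finset.sum_congr rfl fun i' _ => ?_
        rw [classInner_smul_right, map_intCast, ← hDv]; ring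
      rw [show (∑ η', n j η' * K η' η) = ∑ i', D j i' * c η i' from Int.cast_injective hW,
        Finset.sum_mul]
      exact Finset.sum_congr rfl fun i' _ => by ring
    · push_cast at h2 ⊢
      simp only [sub_smul, Finset.sum_sub_distrib, ← h2, ite_smul, zero_smul, Finset.sum_ite_eq',
        Finset.mem_univ, if_true, sub_self]
  have hDsymm : ∀ i j, D i j = D j i := fun i j => by
    simp only [hD]
    rw [Finset.sum_comm]
    refine Finset.sum_congr rfl fun η _ => Finset.sum_congr rfl fun η' _ => ?_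
    rw [hK]
    show n i η' * n j η * contribCoef p e η'.1 η.1 = n j η * n i η' * contribCoef p e η.1 η'.1
    rw [contribCoef_symm hM.1 e η'.1 η.1]; ring
  have hAsymm : ∀ i j, A i j = A j i := fun i j =>
    Finset.sum_congr rfl fun η _ => mul_comm _ _
  have hpd0 : ((p : ℂ) ^ d) ≠ 0 := pow_ne_zero _ (Nat.cast_ne_zero.2 hM.1.ne_zero)
  have hli : LinearIndependent ℂ v := by
    refine Fintype.linearIndependent_iff.2 fun a ha i => ?_
    have h1 : ∀ j, ∑ i', a i' * (D i' j : ℂ) = 0 := fun j => by
      have h : (p : ℂ) ^ d * classInner (∑ i', a i' • v i') (v j) = 0 := by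
        rw [ha]; simp [classInner]
      rw [classInner_sum_left, Finset.mul_sum] at h
      rw [← h]
      refine Finset.sum_congr rfl fun i' _ => ?_
      rw [classInner_smul_left, ← hDv]; ring
    have h2 : ∑ j, (∑ i', a i' * (D i' j : ℂ)) * (A j i : ℂ) = (p : ℂ) ^ d * a i := by
      simp only [Finset.sum_mul, mul_assoc]
      rw [Finset.sum_comm]
      simp only [← Finset.mul_sum]
      rw [Finset.sum_congr rfl fun i' _ => show a i' * ∑ j, (D i' j : ℂ) * (A j i : ℂ) =
        a i' * if i = i' then (p : ℂ) ^ d else 0 by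
          have := congrArg (Int.cast : ℤ → ℂ) (hAD i i')
          push_cast at this
          rw [this]]
      simp [mul_comm]
    simp only [h1, zero_mul, Finset.sum_const_zero] at h2
    exact (mul_eq_zero.1 h2.symm).resolve_left hpd0
  have hlrank : blockRank p e = l := by
    have hspan : Submodule.span ℂ ((fun η : IrrCharacter C => pRegularPart p (η : C → ℂ)) '' e) =
        Submodule.span ℂ (Set.range v) := by
      apply le_antisymm <;> rw [Submodule.span_le]
      · rintro _ ⟨η, hη, rfl⟩
        show r ⟨η, hη⟩ ∈ _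
        rw [hrv]
        exact Submodule.sum_mem _ fun i _ => Submodule.smul_mem _ _ (Submodule.subset_span ⟨i, rfl⟩)
      · rintro _ ⟨i, rfl⟩
        rw [SetLike.mem_coe, hvr]
        exact Submodule.sum_mem _ fun η _ => Submodule.smul_mem _ _
          (Submodule.subset_span ⟨η.1, η.2, rfl⟩)
    rw [blockRank, hspan, finrank_span_eq_card hli, Fintype.card_fin]
  -- the coordinates
  have hN : 0 < p ^ k := pow_pos hM.1.pos k
  haveI : NeZero (p ^ k) := ⟨hN.ne'⟩
  obtain ⟨ζ, hζ⟩ : ∃ ζ : ℂ, IsPrimitiveRoot ζ (p ^ k) := ⟨_, Complex.isPrimitiveRoot_exp _ hN.ne'⟩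
  have hxk : x ^ p ^ k = 1 := by rw [← hk, pow_orderOf_eq_one]
  choose em hem1 hem2 using fun η : {η // η ∈ e} =>
    hζ.eq_pow_of_pow_eq_one (centralRoot_pow hC hxC η.1 hxk)
  choose mult hmult using fun (χ : {χ // χ ∈ B}) (η : {η // η ∈ e}) =>
    exists_resMult_nat (C := C) χ.1 η.1
  set q : {χ // χ ∈ B} → Fin l → Fin (p ^ k) → ℤ := fun χ i j =>
    ∑ η : {η // η ∈ e}, if (⟨em η, hem1 η⟩ : Fin (p ^ k)) = j then (mult χ η : ℤ) * c η i else 0
    with hq
  have heval : ∀ χ i u, evalPow ζ (q χ i) u =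
      ∑ η : {η // η ∈ e}, centralRoot x hxC η.1 ^ u * (mult χ η : ℂ) * (c η i : ℂ) := by
    intro χ i u
    simp only [evalPow, hq, Int.cast_sum, Finset.sum_mul]
    rw [Finset.sum_comm]
    refine Finset.sum_congr rfl fun η _ => ?_
    simp only [Int.cast_ite, Int.cast_zero, ite_mul, zero_mul, Finset.sum_ite_eq, Finset.mem_univ,
      if_true, Int.cast_mul, Int.cast_natCast]
    rw [← hem2 η, ← pow_mul, mul_comm (em η) u]
    ring
  have hsect : ∀ (u : ℕ), (∀ g, g ∈ C ↔ Commute (x ^ u) g) → ∀ χ : {χ // χ ∈ B},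
      sect p (x ^ u) e (χ.1 : G → ℂ) = ∑ i, evalPow ζ (q χ i) u • v i := by
    intro u hCu χ
    rw [sect_expand hCu (pow_mem hxC u) e χ.1]
    simp only [ite_smul, zero_smul]
    rw [← Finset.sum_filter,
      Finset.sum_subtype (p := (· ∈ e)) _ (fun y => by simp) (fun η =>
        (centralRoot (x ^ u) (pow_mem hxC u) η * resMult C χ.1 η) • pRegularPart p (η : C → ℂ))]
    rw [Finset.sum_congr rfl fun η _ => show
      (centralRoot (x ^ u) (pow_mem hxC u) η.1 * resMult C χ.1 η.1) •
        pRegularPart p (η.1 : C → ℂ) =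
      ∑ i, (centralRoot x hxC η.1 ^ u * (mult χ η : ℂ) * (c η i : ℂ)) • v i by
        rw [centralRoot_apply_pow hC hxC η.1 u, hmult χ η, show pRegularPart p (η.1 : C → ℂ) = r η
          from rfl, hrv η, Finset.smul_sum]
        exact Finset.sum_congr rfl fun i _ => smul_smul _ _ _,
      Finset.sum_comm]
    exact Finset.sum_congr rfl fun i _ => by rw [heval, Finset.sum_smul]
  have hCu : ∀ u ∈ unitExps (p ^ k), ∀ g, g ∈ C ↔ Commute (x ^ u) g := by
    intro u hu g
    have hcop : Nat.Coprime u (orderOf x) := by rw [hk]; exact (Finset.mem_filter.1 hu).2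
    obtain ⟨w, hw⟩ := exists_pow_eq_self_of_coprime hcop
    refine ⟨fun h => ((hC g).1 h).pow_left u, fun h => (hC g).2 ?_⟩
    have := h.pow_left w
    rwa [hw] at this
  have hQA : ∀ u ∈ unitExps (p ^ k), ∀ i j,
      ∑ χ, evalPow ζ (q χ i) u * conj (evalPow ζ (q χ j) u) = (A i j : ℂ) := by
    intro u hu i j
    have hpow : ∃ k' : ℕ, orderOf (x ^ u) = p ^ k' := by
      obtain ⟨m', -, hm'⟩ := (Nat.dvd_prime_pow hM.1).1 (hk ▸ orderOf_pow_dvd u)
      exact ⟨m', hm'⟩
    set Q : Fin l → Fin l → ℂ := fun i j =>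
      (∑ χ, evalPow ζ (q χ i) u * conj (evalPow ζ (q χ j) u)) - (A i j : ℂ) with hQ
    have hzero : ∀ s t : C, ∑ i, ∑ j, Q i j * conj (v j t) * v i s = 0 := by
      intro s t
      have h := sum_sect_block hM (hCu u hu) hpow hind s t
      rw [finsum_irr_eq_sum_ite, ← Finset.sum_filter, ← Finset.sum_filter,
        Finset.sum_subtype (p := (· ∈ B)) _ (fun y => by simp)
          (fun χ => sect p (x ^ u) e (χ : G → ℂ) s * conj (sect p (x ^ u) e (χ : G → ℂ) t)),
        Finset.sum_subtype (p := (· ∈ e)) _ (fun y => by simp)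
          (fun η => pRegularPart p (η : C → ℂ) s * conj (pRegularPart p (η : C → ℂ) t))] at h
      have hl1 : ∀ χ : {χ // χ ∈ B}, sect p (x ^ u) e (χ.1 : G → ℂ) s *
          conj (sect p (x ^ u) e (χ.1 : G → ℂ) t) =
          ∑ i, ∑ j, evalPow ζ (q χ i) u * conj (evalPow ζ (q χ j) u) * conj (v j t) * v i s :=
        fun χ => by
          rw [hsect u (hCu u hu) χ]
          simp only [Finset.sum_apply, Pi.smul_apply, smul_eq_mul, map_sum, map_mul,
            Finset.sum_mul_sum]
          exact Finset.sum_congr rfl fun i _ => Finset.sum_congr rfl fun j _ => by ring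
      have hl2 : ∀ η : {η // η ∈ e}, pRegularPart p (η.1 : C → ℂ) s *
          conj (pRegularPart p (η.1 : C → ℂ) t) =
          ∑ i, ∑ j, (c η i : ℂ) * (c η j : ℂ) * conj (v j t) * v i s := fun η => by
        show r η s * conj (r η t) = _
        rw [hrv η]
        simp only [Finset.sum_apply, Pi.smul_apply, smul_eq_mul, map_sum, map_mul, map_intCast,
          Finset.sum_mul_sum]
        exact Finset.sum_congr rfl fun i _ => Finset.sum_congr rfl fun j _ => by ring
      rw [Finset.sum_congr rfl fun χ _ => hl1 χ, Finset.sum_congr rfl fun η _ => hl2 η,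
        Finset.sum_comm] at h
      conv_rhs at h => rw [Finset.sum_comm]
      simp only [hQ, hA, Int.cast_sum, Int.cast_mul, sub_mul, Finset.sum_sub_distrib, sub_eq_zero,
        Finset.sum_mul]
      refine Eq.trans (Finset.sum_congr rfl fun i _ => Finset.sum_comm) (h.trans ?_)
      exact Finset.sum_congr rfl fun i _ => Finset.sum_comm
    have h1 : ∀ t i, ∑ j, Q i j * conj (v j t) = 0 := fun t =>
      Fintype.linearIndependent_iff.1 hli _ (funext fun s => by
        simp only [Finset.sum_apply, Pi.smul_apply, smul_eq_mul, Pi.zero_apply, Finset.sum_mul]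
        exact hzero s t)
    exact sub_eq_zero.1 (congrFun (linearIndependent_conj hli (Q i) fun t => h1 t i) j)
  -- the contributions
  have hcontrib : ∀ χ ψ : {χ // χ ∈ B}, contrib p x e χ.1 ψ.1 =
      ∑ i, ∑ j, (D i j : ℂ) * (evalPow ζ (q χ i) 1 * conj (evalPow ζ (q ψ j) 1)) := by
    intro χ ψ
    have hC1 : ∀ g, g ∈ C ↔ Commute (x ^ 1) g := by simpa using hC
    have h1 := hsect 1 hC1 χ
    have h2 := hsect 1 hC1 ψ
    simp only [pow_one] at h1 h2
    rw [contrib, hd, h1, h2, classInner_sum_left, Finset.mul_sum]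
    refine Finset.sum_congr rfl fun i _ => ?_
    rw [classInner_sum_right, Finset.mul_sum]
    refine Finset.sum_congr rfl fun j _ => ?_
    rw [classInner_smul_left, classInner_smul_right, ← hDv]
    ring
  set H : Finset {χ // χ ∈ B} :=
    Finset.univ.filter fun χ => blockHeight p B (χ.1 : G → ℂ) = 0 with hH
  have hHne : H.Nonempty := by
    obtain ⟨χ, hχ, hmin⟩ := exists_nu_eq_minExp (p := p) (IsPBlock.nonempty hind.2.1)
    refine ⟨⟨χ, hχ⟩, Finset.mem_filter.2 ⟨Finset.mem_univ _, ?_⟩⟩
    have := minExp_add_blockHeight (p := p) hχ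
    show blockHeight p B (χ : G → ℂ) = 0
    omega
  have hHmem : ∀ χ ∈ H, blockHeight p B (χ.1 : G → ℂ) = 0 := fun χ h => (Finset.mem_filter.1 h).2
  have hnz : ∀ χ : {χ // χ ∈ B}, ∀ ψ ∈ H, contrib p x e χ.1 ψ.1 ≠ 0 := fun χ ψ hψ =>
    (contrib_height hM hC hx hind hd χ.2 ψ.2 (hHmem ψ hψ)).1
  have hsmall : ∀ χ : {χ // χ ∈ B}, χ ∉ H → ∀ ψ ∈ H, MemLocalIdeal M (contrib p x e χ.1 ψ.1) := fun χ hχ ψ hψ =>
    (contrib_height hM hC hx hind hd χ.2 ψ.2 (hHmem ψ hψ)).2
      fun h => hχ (Finset.mem_filter.2 ⟨Finset.mem_univ _, h⟩)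
  have hunit : ∀ ψ ∈ H, ¬ MemLocalIdeal M (contrib p x e ψ.1 ψ.1) := fun ψ hψ =>
    contrib_unit hM hC hx hind ψ.2 (hHmem ψ hψ) ψ.2 (hHmem ψ hψ)
  have hposD : ∀ a : Fin l → ℤ, a ≠ 0 → 0 < ∑ i, ∑ j, a i * a j * D i j := by
    intro a ha
    set w : C → ℂ := ∑ i, (a i : ℂ) • v i with hw
    have hw0 : w ≠ 0 := fun h => ha (hZ a h)
    have h1 : ((∑ i, ∑ j, a i * a j * D i j : ℤ) : ℂ) = (p : ℂ) ^ d * classInner w w := by
      push_cast
      rw [hw, classInner_sum_left, Finset.mul_sum]
      refine Finset.sum_congr rfl fun i _ => ?_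
      rw [classInner_sum_right, Finset.mul_sum]
      refine Finset.sum_congr rfl fun j _ => ?_
      rw [classInner_smul_left, classInner_smul_right, map_intCast, ← hDv]
      ring
    have h2 : classInner w w =
        (((Nat.card C : ℝ)⁻¹ * ∑ s, Complex.normSq (w s) : ℝ) : ℂ) := by
      rw [classInner]
      push_cast
      congr 1
      exact Finset.sum_congr rfl fun s _ => Complex.mul_conj _
    have h3 : (0 : ℝ) < (p : ℝ) ^ d * ((Nat.card C : ℝ)⁻¹ * ∑ s, Complex.normSq (w s)) := by
      refine mul_pos (pow_pos (Nat.cast_pos.2 hM.1.pos) d)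
        (mul_pos (inv_pos.2 (Nat.cast_pos.2 Nat.card_pos)) ?_)
      obtain ⟨s, hs⟩ := Function.ne_iff.1 hw0
      exact Finset.sum_pos' (fun s _ => Complex.normSq_nonneg _)
        ⟨s, Finset.mem_univ _, Complex.normSq_pos.2 hs⟩
    have h4 : (((∑ i, ∑ j, a i * a j * D i j : ℤ) : ℝ) : ℂ) =
        (((p : ℝ) ^ d * ((Nat.card C : ℝ)⁻¹ * ∑ s, Complex.normSq (w s)) : ℝ) : ℂ) := by
      rw [Complex.ofReal_intCast, h1, h2]; push_cast; rfl
    rw [← Complex.ofReal_injective h4] at h3
    exact_mod_cast h3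
  have hl2 : l ≤ 2 := hlrank ▸ hl
  rw [Nat.card_eq_fintype_card]
  rcases (show l = 0 ∨ l = 1 ∨ l = 2 by omega) with hl' | hl' | hl'
  · exact absurd (hlrank.trans hl') (blockRank_pos hM hind.1).ne'
  · have i0 : Fin l := ⟨0, by omega⟩
    haveI : Subsingleton (Fin l) := ⟨fun a b => Fin.ext (by have := a.2; have := b.2; omega)⟩
    have hone : ∀ (β : Type) (_ : AddCommMonoid β) (f : Fin l → β), ∑ i, f i = f i0 :=
      fun β _ f => Fintype.sum_subsingleton f i0
    refine card_le_of_singleForm hM.1 hM hζ (fun χ => q χ i0) (α := D i0 i0) (a := A i0 i0) ?_ ?_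
      (fun u hu => hQA u hu i0 i0) ?_
    · have h := hposD (fun _ => 1) (fun h => one_ne_zero (congrFun h i0))
      rw [Fintype.sum_subsingleton _ i0, Fintype.sum_subsingleton _ i0] at h
      simpa using h
    · have h := hAD i0 i0
      rw [Fintype.sum_subsingleton _ i0, if_pos rfl, mul_comm] at h
      exact h
    · intro χ h
      obtain ⟨ψ, hψ⟩ := hHne
      refine hnz χ ψ hψ ?_
      rw [hcontrib, Fintype.sum_subsingleton _ i0, Fintype.sum_subsingleton _ i0, h]
      ring
  · let i0 : Fin l := ⟨0, by omega⟩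
    let i1 : Fin l := ⟨1, by omega⟩
    have h01 : i0 ≠ i1 := fun h => absurd (congrArg Fin.val h) (by simp [i0, i1])
    have htwo : ∀ {β : Type} [AddCommMonoid β] (f : Fin l → β), ∑ i, f i = f i0 + f i1 := by
      intro β _ f
      rw [← Finset.sum_pair h01]
      refine Finset.sum_congr ?_ fun _ _ => rfl
      ext i
      simp only [Finset.mem_univ, Finset.mem_insert, Finset.mem_singleton, true_iff, i0, i1,
        Fin.ext_iff]
      have := i.2
      omega
    have hform : ∀ χ ψ : {χ // χ ∈ B}, contrib p x e χ.1 ψ.1 =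
        (D i0 i0 : ℂ) * (evalPow ζ (q χ i0) 1 * conj (evalPow ζ (q ψ i0) 1)) +
          (D i0 i1 : ℂ) * (evalPow ζ (q χ i0) 1 * conj (evalPow ζ (q ψ i1) 1) +
            evalPow ζ (q χ i1) 1 * conj (evalPow ζ (q ψ i0) 1)) +
          (D i1 i1 : ℂ) * (evalPow ζ (q χ i1) 1 * conj (evalPow ζ (q ψ i1) 1)) := fun χ ψ => by
      rw [hcontrib, htwo, htwo, htwo, hDsymm i1 i0]
      ring
    have hcomm : ∀ i j, A i i0 * D i0 j + A i i1 * D i1 j = if i = j then (p : ℤ) ^ d else 0 := by
      intro i j
      rw [← hAD i j, htwo, hDsymm j i0, hDsymm j i1, hAsymm i i0, hAsymm i i1]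
      ring
    have hK2 : ∀ i j i' j', MemLocalIdeal M ((D i j * D i' j' - D i j' * D i' j : ℤ) : ℂ) := by
      intro i j i' j'
      obtain ⟨η₀, hη₀⟩ := IsPBlock.nonempty hind.1
      set g : {η // η ∈ e} → ℂ := fun η => (pairing p η.1 η₀ : ℂ) / (η₀ : C → ℂ) 1
      set h : {η // η ∈ e} → ℂ := fun η => (η.1 : C → ℂ) 1 / (p : ℂ) ^ minExp p e
      set Gv : Fin l → ℂ := fun i => ∑ η, (n i η : ℂ) * g η
      set Hv : Fin l → ℂ := fun j => ∑ η, (n j η : ℂ) * h η
      have hgR : ∀ η, MemLocalRing M (g η) := fun η => by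
        show MemLocalRing M ((pairing p η.1 η₀ : ℂ) / (η₀ : C → ℂ) 1)
        rw [← omega_pairFun hM.1]; exact memLocalRing_omega (isRCentral_pairFun hM η.1) η₀
      have hhR : ∀ η, MemLocalRing M (h η) := fun η => memLocalRing_scaledDeg hM η.2
      have hGR : ∀ i, MemLocalRing M (Gv i) := fun i =>
        memLocalRing_sum _ fun η _ => memLocalRing_mul (memLocalRing_intCast _) (hgR η)
      have hHR : ∀ i, MemLocalRing M (Hv i) := fun i =>
        memLocalRing_sum _ fun η _ => memLocalRing_mul (memLocalRing_intCast _) (hhR η)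
      have hDc : ∀ i j, MemLocalIdeal M ((D i j : ℂ) - Gv i * Hv j) := by
        intro i j
        simp only [hD, Gv, Hv, Finset.sum_mul_sum, Int.cast_sum, ← Finset.sum_sub_distrib]
        refine memLocalIdeal_sum _ fun η _ => memLocalIdeal_sum _ fun η' _ => ?_
        have h2 := memLocalIdeal_mul_left (memLocalRing_mul (memLocalRing_mul
          (memLocalRing_intCast (n i η)) (memLocalRing_intCast (n j η'))) (hhR η'))
          (pairing_congr hM η.1 (IsPBlock.sameBlock hind.1 η'.2 hη₀))
        convert h2 using 1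
        simp only [g, h, hK]
        rw [show (pairing p η.1 η'.1 : ℂ) = ((p : ℂ) ^ minExp p e) * (contribCoef p e η.1 η'.1 : ℂ) by
          rw [contribCoef_mul hM η.2 η'.2]; push_cast; ring]
        push_cast
        field_simp [IsIrrCharacter.apply_one_ne_zero η'.1.2,
          (Nat.cast_ne_zero.2 hM.1.ne_zero : (p : ℂ) ≠ 0)]
      have hmul : ∀ a b a' b' : Fin l, MemLocalIdeal M
          ((D a b : ℂ) * (D a' b' : ℂ) - Gv a * Hv b * (Gv a' * Hv b')) := by
        intro a b a' b'
        have h2 := memLocalIdeal_add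
          (memLocalIdeal_mul_right (hDc a b) (memLocalRing_intCast (D a' b')))
          (memLocalIdeal_mul_left (memLocalRing_mul (hGR a) (hHR b)) (hDc a' b'))
        convert h2 using 1
        ring
      have h2 := memLocalIdeal_sub (hmul i j i' j') (hmul i j' i' j)
      convert h2 using 1
      push_cast
      ring
    have h00 : 0 < D i0 i0 := by
      have h := hposD (fun i => if i = i0 then 1 else 0) (fun h => by
        simpa using congrFun h i0)
      rw [htwo, htwo, htwo] at h
      simpa [h01.symm] using h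
    refine card_le_of_pairForm hM.1 hM hζ (H := H) hHne _ (D i0 i0) (D i0 i1) (D i1 i1)
      { cx := fun χ => q χ i0
        cy := fun χ => q χ i1
        a11 := A i0 i0
        a12 := A i0 i1
        a22 := A i1 i1
        hxx := fun u hu => hQA u hu i0 i0
        hxy := fun u hu => hQA u hu i0 i1
        hyy := fun u hu => hQA u hu i1 i1
        e11 := ?_, e12 := ?_, e21 := ?_, e22 := ?_
        apos := h00
        detpos := ?_, detdvd := ?_
        nonzero := fun χ ψ hψ => by rw [← hform]; exact hnz χ ψ hψ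
        small := fun χ hχ ψ hψ => by rw [← hform]; exact hsmall χ hχ ψ hψ
        unit := fun ψ hψ => by rw [← hform]; exact hunit ψ hψ } rfl
    · simpa [hDsymm i1 i0] using hcomm i0 i0
    · simpa [h01] using hcomm i0 i1
    · simpa [h01.symm, hAsymm i1 i0, hDsymm i1 i0] using hcomm i1 i0
    · simpa [hAsymm i1 i0] using hcomm i1 i1
    · have h := hposD (fun i => if i = i0 then -(D i0 i1) else D i0 i0) (fun h => by
        have h' := congrFun h i1
        simp [h01.symm] at h'
        omega)
      rw [htwo, htwo, htwo] at h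
      simp only [h01.symm, if_true, if_false, hDsymm i1 i0] at h
      by_contra hle
      nlinarith
    · rw [← memLocalIdeal_intCast_iff hM]
      have h := hK2 i0 i0 i1 i1
      rwa [hDsymm i1 i0, ← pow_two] at h

end Cfsg.Agent.Lib.Blocks
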