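import Cfsg.Agent.Lib.BlockHeights.KleinFourCount
import Cfsg.Agent.Lib.BlockHeights.AbelianInertial
import Cfsg.Agent.Lib.BrauerPairs.MaximalCriterion
import Cfsg.Agent.Lib.BrauerPairs.Consequences
import Cfsg.Agent.Lib.Blocks.MajorSubsection

/-!
# Blocks with cyclic defect groups

Subsections of blocks whose inertial group acts freely on an abelian defect group, and the rank of
a block with cyclic defect group and trivial inertial quotient.
-/

set_option autoImplicit false
set_option linter.unusedSectionVars false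
set_option linter.style.haveILetI false

namespace Cfsg.Agent.Lib.Blocks

open Cfsg Cfsg.Agent.Lib.Characters Cfsg.Agent.Lib.BrauerPairs Cfsg.Agent.Lib.BlockHeights

universe u

variable {G : Type u} [Group G] [Fintype G] {M : Ideal AlgInt} [M.IsPrime] {p : ℕ}
  {B : Set (IrrCharacter G)} {P : Subgroup G}
  {c : Set (IrrCharacter (Subgroup.centralizer (P : Set G)))}

theorem isBrauerPairOf_congr {a b : BrauerPairIdx G} (h : a = b)
    (ha : IsBrauerPairOf p M B a.1 a.2) : IsBrauerPairOf p M B b.1 b.2 := h ▸ ha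

theorem blockRank_congr_pair {a b : BrauerPairIdx G} (h : a = b) :
    blockRank p a.2 = blockRank p b.2 := by subst h; rfl

theorem blockRank_conjPair' (g : G) (a : BrauerPairIdx G) :
    blockRank p (conjPair g a).2 = blockRank p a.2 := by
  show blockRank p (conjBlock a.1 g a.2) = _
  haveI := Fintype.ofFinite (Subgroup.centralizer (a.1 : Set G))
  haveI := Fintype.ofFinite
    (Subgroup.centralizer ((a.1.map (MulAut.conj g).toMonoidHom : Subgroup G) : Set G))
  rw [conjBlock_eq_transBlock, blockRank_transBlock]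

theorem finsum_induced_congr' {C D : Subgroup G} (h : C = D) (B : Set (IrrCharacter G)) :
    ∑ᶠ γ ∈ {γ : Set (IrrCharacter C) | IsInducedBlock M C γ B}, blockRank p γ =
      ∑ᶠ γ ∈ {γ : Set (IrrCharacter D) | IsInducedBlock M D γ B}, blockRank p γ := by
  subst h; rfl

/-- Fusion of elements of the defect group is controlled by the inertial group. -/
theorem conj_fusion_of_comm (hM : IsPModular p M) (hmax : IsMaximalBrauerPair p M B P c)
    (hab : ∀ x ∈ P, ∀ y ∈ P, x * y = y * x) {v w : G} (hv : v ∈ P) (hw : w ∈ P)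
    {f : Set (IrrCharacter (Subgroup.centralizer (Subgroup.zpowers v : Set G)))}
    {r : Set (IrrCharacter (Subgroup.centralizer (Subgroup.zpowers w : Set G)))}
    (hf : SubpairLE p M (Subgroup.zpowers v) f P c) (hr : SubpairLE p M (Subgroup.zpowers w) r P c)
    {g : G} (hgv : g * v * g⁻¹ = w)
    (hg : conjPair g (⟨Subgroup.zpowers v, f⟩ : BrauerPairIdx G) = ⟨Subgroup.zpowers w, r⟩) :
    ∃ t ∈ pairStab P c, t * v * t⁻¹ = w := by
  haveI := Fact.mk hM.1
  have hfull : IsFullPair p M P (Subgroup.zpowers w) r :=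
    isFullPair_of_isDefectGroup hM hmax.1.1 hr
      (isDefectGroup_stab_of_le hM hmax hr ((le_normalizer_of_comm hab (Subgroup.zpowers_le.2 hw)).trans (centralizer_le_normalizer' _)))
  set U := P.map (MulAut.conj g).toMonoidHom with hU
  have hUle : U ≤ Subgroup.centralizer (Subgroup.zpowers w : Set G) := by
    rintro _ ⟨x, hx, rfl⟩
    rw [mem_centralizer_zpowers_iff, ← hgv]
    exact ((show Commute v x from hab v hv x hx).map (MulAut.conj g).toMonoidHom)
  have hle' : Relation.ReflTransGen (NormalSubpairRel p M)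
      (⟨Subgroup.zpowers w, r⟩ : BrauerPairIdx G) (conjPair g ⟨P, c⟩) := by
    rw [← hg]
    exact subpairLE_conj hf g
  have hu : IsNormalSubpair p M (Subgroup.zpowers w) r U (conjBlock P g c) :=
    isNormalSubpair_of_subpairLE hM (isBrauerPair_conj hmax.1.1 g) hle'
      Relation.ReflTransGen.refl (subpairLE_le hle') (hUle.trans (centralizer_le_normalizer' _))
  obtain ⟨z, hz, hzle⟩ := exists_extend hM hmax hr hfull (hUle.trans le_sup_right) hu
  have h1 : conjPair z (conjPair g ⟨P, c⟩) = (⟨P, c⟩ : BrauerPairIdx G) := by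
    rcases subpairLE_cases hM hzle with h | ⟨R, r', hlt, -, hle''⟩
    · exact h
    · exfalso
      have h2 := lt_of_lt_of_le (card_lt_card_subgroup hlt)
        (Subgroup.card_le_of_le (subpairLE_le hle''))
      rw [card_map_conj, hU, card_map_conj] at h2
      exact lt_irrefl _ h2
  rw [← conjPair_mul] at h1
  refine ⟨z * g, ?_, ?_⟩
  · rw [mem_pairStab]
    refine ⟨mem_normalizer_of_map_eq (congrArg Sigma.fst h1), ?_⟩
    have h2 := congrArg pairCoeff h1
    rwa [pairCoeff_conjPair] at h2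
  · rw [show z * g * v * (z * g)⁻¹ = z * (g * v * g⁻¹) * z⁻¹ by group, hgv,
      ← (mem_centralizer_zpowers_iff.1 hz).eq, mul_inv_cancel_right]

/-- Every orbit has the inertial index as its length. -/
theorem card_inertialOrbit_of_free (hfree : ∀ t ∈ pairStab P c, ∀ v ∈ P, v ≠ 1 → t * v * t⁻¹ = v →
      t ∈ Subgroup.centralizer (P : Set G)) {v : G} (hv : v ∈ P) (hv1 : v ≠ 1) :
    (inertialOrbit P c v).card =
      (Subgroup.centralizer (P : Set G)).relIndex (pairStab P c) := by
  classical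
  rw [Subgroup.relIndex, Subgroup.index, ← Nat.card_eq_finsetCard]
  symm
  let φ : pairStab P c ⧸ (Subgroup.centralizer (P : Set G)).subgroupOf (pairStab P c) →
      inertialOrbit P c v :=
    Quotient.lift (fun t => ⟨(t : G) * v * (t : G)⁻¹, mem_inertialOrbit.2 ⟨t, t.2, rfl⟩⟩)
      fun a b hab => by
        have h1 : (a : G)⁻¹ * (b : G) ∈ Subgroup.centralizer (P : Set G) :=
          Subgroup.mem_subgroupOf.1 (QuotientGroup.leftRel_apply.1 hab)
        refine Subtype.ext ?_
        have h2 := mem_centralizer_subgroup_iff.1 h1 v hv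
        show (a : G) * v * (a : G)⁻¹ = (b : G) * v * (b : G)⁻¹
        calc (a : G) * v * (a : G)⁻¹ = (a : G) * (v * ((a : G)⁻¹ * (b : G))) * (b : G)⁻¹ := by group
          _ = (a : G) * (((a : G)⁻¹ * (b : G)) * v) * (b : G)⁻¹ := by rw [h2]
          _ = _ := by group
  refine Nat.card_congr (Equiv.ofBijective φ ⟨?_, ?_⟩)
  · intro a b hab
    induction a using QuotientGroup.induction_on with
    | H a =>
      induction b using QuotientGroup.induction_on with
      | H b =>
        refine QuotientGroup.eq.2 (Subgroup.mem_subgroupOf.2 ?_)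
        have h1 : (a : G) * v * (a : G)⁻¹ = (b : G) * v * (b : G)⁻¹ := congrArg Subtype.val hab
        refine hfree _ (mul_mem (inv_mem a.2) b.2) v hv hv1 ?_
        show (a : G)⁻¹ * (b : G) * v * ((a : G)⁻¹ * (b : G))⁻¹ = v
        calc (a : G)⁻¹ * (b : G) * v * ((a : G)⁻¹ * (b : G))⁻¹
            = (a : G)⁻¹ * ((b : G) * v * (b : G)⁻¹) * (a : G) := by group
          _ = v := by rw [← h1]; group
  · rintro ⟨w, hw⟩
    obtain ⟨t, ht, rfl⟩ := mem_inertialOrbit.1 hw
    exact ⟨QuotientGroup.mk (⟨t, ht⟩ : pairStab P c), rfl⟩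

set_option maxHeartbeats 800000 in
/-- **Subsections of a block with freely acting inertial group.** -/
theorem free_section_count (hM : IsPModular p M) (hmax : IsMaximalBrauerPair p M B P c)
    (hab : ∀ x ∈ P, ∀ y ∈ P, x * y = y * x)
    (hfree : ∀ t ∈ pairStab P c, ∀ v ∈ P, v ≠ 1 → t * v * t⁻¹ = v →
      t ∈ Subgroup.centralizer (P : Set G)) :
    (Nat.card G : ℤ) * ((Nat.card P : ℤ) - 1) ≤
        (Nat.card G : ℤ) * ((Nat.card B : ℤ) - (blockRank p B : ℤ)) *
          ((Subgroup.centralizer (P : Set G)).relIndex (pairStab P c) : ℤ) ∧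
      ((∀ v ∈ P, v ≠ 1 → ∀ f : Set (IrrCharacter (Subgroup.centralizer (Subgroup.zpowers v : Set G))),
          SubpairLE p M (Subgroup.zpowers v) f P c → blockRank p f = 1) →
        (Nat.card G : ℤ) * ((Nat.card B : ℤ) - (blockRank p B : ℤ)) *
          ((Subgroup.centralizer (P : Set G)).relIndex (pairStab P c) : ℤ) =
        (Nat.card G : ℤ) * ((Nat.card P : ℤ) - 1)) := by
  classical
  haveI := Fact.mk hM.1
  set e := (Subgroup.centralizer (P : Set G)).relIndex (pairStab P c) with he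
  let V : Finset G := Finset.univ.filter fun v => v ∈ P ∧ v ≠ 1
  have hVcard : V.card = Nat.card P - 1 := by
    have h : V = (Finset.univ.filter (· ∈ P)).erase 1 := by ext; simp [V, and_comm]
    rw [h, Finset.card_erase_of_mem (by simp [one_mem]), ← Fintype.card_subtype,
      ← Nat.card_eq_fintype_card]
  have hmemV : ∀ {v}, v ∈ V → v ∈ P ∧ v ≠ 1 := fun h => (Finset.mem_filter.1 h).2
  have hf : ∀ v : V, ∃ f : Set (IrrCharacter (Subgroup.centralizer (Subgroup.zpowers (v : G) : Set G))),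
      SubpairLE p M (Subgroup.zpowers (v : G)) f P c := fun v => by
    obtain ⟨f, -, hf⟩ := exists_subpairLE hM hmax.1.1
      (Subgroup.zpowers_le.2 (hmemV v.2).1)
    exact ⟨f, hf⟩
  choose f hf using hf
  have hΨ : ∀ a : G × V, ∃ γ : Set (IrrCharacter (Subgroup.centralizer
      (Subgroup.zpowers (a.1 * (a.2 : G) * a.1⁻¹) : Set G))),
      (⟨Subgroup.zpowers (a.1 * (a.2 : G) * a.1⁻¹), γ⟩ : BrauerPairIdx G) =
        conjPair a.1 ⟨Subgroup.zpowers (a.2 : G), f a.2⟩ :=
    fun a => exists_conj_zpowers (f a.2) a.1 _ rfl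
  choose γ hγ using hΨ
  let U : Finset G := Finset.univ.filter fun u => u ≠ 1 ∧ ∃ k : ℕ, orderOf u = p ^ k
  let S : (u : G) → Finset (Set (IrrCharacter (Subgroup.centralizer (Subgroup.zpowers u : Set G)))) :=
    fun u => (Set.toFinite {δ | IsBrauerPairOf p M B (Subgroup.zpowers u) δ}).toFinset
  let T := U.sigma S
  let Ψ : G × V → Σ u : G, Set (IrrCharacter (Subgroup.centralizer (Subgroup.zpowers u : Set G))) :=
    fun a => ⟨a.1 * (a.2 : G) * a.1⁻¹, γ a⟩
  have hord : ∀ {u : G}, u ∈ U ↔ u ≠ 1 ∧ ∃ k : ℕ, orderOf u = p ^ k := fun {u} => by simp [U]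
  have hpairv : ∀ v : V, IsBrauerPairOf p M B (Subgroup.zpowers (v : G)) (f v) := fun v =>
    (isBrauerPairOf_iff_of_subpairLE hM hmax.1.1 (hf v) hmax.1.2.1).1 hmax.1
  have hmaps : ∀ a ∈ (Finset.univ : Finset (G × V)), Ψ a ∈ T := by
    rintro ⟨g, v⟩ -
    obtain ⟨n, hn⟩ := IsPGroup.iff_orderOf.1 hmax.1.1.1 ⟨(v : G), (hmemV v.2).1⟩
    refine Finset.mem_sigma.2 ⟨hord.2 ⟨fun h => (hmemV v.2).2 ?_, n, ?_⟩, ?_⟩
    · simpa [Ψ] using h
    · show orderOf (g * (v : G) * g⁻¹) = p ^ n
      rw [show orderOf (g * (v : G) * g⁻¹) = orderOf (v : G) from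
        orderOf_injective (MulAut.conj g).toMonoidHom (MulAut.conj g).injective _, ← hn,
        ← Subgroup.orderOf_coe]
    · rw [Set.Finite.mem_toFinset]
      exact isBrauerPairOf_congr (hγ (g, v)).symm (isBrauerPairOf_conj (hpairv v) g)
  -- facts about the members
  have hmember : ∀ t ∈ T, ((∀ v ∈ P, v ≠ 1 →
      ∀ f : Set (IrrCharacter (Subgroup.centralizer (Subgroup.zpowers v : Set G))),
        SubpairLE p M (Subgroup.zpowers v) f P c → blockRank p f = 1) → blockRank p t.2 = 1) ∧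
      ((Finset.univ : Finset (G × V)).filter fun a => Ψ a = t).card =
        e * Nat.card (Subgroup.centralizer (Subgroup.zpowers t.1 : Set G)) := by
    rintro ⟨u, δ⟩ ht
    obtain ⟨huU, hδ⟩ := Finset.mem_sigma.1 ht
    rw [Set.Finite.mem_toFinset] at hδ
    obtain ⟨x, hx⟩ := exists_conj_subpairLE hM hmax hδ
    have hu0 : x * u * x⁻¹ ∈ P :=
      subpairLE_le hx ⟨u, Subgroup.mem_zpowers u, rfl⟩
    have hu1 : x * u * x⁻¹ ≠ 1 := fun h => (hord.1 huU).1 (by simpa using h)
    set v₀ : V := ⟨x * u * x⁻¹, Finset.mem_filter.2 ⟨Finset.mem_univ _, hu0, hu1⟩⟩ with hv₀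
    have hpair₀ : conjPair x (⟨Subgroup.zpowers u, δ⟩ : BrauerPairIdx G) =
        ⟨Subgroup.zpowers (v₀ : G), f v₀⟩ := by
      obtain ⟨δ', hδ'⟩ := exists_conj_zpowers δ x (v₀ : G) rfl
      have hle : Relation.ReflTransGen (NormalSubpairRel p M)
          (⟨Subgroup.zpowers (v₀ : G), δ'⟩ : BrauerPairIdx G) ⟨P, c⟩ := hδ' ▸ hx
      rw [← hδ', subpairLE_unique hM hmax.1.1 hle (hf v₀)]
    have hpair₁ : conjPair x⁻¹ (⟨Subgroup.zpowers (v₀ : G), f v₀⟩ : BrauerPairIdx G) =
        ⟨Subgroup.zpowers u, δ⟩ := by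
      rw [← hpair₀, conjPair_inv_conjPair]
    refine ⟨fun hrk => ?_, ?_⟩
    · show blockRank p (⟨Subgroup.zpowers u, δ⟩ : BrauerPairIdx G).2 = 1
      rw [← blockRank_congr_pair hpair₁, blockRank_conjPair']
      exact hrk _ hu0 hu1 _ (hf v₀)
    -- membership in the fibre
    have hiff : ∀ a : G × V, Ψ a = ⟨u, δ⟩ ↔ a.1 * (a.2 : G) * a.1⁻¹ = u ∧
        conjPair a.1 (⟨Subgroup.zpowers (a.2 : G), f a.2⟩ : BrauerPairIdx G) =
          ⟨Subgroup.zpowers u, δ⟩ := by
      intro a
      rw [← hγ a]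
      constructor
      · intro h
        refine ⟨congrArg Sigma.fst h, ?_⟩
        exact congrArg (fun s : Σ u : G, Set (IrrCharacter
          (Subgroup.centralizer (Subgroup.zpowers u : Set G))) =>
            (⟨Subgroup.zpowers s.1, s.2⟩ : BrauerPairIdx G)) h
      · rintro ⟨h1, h2⟩
        show (⟨a.1 * (a.2 : G) * a.1⁻¹, γ a⟩ : Σ u : G, Set (IrrCharacter
          (Subgroup.centralizer (Subgroup.zpowers u : Set G)))) = ⟨u, δ⟩
        revert h2
        generalize γ a = γa
        revert γa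
        rw [h1]
        intro γa h2
        simp only [Sigma.mk.injEq, heq_eq_eq, true_and] at h2 ⊢
        exact h2
    -- the orbit of `v₀`
    have hfib : ∀ a : G × V, Ψ a = ⟨u, δ⟩ → (a.2 : G) ∈ inertialOrbit P c (v₀ : G) := by
      intro a ha
      obtain ⟨h1, h2⟩ := (hiff a).1 ha
      have hg : conjPair (x * a.1) (⟨Subgroup.zpowers (a.2 : G), f a.2⟩ : BrauerPairIdx G) =
          ⟨Subgroup.zpowers (v₀ : G), f v₀⟩ := by rw [conjPair_mul, h2, hpair₀]
      have hgv : x * a.1 * (a.2 : G) * (x * a.1)⁻¹ = x * u * x⁻¹ :=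
        calc x * a.1 * (a.2 : G) * (x * a.1)⁻¹ = x * (a.1 * (a.2 : G) * a.1⁻¹) * x⁻¹ := by group
          _ = _ := by rw [h1]
      obtain ⟨t, ht, htv⟩ := conj_fusion_of_comm hM hmax hab (hmemV a.2.2).1 hu0 (hf a.2) (hf v₀) hgv hg
      refine mem_inertialOrbit.2 ⟨t⁻¹, inv_mem ht, ?_⟩
      show t⁻¹ * (x * u * x⁻¹) * t⁻¹⁻¹ = _
      rw [← htv]; group
    have horb : ∀ w ∈ inertialOrbit P c (v₀ : G), w ∈ V := fun w hw => by
      obtain ⟨t, ht, rfl⟩ := mem_inertialOrbit.1 hw
      refine Finset.mem_filter.2 ⟨Finset.mem_univ _,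
        (Subgroup.mem_normalizer_iff.1 ht.1 _).1 hu0, fun h => hu1 ?_⟩
      have h' : (v₀ : G) = 1 := by simpa using h
      exact h'
    rw [Finset.card_eq_sum_card_fiberwise (f := fun a : G × V => (a.2 : G))
      (t := inertialOrbit P c (v₀ : G))
      (fun a ha => hfib a (Finset.mem_filter.1 ha).2)]
    rw [Finset.sum_congr rfl (g := fun _ =>
      Nat.card (Subgroup.centralizer (Subgroup.zpowers u : Set G))) fun w hw => ?_,
      Finset.sum_const, smul_eq_mul, card_inertialOrbit_of_free hfree hu0 hu1]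
    obtain ⟨t, ht, htw⟩ := mem_inertialOrbit.1 hw
    set wV : V := ⟨w, horb w hw⟩
    -- one element carrying the pair at `w` to `(u, δ)`
    have htpair : conjPair t (⟨Subgroup.zpowers (v₀ : G), f v₀⟩ : BrauerPairIdx G) =
        ⟨Subgroup.zpowers w, f wV⟩ := by
      obtain ⟨δ', hδ'⟩ := exists_conj_zpowers (f v₀) t w htw
      have h1 : Relation.ReflTransGen (NormalSubpairRel p M)
          (⟨Subgroup.zpowers w, δ'⟩ : BrauerPairIdx G) ⟨P, c⟩ := by
        have h2 : Relation.ReflTransGen (NormalSubpairRel p M)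
            (conjPair t ⟨Subgroup.zpowers (v₀ : G), f v₀⟩) (conjPair t ⟨P, c⟩) :=
          subpairLE_conj (hf v₀) t
        rwa [← hδ', show conjPair t (⟨P, c⟩ : BrauerPairIdx G) = ⟨P, c⟩ from
          pair_ext (normalizer_map_eq ht.1)
            (by rw [pairCoeff_conjPair]; exact (mem_pairStab.1 ht).2)] at h2
      rw [← hδ', subpairLE_unique hM hmax.1.1 h1 (hf wV)]
    set g₁ := x⁻¹ * t⁻¹ with hg₁
    have hg₁w : g₁ * w * g₁⁻¹ = u := by rw [hg₁, ← htw, hv₀]; group
    have hg₁p : conjPair g₁ (⟨Subgroup.zpowers w, f wV⟩ : BrauerPairIdx G) =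
        ⟨Subgroup.zpowers u, δ⟩ := by
      rw [hg₁, conjPair_mul, ← htpair, conjPair_inv_conjPair, hpair₁]
    rw [card_centralizer_zpowers_conj g₁ hg₁w, Nat.card_eq_fintype_card,
      ← Finset.card_univ]
    symm
    refine Finset.card_bij (fun z _ => ((g₁ * (z : G), wV) : G × V)) (fun z _ => ?_)
      (fun a _ b _ h => Subtype.ext (mul_left_cancel (congrArg Prod.fst h))) (fun a ha => ?_)
    · rw [Finset.mem_filter, Finset.mem_filter]
      refine ⟨⟨Finset.mem_univ _, (hiff _).2 ⟨?_, ?_⟩⟩, rfl⟩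
      · have hz := (mem_centralizer_zpowers_iff.1 z.2).eq
        show g₁ * (z : G) * w * (g₁ * (z : G))⁻¹ = u
        rw [mul_assoc g₁, ← hz, ← hg₁w]
        group
      · have hzfix : conjPair (z : G) (⟨Subgroup.zpowers w, f wV⟩ : BrauerPairIdx G) =
            ⟨Subgroup.zpowers w, f wV⟩ :=
          pair_ext (map_conj_of_mem_normalizer (centralizer_le_normalizer' _ z.2))
            (by rw [pairCoeff_conjPair]
                exact gconj_eq_self_iff.2 fun y => isPInv_subgroupBlockCoeff_self _ _ z.2 y)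
        show conjPair (g₁ * (z : G)) _ = _
        rw [conjPair_mul, hzfix, hg₁p]
    · rw [Finset.mem_filter, Finset.mem_filter] at ha
      obtain ⟨⟨-, ha⟩, haw⟩ := ha
      obtain ⟨h1, -⟩ := (hiff a).1 ha
      have hz : g₁⁻¹ * a.1 ∈ Subgroup.centralizer (Subgroup.zpowers (wV : G) : Set G) := by
        rw [mem_centralizer_zpowers_iff]
        show w * (g₁⁻¹ * a.1) = g₁⁻¹ * a.1 * w
        rw [← hg₁w] at h1
        calc w * (g₁⁻¹ * a.1) = g₁⁻¹ * (g₁ * w * g₁⁻¹) * a.1 := by group
          _ = g₁⁻¹ * (a.1 * (a.2 : G) * a.1⁻¹) * a.1 := by rw [h1]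
          _ = g₁⁻¹ * a.1 * (a.2 : G) := by group
          _ = _ := by rw [haw]
      exact ⟨⟨_, hz⟩, Finset.mem_univ _,
        Prod.ext (mul_inv_cancel_left g₁ a.1) (Subtype.ext haw.symm)⟩
  -- assemble
  have hcount : Nat.card G * (Nat.card P - 1) =
      ∑ u ∈ U, ∑ δ ∈ S u, e * Nat.card (Subgroup.centralizer (Subgroup.zpowers u : Set G)) := by
    rw [Nat.card_eq_fintype_card (α := G), ← hVcard, ← Fintype.card_coe, ← Fintype.card_prod,
      ← Finset.card_univ, Finset.card_eq_sum_card_fiberwise (f := Ψ) (t := T) hmaps,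
      Finset.sum_congr rfl fun t ht => (hmember t ht).2, Finset.sum_sigma]
  have hsum : ∀ u ∈ U,
      ∑ᶠ γ ∈ {γ : Set (IrrCharacter (Subgroup.centralizer ({u} : Set G))) |
        IsInducedBlock M (Subgroup.centralizer ({u} : Set G)) γ B}, blockRank p γ =
      ∑ δ ∈ S u, blockRank p δ := by
    intro u hu
    rw [finsum_induced_congr' (centralizer_singleton_eq_zpowers u) B,
      finsum_mem_eq_finite_toFinset_sum _ (Set.toFinite _)]
    refine Finset.sum_congr ?_ fun δ _ => rfl
    ext δ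
    simp only [S, Set.Finite.mem_toFinset, Set.mem_ofPred_eq]
    exact isInducedBlock_zpowers_iff hM (hord.1 hu).2 δ
  have hP0 : (1 : ℕ) ≤ Nat.card P := Nat.card_pos
  have hL : (Nat.card G : ℤ) * ((Nat.card P : ℤ) - 1) = ((∑ u ∈ U, ∑ δ ∈ S u,
      e * Nat.card (Subgroup.centralizer (Subgroup.zpowers u : Set G)) : ℕ) : ℤ) := by
    rw [← hcount]; push_cast [Nat.cast_sub hP0]; rfl
  have hR : (Nat.card G : ℤ) * ((Nat.card B : ℤ) - (blockRank p B : ℤ)) * (e : ℤ) =
      ((∑ u ∈ U, ∑ δ ∈ S u, Nat.card (Subgroup.centralizer (Subgroup.zpowers u : Set G)) *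
        blockRank p δ * e : ℕ) : ℤ) := by
    rw [card_mul_sub_blockRank hM hmax.1.2.1, Finset.sum_mul, Nat.cast_sum]
    refine Finset.sum_congr (by ext u; simp [U]) fun u hu => ?_
    rw [hsum u hu, centralizer_singleton_eq_zpowers u]
    simp only [Nat.cast_sum, Nat.cast_mul]
    rw [Finset.mul_sum, Finset.sum_mul]
  rw [hL, hR]
  constructor
  · rw [Nat.cast_le]
    refine Finset.sum_le_sum fun u hu => Finset.sum_le_sum fun δ hδ => ?_
    rw [Set.Finite.mem_toFinset] at hδ
    rw [mul_comm (Nat.card _), mul_assoc, mul_comm _ e]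
    exact Nat.le_mul_of_pos_left _ (blockRank_pos hM hδ.1.2)
  · intro hrk
    rw [Nat.cast_inj]
    refine Finset.sum_congr rfl fun u hu => Finset.sum_congr rfl fun δ hδ => ?_
    rw [(hmember ⟨u, δ⟩ (Finset.mem_sigma.2 ⟨hu, hδ⟩)).1 hrk, mul_one, mul_comm]

/-- The inertial group of a cyclic defect group acts freely. -/
theorem free_of_isCyclic (hM : IsPModular p M) (hmax : IsMaximalBrauerPair p M B P c)
    [IsCyclic P] : ∀ t ∈ pairStab P c, ∀ v ∈ P, v ≠ 1 → t * v * t⁻¹ = v →
      t ∈ Subgroup.centralizer (P : Set G) :=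
  fun _ ht _ hv hv1 hfix => mem_centralizer_of_fix hM hmax ht hv hv1 hfix

theorem comm_of_isCyclic (P : Subgroup G) [IsCyclic P] : ∀ x ∈ P, ∀ y ∈ P, x * y = y * x :=
  fun x hx y hy => congrArg Subtype.val (IsCyclic.commGroup.mul_comm (⟨x, hx⟩ : P) ⟨y, hy⟩)

/-- A block with a cyclic defect group has at most as many characters as that group has
elements. -/
theorem card_block_le_of_cyclic (hM : IsPModular p M) (hmax : IsMaximalBrauerPair p M B P c)
    [IsCyclic P] : Nat.card B ≤ Nat.card P := by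
  classical
  haveI := Fact.mk hM.1
  obtain ⟨x, hx⟩ := IsCyclic.exists_zpow_surjective (G := P)
  have hPx : P = Subgroup.zpowers (x : G) := by
    ext y
    constructor
    · intro hy
      obtain ⟨n, hn⟩ := hx ⟨y, hy⟩
      exact ⟨n, by simpa using congrArg Subtype.val hn⟩
    · intro hy; exact Subgroup.zpowers_le.2 x.2 hy
  obtain ⟨n, hn⟩ := IsPGroup.iff_orderOf.1 hmax.1.1.1 x
  have hxo : ∃ k : ℕ, orderOf (x : G) = p ^ k := ⟨n, by rw [Subgroup.orderOf_coe, hn]⟩
  revert hxo
  generalize (x : G) = y at hPx ⊢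
  intro hxo
  subst hPx
  have hind := isInducedBlock_of_isBrauerPairOf_zpowers hM hmax.1
  have hdc := IsDefectGroup.card_eq hM hmax.1.1.2 (isDefectGroup_center_of_isMaximal hM hmax)
  have hB := IsDefectGroup.card_eq hM hmax.1.2.1 (isDefectGroup_of_isMaximal hM hmax)
  have hle : Subgroup.zpowers y ≤ Subgroup.centralizer (Subgroup.zpowers y : Set G) :=
    Subgroup.zpowers_le.2 (mem_centralizer_zpowers_iff.2 (Commute.refl y))
  rw [card_subgroupOf hle, hB] at hdc
  haveI := Fintype.ofFinite (Subgroup.centralizer (Subgroup.zpowers y : Set G))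
  rw [hB]
  refine card_block_le_of_major hM (fun g => mem_centralizer_zpowers_iff) hxo hind
    (Nat.pow_right_injective hM.1.two_le hdc.symm) ?_
  rw [blockRank_eq_one_of_central hM hmax.1.1.2 (isDefectGroup_center_of_isMaximal hM hmax)
    (center_le_center _)]
  exact one_le_two

/-- **A block with cyclic defect group and trivial inertial quotient has rank one.** -/
theorem blockRank_eq_one_of_cyclic (hM : IsPModular p M) (hmax : IsMaximalBrauerPair p M B P c)
    [IsCyclic P] (he : pairStab P c ≤ Subgroup.centralizer (P : Set G)) :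
    blockRank p B = 1 := by
  have h := (free_section_count hM hmax (comm_of_isCyclic P) (free_of_isCyclic hM hmax)).1
  rw [Subgroup.relIndex_eq_one.2 he, Nat.cast_one, mul_one] at h
  have h' := le_of_mul_le_mul_left h (Nat.cast_pos.2 Nat.card_pos)
  have h1 := blockRank_pos hM hmax.1.2.1
  have h2 := card_block_le_of_cyclic hM hmax
  have h3 : (Nat.card B : ℤ) ≤ Nat.card P := by exact_mod_cast h2
  omega


set_option maxHeartbeats 800000 in
/-- The block of the centralizer of a subgroup of an abelian defect group induced by the maximal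
pair: it lies below that pair and has a maximal pair at the whole defect group. -/
theorem inducedIn_local (hM : IsPModular p M) (hmax : IsMaximalBrauerPair p M B P c)
    (hab : ∀ x ∈ P, ∀ y ∈ P, x * y = y * x) {Q : Subgroup G} (hQP : Q ≤ P)
    [Fintype (Subgroup.centralizer (Q : Set G))]
    {f : Set (IrrCharacter (Subgroup.centralizer (Q : Set G)))}
    (hf : IsInducedBlockIn M (Subgroup.centralizer (Q : Set G))
      (Subgroup.centralizer (P : Set G)) c f) :
    SubpairLE p M Q f P c ∧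
      ∃ c', IsMaximalBrauerPair p M f (P.subgroupOf (Subgroup.centralizer (Q : Set G))) c' := by
  classical
  haveI := Fact.mk hM.1
  have hPH : P ≤ Subgroup.centralizer (Q : Set G) := le_normalizer_of_comm hab hQP
  have hCH : Subgroup.centralizer (P : Set G) ≤ Subgroup.centralizer (Q : Set G) :=
    Subgroup.centralizer_le hQP
  have hV := Subgroup.map_subgroupOf_eq_of_le hPH
  let ε := relEquiv hV hCH
  let P' := P.subgroupOf (Subgroup.centralizer (Q : Set G))
  let c' : Set (IrrCharacter (Subgroup.centralizer (P' : Set (Subgroup.centralizer (Q : Set G))))) :=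
    transBlock ε.symm c
  have hind := (isInducedBlockIn_iff hPH hCH hmax.1.1.2 f).1 hf
  have hP'p : IsPGroup p P' := hmax.1.1.1.of_equiv (Subgroup.subgroupOfEquivOfLe hPH).symm
  have hpair := isBrauerPairOf_of_induced hM hP'p hind
  have hcoe : subgroupBlockCoeff (Subgroup.centralizer (P : Set G)) c =
      extendByZero (Subgroup.centralizer (Q : Set G))
        (subgroupBlockCoeff (Subgroup.centralizer (P' : Set _)) c') := by
    rw [← subgroupBlockCoeff_relEquiv hV hCH c']
    congr 1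
    ext ξ
    constructor
    · intro hξ
      exact ⟨transIrr ε.symm ξ, ⟨ξ, hξ, rfl⟩, transIrr_symm ε ξ⟩
    · rintro ⟨_, ⟨ξ', hξ', rfl⟩, rfl⟩
      exact (transIrr_symm ε ξ').symm ▸ hξ'
  have hpush : IsPush (⟨P', c'⟩ : BrauerPairIdx _) (⟨P, c⟩ : BrauerPairIdx G) := ⟨hV, hcoe⟩
  -- the pair is maximal
  have hmax' : IsMaximalBrauerPair p M f P' c' := by
    refine ⟨hpair, fun R r hR hle => ?_⟩
    have hPR : P' ≤ R := subpairLE_le hle
    have hCR : Subgroup.centralizer ((R.map (Subgroup.centralizer (Q : Set G)).subtype :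
        Subgroup G) : Set G) ≤ Subgroup.centralizer (Q : Set G) :=
      (Subgroup.centralizer_le ((hV ▸ Subgroup.map_mono hPR :
        P ≤ R.map (Subgroup.centralizer (Q : Set G)).subtype))).trans hCH
    obtain ⟨⟨R', r'⟩, hR'⟩ := exists_push (⟨R, r⟩ : BrauerPairIdx _) hCR
    have hR'1 : R.map (Subgroup.centralizer (Q : Set G)).subtype = R' := hR'.1
    have hle' : SubpairLE p M P c R' r' :=
      subpairLE_push (Q := P) hCH hpush hR' le_rfl hle
    have hbr : IsBrauerPair p M R' r' :=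
      isBrauerPair_push hR' (hR'1 ▸ hCR) hR.1
    have h1 := hmax.2 R' r'
      ((isBrauerPairOf_iff_of_subpairLE hM hbr hle' hmax.1.2.1).2 hmax.1) hle'
    exact Subgroup.map_injective (Subgroup.subtype_injective _) (hR'1.trans (h1.trans hV.symm))
  refine ⟨?_, c', hmax'⟩
  obtain ⟨ξ, hξ⟩ := IsPBlock.nonempty hmax.1.1.2
  refine subpairLE_single (isNormalSubpair_of_exists hM hQP
    (hPH.trans (centralizer_le_normalizer' _)) hf.2.1 hmax.1.1
    (fun a ha => (mem_pairStab_iff.1 (centralizer_le_pairStab (hPH ha))).2) hξ ?_)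
  rw [← transIrr_symm ε ξ, brauerOmega_relEquiv, resFun_subgroupBlockCoeff]
  exact hpair.2.2 _ ⟨ξ, hξ, rfl⟩

theorem normalizer_le_of_cyclic {Q : Subgroup G} [IsCyclic P] (hQP : Q ≤ P) {g : G}
    (hg : g ∈ Subgroup.normalizer (P : Set G)) : g ∈ Subgroup.normalizer (Q : Set G) := by
  classical
  have hsub : (Finset.univ.filter (fun a : P => (a : G) ∈ Q)) ⊆
      Finset.univ.filter (fun a : P => a ^ Nat.card Q = 1) := fun a ha => by
    simp only [Finset.mem_filter, Finset.mem_univ, true_and] at ha ⊢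
    refine Subtype.ext ?_
    show (a : G) ^ Nat.card Q = 1
    exact congrArg Subtype.val (pow_card_eq_one' (x := (⟨(a : G), ha⟩ : Q)))
  have heq := Finset.eq_of_subset_of_card_le hsub ((IsCyclic.card_pow_eq_one_le Nat.card_pos).trans
    (le_of_eq (by
      rw [← card_subgroupOf hQP, Nat.card_eq_fintype_card, Fintype.card_subtype]
      rfl)))
  have key : ∀ y ∈ Q, g * y * g⁻¹ ∈ Q := fun y hy => by
    have hP : g * y * g⁻¹ ∈ P := (Subgroup.mem_normalizer_iff.1 hg y).1 (hQP hy)
    have h1 : (⟨_, hP⟩ : P) ∈ Finset.univ.filter (fun a : P => a ^ Nat.card Q = 1) := by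
      simp only [Finset.mem_filter, Finset.mem_univ, true_and]
      refine Subtype.ext ?_
      show (g * y * g⁻¹) ^ Nat.card Q = 1
      rw [conj_pow, show y ^ Nat.card Q = 1 from
        congrArg Subtype.val (pow_card_eq_one' (x := (⟨y, hy⟩ : Q))), mul_one, mul_inv_cancel]
    rw [← heq, Finset.mem_filter] at h1
    exact h1.2
  have hmap : Q.map (MulAut.conj g).toMonoidHom = Q := by
    refine Subgroup.eq_of_le_of_card_ge ?_ (card_map_conj Q g).ge
    rintro _ ⟨y, hy, rfl⟩
    exact key y hy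
  exact mem_normalizer_of_map_eq hmap

end Cfsg.Agent.Lib.Blocks
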