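import Cfsg.Agent.Lib.Blocks.GramMinor
import Cfsg.Agent.Lib.BlockHeights.PositiveHeight
import Cfsg.Agent.Lib.BlockHeights.Rank
import Cfsg.Agent.Lib.BlockHeights.SectionValues

/-!
# The regular form of a block of defect one

On nonzero integral combinations of the regular parts the form `p ‖w‖ ^ 2` is at least `l(B)`.
-/

set_option autoImplicit false
set_option linter.unusedSectionVars false
set_option linter.style.haveILetI false

namespace Cfsg.Agent.Lib.Blocks

open Cfsg Cfsg.Agent.Lib.Characters Cfsg.Agent.Lib.BlockHeights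
open scoped ComplexConjugate Matrix

universe u

variable {G : Type u} [Group G] [Fintype G] {M : Ideal AlgInt} [hMp : M.IsPrime] {p : ℕ}

theorem eq_zero_of_classInner_self {w : G → ℂ} (h : classInner w w = 0) : w = 0 := by
  rw [classInner, mul_eq_zero] at h
  rcases h with h | h
  · exact absurd (inv_eq_zero.1 h) natCard_ne_zero_complex
  · have h' : ∑ g : G, Complex.normSq (w g) = 0 := by
      apply Complex.ofReal_injective
      push_cast
      rw [← h]
      exact Finset.sum_congr rfl fun g _ => (Complex.mul_conj _).symm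
    funext g
    exact Complex.normSq_eq_zero.1
      ((Finset.sum_eq_zero_iff_of_nonneg fun _ _ => Complex.normSq_nonneg _).1 h' g (Finset.mem_univ g))

/-- The inner product of two combinations of regular parts. -/
theorem classInner_regular_combination {B : Set (IrrCharacter G)} [Fintype {χ // χ ∈ B}]
    (f f' : {χ // χ ∈ B} → ℤ) :
    classInner (∑ χ, (f χ : ℂ) • pRegularPart p (χ.1 : G → ℂ))
        (∑ χ, (f' χ : ℂ) • pRegularPart p (χ.1 : G → ℂ)) =
      ∑ χ, ∑ ψ, (f χ : ℂ) * (f' ψ : ℂ) * regInner p χ.1 ψ.1 := by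
  rw [classInner_sum_left]
  refine Finset.sum_congr rfl fun χ _ => ?_
  rw [classInner_smul_left, classInner_sum_right, Finset.mul_sum]
  refine Finset.sum_congr rfl fun ψ _ => ?_
  rw [classInner_smul_right, map_intCast, ← regInner_self_right]
  ring

/-- **The form of a block of defect one.** -/
theorem le_regForm_of_defect_one (hM : IsPModular p M) {B : Set (IrrCharacter G)}
    (hB : IsPBlock M B) (hd : blockDefect p B = 1) [Fintype {χ // χ ∈ B}]
    (f : {χ // χ ∈ B} → ℤ) (hne : ∑ χ, (f χ : ℂ) • pRegularPart p (χ.1 : G → ℂ) ≠ 0) :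
    (blockRank p B : ℝ) ≤ (p : ℝ) *
      (classInner (∑ χ, (f χ : ℂ) • pRegularPart p (χ.1 : G → ℂ))
        (∑ χ, (f χ : ℂ) • pRegularPart p (χ.1 : G → ℂ))).re := by
  classical
  set A : Matrix {χ // χ ∈ B} {χ // χ ∈ B} ℤ :=
    Matrix.of fun χ ψ => pairing p χ.1 ψ.1 / (p : ℤ) ^ minExp p B with hA
  have hmulA : ∀ χ ψ : {χ // χ ∈ B}, pairing p χ.1 ψ.1 = (p : ℤ) ^ minExp p B * A χ ψ := fun χ ψ => by
    rw [hA, Matrix.of_apply, Int.mul_ediv_cancel']
    exact dvd_trans (pow_dvd_pow _ (minExp_le ψ.2)) (pow_nu_dvd_pairing hM χ.1 ψ.1)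
  have hp0 : (p : ℂ) ≠ 0 := Nat.cast_ne_zero.2 hM.1.ne_zero
  have hreg : ∀ χ ψ : {χ // χ ∈ B}, (p : ℂ) * regInner p χ.1 ψ.1 = (A χ ψ : ℂ) := fun χ ψ => by
    rw [regInner, classInner_pRegularPart hM.1, hmulA χ ψ,
      ← blockDefect_add_minExp (p := p) hB, hd]
    push_cast
    field_simp
    ring
  have hsymm : Aᵀ = A := by
    ext χ ψ
    show pairing p ψ.1 χ.1 / _ = pairing p χ.1 ψ.1 / _
    rw [pairing_symm hM.1]
  have hsq : A * A = (p : ℤ) • A := by
    ext i j
    apply Int.cast_injective (α := ℂ)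
    have h := congrFun (regMatrix_mulVec_idem hM hB (Pi.single j (1 : ℂ))) i
    simp only [Matrix.mulVec_single, MulOpposite.op_one, one_smul, Matrix.col_apply] at h
    simp only [Matrix.mulVec, dotProduct, regMatrix, Matrix.of_apply, Matrix.col] at h
    rw [Matrix.smul_apply, smul_eq_mul, Matrix.mul_apply]
    push_cast
    rw [← hreg i j, ← hsymm]
    simp only [Matrix.transpose_apply, ← hreg]
    have hs : ∀ a b : {χ // χ ∈ B}, regInner p a.1 b.1 = regInner p b.1 a.1 := fun a b =>
      mul_left_cancel₀ hp0 (by rw [hreg, hreg, ← Matrix.transpose_apply A, hsymm])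
    rw [hs i j, ← h, Finset.mul_sum, Finset.mul_sum]
    refine Finset.sum_congr rfl fun k _ => ?_
    rw [Matrix.transpose_apply, Matrix.of_apply]
    ring
  have htr : A.trace = (p : ℤ) * blockRank p B := by
    apply Int.cast_injective (α := ℂ)
    push_cast
    rw [blockRank_eq_sum_regInner hM hB, Finset.mul_sum, Matrix.trace, Int.cast_sum]
    exact Finset.sum_congr rfl fun χ _ => (hreg χ χ).symm
  obtain ⟨ψ₀, hψ₀, hmin⟩ := exists_nu_eq_minExp (p := p) (IsPBlock.nonempty hB)
  have hnz : ∀ χ : {χ // χ ∈ B}, A ⟨ψ₀, hψ₀⟩ χ ≠ 0 := fun χ h => by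
    refine pairing_ne_zero_of_minimal hM hB hψ₀ hmin χ.2 ?_
    rw [hmulA ⟨ψ₀, hψ₀⟩ χ, h, mul_zero]
  have hdiag : ∀ i, A i i ≠ (p : ℤ) := by
    intro i hi
    have hrow : ∀ φ, φ ≠ i → A i φ = 0 := by
      have h := congrFun (congrFun hsq i) i
      rw [Matrix.mul_apply, Matrix.smul_apply, hi, smul_eq_mul,
        ← Finset.add_sum_erase _ _ (Finset.mem_univ i), hi, add_eq_left,
        Finset.sum_eq_zero_iff_of_nonneg (fun φ _ => by
          rw [← Matrix.transpose_apply A, hsymm]; exact mul_self_nonneg _)] at h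
      intro φ hφ
      have h' := h φ (Finset.mem_erase.2 ⟨hφ, Finset.mem_univ _⟩)
      rw [← Matrix.transpose_apply A i φ, hsymm] at h'
      exact mul_self_eq_zero.1 h'
    by_cases hi0 : i = ⟨ψ₀, hψ₀⟩
    · obtain ⟨φ, hφ⟩ : ∃ φ, φ ≠ i := by
        by_contra hall
        simp only [not_exists, not_not] at hall
        have hcard : Nat.card B = 1 := Nat.card_eq_one_iff_exists.2 ⟨i, hall⟩
        have hl : blockRank p B = 1 := le_antisymm
          (hcard ▸ blockRank_le_card hM hB) (blockRank_pos hM hB)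
        have := (blockRank_defect_zero hM hB).2.1.2 ⟨hcard, hl⟩
        omega
      exact hnz φ (hi0 ▸ hrow φ hφ)
    · refine hnz i ?_
      rw [← Matrix.transpose_apply A, hsymm]
      exact hrow _ (Ne.symm hi0)
  have hminor : ∀ i j i' j', (p : ℤ) ∣ A i j * A i' j' - A i j' * A i' j := by
    intro i j i' j'
    rw [← memLocalIdeal_intCast_iff hM]
    set g : {χ // χ ∈ B} → ℂ := fun η => (pairing p η.1 ψ₀ : ℂ) / (ψ₀ : G → ℂ) 1
    set h : {χ // χ ∈ B} → ℂ := fun η => (η.1 : G → ℂ) 1 / (p : ℂ) ^ minExp p B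
    have hgR : ∀ η, MemLocalRing M (g η) := fun η => by
      show MemLocalRing M ((pairing p η.1 ψ₀ : ℂ) / (ψ₀ : G → ℂ) 1)
      rw [← omega_pairFun hM.1]; exact memLocalRing_omega (isRCentral_pairFun hM η.1) ψ₀
    have hhR : ∀ η, MemLocalRing M (h η) := fun η => by
      obtain ⟨c, hc⟩ := (pow_dvd_pow p (minExp_le (p := p) η.2)).trans
        (Nat.ordProj_dvd (charDegree (η.1 : G → ℂ)) p)
      show MemLocalRing M ((η.1 : G → ℂ) 1 / (p : ℂ) ^ minExp p B)
      rw [irr_apply_one, hc]
      push_cast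
      rw [mul_div_cancel_left₀ _ (pow_ne_zero _ hp0)]
      exact memLocalRing_natCast c
    have hDc : ∀ a b : {χ // χ ∈ B}, MemLocalIdeal M ((A a b : ℂ) - g a * h b) := by
      intro a b
      have h2 := memLocalIdeal_mul_left (hhR b)
        (pairing_congr hM a.1 (IsPBlock.sameBlock hB b.2 hψ₀))
      convert h2 using 1
      simp only [g, h]
      rw [hmulA a b]
      push_cast
      field_simp [IsIrrCharacter.apply_one_ne_zero b.1.2, hp0]
    have hmul : ∀ a b a' b' : {χ // χ ∈ B},
        MemLocalIdeal M ((A a b : ℂ) * (A a' b' : ℂ) - g a * h b * (g a' * h b')) := by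
      intro a b a' b'
      have h2 := memLocalIdeal_add
        (memLocalIdeal_mul_right (hDc a b) (memLocalRing_intCast (A a' b')))
        (memLocalIdeal_mul_left (memLocalRing_mul (hgR a) (hhR b)) (hDc a' b'))
      convert h2 using 1
      ring
    have h2 := memLocalIdeal_sub (hmul i j i' j') (hmul i j' i' j)
    convert h2 using 1
    push_cast
    ring
  set w := ∑ χ, (f χ : ℂ) • pRegularPart p (χ.1 : G → ℂ) with hw
  have hform : (p : ℂ) * classInner w w = ((dotProduct f (A.mulVec f) : ℤ) : ℂ) := by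
    rw [hw, classInner_regular_combination, Finset.mul_sum]
    simp only [dotProduct, Matrix.mulVec, Int.cast_sum, Int.cast_mul, Finset.mul_sum]
    refine Finset.sum_congr rfl fun χ _ => Finset.sum_congr rfl fun ψ _ => ?_
    rw [← hreg]
    ring
  have hAf : A.mulVec f ≠ 0 := fun h => by
    rw [h, dotProduct_zero, Int.cast_zero] at hform
    exact hne (eq_zero_of_classInner_self ((mul_eq_zero.1 hform).resolve_left hp0))
  have hmain := le_projForm hM.1 A hsymm hsq htr hdiag hminor f hAf
  have hre := congrArg Complex.re hform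
  rw [← Complex.ofReal_natCast, Complex.re_ofReal_mul, Complex.intCast_re] at hre
  rw [hre]
  exact_mod_cast hmain

end Cfsg.Agent.Lib.Blocks
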