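import Cfsg.Agent.Lib.Blocks.DiscForm
import Cfsg.Agent.Lib.Blocks.DefectOneForm
import Cfsg.Agent.Lib.Blocks.CyclicDefect
import Cfsg.Agent.Lib.BlockHeights.HarrisKnorrCore
import Cfsg.Agent.Lib.BlockHeights.RankOne

/-!
# The regular form of a block with cyclic defect group

On nonzero integral combinations of regular parts the form `|P| ‖w‖ ^ 2` is at least `l(B)`.
The discriminant group of the kernel lattice is controlled by the block at the centralizer of
the subgroup of order `p` of the defect group.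
-/

set_option autoImplicit false
set_option linter.unusedSectionVars false
set_option linter.style.haveILetI false
set_option maxHeartbeats 1600000

namespace Cfsg.Agent.Lib.Blocks

open Cfsg Cfsg.Agent.Lib.Characters Cfsg.Agent.Lib.BlockHeights Cfsg.Agent.Lib.BrauerPairs
open scoped ComplexConjugate Matrix

universe u

variable {G : Type u} [Group G] [Fintype G] {M : Ideal AlgInt} [hMp : M.IsPrime] {p : ℕ}
  {B : Set (IrrCharacter G)} {P : Subgroup G}
  {c : Set (IrrCharacter (Subgroup.centralizer (P : Set G)))}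

/-- In a cyclic subgroup an element killed by the prime `p` lies below any element of order
`p`. -/
theorem mem_zpowers_of_prime_order {K : Type u} [Group K] [Finite K] {S : Subgroup K} [IsCyclic S]
    (hp : p.Prime) {a b : K} (ha : a ∈ S) (hao : orderOf a = p) (hb : b ∈ S) (hbp : b ^ p = 1) :
    b ∈ Subgroup.zpowers a := by
  classical
  haveI := Fintype.ofFinite K
  have hle : Subgroup.zpowers a ≤ S := Subgroup.zpowers_le.2 ha
  have hsub : (Finset.univ.filter fun x : S => (x : K) ∈ Subgroup.zpowers a) ⊆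
      Finset.univ.filter fun x : S => x ^ p = 1 := fun x hx => by
    simp only [Finset.mem_filter, Finset.mem_univ, true_and] at hx ⊢
    obtain ⟨i, hi⟩ := Subgroup.mem_zpowers_iff.1 hx
    refine Subtype.ext ?_
    rw [SubgroupClass.coe_pow, ← hi, ← zpow_natCast, ← zpow_mul, mul_comm, zpow_mul, zpow_natCast,
      ← hao, pow_orderOf_eq_one, one_zpow]
    rfl
  have hcard : (Finset.univ.filter fun x : S => (x : K) ∈ Subgroup.zpowers a).card = p := by
    rw [← Fintype.card_subtype, ← Nat.card_eq_fintype_card]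
    exact (Nat.card_congr (Subgroup.subgroupOfEquivOfLe hle).toEquiv).trans
      (by rw [Nat.card_zpowers, hao])
  have heq := Finset.eq_of_subset_of_card_le hsub
    ((IsCyclic.card_pow_eq_one_le hp.pos).trans hcard.ge)
  have h1 : (⟨b, hb⟩ : S) ∈ Finset.univ.filter fun x : S => x ^ p = 1 := by
    simp only [Finset.mem_filter, Finset.mem_univ, true_and]
    exact Subtype.ext (by simpa using hbp)
  rw [← heq, Finset.mem_filter] at h1
  exact h1.2

/-- The inertia index of an element of order `p` is prime to `p`. -/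
theorem coprime_relIndex_centralizer (hp : p.Prime) {z : G} (hzo : orderOf z = p) :
    Nat.Coprime ((Subgroup.centralizer (Subgroup.zpowers z : Set G)).relIndex
      (Subgroup.normalizer (Subgroup.zpowers z : Set G))) p := by
  have h : (Subgroup.centralizer (Subgroup.zpowers z : Set G)).relIndex
      (Subgroup.normalizer (Subgroup.zpowers z : Set G)) ∣ p - 1 := by
    rw [Subgroup.relIndex, ← Subgroup.normalizerMonoidHom_ker, Subgroup.index_ker]
    refine (Subgroup.card_subgroup_dvd_card _).trans ?_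
    rw [IsCyclic.card_mulAut, Nat.card_zpowers, hzo, Nat.totient_prime hp]
  have h1 : 0 < p - 1 := Nat.sub_pos_of_lt hp.one_lt
  refine Nat.Coprime.symm (hp.coprime_iff_not_dvd.2 fun hd => ?_)
  have := Nat.le_of_dvd h1 (hd.trans h)
  omega

theorem classInner_blockPart_right {K : Type u} [Group K] [Fintype K] [Fintype (IrrCharacter K)]
    (b : Set (IrrCharacter K)) (θ θ' : K → ℂ) [DecidablePred (· ∈ b)] :
    classInner θ' (blockPart b θ) = ∑ η : IrrCharacter K,
      if η ∈ b then classInner θ' (η : K → ℂ) * conj (classInner θ (η : K → ℂ)) else 0 := by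
  rw [BlockHeights.blockPart_eq_sum, classInner_sum_right]
  refine Finset.sum_congr rfl fun η _ => ?_
  rw [classInner_smul_right]
  split_ifs with h
  · ring
  · simp

theorem blockPart_zero_fun {K : Type u} [Group K] [Fintype K] (b : Set (IrrCharacter K)) :
    blockPart b (0 : K → ℂ) = 0 := by
  classical
  haveI := Fintype.ofFinite (IrrCharacter K)
  rw [BlockHeights.blockPart_eq_sum]
  simp

theorem classInner_blockLin_blockLin [Fintype {χ // χ ∈ B}] (x v : {χ // χ ∈ B} → ℂ) :
    classInner (blockLin B x) (blockLin B v) = ∑ χ, x χ * conj (v χ) := by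
  conv_lhs => arg 2; rw [blockLin_apply]
  rw [classInner_sum_right]
  exact Finset.sum_congr rfl fun χ _ => by rw [classInner_smul_right, classInner_blockLin]; ring

theorem isClassFunction_blockLin [Fintype {χ // χ ∈ B}] (x : {χ // χ ∈ B} → ℂ) :
    IsClassFunction G (blockLin B x) := fun a b => by
  simp only [blockLin_apply, Finset.sum_apply, Pi.smul_apply, irr_isClassFunction _ a b]

set_option maxHeartbeats 4000000 in
/-- **The inner product read at the subgroup of order `p` of a cyclic defect group.** -/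
theorem inner_identity_of_cyclic (hM : IsPModular p M) (hmax : IsMaximalBrauerPair p M B P c)
    [IsCyclic P] {z : G} (hzP : z ∈ P) (hzo : orderOf z = p)
    [Fintype (Subgroup.centralizer (Subgroup.zpowers z : Set G))] [Fintype {χ // χ ∈ B}]
    {f : Set (IrrCharacter (Subgroup.centralizer (Subgroup.zpowers z : Set G)))}
    (hf : SubpairLE p M (Subgroup.zpowers z) f P c) (x v : {χ // χ ∈ B} → ℂ)
    (hv : ∀ g, IsPRegular p g → blockLin B v g = 0) :
    ((Subgroup.centralizer (Subgroup.zpowers z : Set G)).relIndex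
        (Subgroup.normalizer (Subgroup.zpowers z : Set G)) : ℂ) * ∑ χ, x χ * conj (v χ) =
      (Nat.card {b : Set (IrrCharacter (Subgroup.centralizer (Subgroup.zpowers z : Set G))) |
          IsInducedBlock M (Subgroup.centralizer (Subgroup.zpowers z : Set G)) b B} : ℂ) *
        classInner (resFun (Subgroup.centralizer (Subgroup.zpowers z : Set G)) (blockLin B x))
          (blockPart f (resFun (Subgroup.centralizer (Subgroup.zpowers z : Set G))
            (blockLin B v))) := by
  classical
  haveI := Fact.mk hM.1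
  rw [← classInner_blockLin_blockLin]
  let H := Subgroup.centralizer (Subgroup.zpowers z : Set G)
  let N := Subgroup.normalizer (Subgroup.zpowers z : Set G)
  have hXc : IsClassFunction G (blockLin B x) := isClassFunction_blockLin x
  have hVc : IsClassFunction G (blockLin B v) := isClassFunction_blockLin v
  have hB : IsPBlock M B := hmax.1.2.1
  have hP : IsDefectGroup p M B P := isDefectGroup_of_isMaximal hM hmax
  have hz1 : z ≠ 1 := fun h => hM.1.one_lt.ne (by rw [← hzo, h, orderOf_one])
  have hzk : ∃ k : ℕ, orderOf z = p ^ k := ⟨1, by rw [hzo, pow_one]⟩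
  have hzH : z ∈ H := mem_centralizer_zpowers_iff.2 (Commute.refl z)
  -- the section
  let S : G → Prop := fun g => ∃ u, IsPPart p g u ∧ z ∈ Subgroup.zpowers u
  have hSiff : ∀ {g u}, IsPPart p g u → (S g ↔ z ∈ Subgroup.zpowers u) := fun {g u} hu =>
    ⟨fun ⟨u', hu', h⟩ => isPPart_unique hM.1 hu hu' ▸ h, fun h => ⟨u, hu, h⟩⟩
  have hSH : ∀ g, S g → g ∈ H := by
    rintro g ⟨u, ⟨y, hy, hc, -, -⟩, hzu⟩
    obtain ⟨i, rfl⟩ := Subgroup.mem_zpowers_iff.1 hzu
    refine mem_centralizer_zpowers_iff.2 (Commute.zpow_left ?_ i)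
    rw [← hy]; exact (Commute.refl u).mul_right hc
  -- a nontrivial element of `P` has `z` among its powers
  have hbelow : ∀ u ∈ P, u ≠ 1 → z ∈ Subgroup.zpowers u ∧
      ∀ w ∈ Subgroup.zpowers u, w ^ p = 1 → w ∈ Subgroup.zpowers z := by
    intro u hu hu1
    obtain ⟨k, hk⟩ := IsPGroup.iff_orderOf.1 (IsDefectGroup.isPGroup hP) ⟨u, hu⟩
    rw [Subgroup.orderOf_mk] at hk
    have hk0 : k ≠ 0 := fun h => hu1 (orderOf_eq_one_iff.1 (by rw [hk, h, pow_zero]))
    have hdvd : p ∣ orderOf u := hk ▸ dvd_pow_self p hk0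
    have ho : orderOf (u ^ (orderOf u / p)) = p :=
      orderOf_pow_orderOf_div (orderOf_pos u).ne' hdvd
    refine ⟨?_, fun w hw hwp => mem_zpowers_of_prime_order hM.1 hzP hzo
      (Subgroup.zpowers_le.2 hu hw) hwp⟩
    exact Subgroup.zpowers_le.2 (pow_mem (Subgroup.mem_zpowers u) _)
      (mem_zpowers_of_prime_order hM.1 (pow_mem hu _) ho hzP (by rw [← hzo, pow_orderOf_eq_one]))
  have hcount : ∀ g : G, blockLin B v g ≠ 0 →
      (Finset.univ.filter fun a : G => S (a * g * a⁻¹)).card = Nat.card N := by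
    intro g hg
    obtain ⟨u, hu⟩ := exists_isPPart hM.1 g
    have hu1 : u ≠ 1 := by
      rintro rfl
      obtain ⟨y, hy, -, -, hyp⟩ := hu
      rw [one_mul] at hy
      exact hg (hv g (hy ▸ hyp))
    obtain ⟨E, hE, huE⟩ : ∃ E : Subgroup G, IsDefectGroup p M B E ∧ u ∈ E := by
      by_contra hno
      simp only [not_exists, not_and] at hno
      refine hg ?_
      rw [blockLin_apply, Finset.sum_apply]
      refine Finset.sum_eq_zero fun χ _ => ?_
      rw [Pi.smul_apply, char_eq_zero_of_forall_notMem hM hB hu hno χ.2, smul_zero]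
    obtain ⟨a₀, ha₀⟩ := IsDefectGroup.exists_map_conj_eq hM hB hE hP
    have hu'P : a₀ * u * a₀⁻¹ ∈ P := ha₀ ▸ ⟨u, huE, rfl⟩
    have hu'1 : a₀ * u * a₀⁻¹ ≠ 1 := fun h => hu1 (by simpa using h)
    obtain ⟨hzu, hwz⟩ := hbelow _ hu'P hu'1
    rw [← Fintype.card_subtype, ← Nat.card_eq_fintype_card]
    refine Nat.card_congr ((Equiv.mulRight a₀⁻¹).subtypeEquiv fun a => ?_)
    rw [hSiff (IsPPart.conjugate hu a), Equiv.coe_mulRight]
    have e : a * u * a⁻¹ = (a * a₀⁻¹) * (a₀ * u * a₀⁻¹) * (a * a₀⁻¹)⁻¹ := by group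
    constructor
    · intro h
      rw [e] at h
      obtain ⟨i, hi⟩ := Subgroup.mem_zpowers_iff.1 h
      rw [conj_zpow] at hi
      have h1 : (a * a₀⁻¹)⁻¹ * z * (a * a₀⁻¹) ∈ Subgroup.zpowers z := by
        refine hwz _ ⟨i, ?_⟩ ?_
        · show _ ^ i = _
          rw [← hi]; group
        · have : ((a * a₀⁻¹)⁻¹ * z * ((a * a₀⁻¹)⁻¹)⁻¹) ^ p = 1 := by
            rw [conj_pow, ← hzo, pow_orderOf_eq_one, mul_one, mul_inv_cancel]
          rwa [inv_inv] at this
      refine inv_mem_iff.1 (mem_normalizer_of_forall_conj fun w hw => ?_)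
      obtain ⟨j, rfl⟩ := Subgroup.mem_zpowers_iff.1 hw
      rw [← conj_zpow]
      refine zpow_mem ?_ _
      rwa [inv_inv]
    · intro h
      rw [e]
      have h1 : (a * a₀⁻¹)⁻¹ * z * (a * a₀⁻¹) ∈ Subgroup.zpowers z := by
        have := (Subgroup.mem_normalizer_iff.1 (inv_mem h) z).1 (Subgroup.mem_zpowers z)
        rwa [inv_inv] at this
      obtain ⟨i, hi⟩ := Subgroup.mem_zpowers_iff.1 (Subgroup.zpowers_le.2 hzu h1)
      refine ⟨i, ?_⟩
      show _ ^ i = z
      rw [conj_zpow, hi]; group
  -- the double count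
  set F : G → ℂ := fun g => blockLin B x g * conj (blockLin B v g) with hF
  have hFc : ∀ t g, F (t * g * t⁻¹) = F g := fun t g => by
    simp only [hF, hXc g t, hVc g t]
  have hcG : (Nat.card G : ℂ) ≠ 0 := natCard_ne_zero_complex
  have hSsum : ∑ h : G, (if S h then F h else 0) =
      (Nat.card N : ℂ) * classInner (blockLin B x) (blockLin B v) := by
    refine mul_left_cancel₀ hcG ?_
    calc (Nat.card G : ℂ) * ∑ h : G, (if S h then F h else 0)
        = ∑ a : G, ∑ g : G, (if S (a * g * a⁻¹) then F g else 0) := by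
          rw [Nat.card_eq_fintype_card, ← nsmul_eq_mul, ← Finset.card_univ, ← Finset.sum_const]
          refine Finset.sum_congr rfl fun a _ => (Fintype.sum_equiv (MulAut.conj a).toEquiv
            _ _ fun g => ?_).symm
          simp [hFc a g]
      _ = ∑ g : G, ((Finset.univ.filter fun a : G => S (a * g * a⁻¹)).card : ℂ) * F g := by
          rw [Finset.sum_comm]
          refine Finset.sum_congr rfl fun g _ => ?_
          rw [← Finset.sum_filter, Finset.sum_const, nsmul_eq_mul]
      _ = (Nat.card N : ℂ) * ∑ g : G, F g := by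
          rw [Finset.mul_sum]
          refine Finset.sum_congr rfl fun g _ => ?_
          by_cases hg : blockLin B v g = 0
          · simp [hF, hg]
          · rw [hcount g hg]
      _ = (Nat.card G : ℂ) * ((Nat.card N : ℂ) * classInner (blockLin B x) (blockLin B v)) := by
          rw [classInner, ← mul_left_comm (Nat.card N : ℂ), mul_inv_cancel_left₀ hcG]
  -- inside the centralizer
  haveI : Fintype (IrrCharacter H) := Fintype.ofFinite _
  set θ : H → ℂ := resFun H (blockLin B v) with hθdef
  have hθ : IsClassFunction H θ := fun a b => hVc (a : G) (b : G)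
  have hHsum : ∑ h : G, (if S h then F h else 0) =
      ∑ h : H, (if S (h : G) then F h else 0) := by
    rw [← Finset.sum_subtype (p := (· ∈ H)) (Finset.univ.filter (· ∈ H)) (fun a => by simp)
      (fun g => if S g then F g else 0)]
    refine (Finset.sum_subset (Finset.subset_univ _) fun g _ hg => ?_).symm
    rw [if_neg fun hs => hg (Finset.mem_filter.2 ⟨Finset.mem_univ _, hSH g hs⟩)]
  set Bl := Finset.univ.image (fun χ : IrrCharacter H => blockOf M (χ : H → ℂ)) with hBl
  set T := Bl.filter (fun b => IsInducedBlock M H b B) with hT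
  have hpart : ∀ h : H, ∑ b ∈ T, blockPart b θ h = if S (h : G) then θ h else 0 := by
    intro h
    split_ifs with hs
    · rw [← sum_blockPart (M := M) hθ h]
      refine Finset.sum_subset (Finset.filter_subset _ _) fun b hb hbT => ?_
      obtain ⟨η, -, rfl⟩ := Finset.mem_image.1 hb
      have hbB : ¬ IsInducedBlock M H (blockOf M (η : H → ℂ)) B := fun h' =>
        hbT (Finset.mem_filter.2 ⟨hb, h'⟩)
      obtain ⟨B', hB'⟩ := (existsUnique_isBrauerPairOf hM
        (e := blockOf M (η : H → ℂ)) ⟨isPGroup_zpowers_of_orderOf hzk, isPBlock_blockOf η⟩).exists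
      have hind := isInducedBlock_of_isBrauerPairOf_zpowers hM hB'
      obtain ⟨u, hu, hzu⟩ := hs
      have hCu : Subgroup.centralizer ({u} : Set G) ≤ H := fun a ha => by
        refine mem_centralizer_zpowers_iff.2 ?_
        obtain ⟨i, rfl⟩ := Subgroup.mem_zpowers_iff.1 hzu
        exact Commute.zpow_left (Subgroup.mem_centralizer_singleton_iff.1 ha).symm i
      rw [← sum_blockCoeff_mul_eq_blockPart _ hθ h]
      simp only [hθdef, resFun, blockLin_apply, Finset.sum_apply, Pi.smul_apply, smul_eq_mul,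
        Finset.mul_sum, Subgroup.coe_mul, mul_left_comm (blockCoeff _ _)]
      rw [Finset.sum_comm]
      refine Finset.sum_eq_zero fun χ _ => ?_
      rw [← Finset.mul_sum, sum_blockCoeff_mul_eq_zero hM hind hu hCu fun hχ => hbB ?_, mul_zero]
      rwa [IsPBlock.eq_of_mem hB hind.2.1 χ.2 hχ]
    · refine Finset.sum_eq_zero fun b hb => ?_
      have hind : IsInducedBlock M H b B := (Finset.mem_filter.1 hb).2
      obtain ⟨u, hu⟩ := exists_isPPart hM.1 h
      by_cases hu1 : u = 1
      · subst hu1
        have hreg : IsPRegular p h := by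
          obtain ⟨y, hy, -, -, hyp⟩ := hu
          rw [one_mul] at hy
          exact hy ▸ hyp
        have h0 : pRegularPart p θ = 0 := by
          funext a
          rw [pRegularPart_eq]
          show regInd p a * θ a = 0
          by_cases ha : IsPRegular p a
          · rw [show θ a = 0 from hv (a : G) (by
              unfold IsPRegular at ha ⊢; rwa [Subgroup.orderOf_coe]), mul_zero]
          · simp [regInd, ha]
        have h1 := congrFun (blockPart_pRegularPart hM hind.1 hθ) h
        rw [h0, blockPart_zero_fun, pRegularPart_eq] at h1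
        simpa [regInd_of_regular hreg] using h1.symm
      · rw [BlockHeights.blockPart_eq_sum, Finset.sum_apply]
        refine Finset.sum_eq_zero fun η _ => ?_
        rw [Pi.smul_apply, smul_eq_mul]
        split_ifs with hη
        · rw [char_eq_zero_of_forall_notMem hM hind.1 hu (fun D hD huD => hs ?_) hη, mul_zero]
          obtain ⟨E, hE, hDE⟩ := exists_le_defectGroup hM hind hD
          obtain ⟨a₀, ha₀⟩ := IsDefectGroup.exists_map_conj_eq hM hB hE hP
          have hPmem : ∀ w : H, w ∈ D → a₀ * (w : G) * a₀⁻¹ ∈ P := fun w hw =>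
            ha₀ ▸ ⟨(w : G), hDE ⟨w, hw, rfl⟩, rfl⟩
          have hQn : (Subgroup.zpowers (⟨z, hzH⟩ : H)).Normal := ⟨fun w hw a => by
            obtain ⟨i, rfl⟩ := Subgroup.mem_zpowers_iff.1 hw
            have hca : Commute a (⟨z, hzH⟩ : H) :=
              Subtype.ext (mem_centralizer_zpowers_iff.1 a.2).eq.symm
            rw [(hca.zpow_right i).eq, mul_inv_cancel_right]
            exact hw⟩
          have hzD : (⟨z, hzH⟩ : H) ∈ D := by
            refine le_of_isDefectGroup hM ?_ hind.1 hD (Subgroup.mem_zpowers _)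
            exact isPGroup_zpowers_of_orderOf ⟨1, by rw [Subgroup.orderOf_mk, hzo, pow_one]⟩
          have hu'1 : a₀ * (u : G) * a₀⁻¹ ≠ 1 := fun h' => hu1 (Subtype.ext (by simpa using h'))
          have hu'o : ∃ k : ℕ, orderOf (u : G) = p ^ k := by
            obtain ⟨-, -, -, ⟨k, hk⟩, -⟩ := hu
            exact ⟨k, by rw [Subgroup.orderOf_coe, hk]⟩
          obtain ⟨hzu, -⟩ := hbelow _ (hPmem u huD) hu'1
          obtain ⟨i, hi⟩ := Subgroup.mem_zpowers_iff.1 hzu
          have hzz : a₀ * z * a₀⁻¹ ∈ Subgroup.zpowers z :=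
            mem_zpowers_of_prime_order hM.1 hzP hzo (hPmem _ hzD)
              (by rw [conj_pow, ← hzo, pow_orderOf_eq_one, mul_one, mul_inv_cancel])
          have ho : orderOf (a₀ * z * a₀⁻¹) = p :=
            (orderOf_injective (MulAut.conj a₀).toMonoidHom (MulAut.conj a₀).injective z).trans hzo
          have hz' : z ∈ Subgroup.zpowers (a₀ * z * a₀⁻¹) :=
            mem_zpowers_of_prime_order hM.1 (hPmem _ hzD) ho hzP
              (by rw [← hzo, pow_orderOf_eq_one])
          obtain ⟨y, hy, hc, hk, hyp⟩ := hu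
          refine ⟨(u : G), ⟨(y : G), congrArg Subtype.val hy, congrArg Subtype.val hc.eq, hu'o,
            by rwa [Subgroup.orderOf_coe]⟩, ?_⟩
          obtain ⟨j, hj⟩ := Subgroup.mem_zpowers_iff.1
            (Subgroup.zpowers_le.2 hzu hzz : a₀ * z * a₀⁻¹ ∈ Subgroup.zpowers (a₀ * (u : G) * a₀⁻¹))
          rw [conj_zpow] at hj
          refine ⟨j, ?_⟩
          have := congrArg (fun w => a₀⁻¹ * w * a₀) hj
          simpa [mul_assoc] using this
        · rw [zero_mul]
  have hsplit : ∑ h : H, (if S (h : G) then F h else 0) =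
      (Nat.card H : ℂ) * ∑ b ∈ T, classInner (resFun H (blockLin B x)) (blockPart b θ) := by
    have hcH : (Nat.card H : ℂ) ≠ 0 := natCard_ne_zero_complex
    simp only [classInner, ← Finset.mul_sum, mul_inv_cancel_left₀ hcH]
    rw [Finset.sum_comm]
    refine Finset.sum_congr rfl fun h _ => ?_
    rw [← Finset.mul_sum, ← map_sum, hpart h]
    split_ifs with hs
    · rfl
    · simp
  -- all the blocks give the same value
  have heq : ∀ b ∈ T, classInner (resFun H (blockLin B x)) (blockPart b θ) =
      classInner (resFun H (blockLin B x)) (blockPart f θ) := by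
    intro b hb
    have hind : IsInducedBlock M H b B := (Finset.mem_filter.1 hb).2
    obtain ⟨t, ht⟩ := exists_conj_subpairLE hM hmax ((isInducedBlock_zpowers_iff hM hzk b).1 hind)
    have hQ : (Subgroup.zpowers z).map (MulAut.conj t).toMonoidHom = Subgroup.zpowers z := by
      refine Subgroup.eq_of_le_of_card_ge ?_ (card_map_conj _ _).ge
      rintro _ ⟨w, hw, rfl⟩
      have hw' := subpairLE_le ht ⟨w, hw, rfl⟩
      refine mem_zpowers_of_prime_order hM.1 hzP hzo hw' ?_
      obtain ⟨i, rfl⟩ := Subgroup.mem_zpowers_iff.1 hw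
      rw [← map_pow, ← zpow_natCast, ← zpow_mul, mul_comm, zpow_mul, zpow_natCast, ← hzo,
        pow_orderOf_eq_one, one_zpow, map_one]
    have key : ∀ Q' : Subgroup G, Q' = Subgroup.zpowers z →
        ∀ bb : Set (IrrCharacter (Subgroup.centralizer (Q' : Set G))), SubpairLE p M Q' bb P c →
          subgroupBlockCoeff _ bb = subgroupBlockCoeff H f := by
      rintro Q' rfl bb hbb
      rw [subpairLE_unique hM hmax.1.1 hbb hf]
    have hcoef := key _ hQ _ ht
    rw [subgroupBlockCoeff_conjBlock] at hcoef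
    have htH : ∀ a, a ∈ H ↔ t⁻¹ * a * t ∈ H := fun a => by
      have := mem_centralizer_map_conj (Subgroup.zpowers z) t a
      rwa [hQ] at this
    have hfb : transBlock (conjEquiv t htH) b = f := subgroupBlockCoeff_injective
      ((subgroupBlockCoeff_transBlock t htH b).trans hcoef)
    set ε := conjEquiv t htH with hε
    let e' : IrrCharacter H ≃ IrrCharacter H := Equiv.ofBijective _
      (Finite.injective_iff_bijective.1 (transIrr_injective ε))
    have hfix : ∀ (F' : G → ℂ), IsClassFunction G F' → ∀ η : IrrCharacter H,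
        classInner (resFun H F') (transIrr ε η : H → ℂ) =
          classInner (resFun H F') (η : H → ℂ) := fun F' hF' η => by
      rw [classInner_transIrr]
      congr 1
      funext a
      exact hF' (a : G) t
    rw [classInner_blockPart_right, classInner_blockPart_right]
    refine Fintype.sum_equiv e' _ _ fun η => ?_
    show _ = if transIrr ε η ∈ f then classInner _ (transIrr ε η : H → ℂ) * conj
      (classInner θ (transIrr ε η : H → ℂ)) else 0
    have hiff : transIrr ε η ∈ f ↔ η ∈ b := by
      rw [← hfb]; exact (transIrr_injective ε).mem_set_image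
    rw [hθdef, hfix _ hXc η, hfix _ hVc η]
    simp only [hiff]
  have hHN : H ≤ N := centralizer_le_normalizer' _
  have hcard : (Nat.card N : ℂ) = (Nat.card H : ℂ) * (H.relIndex N : ℂ) := by
    rw [← Nat.cast_mul, ← (H.subgroupOf N).card_mul_index,
      Nat.card_congr (Subgroup.subgroupOfEquivOfLe hHN).toEquiv]
    rfl
  have hTcard : Nat.card {b : Set (IrrCharacter H) | IsInducedBlock M H b B} = T.card := by
    rw [← Nat.card_eq_finsetCard]
    refine Nat.card_congr (Equiv.subtypeEquivRight fun b => ⟨fun hb => ?_,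
      fun hb => (Finset.mem_filter.1 hb).2⟩)
    obtain ⟨η, rfl⟩ := (hb : IsInducedBlock M H b B).1
    exact Finset.mem_filter.2 ⟨Finset.mem_image_of_mem _ (Finset.mem_univ η), hb⟩
  have hfin := hSsum.symm.trans (hHsum.trans hsplit)
  rw [Finset.sum_congr rfl heq, Finset.sum_const, nsmul_eq_mul, hcard, mul_assoc] at hfin
  rw [hTcard]
  exact mul_left_cancel₀ natCard_ne_zero_complex hfin

set_option maxHeartbeats 4000000 in
/-- **The regular form of a block with cyclic defect group.** -/
theorem le_regForm_of_cyclic (hM : IsPModular p M) (hmax : IsMaximalBrauerPair p M B P c)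
    [IsCyclic P] [Fintype {χ // χ ∈ B}] (g : {χ // χ ∈ B} → ℤ)
    (hne : ∑ χ, (g χ : ℂ) • pRegularPart p (χ.1 : G → ℂ) ≠ 0) :
    (blockRank p B : ℝ) ≤ (Nat.card P : ℝ) *
      (classInner (∑ χ, (g χ : ℂ) • pRegularPart p (χ.1 : G → ℂ))
        (∑ χ, (g χ : ℂ) • pRegularPart p (χ.1 : G → ℂ))).re := by
  classical
  haveI := Fact.mk hM.1
  have hB : IsPBlock M B := hmax.1.2.1
  have hPd : IsDefectGroup p M B P := isDefectGroup_of_isMaximal hM hmax
  have hqd : Nat.card P = p ^ blockDefect p B := card_isDefectGroup hM hB hPd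
  have hq0 : 0 < Nat.card P := Nat.card_pos
  generalize hqq : Nat.card P = q at hqd hq0 ⊢
  have hqC : (q : ℂ) ≠ 0 := Nat.cast_ne_zero.2 hq0.ne'
  have hp0 : (p : ℂ) ≠ 0 := Nat.cast_ne_zero.2 hM.1.ne_zero
  set A : Matrix {χ // χ ∈ B} {χ // χ ∈ B} ℤ :=
    Matrix.of fun χ ψ => pairing p χ.1 ψ.1 / (p : ℤ) ^ minExp p B with hA
  have hmulA : ∀ χ ψ : {χ // χ ∈ B}, pairing p χ.1 ψ.1 = (p : ℤ) ^ minExp p B * A χ ψ := fun χ ψ => by
    rw [hA, Matrix.of_apply, Int.mul_ediv_cancel']
    exact dvd_trans (pow_dvd_pow _ (minExp_le ψ.2)) (pow_nu_dvd_pairing hM χ.1 ψ.1)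
  have hreg : ∀ χ ψ : {χ // χ ∈ B}, (q : ℂ) * regInner p χ.1 ψ.1 = (A χ ψ : ℂ) := fun χ ψ => by
    rw [regInner, classInner_pRegularPart hM.1, hmulA χ ψ,
      ← blockDefect_add_minExp (p := p) hB, hqd]
    push_cast
    rw [pow_add]
    field_simp
  have hsymm : Aᵀ = A := by
    ext χ ψ
    show pairing p ψ.1 χ.1 / _ = pairing p χ.1 ψ.1 / _
    rw [pairing_symm hM.1]
  have hs : ∀ a b : {χ // χ ∈ B}, regInner p a.1 b.1 = regInner p b.1 a.1 := fun a b =>
    mul_left_cancel₀ hqC (by rw [hreg, hreg, ← Matrix.transpose_apply A, hsymm])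
  have hsq : A * A = (q : ℤ) • A := by
    ext i j
    apply Int.cast_injective (α := ℂ)
    have h := congrFun (regMatrix_mulVec_idem hM hB (Pi.single j (1 : ℂ))) i
    simp only [Matrix.mulVec_single, MulOpposite.op_one, one_smul, Matrix.col_apply] at h
    simp only [Matrix.mulVec, dotProduct, regMatrix, Matrix.of_apply, Matrix.col] at h
    rw [Matrix.smul_apply, smul_eq_mul, Matrix.mul_apply]
    push_cast
    rw [← hreg i j, hs i j, ← h, Finset.mul_sum, Finset.mul_sum]
    refine Finset.sum_congr rfl fun k _ => ?_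
    rw [← hreg, ← hreg, hs i k, hs k j]
    simp only [Matrix.transpose_apply, Matrix.of_apply, hs j k]
    ring
  have htr : A.trace = (q : ℤ) * blockRank p B := by
    apply Int.cast_injective (α := ℂ)
    push_cast
    rw [blockRank_eq_sum_regInner hM hB, Finset.mul_sum, Matrix.trace, Int.cast_sum]
    exact Finset.sum_congr rfl fun χ _ => (hreg χ χ).symm
  have hform : ∀ f : {χ // χ ∈ B} → ℤ, (q : ℂ) *
      classInner (∑ χ, (f χ : ℂ) • pRegularPart p (χ.1 : G → ℂ))
        (∑ χ, (f χ : ℂ) • pRegularPart p (χ.1 : G → ℂ)) =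
      ((dotProduct f (A *ᵥ f) : ℤ) : ℂ) := fun f => by
    rw [classInner_regular_combination, Finset.mul_sum]
    simp only [dotProduct, Matrix.mulVec, Int.cast_sum, Int.cast_mul, Finset.mul_sum]
    refine Finset.sum_congr rfl fun χ _ => Finset.sum_congr rfl fun ψ _ => ?_
    rw [← hreg]
    ring
  set W := ∑ χ, (g χ : ℂ) • pRegularPart p (χ.1 : G → ℂ) with hW
  have hre := congrArg Complex.re (hform g)
  rw [← hW, ← Complex.ofReal_natCast, Complex.re_ofReal_mul, Complex.intCast_re] at hre
  rw [hre]
  have hAg : A *ᵥ g ≠ 0 := fun h => by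
    have hg := hform g
    rw [h, dotProduct_zero, Int.cast_zero] at hg
    exact hne (eq_zero_of_classInner_self ((mul_eq_zero.1 hg).resolve_left hqC))
  suffices hmain : (blockRank p B : ℤ) ≤ g ⬝ᵥ (A *ᵥ g) by exact_mod_cast hmain
  rcases eq_or_ne (blockRank p B) 1 with hl1 | hl1
  · rw [hl1, Nat.cast_one]
    have hsum : (q : ℤ) * (g ⬝ᵥ (A *ᵥ g)) = (A *ᵥ g) ⬝ᵥ (A *ᵥ g) := by
      rw [← smul_eq_mul, ← dotProduct_smul, ← Matrix.smul_mulVec, ← hsq, ← Matrix.mulVec_mulVec,
        Matrix.dotProduct_mulVec, ← Matrix.mulVec_transpose, hsymm]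
    have h0 : 0 < (A *ᵥ g) ⬝ᵥ (A *ᵥ g) :=
      lt_of_le_of_ne (Finset.sum_nonneg fun i _ => mul_self_nonneg _)
        (Ne.symm fun h => hAg (dotProduct_self_eq_zero.1 h))
    rw [← hsum] at h0
    exact pos_of_mul_pos_right h0 (Int.natCast_nonneg q)
  -- the rank is at least two
  obtain ⟨ψ₀, hψ₀, hmin⟩ := exists_nu_eq_minExp (p := p) (IsPBlock.nonempty hB)
  have hnz : ∀ χ : {χ // χ ∈ B}, A ⟨ψ₀, hψ₀⟩ χ ≠ 0 := fun χ h => by
    refine pairing_ne_zero_of_minimal hM hB hψ₀ hmin χ.2 ?_
    rw [hmulA ⟨ψ₀, hψ₀⟩ χ, h, mul_zero]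
  have hdiag : ∀ i, A i i ≠ (q : ℤ) := by
    intro i hi
    have hrow : ∀ φ, φ ≠ i → A i φ = 0 := by
      have h := congrFun (congrFun hsq i) i
      rw [Matrix.mul_apply, Matrix.smul_apply, hi, smul_eq_mul,
        ← Finset.add_sum_erase _ _ (Finset.mem_univ i), hi, add_eq_left,
        Finset.sum_eq_zero_iff_of_nonneg (fun φ _ => by
          rw [← Matrix.transpose_apply A, hsymm]; exact mul_self_nonneg _)] at h
      intro φ hφ
      have h' := h φ (Finset.mem_erase.2 ⟨hφ, Finset.mem_univ _⟩)
      rw [← Matrix.transpose_apply A i φ, hsymm] at h'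
      exact mul_self_eq_zero.1 h'
    by_cases hi0 : i = ⟨ψ₀, hψ₀⟩
    · obtain ⟨φ, hφ⟩ : ∃ φ, φ ≠ i := by
        by_contra hall
        simp only [not_exists, not_not] at hall
        have hcard : Nat.card B = 1 := Nat.card_eq_one_iff_exists.2 ⟨i, hall⟩
        exact hl1 (le_antisymm (hcard ▸ blockRank_le_card hM hB) (blockRank_pos hM hB))
      exact hnz φ (hi0 ▸ hrow φ hφ)
    · refine hnz i ?_
      rw [← Matrix.transpose_apply A, hsymm]
      exact hrow _ (Ne.symm hi0)
  -- the element of order `p` and the local block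
  have hd0 : blockDefect p B ≠ 0 := fun h => hl1 ((blockRank_defect_zero hM hB).2.1.1 h).2
  obtain ⟨⟨z, hzP⟩, hzo'⟩ := exists_prime_orderOf_dvd_card' p
    (G := P) (hqq ▸ hqd ▸ dvd_pow_self p hd0)
  have hzo : orderOf z = p := by rwa [Subgroup.orderOf_mk] at hzo'
  have hz1 : z ≠ 1 := fun h => hM.1.one_lt.ne (by rw [← hzo, h, orderOf_one])
  have hab := comm_of_isCyclic P
  have hQP : Subgroup.zpowers z ≤ P := Subgroup.zpowers_le.2 hzP
  set H := Subgroup.centralizer (Subgroup.zpowers z : Set G) with hH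
  haveI : Fintype H := Fintype.ofFinite _
  haveI : Fintype (IrrCharacter H) := Fintype.ofFinite _
  have hPH : P ≤ H := le_normalizer_of_comm hab hQP
  obtain ⟨f, hf⟩ := exists_inducedIn (H := H) hM hmax.1.1.1 hPH hab (Subgroup.centralizer_le hQP)
    hmax.1.1.2
  obtain ⟨hle, c', hmax'⟩ := inducedIn_local hM hmax hab hQP hf
  haveI : IsCyclic (P.subgroupOf H) :=
    isCyclic_of_surjective (Subgroup.subgroupOfEquivOfLe hPH).symm.toMonoidHom
      (Subgroup.subgroupOfEquivOfLe hPH).symm.surjective
  have hnil : IsNilpotentBlock p M f := (isNilpotent_inducedIn_iff hM hmax hab hQP hf).2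
    fun a ha hst => mem_centralizer_of_fix hM hmax hst hzP hz1 (by
      rw [← (mem_centralizer_zpowers_iff.1 ha).eq, mul_inv_cancel_right])
  have hst' : pairStab (P.subgroupOf H) c' ≤ Subgroup.centralizer (P.subgroupOf H : Set H) :=
    fun a ha => (isNilpotentBlock_iff_of_abelian hM hmax' fun x hx y hy =>
      Subtype.ext (hab _ hx _ hy)).1 hnil a (mem_pairStab_iff.1 ha).1 (mem_pairStab_iff.1 ha).2
  have hlf : blockRank p f = 1 := blockRank_eq_one_of_cyclic hM hmax' hst'
  obtain ⟨φ, d, -, hval, hdsum⟩ := rank_one_data hM hmax'.1.2.1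
    (isDefectGroup_of_isMaximal hM hmax') hlf
  rw [card_subgroupOf hPH, hqq, finsum_mem_eq_finite_toFinset_sum _ (Set.toFinite f)] at hdsum
  replace hdsum : ∑ η : IrrCharacter H, (if η ∈ f then (d η : ℤ) * d η else 0) = q := by
    rw [← Finset.sum_filter, show Finset.univ.filter (· ∈ f) = (Set.toFinite f).toFinset by
      ext η; simp, ← hdsum]
    push_cast
    exact Finset.sum_congr rfl fun η _ => by ring
  choose mult hmult using fun (χ : {χ // χ ∈ B}) (η : IrrCharacter H) =>
    exists_resMult_nat (C := H) χ.1 η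
  set R : ({χ // χ ∈ B} → ℤ) → IrrCharacter H → ℤ := fun x η =>
    ∑ χ, x χ * (mult χ η : ℤ) with hR
  have hresR : ∀ (x : {χ // χ ∈ B} → ℤ) (η : IrrCharacter H),
      classInner (resFun H (blockLin B fun χ => (x χ : ℂ))) (η : H → ℂ) = (R x η : ℂ) := by
    intro x η
    rw [show resFun H (blockLin B fun χ => (x χ : ℂ)) =
        ∑ χ : {χ // χ ∈ B}, (x χ : ℂ) • resFun H (χ.1 : G → ℂ) from by
      funext a; simp [resFun, blockLin_apply], classInner_sum_left, hR, Int.cast_sum]
    refine Finset.sum_congr rfl fun χ _ => ?_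
    rw [classInner_smul_left]
    show _ * resMult H χ.1 η = _
    rw [hmult]
    push_cast
    rfl
  set coef : {χ // χ ∈ B} → ℤ := fun χ =>
    ∑ η : IrrCharacter H, if η ∈ f then (d η : ℤ) * mult χ η else 0 with hcoef
  set ψ : ({χ // χ ∈ B} → ℤ) →ₗ[ℤ] ℤ := ∑ χ, coef χ • LinearMap.proj χ with hψdef
  have hψR : ∀ x, ψ x = ∑ η : IrrCharacter H, if η ∈ f then (d η : ℤ) * R x η else 0 := by
    intro x
    simp only [hψdef, LinearMap.sum_apply, LinearMap.smul_apply, LinearMap.proj_apply, smul_eq_mul,
      hcoef, hR, Finset.sum_mul, ite_mul, zero_mul]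
    rw [Finset.sum_comm]
    refine Finset.sum_congr rfl fun η _ => ?_
    split_ifs
    · rw [Finset.mul_sum]
      exact Finset.sum_congr rfl fun χ _ => by ring
    · exact Finset.sum_const_zero
  refine le_projForm_of_disc hq0 A hsymm hsq htr hdiag ψ (fun x hx => ?_) g hAg
  obtain ⟨t, ht⟩ := hx
  set n := H.relIndex (Subgroup.normalizer (Subgroup.zpowers z : Set G)) with hn
  set m := Nat.card {b : Set (IrrCharacter H) | IsInducedBlock M H b B} with hm
  set Wf : IrrCharacter H → ℤ := fun η => if η ∈ f then R x η - t * d η else 0 with hWf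
  refine ⟨n, ?_, fun χ => (m : ℤ) * ∑ η : IrrCharacter H, Wf η * mult χ η, ?_, ?_⟩
  · rw [hqd, Nat.cast_pow]
    exact IsCoprime.pow_right (Nat.isCoprime_iff_coprime.2 (coprime_relIndex_centralizer hM.1 hzo))
  · -- the combination lies in the kernel
    have hWd : ∑ η : IrrCharacter H, Wf η * (d η : ℤ) = 0 := by
      have : ∀ η, Wf η * (d η : ℤ) = (if η ∈ f then (d η : ℤ) * R x η else 0) -
          t * (if η ∈ f then (d η : ℤ) * d η else 0) := fun η => by
        simp only [hWf]; split_ifs <;> ring
      rw [Finset.sum_congr rfl fun η _ => this η, Finset.sum_sub_distrib, ← hψR, ← Finset.mul_sum,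
        hdsum, ht]
      ring
    have hWreg : ∑ η : IrrCharacter H, (Wf η : ℂ) • pRegularPart p (η : H → ℂ) = 0 := by
      funext a
      simp only [Finset.sum_apply, Pi.smul_apply, smul_eq_mul, pRegularPart_eq, Pi.zero_apply]
      by_cases ha : IsPRegular p a
      · have : ∀ η : IrrCharacter H, (Wf η : ℂ) * (regInd p a * (η : H → ℂ) a) =
            ((Wf η * (d η : ℤ) : ℤ) : ℂ) * φ a := fun η => by
          rw [regInd_of_regular ha, one_mul]
          by_cases hη : η ∈ f
          · rw [hval η hη a ha]; push_cast; ring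
          · simp [hWf, hη]
        rw [Finset.sum_congr rfl fun η _ => this η, ← Finset.sum_mul, ← Int.cast_sum, hWd,
          Int.cast_zero, zero_mul]
      · exact Finset.sum_eq_zero fun η _ => by simp [regInd, ha]
    funext χ'
    apply Int.cast_injective (α := ℂ)
    simp only [Matrix.mulVec, dotProduct, Pi.zero_apply, Int.cast_sum, Int.cast_zero, Int.cast_mul,
      ← hreg, Int.cast_natCast, Finset.mul_sum]
    have hmid : ∀ η : IrrCharacter H,
        ∑ χ : {χ // χ ∈ B}, regInner p χ'.1 χ.1 * (mult χ η : ℂ) =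
          classInner (resFun H (χ'.1 : G → ℂ)) (pRegularPart p (η : H → ℂ)) := fun η => by
      rw [← classInner_pRegularPart_comm,
        show pRegularPart p (resFun H (χ'.1 : G → ℂ)) =
          resFun H (pRegularPart p (χ'.1 : G → ℂ)) from funext fun a => by
            simp only [pRegularPart_eq, resFun, regInd_subgroup],
        pRegularPart_expand hM hB χ'.2,
        show resFun H (∑ χ : {χ // χ ∈ B}, regInner p χ'.1 χ.1 • (χ.1 : G → ℂ)) =
          ∑ χ : {χ // χ ∈ B}, regInner p χ'.1 χ.1 • resFun H (χ.1 : G → ℂ) from funext fun a => by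
            simp [resFun],
        classInner_sum_left]
      refine Finset.sum_congr rfl fun χ _ => ?_
      rw [classInner_smul_left, ← hmult χ η]
      rfl
    have hzero : ∑ η : IrrCharacter H, (Wf η : ℂ) *
        classInner (resFun H (χ'.1 : G → ℂ)) (pRegularPart p (η : H → ℂ)) = 0 := by
      have h := congrArg (classInner (resFun H (χ'.1 : G → ℂ))) hWreg
      rw [classInner_sum_right, classInner_zero_right] at h
      simpa [classInner_smul_right] using h
    simp only [← hmid, Finset.mul_sum] at hzero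
    rw [Finset.sum_comm] at hzero
    rw [← mul_zero ((q : ℂ) * (m : ℂ)), ← hzero, Finset.mul_sum]
    refine Finset.sum_congr rfl fun χ _ => ?_
    rw [Finset.mul_sum]
    exact Finset.sum_congr rfl fun η _ => by ring
  · intro v hv
    -- the combination is regular-vanishing
    have hWv : (∑ χ, (v χ : ℂ) • pRegularPart p (χ.1 : G → ℂ)) = 0 := by
      have h := hform v
      rw [hv, dotProduct_zero, Int.cast_zero] at h
      exact eq_zero_of_classInner_self ((mul_eq_zero.1 h).resolve_left hqC)
    have hV0 : ∀ a, IsPRegular p a → blockLin B (fun χ => (v χ : ℂ)) a = 0 := fun a ha => by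
      have h := congrFun hWv a
      simpa [blockLin_apply, pRegularPart_eq, regInd_of_regular ha] using h
    have hkey : (n : ℂ) * ∑ χ, (x χ : ℂ) * conj (v χ : ℂ) = (m : ℂ) *
        classInner (resFun H (blockLin B fun χ => (x χ : ℂ)))
          (blockPart f (resFun H (blockLin B fun χ => (v χ : ℂ)))) :=
      inner_identity_of_cyclic hM hmax hzP hzo hle
        (fun χ => (x χ : ℂ)) (fun χ => (v χ : ℂ)) hV0
    rw [classInner_blockPart_right] at hkey
    simp only [hresR, map_intCast] at hkey
    have hEv : ∑ η : IrrCharacter H, (if η ∈ f then (d η : ℤ) * R v η else 0) = 0 := by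
      have hθc : IsClassFunction H (resFun H (blockLin B fun χ => (v χ : ℂ))) := fun a b =>
        isClassFunction_blockLin _ (a : G) (b : G)
      have h0 : pRegularPart p (resFun H (blockLin B fun χ => (v χ : ℂ))) = 0 := by
        funext a
        rw [pRegularPart_eq]
        show regInd p a * blockLin B _ (a : G) = 0
        by_cases ha : IsPRegular p a
        · rw [hV0 (a : G) (by unfold IsPRegular at ha ⊢; rwa [Subgroup.orderOf_coe]), mul_zero]
        · simp [regInd, ha]
      have h1 := congrFun (blockPart_pRegularPart hM hmax'.1.2.1 hθc) 1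
      rw [h0, blockPart_zero_fun, pRegularPart_one hM.1, BlockHeights.blockPart_eq_sum] at h1
      simp only [Finset.sum_apply, Pi.smul_apply, smul_eq_mul, Pi.zero_apply, hresR] at h1
      have h2 : ∀ η : IrrCharacter H, (if η ∈ f then (R v η : ℂ) else 0) * (η : H → ℂ) 1 =
          ((if η ∈ f then (d η : ℤ) * R v η else 0 : ℤ) : ℂ) * φ 1 := fun η => by
        split_ifs with hη
        · rw [hval η hη 1 (isPRegular_one hM.1)]; push_cast; ring
        · simp
      rw [Finset.sum_congr rfl fun η _ => h2 η, ← Finset.sum_mul, ← Int.cast_sum, eq_comm,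
        mul_eq_zero, Int.cast_eq_zero] at h1
      refine h1.resolve_right fun hφ => ?_
      obtain ⟨η, hη⟩ := IsPBlock.nonempty hmax'.1.2.1
      exact IsIrrCharacter.apply_one_ne_zero η.2
        (by rw [hval η hη 1 (isPRegular_one hM.1), hφ, mul_zero])
    have hkeyZ : (n : ℤ) * (x ⬝ᵥ v) =
        (m : ℤ) * ∑ η : IrrCharacter H, (if η ∈ f then R x η * R v η else 0) := by
      apply Int.cast_injective (α := ℂ)
      simp only [dotProduct, Int.cast_mul, Int.cast_sum, Int.cast_natCast, Int.cast_ite,
        Int.cast_zero]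
      exact hkey
    have hw : (fun χ => (m : ℤ) * ∑ η : IrrCharacter H, Wf η * mult χ η) ⬝ᵥ v =
        (m : ℤ) * ∑ η : IrrCharacter H, Wf η * R v η := by
      simp only [dotProduct, hR, Finset.mul_sum, Finset.sum_mul]
      rw [Finset.sum_comm]
      exact Finset.sum_congr rfl fun η _ => Finset.sum_congr rfl fun χ _ => by ring
    have hWR : ∀ η, Wf η * R v η = (if η ∈ f then R x η * R v η else 0) -
        t * (if η ∈ f then (d η : ℤ) * R v η else 0) := fun η => by
      simp only [hWf]; split_ifs <;> ring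
    rw [sub_dotProduct, smul_dotProduct, smul_eq_mul, hkeyZ, hw,
      Finset.sum_congr rfl fun η _ => hWR η, Finset.sum_sub_distrib, ← Finset.mul_sum, hEv,
      mul_zero, sub_zero, sub_self]

end Cfsg.Agent.Lib.Blocks
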