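import Cfsg.Agent.Lib.Blocks.PrimeOrderShift
import Cfsg.Agent.Lib.Blocks.DefectZero

/-!
# The principal block of a group with a Sylow subgroup of order `p`
-/

set_option autoImplicit false
set_option linter.unusedSectionVars false
set_option linter.unusedVariables false
set_option maxHeartbeats 800000

namespace Cfsg.Agent.Lib.Blocks

open Cfsg Cfsg.Agent.Lib.Characters Cfsg.Agent.Lib.Cores
open scoped ComplexConjugate

universe u

variable {G : Type u} [Group G] [Fintype G] {M : Ideal AlgInt} [hMp : M.IsPrime] {p : ℕ}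
  [hp : Fact p.Prime]

theorem int_two_squares {ι : Type*} [DecidableEq ι] (s : Finset ι) (f w : ι → ℤ)
    (hsq : ∑ i ∈ s, f i ^ 2 = 2) (hw : ∀ i ∈ s, 0 < w i) (h0 : ∑ i ∈ s, f i * w i = 0) :
    (∀ i ∈ s, f i = 0 ∨ f i = 1 ∨ f i = -1) ∧ (s.filter fun i => f i = 1).card = 1 := by
  classical
  have hb : ∀ i ∈ s, f i = 0 ∨ f i = 1 ∨ f i = -1 := by
    intro i hi
    have h : f i ^ 2 ≤ 2 := hsq ▸ Finset.single_le_sum (fun j _ => sq_nonneg (f j)) hi
    have h1 : f i ≤ 1 := by nlinarith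
    have h2 : -1 ≤ f i := by nlinarith
    omega
  refine ⟨hb, ?_⟩
  set a := (s.filter fun i => f i = 1).card with ha
  set b := (s.filter fun i => f i = -1).card with hb'
  have hab : (a : ℤ) + b = 2 := by
    rw [ha, hb', Finset.card_filter, Finset.card_filter, ← hsq]
    push_cast
    rw [← Finset.sum_add_distrib]
    refine Finset.sum_congr rfl fun i hi => ?_
    rcases hb i hi with h | h | h <;> simp [h]
  by_contra hne
  obtain ⟨i₀, hi₀, hf₀⟩ : ∃ i ∈ s, f i ≠ 0 := by
    by_contra hcon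
    push Not at hcon
    rw [Finset.sum_eq_zero fun i hi => by rw [hcon i hi]; ring] at hsq
    norm_num at hsq
  rcases (show a = 0 ∨ b = 0 by omega) with h | h
  · have hnp : ∀ i ∈ s, f i ≤ 0 := by
      intro i hi
      rcases hb i hi with h' | h' | h'
      · omega
      · exact absurd h' ((Finset.filter_eq_empty_iff.1 (Finset.card_eq_zero.1 h)) hi)
      · omega
    have : ∑ i ∈ s, f i * w i < 0 := by
      refine Finset.sum_neg' (fun i hi => mul_nonpos_of_nonpos_of_nonneg (hnp i hi) (hw i hi).le)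
        ⟨i₀, hi₀, mul_neg_of_neg_of_pos (lt_of_le_of_ne (hnp i₀ hi₀) hf₀) (hw i₀ hi₀)⟩
    omega
  · have hnn : ∀ i ∈ s, 0 ≤ f i := by
      intro i hi
      rcases hb i hi with h' | h' | h'
      · omega
      · omega
      · exact absurd h' ((Finset.filter_eq_empty_iff.1 (Finset.card_eq_zero.1 h)) hi)
    have : 0 < ∑ i ∈ s, f i * w i :=
      Finset.sum_pos' (fun i hi => mul_nonneg (hnn i hi) (hw i hi).le)
        ⟨i₀, hi₀, mul_pos (lt_of_le_of_ne (hnn i₀ hi₀) (Ne.symm hf₀)) (hw i₀ hi₀)⟩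
    omega

/-- The principal block of a group whose Sylow `p`-subgroups have order `p`, with the sums of the
values on the elements of order `p`. -/
theorem principal_block_prime_order_data (hM : IsPModular p M) (hodd : p ≠ 2) (P : Sylow p G)
    (hP : Nat.card P = p) (e : ℕ)
    (he : (Subgroup.centralizer ((P : Subgroup G) : Set G)).relIndex
      (Subgroup.normalizer ((P : Subgroup G) : Set G)) = e) :
    ∃ (X Y : Finset (IrrCharacter G)) (εX : IrrCharacter G → ℤ) (ε : ℤ) (u : G),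
      u ∈ (P : Subgroup G) ∧ u ≠ 1 ∧
      principalBlock M G = ↑X ∪ ↑Y ∧ Disjoint X Y ∧ X.card = e ∧
      Y.card = (p - 1) / e ∧ trivIrr G ∈ X ∧
      (∀ χ ∈ X, (εX χ = 1 ∨ εX χ = -1) ∧ (charDegree (χ : G → ℂ) : ℤ) ≡ εX χ [ZMOD p] ∧
        ∀ x : G, x ∈ (P : Subgroup G) → x ≠ 1 → ∀ y : G,
          y ∈ Subgroup.centralizer ((P : Subgroup G) : Set G) → ¬ p ∣ orderOf y →
            (χ : G → ℂ) (x * y) = (εX χ : ℂ)) ∧
      (ε = 1 ∨ ε = -1) ∧
      (∀ θ ∈ Y, (charDegree (θ : G → ℂ) : ℤ) ≡ ε * (e : ℤ) [ZMOD p]) ∧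
      (∀ θ ∈ Y, ∀ θ' ∈ Y, ∀ g : G, ¬ p ∣ orderOf g → (θ : G → ℂ) g = (θ' : G → ℂ) g) ∧
      (∀ θ ∈ Y, ∀ g : G, ¬ p ∣ orderOf g →
        (ε : ℂ) * (θ : G → ℂ) g = ∑ χ ∈ X, (εX χ : ℂ) * (χ : G → ℂ) g) ∧
      (∀ θ ∈ Y, ∑ i ∈ (Finset.univ : Finset (ZMod p)).erase 0, (θ : G → ℂ) (upow u i) =
        -(ε : ℂ) * (e : ℂ)) ∧
      ∀ i : ZMod p, i ≠ 0 →
        ∑ χ ∈ X ∪ Y, (χ : G → ℂ) (upow u i) * conj ((χ : G → ℂ) (upow u i)) = p := by
  classical
  haveI := Fintype.ofFinite (IrrCharacter G)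
  set Q : Subgroup G := (P : Subgroup G) with hQ
  have hQc : Nat.card Q = p := hP
  have hsq : ¬ p ^ 2 ∣ Nat.card G := by
    intro h
    have h1 := Sylow.card_eq_multiplicity P
    have h2 := (hp.out.pow_dvd_iff_le_factorization Nat.card_pos.ne').1 h
    have h3 : (Nat.card G).factorization p = 1 :=
      Nat.pow_right_injective hp.out.two_le
        (show p ^ _ = p ^ 1 from h1.symm.trans (hP.trans (pow_one p).symm))
    omega
  obtain ⟨⟨u, hu⟩, hu1'⟩ : ∃ x : Q, x ≠ 1 := by
    haveI : Nontrivial Q := Finite.one_lt_card_iff_nontrivial.1 (hQc.symm ▸ hp.out.one_lt)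
    exact exists_ne 1
  have hu1 : u ≠ 1 := fun h => hu1' (Subtype.ext h)
  have hordu : orderOf u = p := orderOf_of_mem_prime hQc hu hu1
  have hup : u ^ p = 1 := hordu ▸ pow_orderOf_eq_one u
  obtain ⟨hOmem, hOp, hdec⟩ := regular_core Q hQc hsq hu hu1
  obtain ⟨t, r, htN, -, htu, hprim, -, hgenN⟩ := exists_normalizer_generator Q hQc hsq hu hu1
  rw [he] at hprim
  have hepos : 0 < e :=
    he ▸ Nat.pos_of_ne_zero (Subgroup.index_ne_zero_of_finite
      (H := (Subgroup.centralizer (Q : Set G)).subgroupOf (Subgroup.normalizer (Q : Set G))))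
  haveI : NeZero e := ⟨hepos.ne'⟩
  have hp1 : 1 < p := hp.out.one_lt
  have hp3 : 3 ≤ p := by have := hp.out.two_le; omega
  have hr0 : (r : ZMod p) ≠ 0 := hprim.ne_zero hepos.ne'
  have hedvd : e ∣ p - 1 := hprim.dvd_of_pow_eq_one _ (ZMod.pow_card_sub_one_eq_one hr0)
  have hele : e ≤ p - 1 := Nat.le_of_dvd (by omega) hedvd
  -- conjugation on `P`
  have hct : ∀ (s : ℕ) (i : ZMod p), t ^ s * upow u i * (t ^ s)⁻¹ = upow u ((r : ZMod p) ^ s * i) := by
    intro s
    induction s with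
    | zero => intro i; simp
    | succ s ih =>
      intro i
      rw [pow_succ, show t ^ s * t * upow u i * (t ^ s * t)⁻¹ = t ^ s * (t * upow u i * t⁻¹) * (t ^ s)⁻¹
        by group, show t * upow u i * t⁻¹ = upow u ((r : ZMod p) * i) by
          rw [upow, ← conj_pow, htu, ← pow_mul, mul_comm r, pow_mul, upow_mul_natCast hup]
          rfl, ih, pow_succ, mul_assoc]
  have hcomm : ∀ i : ZMod p, ∀ c ∈ Subgroup.centralizer (Q : Set G), c * upow u i * c⁻¹ = upow u i :=
    fun i c hc => by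
      rw [← Subgroup.mem_centralizer_iff.1 hc _ (upow_mem hu i), mul_inv_cancel_right]
  have hN : ∀ g ∈ Subgroup.normalizer (Q : Set G), ∃ h : ZMod p, h ^ e = 1 ∧
      ∀ i, g * upow u i * g⁻¹ = upow u (h * i) := by
    intro g hg
    obtain ⟨s, hs⟩ := hgenN g hg
    refine ⟨(r : ZMod p) ^ s, by rw [← pow_mul, mul_comm, pow_mul, hprim.pow_eq_one, one_pow],
      fun i => ?_⟩
    rw [← hct, show g * upow u i * g⁻¹ =
      t ^ s * (((t ^ s)⁻¹ * g) * upow u i * ((t ^ s)⁻¹ * g)⁻¹) * (t ^ s)⁻¹ by group, hcomm i _ hs]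
  have hconj : ∀ i i' : ZMod p, i ≠ 0 →
      (IsConj (upow u i) (upow u i') ↔ (i' * i⁻¹) ^ e = 1) := by
    intro i i' hi
    constructor
    · intro h
      obtain ⟨g, hg⟩ := isConj_iff.1 h
      have hi1 : upow u i ≠ 1 := fun h' => hi ((upow_eq_one_iff hordu i).1 h')
      have hi'1 : upow u i' ≠ 1 := fun h' => hi1 (by
        rw [h'] at hg
        simpa [mul_assoc] using congrArg (fun x => g⁻¹ * x * g) hg)
      have hgN : g ∈ Subgroup.normalizer (Q : Set G) := by
        refine mem_normalizer_of_conj_mem Q hQc hsq (upow_mem hu i') hi'1 ?_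
        rw [← hg, show g⁻¹ * (g * upow u i * g⁻¹) * g = upow u i by group]
        exact Subgroup.le_normalizer (upow_mem hu i)
      obtain ⟨h', hh', hh''⟩ := hN g hgN
      rw [hh''] at hg
      rw [← upow_injective hordu hg, mul_inv_cancel_right₀ hi, hh']
    · intro h
      obtain ⟨s, -, hs⟩ := hprim.eq_pow_of_pow_eq_one h
      refine isConj_iff.2 ⟨t ^ s, ?_⟩
      rw [hct, hs, inv_mul_cancel_right₀ hi]
  -- multiplicities
  choose m hm using fun χ : IrrCharacter G => exists_mult_nat (p := p) hordu χ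
  set ψ := ZMod.stdAddChar (N := p) with hψ
  have hp0 : (p : ℂ) ≠ 0 := Nat.cast_ne_zero.2 hp.out.ne_zero
  let d : IrrCharacter G → ZMod p → ℤ := fun χ j => (m χ 0 : ℤ) - m χ j
  have hdC : ∀ χ j, (d χ j : ℂ) =
      (p : ℂ)⁻¹ * ∑ i, (χ : G → ℂ) (upow u i) * (1 - ψ (-(i * j))) := by
    intro χ j
    simp only [d, Int.cast_sub, Int.cast_natCast, hm, mul_zero, neg_zero, AddChar.map_zero_eq_one,
      mul_one, ← mul_sub, ← Finset.sum_sub_distrib]
    exact congrArg _ (Finset.sum_congr rfl fun i _ => by ring)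
  have hdsum : ∀ χ, ∑ j, (d χ j : ℂ) =
      ∑ i ∈ (Finset.univ : Finset (ZMod p)).erase 0, (χ : G → ℂ) (upow u i) := by
    intro χ
    simp only [hdC, ← Finset.mul_sum]
    rw [Finset.sum_comm]
    have : ∀ i : ZMod p, ∑ j, (χ : G → ℂ) (upow u i) * (1 - ψ (-(i * j))) =
        if i = 0 then 0 else (p : ℂ) * (χ : G → ℂ) (upow u i) := by
      intro i
      rw [← Finset.mul_sum, Finset.sum_sub_distrib, Finset.sum_const, Finset.card_univ, ZMod.card,
        nsmul_one, Finset.sum_congr rfl fun j _ => show ψ (-(i * j)) = ψ (j * -i) by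
          rw [mul_neg, mul_comm j], sum_stdAddChar_mul]
      split_ifs with h1 h2 h2
      · simp
      · exact absurd (neg_eq_zero.1 h1) h2
      · exact absurd (by rw [h2, neg_zero]) h1
      · ring
    rw [Finset.sum_congr rfl fun i _ => this i, ← Finset.add_sum_erase _ _ (Finset.mem_univ (0 : ZMod p)),
      if_pos rfl, zero_add, Finset.sum_congr rfl fun i hi => if_neg (Finset.mem_erase.1 hi).1,
      ← Finset.mul_sum, ← mul_assoc, inv_mul_cancel₀ hp0, one_mul]
  have hcl : ∀ χ : IrrCharacter G, ∀ i h : ZMod p, h ^ e = 1 →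
      (χ : G → ℂ) (upow u (h * i)) = (χ : G → ℂ) (upow u i) := by
    intro χ i h hh
    obtain ⟨s, -, hs⟩ := hprim.eq_pow_of_pow_eq_one hh
    rw [← hs, ← hct]
    exact IsCharacter.isClassFunction (irr_isCharacter χ) _ _
  have hdinv : ∀ χ j h, h ^ e = 1 → d χ (h * j) = d χ j := by
    intro χ j h hh
    have hh0 : h ≠ 0 := fun h' => by
      rw [h', zero_pow hepos.ne'] at hh; exact zero_ne_one hh
    have key : ((d χ (h * j) : ℤ) : ℂ) = d χ j := by
      rw [hdC, hdC]
      refine congrArg _ (Fintype.sum_equiv (Equiv.mulLeft₀ h hh0) _ _ fun i => ?_)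
      show _ = (χ : G → ℂ) (upow u (h * i)) * (1 - ψ (-(h * i * j)))
      rw [hcl χ i h hh, show h * i * j = i * (h * j) by ring]
    exact_mod_cast key
  -- the block
  set B := Finset.univ.filter (fun χ : IrrCharacter G => χ ∈ principalBlock M G) with hBdef
  have hBmem : ∀ χ, χ ∈ B ↔ χ ∈ principalBlock M G := fun χ => by simp [hBdef]
  have horth : ∀ i i' : ZMod p, i ≠ 0 → i' ≠ 0 →
      ∑ χ ∈ B, (χ : G → ℂ) (upow u i') * conj ((χ : G → ℂ) (upow u i)) =
        if (i' * i⁻¹) ^ e = 1 then (p : ℂ) else 0 := by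
    intro i i' hi hi'
    have hpow : ∀ j : ZMod p, ∃ k : ℕ, orderOf (upow u j) = p ^ k := fun j =>
      let ⟨k, _, hk⟩ := (Nat.dvd_prime_pow hp.out).1
        (show orderOf (upow u j) ∣ p ^ 1 by
          rw [pow_one]; exact (Subgroup.orderOf_dvd_natCard Q (upow_mem hu j)).trans hQc.dvd)
      ⟨k, hk⟩
    have hi1 : upow u i ≠ 1 := fun h' => hi ((upow_eq_one_iff hordu i).1 h')
    have h := sum_principal_mul_conj hM (hpow i) (hpow i')
      (index_pPrimeCore_centralizer Q hQc hsq (upow_mem hu i) hi1)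
    rw [← Finset.sum_filter, pow_one] at h
    rw [hBdef, h]
    exact if_congr (isConj_comm.trans (hconj i i' hi)) rfl rfl
  have hreg : ∀ (g : G), ¬ p ∣ orderOf g → ∀ j, ∑ χ ∈ B, (d χ j : ℂ) * (χ : G → ℂ) g = 0 := by
    intro g hg j
    simp only [hdC, Finset.mul_sum, Finset.sum_mul]
    rw [Finset.sum_comm]
    refine Finset.sum_eq_zero fun i _ => ?_
    by_cases hi : i = 0
    · simp [hi]
    · have hord : p ∣ orderOf (upow u (-i)) := by
        rw [orderOf_of_mem_prime hQc (upow_mem hu _)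
          fun h' => hi (neg_eq_zero.1 ((upow_eq_one_iff hordu _).1 h'))]
      have h := finsum_regular_singular_eq_zero hM (isPBlock_principalBlock (G := G) (M := M)) hg hord
      rw [finsum_irr_eq_sum_ite, ← Finset.sum_filter] at h
      have hconjv : ∀ χ : IrrCharacter G,
          conj ((χ : G → ℂ) (upow u (-i))) = (χ : G → ℂ) (upow u i) := by
        intro χ
        rw [← IsCharacter.apply_inv (irr_isCharacter χ)]
        exact congrArg (χ : G → ℂ) (inv_eq_of_mul_eq_one_right
          (by rw [← upow_add hup, neg_add_cancel, upow_zero]))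
      simp only [hconjv] at h
      calc ∑ χ ∈ B, (p : ℂ)⁻¹ * ((χ : G → ℂ) (upow u i) * (1 - ψ (-(i * j)))) * (χ : G → ℂ) g
          = (p : ℂ)⁻¹ * (1 - ψ (-(i * j))) *
              ∑ χ ∈ B, (χ : G → ℂ) g * (χ : G → ℂ) (upow u i) := by
            rw [Finset.mul_sum]
            exact Finset.sum_congr rfl fun χ _ => by ring
        _ = 0 := by rw [hBdef, h, mul_zero]
  have hdeg : ∀ j k, ∑ χ ∈ B, (d χ j - d χ k) * (charDegree (χ : G → ℂ) : ℤ) = 0 := by
    intro j k
    have h1 := hreg 1 (by rw [orderOf_one, Nat.dvd_one]; exact hp1.ne') j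
    have h2 := hreg 1 (by rw [orderOf_one, Nat.dvd_one]; exact hp1.ne') k
    have : ((∑ χ ∈ B, (d χ j - d χ k) * (charDegree (χ : G → ℂ) : ℤ) : ℤ) : ℂ) = 0 := by
      push_cast
      simp only [sub_mul, Finset.sum_sub_distrib]
      simp only [charDegree_eq, h1, h2, sub_zero]
    exact_mod_cast this
  -- the Gram matrix
  set H : Finset (ZMod p) := Finset.univ.filter fun h : ZMod p => h ^ e = 1 with hHdef
  have hHmem : ∀ h, h ∈ H ↔ h ^ e = 1 := fun h => by simp [hHdef]
  have hH0 : ∀ h ∈ H, h ≠ 0 := fun h hh h' => by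
    rw [hHmem, h', zero_pow hepos.ne'] at hh; exact zero_ne_one hh
  have hHcard : H.card = e := by
    have h : H = (Polynomial.nthRoots e (1 : ZMod p)).toFinset := by
      ext x; rw [hHmem, Multiset.mem_toFinset, Polynomial.mem_nthRoots hepos]
    rw [h, Multiset.toFinset_card_of_nodup hprim.nthRoots_one_nodup, hprim.card_nthRoots_one]
  have hgram : ∀ j k : ZMod p, j ≠ 0 → k ≠ 0 →
      ∑ χ ∈ B, d χ j * d χ k = (e : ℤ) + if (k * j⁻¹) ^ e = 1 then 1 else 0 := by
    intro j k hj hk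
    have hcd : ∀ χ, (d χ k : ℂ) =
        (p : ℂ)⁻¹ * ∑ i, conj ((χ : G → ℂ) (upow u i)) * (1 - ψ (i * k)) := by
      intro χ
      have h := congrArg conj (hdC χ k)
      rw [map_intCast, map_mul, map_inv₀, map_natCast, map_sum] at h
      rw [h]
      exact congrArg _ (Finset.sum_congr rfl fun i _ => by
        rw [map_mul, map_sub, map_one, conj_stdAddChar, neg_neg])
    have key : ((∑ χ ∈ B, d χ j * d χ k : ℤ) : ℂ) =
        (p : ℂ)⁻¹ * ∑ h ∈ H, ∑ i', (1 - ψ (-(h * i' * j))) * (1 - ψ (i' * k)) := by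
      push_cast
      calc ∑ χ ∈ B, (d χ j : ℂ) * d χ k
          = ∑ χ ∈ B, ∑ i, ∑ i', ((χ : G → ℂ) (upow u i) * conj ((χ : G → ℂ) (upow u i'))) *
              ((p : ℂ)⁻¹ * (p : ℂ)⁻¹ * ((1 - ψ (-(i * j))) * (1 - ψ (i' * k)))) := by
            refine Finset.sum_congr rfl fun χ _ => ?_
            rw [hdC, hcd, Finset.mul_sum, Finset.mul_sum, Finset.sum_mul_sum]
            exact Finset.sum_congr rfl fun i _ => Finset.sum_congr rfl fun i' _ => by ring
        _ = ∑ i', ∑ i, (∑ χ ∈ B, (χ : G → ℂ) (upow u i) * conj ((χ : G → ℂ) (upow u i'))) *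
              ((p : ℂ)⁻¹ * (p : ℂ)⁻¹ * ((1 - ψ (-(i * j))) * (1 - ψ (i' * k)))) := by
            rw [Finset.sum_comm, Finset.sum_congr rfl fun i _ => Finset.sum_comm, Finset.sum_comm]
            simp only [Finset.sum_mul]
        _ = ∑ i', ∑ h ∈ H, (p : ℂ)⁻¹ * ((1 - ψ (-(h * i' * j))) * (1 - ψ (i' * k))) := by
            refine Finset.sum_congr rfl fun i' _ => ?_
            by_cases hi' : i' = 0
            · simp [hi']
            rw [show H.sum (fun h => (p : ℂ)⁻¹ * ((1 - ψ (-(h * i' * j))) * (1 - ψ (i' * k)))) =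
              ∑ i ∈ H.image (· * i'), (p : ℂ)⁻¹ * ((1 - ψ (-(i * j))) * (1 - ψ (i' * k))) by
                rw [Finset.sum_image (mul_left_injective₀ hi').injOn]]
            rw [← Finset.sum_subset (Finset.subset_univ (H.image (· * i')))]
            · refine Finset.sum_congr rfl fun i hi => ?_
              obtain ⟨h, hh, rfl⟩ := Finset.mem_image.1 hi
              rw [horth i' (h * i') hi' (mul_ne_zero (hH0 h hh) hi'), if_pos
                (by rw [mul_inv_cancel_right₀ hi']; exact (hHmem h).1 hh)]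
              field_simp
            · intro i _ hi
              by_cases hi0 : i = 0
              · simp [hi0]
              rw [horth i' i hi' hi0, if_neg, zero_mul]
              exact fun h => hi (Finset.mem_image.2
                ⟨i * i'⁻¹, (hHmem _).2 h, inv_mul_cancel_right₀ hi' i⟩)
        _ = _ := by rw [Finset.sum_comm, Finset.mul_sum]; simp only [Finset.mul_sum]
    have hinner : ∀ h ∈ H, ∑ i', (1 - ψ (-(h * i' * j))) * (1 - ψ (i' * k)) =
        (p : ℂ) + if k = h * j then (p : ℂ) else 0 := by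
      intro h hh
      have e1 : ∀ i' : ZMod p, (1 - ψ (-(h * i' * j))) * (1 - ψ (i' * k)) =
          1 - ψ (i' * -(h * j)) - ψ (i' * k) + ψ (i' * (k - h * j)) := by
        intro i'
        rw [show -(h * i' * j) = i' * -(h * j) by ring,
          show i' * (k - h * j) = i' * -(h * j) + i' * k by ring, AddChar.map_add_eq_mul]
        ring
      rw [Finset.sum_congr rfl fun i' _ => e1 i', Finset.sum_add_distrib, Finset.sum_sub_distrib,
        Finset.sum_sub_distrib, Finset.sum_const, Finset.card_univ, ZMod.card, sum_stdAddChar_mul,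
        sum_stdAddChar_mul, sum_stdAddChar_mul, if_neg (neg_ne_zero.2 (mul_ne_zero (hH0 h hh) hj)),
        if_neg hk, nsmul_one, sub_zero, sub_zero]
      simp only [sub_eq_zero]
    rw [Finset.sum_congr rfl hinner, Finset.sum_add_distrib, Finset.sum_const, hHcard, nsmul_eq_mul]
      at key
    have hlast : ∑ h ∈ H, (if k = h * j then (p : ℂ) else 0) =
        if (k * j⁻¹) ^ e = 1 then (p : ℂ) else 0 := by
      by_cases h1 : (k * j⁻¹) ^ e = 1
      · rw [if_pos h1, Finset.sum_eq_single (k * j⁻¹)]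
        · rw [if_pos (inv_mul_cancel_right₀ hj k).symm]
        · intro h _ hne; rw [if_neg]; rintro rfl; exact hne (mul_inv_cancel_right₀ hj h).symm
        · exact fun h => absurd ((hHmem _).2 h1) h
      · rw [if_neg h1, Finset.sum_eq_zero]
        intro h hh
        rw [if_neg]
        rintro rfl
        exact h1 (by rw [mul_inv_cancel_right₀ hj]; exact (hHmem h).1 hh)
    rw [hlast] at key
    have h' : ((∑ χ ∈ B, d χ j * d χ k : ℤ) : ℂ) =
        ((e : ℤ) + if (k * j⁻¹) ^ e = 1 then 1 else 0 : ℤ) := by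
      rw [key]
      by_cases h1 : (k * j⁻¹) ^ e = 1 <;> simp [h1] <;> field_simp
    exact_mod_cast h'
  -- the trivial character, non-vanishing, and the sum bound
  have htriv : trivIrr G ∈ B := (hBmem _).2 (self_mem_blockOf (trivIrr G))
  have hdtriv : ∀ j : ZMod p, j ≠ 0 → d (trivIrr G) j = 1 := by
    intro j hj
    have : (d (trivIrr G) j : ℂ) = 1 := by
      rw [hdC]
      simp only [trivIrr_apply, one_mul, Finset.sum_sub_distrib, Finset.sum_const, Finset.card_univ,
        ZMod.card, nsmul_one]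
      rw [Finset.sum_congr rfl fun i _ => show ψ (-(i * j)) = ψ (i * -j) by rw [mul_neg],
        sum_stdAddChar_mul, if_neg (neg_ne_zero.2 hj), sub_zero, inv_mul_cancel₀ hp0]
    exact_mod_cast this
  have hd0 : ∀ χ, d χ 0 = 0 := fun χ => sub_self _
  have hnz : ∀ χ ∈ B, ∃ j : ZMod p, j ≠ 0 ∧ d χ j ≠ 0 := by
    intro χ hχ
    by_contra hcon
    push Not at hcon
    have hall : ∀ j, d χ j = 0 := fun j => by
      by_cases hj : j = 0
      · rw [hj]; exact hd0 χ
      · exact hcon j hj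
    have hv0 : ∀ i : ZMod p, i ≠ 0 → (χ : G → ℂ) (upow u i) = 0 := by
      intro i hi
      rw [eq_sum_mult χ (m χ) (hm χ) i,
        Finset.sum_congr rfl fun j _ => show (m χ j : ℂ) * ψ (i * j) = (m χ 0 : ℂ) * ψ (j * i) by
          rw [show (m χ j : ℂ) = m χ 0 from Nat.cast_inj.2 (Int.natCast_inj.1
            (sub_eq_zero.1 (hall j)).symm), mul_comm i], ← Finset.mul_sum, sum_stdAddChar_mul,
        if_neg hi, mul_zero]
    have hdegp : p ∣ charDegree (χ : G → ℂ) := by
      have h := hm χ 0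
      simp only [mul_zero, neg_zero, AddChar.map_zero_eq_one, mul_one] at h
      rw [← Finset.add_sum_erase _ _ (Finset.mem_univ (0 : ZMod p)),
        Finset.sum_eq_zero fun i hi => hv0 i (Finset.mem_erase.1 hi).1, add_zero, upow_zero,
        eq_inv_mul_iff_mul_eq₀ hp0, ← charDegree_eq χ] at h
      exact ⟨m χ 0, (by exact_mod_cast h.symm)⟩
    have hndvd : ¬ p ∣ Nat.card G / charDegree (χ : G → ℂ) := by
      intro hd'
      obtain ⟨n, hn⟩ := charDegree_dvd_card χ
      rw [hn, Nat.mul_div_cancel_left n (charDegree_pos χ)] at hd'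
      exact hsq (by rw [hn, pow_two]; exact Nat.mul_dvd_mul hdegp hd')
    have hsing := blockOf_eq_singleton hM χ hndvd
    have hmemB : trivIrr G ∈ blockOf M (χ : G → ℂ) :=
      (IsPBlock.eq_blockOf isPBlock_principalBlock ((hBmem χ).1 hχ)) ▸ (hBmem _).1 htriv
    rw [hsing, Set.mem_singleton_iff] at hmemB
    subst hmemB
    exact one_ne_zero ((hdtriv 1 one_ne_zero).symm.trans (hall 1))
  have hx : ∀ χ ∈ B, ∀ x ∈ Q, x ≠ 1 → ∀ y ∈ Subgroup.centralizer (Q : Set G), ¬ p ∣ orderOf y →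
      (χ : G → ℂ) (x * y) = (χ : G → ℂ) x := by
    intro χ hχ x hx hx1 y hy hyr
    exact Cfsg.Agent.S0942.result p M hM x ⟨1, by rw [pow_one, orderOf_of_mem_prime hQc hx hx1]⟩ y
      (((regular_core Q hQc hsq hx hx1).1 y).2 ⟨hy, hyr⟩) χ ((hBmem χ).1 hχ)
  have hS : ∀ χ ∈ B, -((p : ℤ) - 1) ≤ ∑ j, d χ j ∧ ∑ j, d χ j ≤ p := by
    intro χ hχ
    haveI := Fintype.ofFinite (centralizerPPrimeCore p u)
    obtain ⟨S, hSe, hS1, hS2⟩ := section_sum_bound hM Q hQc hsq hu hu1 (centralizerPPrimeCore p u)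
      (fun y hy => ((hOmem y).1 hy).1) hOp (fun c hc hcr => (hOmem c).2 ⟨hc, hcr⟩) hdec
      (fun g hg y hy => by
        obtain ⟨hy1, hy2⟩ := (hOmem y).1 hy
        refine (hOmem _).2 ⟨?_, by rwa [show g * y * g⁻¹ = MulAut.conj g y by simp,
          MulEquiv.orderOf_eq]⟩
        rw [Subgroup.mem_centralizer_iff]
        intro x hx
        have hx' : g⁻¹ * x * g ∈ Q := by
          have := ((Subgroup.mem_normalizer_iff.1 (inv_mem hg)) x).1 hx
          rwa [inv_inv] at this
        have h := Subgroup.mem_centralizer_iff.1 hy1 _ hx'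
        calc x * (g * y * g⁻¹) = g * (g⁻¹ * x * g * y) * g⁻¹ := by group
          _ = g * y * g⁻¹ * x := by rw [h]; group) χ
    have heq : (S : ℂ) = ∑ j, (d χ j : ℂ) := by
      have hO0 : (Nat.card (centralizerPPrimeCore p u) : ℂ) ≠ 0 :=
        Nat.cast_ne_zero.2 Nat.card_pos.ne'
      rw [hdsum]
      apply mul_left_cancel₀ hO0
      rw [← hSe, Finset.mul_sum]
      refine Finset.sum_bij (fun l _ => (l : ZMod p)) (fun l hl => ?_) (fun l hl l' hl' h => ?_)
        (fun i hi => ⟨i.val, ?_, ZMod.natCast_zmod_val i⟩) fun l hl => ?_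
      · refine Finset.mem_erase.2 ⟨fun h => ?_, Finset.mem_univ _⟩
        rw [ZMod.natCast_eq_zero_iff] at h
        rw [Finset.mem_Ico] at hl
        have := Nat.le_of_dvd (by omega) h
        omega
      · rw [Finset.mem_Ico] at hl hl'
        have := congrArg ZMod.val h
        rwa [ZMod.val_cast_of_lt hl.2, ZMod.val_cast_of_lt hl'.2] at this
      · rw [Finset.mem_Ico]
        exact ⟨Nat.pos_of_ne_zero fun h => (Finset.mem_erase.1 hi).1 ((ZMod.val_eq_zero i).1 h),
          ZMod.val_lt i⟩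
      · rw [Finset.mem_Ico] at hl
        have hl1 : u ^ l ≠ 1 := fun h => by
          have := Nat.le_of_dvd (by omega) (hordu ▸ orderOf_dvd_of_pow_eq_one h)
          omega
        rw [upow_natCast hup, Finset.sum_congr rfl fun (y : centralizerPPrimeCore p u) _ =>
          hx χ hχ _ (Q.pow_mem hu l) hl1 y ((hOmem y).1 y.2).1 ((hOmem y).1 y.2).2,
          Finset.sum_const, Finset.card_univ, nsmul_eq_mul, Nat.card_eq_fintype_card]
    have hS' : S = ∑ j, d χ j := by exact_mod_cast heq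
    exact ⟨hS' ▸ hS1, hS' ▸ hS2⟩
  -- orbits
  let R : {j : ZMod p // j ≠ 0} → {j : ZMod p // j ≠ 0} → Prop :=
    fun j k => ((k : ZMod p) * (j : ZMod p)⁻¹) ^ e = 1
  have hRrefl : ∀ j, R j j := fun j => by
    show ((j : ZMod p) * (j : ZMod p)⁻¹) ^ e = 1
    rw [mul_inv_cancel₀ j.2, one_pow]
  have hRsymm : ∀ i j, R i j → R j i := fun i j h => by
    show ((i : ZMod p) * (j : ZMod p)⁻¹) ^ e = 1
    rw [show (i : ZMod p) * (j : ZMod p)⁻¹ = ((j : ZMod p) * (i : ZMod p)⁻¹)⁻¹ by
      rw [mul_inv, inv_inv, mul_comm], inv_pow, show ((j : ZMod p) * (i : ZMod p)⁻¹) ^ e = 1 from h, inv_one]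
  have hRd : ∀ (χ : IrrCharacter G) (i j : {j : ZMod p // j ≠ 0}), R i j → d χ (j : ZMod p) = d χ (i : ZMod p) := fun χ i j h => by
    conv_lhs => rw [← inv_mul_cancel_right₀ i.2 (j : ZMod p)]
    exact hdinv χ _ _ h
  have hfib : ∀ i, (Finset.univ.filter fun j => R i j).card = e := by
    intro i
    refine Eq.trans ?_ hHcard
    refine Finset.card_bij (fun j _ => (j : ZMod p) * (i : ZMod p)⁻¹)
      (fun j hj => (hHmem _).2 (Finset.mem_filter.1 hj).2)
      (fun j _ j' _ h => Subtype.ext (mul_right_cancel₀ (inv_ne_zero i.2) h))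
      fun h hh => ⟨⟨h * i, mul_ne_zero (hH0 h hh) i.2⟩, Finset.mem_filter.2 ⟨Finset.mem_univ _, ?_⟩,
        mul_inv_cancel_right₀ i.2 h⟩
    show (h * (i : ZMod p) * (i : ZMod p)⁻¹) ^ e = 1
    rw [mul_inv_cancel_right₀ i.2]; exact (hHmem h).1 hh
  -- the exceptional characters
  have hmain : ∃ (ε : ℤ) (Y : {j : ZMod p // j ≠ 0} → IrrCharacter G), (ε = 1 ∨ ε = -1) ∧
      (∀ i, Y i ∈ B) ∧ ((∀ i, Y i ≠ trivIrr G) ∨ ∃ i j, ¬ R i j) ∧ (∀ i j, Y i = Y j ↔ R i j) ∧
      (∀ i j : {j : ZMod p // j ≠ 0}, d (Y i) (j : ZMod p) = if R i j then -ε else 0) ∧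
      ∀ χ ∈ B, (∀ i, χ ≠ Y i) → ∀ i j : {j : ZMod p // j ≠ 0}, d χ (i : ZMod p) = d χ (j : ZMod p) := by
    let one : {j : ZMod p // j ≠ 0} := ⟨1, one_ne_zero⟩
    by_cases hq : ∀ i j, R i j
    · -- one orbit
      have h1 := hgram 1 1 one_ne_zero one_ne_zero
      rw [if_pos (by rw [inv_one, mul_one, one_pow])] at h1
      obtain ⟨θ, hθ, hθt, hθd⟩ : ∃ θ ∈ B, θ ≠ trivIrr G ∧ d θ 1 ≠ 0 := by
        by_contra hcon
        push Not at hcon
        rw [Finset.sum_eq_single (trivIrr G) (fun χ hχ hne => by rw [hcon χ hχ hne, mul_zero])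
          (fun h => absurd htriv h), hdtriv 1 one_ne_zero] at h1
        omega
      have hb := hS θ hθ
      have hsum : ∑ j, d θ j = ((p : ℤ) - 1) * d θ 1 := by
        rw [← Finset.add_sum_erase _ _ (Finset.mem_univ (0 : ZMod p)), hd0, zero_add,
          Finset.sum_congr rfl fun j hj => show d θ j = d θ 1 from
            hRd θ one ⟨j, (Finset.mem_erase.1 hj).1⟩ (hq _ _), Finset.sum_const,
          Finset.card_erase_of_mem (Finset.mem_univ _), Finset.card_univ, ZMod.card, nsmul_eq_mul]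
        push_cast [Nat.cast_sub hp1.le]
        ring
      rw [hsum] at hb
      have hp3' : (3 : ℤ) ≤ p := by exact_mod_cast hp3
      have hpm : d θ 1 = 1 ∨ d θ 1 = -1 := by
        have hu' : d θ 1 ≤ 1 := by nlinarith
        have hl' : -1 ≤ d θ 1 := by nlinarith
        omega
      refine ⟨-d θ 1, fun _ => θ, ?_, fun _ => hθ, Or.inl fun _ => hθt, fun i j => ⟨fun _ => hq i j, fun _ => rfl⟩,
        fun i j => ?_, fun χ _ _ i j => hRd χ j i (hq j i)⟩
      · rcases hpm with h | h <;> rw [h] <;> simp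
      · rw [if_pos (hq i j), neg_neg]; exact hRd θ one j (hq _ _)
    push Not at hq
    obtain ⟨i₀, i₁, h01⟩ := hq
    have h2e : 2 * e ≤ p - 1 := by
      have hdisj : Disjoint (Finset.univ.filter fun j => R i₀ j) (Finset.univ.filter fun j => R i₁ j) := by
        rw [Finset.disjoint_filter]
        intro j _ h0 h1
        apply h01
        show ((i₁ : ZMod p) * (i₀ : ZMod p)⁻¹) ^ e = 1
        have h1' : ((i₁ : ZMod p) * (j : ZMod p)⁻¹) ^ e = 1 := hRsymm _ _ h1
        rw [show (i₁ : ZMod p) * (i₀ : ZMod p)⁻¹ =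
          ((i₁ : ZMod p) * (j : ZMod p)⁻¹) * ((j : ZMod p) * (i₀ : ZMod p)⁻¹) by
            rw [mul_assoc, inv_mul_cancel_left₀ j.2], mul_pow, h1', one_mul]
        exact h0
      have := Finset.card_le_univ ((Finset.univ.filter fun j => R i₀ j) ∪
        (Finset.univ.filter fun j => R i₁ j))
      rw [Finset.card_union_of_disjoint hdisj, hfib, hfib, Fintype.card_subtype_compl,
        Fintype.card_subtype_eq, ZMod.card] at this
      omega
    have hpair : ∀ i j : {j : ZMod p // j ≠ 0}, ¬ R i j →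
        (∀ χ ∈ B, d χ (i : ZMod p) - d χ (j : ZMod p) = 0 ∨ d χ (i : ZMod p) - d χ (j : ZMod p) = 1 ∨
          d χ (i : ZMod p) - d χ (j : ZMod p) = -1) ∧
        (B.filter fun χ => d χ (i : ZMod p) - d χ (j : ZMod p) = 1).card = 1 := by
      intro i j hij
      refine int_two_squares B _ (fun χ => (charDegree (χ : G → ℂ) : ℤ)) ?_
        (fun χ _ => by exact_mod_cast charDegree_pos χ) (hdeg _ _)
      have e1 := hgram i i i.2 i.2
      have e2 := hgram j j j.2 j.2
      have e3 := hgram i j i.2 j.2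
      rw [if_pos (hRrefl i)] at e1
      rw [if_pos (hRrefl j)] at e2
      rw [if_neg (show ¬ _ from hij)] at e3
      calc ∑ χ ∈ B, (d χ (i : ZMod p) - d χ (j : ZMod p)) ^ 2
          = ∑ χ ∈ B, d χ i * d χ i + ∑ χ ∈ B, d χ j * d χ j - 2 * ∑ χ ∈ B, d χ i * d χ j := by
            rw [Finset.mul_sum, ← Finset.sum_add_distrib, ← Finset.sum_sub_distrib]
            exact Finset.sum_congr rfl fun χ _ => by ring
        _ = 2 := by rw [e1, e2, e3]; ring
    haveI : Nonempty {j : ZMod p // j ≠ 0} := ⟨one⟩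
    let lo : IrrCharacter G → ℤ := fun χ =>
      Finset.univ.inf' Finset.univ_nonempty fun j : {j : ZMod p // j ≠ 0} => d χ (j : ZMod p)
    have hlo : ∀ χ ∈ B, ∀ j : {j : ZMod p // j ≠ 0}, d χ (j : ZMod p) = lo χ ∨ d χ (j : ZMod p) = lo χ + 1 := by
      intro χ hχ j
      obtain ⟨k, -, hk⟩ := Finset.exists_mem_eq_inf' Finset.univ_nonempty
        fun j : {j : ZMod p // j ≠ 0} => d χ (j : ZMod p)
      have hle : lo χ ≤ d χ (j : ZMod p) := Finset.inf'_le _ (Finset.mem_univ j)
      have hk' : lo χ = d χ (k : ZMod p) := hk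
      by_cases hjk : R j k
      · left; rw [hk', hRd χ j k hjk]
      · rcases (hpair j k hjk).1 χ hχ with h | h | h <;> omega
    let F : {j : ZMod p // j ≠ 0} → Finset (IrrCharacter G) := fun j =>
      B.filter fun χ => d χ (j : ZMod p) ≠ lo χ
    have hF : ∀ χ ∈ B, ∀ j : {j : ZMod p // j ≠ 0}, d χ (j : ZMod p) = lo χ + if χ ∈ F j then 1 else 0 := by
      intro χ hχ j
      by_cases h : χ ∈ F j
      · rw [if_pos h]
        exact (hlo χ hχ j).resolve_left (Finset.mem_filter.1 h).2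
      · rw [if_neg h, add_zero]
        by_contra h'
        exact h (Finset.mem_filter.2 ⟨hχ, h'⟩)
    haveI : Nonempty (IrrCharacter G) := ⟨trivIrr G⟩
    obtain ⟨Y, hYR, hYF, hYo⟩ := exceptional_dichotomy F R hRsymm
      (fun i j h => Finset.filter_congr fun χ _ => by rw [hRd χ i j h])
      (fun i j h => by
        rw [← (hpair i j h).2]
        congr 1
        ext χ
        simp only [Finset.mem_sdiff, Finset.mem_filter]
        constructor
        · rintro ⟨hi, hj⟩
          have hχ := (Finset.mem_filter.1 hi).1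
          refine ⟨hχ, ?_⟩
          rw [hF χ hχ i, hF χ hχ j, if_pos hi, if_neg hj]
          omega
        · rintro ⟨hχ, hd'⟩
          rw [hF χ hχ i, hF χ hχ j] at hd'
          by_cases h1 : χ ∈ F i <;> by_cases h2 : χ ∈ F j <;> simp [h1, h2] at hd' ⊢) h01
    have hYB : ∀ i, Y i ∈ B := by
      intro i
      obtain ⟨j, hij⟩ : ∃ j, ¬ R i j := by
        by_contra hall
        push Not at hall
        apply h01
        have := (hYR i₀ i₁).1 (((hYR i₀ i).2 (hRsymm _ _ (hall i₀))).trans ((hYR i i₁).2 (hall i₁)))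
        exact this
      rcases hYF with h | h
      · exact (Finset.mem_filter.1 ((h i i).2 (hRrefl i))).1
      · exact (Finset.mem_filter.1 ((h i j).2 hij)).1
    have hothers : ∀ χ ∈ B, (∀ i, χ ≠ Y i) → ∀ i j : {j : ZMod p // j ≠ 0},
        d χ (i : ZMod p) = d χ (j : ZMod p) := by
      intro χ hχ hne i j
      rw [hF χ hχ i, hF χ hχ j]
      congr 1
      exact if_congr (hYo χ hne i j) rfl rfl
    obtain ⟨ε, A, hεA, hYd⟩ : ∃ (ε : ℤ) (A : IrrCharacter G → ℤ), (ε = 1 ∨ ε = -1) ∧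
        ∀ i j : {j : ZMod p // j ≠ 0}, d (Y i) (j : ZMod p) = A (Y i) - if R i j then ε else 0 := by
      rcases hYF with h | h
      · refine ⟨-1, lo, Or.inr rfl, fun i j => ?_⟩
        rw [hF _ (hYB i) j]
        by_cases hr : R i j
        · rw [if_pos hr, if_pos ((h i j).2 hr)]; ring
        · rw [if_neg hr, if_neg fun h' => hr ((h i j).1 h')]; ring
      · refine ⟨1, fun χ => lo χ + 1, Or.inl rfl, fun i j => ?_⟩
        rw [hF _ (hYB i) j]
        by_cases hr : R i j
        · rw [if_pos hr, if_neg fun h' => (h i j).1 h' hr]; ring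
        · rw [if_neg hr, if_pos ((h i j).2 hr)]; ring
    have hεsq : ε * ε = 1 := by rcases hεA with rfl | rfl <;> norm_num
    by_cases hq2 : 2 * e = p - 1
    · -- two orbits
      have htwo : ∀ j, R i₀ j ∨ R i₁ j := by
        intro j
        by_contra hcon
        push Not at hcon
        have hdisj : Disjoint (Finset.univ.filter fun j => R i₀ j)
            (Finset.univ.filter fun j => R i₁ j) := by
          rw [Finset.disjoint_filter]
          intro k _ h0 h1
          exact h01 ((hYR i₀ i₁).1 (((hYR i₀ k).2 h0).trans ((hYR i₁ k).2 h1).symm))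
        have hlt : ((Finset.univ.filter fun j => R i₀ j) ∪ (Finset.univ.filter fun j => R i₁ j)).card <
            (Finset.univ : Finset {j : ZMod p // j ≠ 0}).card := by
          refine Finset.card_lt_card (Finset.ssubset_univ_iff.2 fun h => ?_)
          have := Finset.mem_univ j
          rw [← h, Finset.mem_union, Finset.mem_filter, Finset.mem_filter] at this
          tauto
        rw [Finset.card_union_of_disjoint hdisj, hfib, hfib, Finset.card_univ,
          Fintype.card_subtype_compl, Fintype.card_subtype_eq, ZMod.card] at hlt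
        omega
      set a := Y i₀ with ha
      set b := Y i₁ with hb
      have hab : a ≠ b := fun h => h01 ((hYR _ _).1 h)
      have hYab : ∀ i, Y i = a ∨ Y i = b := fun i =>
        (htwo i).imp (fun h => ((hYR _ _).2 h).symm) fun h => ((hYR _ _).2 h).symm
      have d00 : d a (i₀ : ZMod p) = A a - ε := by rw [hYd, if_pos (hRrefl i₀)]
      have d01 : d a (i₁ : ZMod p) = A a := by rw [hYd, if_neg h01, sub_zero]
      have d10 : d b (i₀ : ZMod p) = A b := by rw [hYd, if_neg fun h => h01 (hRsymm _ _ h), sub_zero]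
      have d11 : d b (i₁ : ZMod p) = A b - ε := by rw [hYd, if_pos (hRrefl i₁)]
      set W := (B.erase a).erase b with hW
      have hWmem : ∀ χ ∈ W, χ ∈ B ∧ ∀ i, χ ≠ Y i := fun χ hχ => by
        rw [hW, Finset.mem_erase, Finset.mem_erase] at hχ
        exact ⟨hχ.2.2, fun i h => (hYab i).elim (fun h' => hχ.2.1 (h.trans h'))
          fun h' => hχ.1 (h.trans h')⟩
      have hsplit : ∀ f : IrrCharacter G → ℤ, ∑ χ ∈ B, f χ = f a + (f b + ∑ χ ∈ W, f χ) := by
        intro f
        rw [hW, Finset.add_sum_erase (s := B.erase a) _ (Finset.mem_erase.2 ⟨hab.symm, hYB _⟩),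
          Finset.add_sum_erase _ _ (hYB _)]
      have g0 := hgram i₀ i₀ i₀.2 i₀.2
      have g1 := hgram i₁ i₁ i₁.2 i₁.2
      rw [if_pos (hRrefl i₀), hsplit, d00, d10] at g0
      rw [if_pos (hRrefl i₁), hsplit, d01, d11] at g1
      have hWeq : ∑ χ ∈ W, d χ (i₁ : ZMod p) * d χ (i₁ : ZMod p) =
          ∑ χ ∈ W, d χ (i₀ : ZMod p) * d χ (i₀ : ZMod p) :=
        Finset.sum_congr rfl fun χ hχ => by
          rw [hothers χ (hWmem χ hχ).1 (hWmem χ hχ).2 i₁ i₀]
      rw [hWeq] at g1
      have hAB : A a = A b := by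
        have : ε * (A a - A b) = 0 := by nlinarith
        rcases mul_eq_zero.1 this with h | h
        · rcases hεA with rfl | rfl <;> norm_num at h
        · omega
      have htW : trivIrr G ∈ W := by
        have hne : ∀ i, trivIrr G ≠ Y i := by
          intro i h
          have e0 := hYd i i₀
          have e1 := hYd i i₁
          rw [← h, hdtriv _ i₀.2] at e0
          rw [← h, hdtriv _ i₁.2] at e1
          rcases hYab i with h' | h'
          · have hr : R i i₀ := (hYR _ _).1 h'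
            have hr1 : ¬ R i i₁ := fun h'' => hab (h'.symm.trans ((hYR _ _).2 h''))
            rw [if_pos hr] at e0
            rw [if_neg hr1] at e1
            rcases hεA with rfl | rfl <;> omega
          · have hr : R i i₁ := (hYR _ _).1 h'
            have hr0 : ¬ R i i₀ := fun h'' => hab (((hYR _ _).2 h'').symm.trans h')
            rw [if_neg hr0] at e0
            rw [if_pos hr] at e1
            rcases hεA with rfl | rfl <;> omega
        rw [hW, Finset.mem_erase, Finset.mem_erase]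
        exact ⟨hne i₁, hne i₀, htriv⟩
      have hW1 : 1 ≤ ∑ χ ∈ W, d χ (i₀ : ZMod p) * d χ (i₀ : ZMod p) := by
        refine le_trans ?_ (Finset.single_le_sum (fun χ _ => mul_self_nonneg _) htW)
        rw [hdtriv _ i₀.2]; norm_num
      have hsum : ∑ j, d a j = (e : ℤ) * (2 * A a - ε) := by
        rw [← Finset.add_sum_erase _ _ (Finset.mem_univ (0 : ZMod p)), hd0, zero_add,
          Finset.sum_subtype ((Finset.univ : Finset (ZMod p)).erase 0) (p := fun j => j ≠ 0)
            (fun x => by simp), Finset.sum_congr rfl fun j _ => hYd i₀ j, Finset.sum_sub_distrib,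
          Finset.sum_const, ← Finset.sum_filter, Finset.sum_const, hfib, Finset.card_univ,
          Fintype.card_subtype_compl, Fintype.card_subtype_eq, ZMod.card, ← hq2]
        simp only [nsmul_eq_mul]
        push_cast
        ring
      have hb' := hS a (hYB _)
      rw [hsum] at hb'
      have hpe : (p : ℤ) = 2 * e + 1 := by omega
      rw [hpe] at hb'
      have heZ : (1 : ℤ) ≤ e := by exact_mod_cast hepos
      rw [← hAB] at g0
      have hA0 : A a = 0 ∨ A a = ε := by
        have hlo' : -1 ≤ A a := by rcases hεA with rfl | rfl <;> nlinarith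
        have hhi' : A a ≤ 2 := by rcases hεA with rfl | rfl <;> nlinarith
        rcases hεA with rfl | rfl <;> (interval_cases h : (A a) <;> first | omega | nlinarith)
      have hda : ∀ j : {j : ZMod p // j ≠ 0},
          d a (j : ZMod p) = A a - if Y j = a then ε else 0 := fun j => by
        rw [hYd i₀ j]; congr 1
        exact if_congr ((hYR i₀ j).symm.trans eq_comm) rfl rfl
      have hdb : ∀ j : {j : ZMod p // j ≠ 0},
          d b (j : ZMod p) = A b - if Y j = b then ε else 0 := fun j => by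
        rw [hYd i₁ j]; congr 1
        exact if_congr ((hYR i₁ j).symm.trans eq_comm) rfl rfl
      rcases hA0 with hA0 | hA0
      · refine ⟨ε, Y, hεA, hYB, Or.inr ⟨i₀, i₁, h01⟩, hYR, fun i j => ?_, hothers⟩
        rw [hYd]
        have hAi : A (Y i) = 0 := by
          rcases hYab i with h | h
          · rw [h, hA0]
          · rw [h, ← hAB, hA0]
        rw [hAi]
        split_ifs <;> ring
      · -- exchange the two
        let Y' : {j : ZMod p // j ≠ 0} → IrrCharacter G := fun i => if Y i = a then b else a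
        refine ⟨-ε, Y', by rcases hεA with rfl | rfl <;> simp, fun i => ?_, Or.inr ⟨i₀, i₁, h01⟩, fun i j => ?_,
          fun i j => ?_, fun χ hχ hne => hothers χ hχ fun i h => ?_⟩
        · simp only [Y']; split_ifs
          exacts [hYB _, hYB _]
        · rw [← hYR]
          rcases hYab i with h1 | h1 <;> rcases hYab j with h2 | h2 <;>
            simp [Y', h1, h2, hab, hab.symm]
        · have hR' : R i j ↔ Y i = Y j := (hYR i j).symm
          rcases hYab i with h1 | h1 <;> rcases hYab j with h2 | h2 <;>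
            simp [Y', hR', h1, h2, hab, hab.symm, hda, hdb, ← hAB, hA0]
        · rcases hYab i with h1 | h1
          · exact hne i₁ (by simp [Y', h, h1, ← hb, hab.symm])
          · exact hne i₀ (by simp [Y', h, h1, ← ha])
    · -- at least three orbits
      refine ⟨ε, Y, hεA, hYB, Or.inr ⟨i₀, i₁, h01⟩, hYR, fun i j => ?_, hothers⟩
      have hA0 : A (Y i) = 0 := by
        by_contra hA
        obtain ⟨k, hk⟩ : ∃ k, ¬ R i k := by
          by_contra hall
          push Not at hall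
          have := hfib i
          rw [Finset.filter_true_of_mem fun x _ => hall x, Finset.card_univ,
            Fintype.card_subtype_compl, Fintype.card_subtype_eq, ZMod.card] at this
          omega
        have hAp : (A (Y i)).natAbs < p := by
          have h1 : d (Y i) (k : ZMod p) = A (Y i) := by rw [hYd, if_neg hk, sub_zero]
          have h2 := hgram k k k.2 k.2
          rw [if_pos (hRrefl k)] at h2
          have h3 : d (Y i) (k : ZMod p) * d (Y i) (k : ZMod p) ≤ (e : ℤ) + 1 :=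
            (Finset.single_le_sum (f := fun χ => d χ (k : ZMod p) * d χ (k : ZMod p))
              (fun χ _ => mul_self_nonneg _) (hYB i)).trans h2.le
          rw [h1] at h3
          have h4 : ((A (Y i)).natAbs : ℤ) ≤ A (Y i) * A (Y i) := by
            rw [← Int.natAbs_mul_self]
            exact_mod_cast Nat.le_mul_self _
          omega
        refine no_shift hM Q hQc hsq hu hu1 hprim hepos (by omega) hN (Y i) (m (Y i)) (A (Y i)) ε
          (i : ZMod p) i.2 hεA (hm (Y i)) (fun j hj => ?_) hA hAp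
        exact hYd i ⟨j, hj⟩
      rw [hYd, hA0]
      split_ifs <;> ring
  obtain ⟨ε, Y, hε, hYB, hYt, hYR, hYd, hothers⟩ := hmain
  set SY : Finset (IrrCharacter G) := Finset.univ.image Y with hSY
  set SX : Finset (IrrCharacter G) := B \ SY with hSX
  have hSYB : SY ⊆ B := fun χ hχ => by
    obtain ⟨i, -, rfl⟩ := Finset.mem_image.1 hχ; exact hYB i
  have hSXmem : ∀ χ ∈ SX, χ ∈ B ∧ ∀ i, χ ≠ Y i := fun χ hχ =>
    ⟨(Finset.mem_sdiff.1 hχ).1, fun i h => (Finset.mem_sdiff.1 hχ).2
      (Finset.mem_image.2 ⟨i, Finset.mem_univ _, h.symm⟩)⟩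
  let one : {j : ZMod p // j ≠ 0} := ⟨1, one_ne_zero⟩
  have hconst : ∀ χ ∈ SX, ∀ j : ZMod p, j ≠ 0 → d χ j = d χ 1 := fun χ hχ j hj =>
    hothers χ (hSXmem χ hχ).1 (hSXmem χ hχ).2 ⟨j, hj⟩ one
  have hsign : ∀ χ ∈ SX, d χ 1 = 1 ∨ d χ 1 = -1 := by
    intro χ hχ
    have hb := hS χ (hSXmem χ hχ).1
    rw [← Finset.add_sum_erase _ _ (Finset.mem_univ (0 : ZMod p)), hd0, zero_add,
      Finset.sum_congr rfl fun j hj => hconst χ hχ j (Finset.mem_erase.1 hj).1, Finset.sum_const,
      Finset.card_erase_of_mem (Finset.mem_univ _), Finset.card_univ, ZMod.card, nsmul_eq_mul,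
      Nat.cast_sub hp1.le, Nat.cast_one] at hb
    have hp3' : (3 : ℤ) ≤ p := by exact_mod_cast hp3
    have h0 : d χ 1 ≠ 0 := fun h => by
      obtain ⟨j, hj, hj'⟩ := hnz χ (hSXmem χ hχ).1
      exact hj' (by rw [hconst χ hχ j hj, h])
    have hu' : d χ 1 ≤ 1 := by nlinarith
    have hl' : -1 ≤ d χ 1 := by nlinarith
    omega
  have hsplitY : ∀ (f : IrrCharacter G → ℂ) (i : {j : ZMod p // j ≠ 0}),
      ∑ χ ∈ SY, (d χ (i : ZMod p) : ℂ) * f χ = -(ε : ℂ) * f (Y i) := by
    intro f i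
    rw [Finset.sum_eq_single (Y i)]
    · rw [hYd, if_pos (hRrefl i)]; push_cast; ring
    · intro χ hχ hne
      obtain ⟨k, -, rfl⟩ := Finset.mem_image.1 hχ
      rw [hYd, if_neg fun h => hne ((hYR k i).2 h), Int.cast_zero, zero_mul]
    · exact fun h => absurd (Finset.mem_image.2 ⟨i, Finset.mem_univ _, rfl⟩) h
  have hrel : ∀ (i : {j : ZMod p // j ≠ 0}) (g : G), ¬ p ∣ orderOf g →
      (ε : ℂ) * ((Y i : IrrCharacter G) : G → ℂ) g = ∑ χ ∈ SX, (d χ 1 : ℂ) * (χ : G → ℂ) g := by
    intro i g hg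
    have h := hreg g hg (i : ZMod p)
    rw [← Finset.sum_sdiff hSYB, hsplitY, Finset.sum_congr rfl fun χ hχ => by
      rw [hconst χ hχ _ i.2]] at h
    rw [hSX]
    linear_combination -h
  have hXcard : SX.card = e := by
    have h := hgram 1 1 one_ne_zero one_ne_zero
    rw [if_pos (by rw [inv_one, mul_one, one_pow]), ← Finset.sum_sdiff hSYB] at h
    have h1 : ∑ χ ∈ B \ SY, d χ 1 * d χ 1 = (SX.card : ℤ) := by
      rw [Finset.sum_congr rfl fun χ hχ => show d χ 1 * d χ 1 = 1 by
        rcases hsign χ hχ with h | h <;> rw [h] <;> norm_num, Finset.sum_const, nsmul_one]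
    have h2 : ∑ χ ∈ SY, d χ 1 * d χ 1 = 1 := by
      have h3 : ((∑ χ ∈ SY, d χ 1 * d χ 1 : ℤ) : ℂ) = 1 := by
        push_cast
        rw [hsplitY (fun χ => (d χ 1 : ℂ)) one, show d (Y one) 1 = -ε from (hYd one one).trans (if_pos (hRrefl one))]
        rcases hε with rfl | rfl <;> norm_num
      exact_mod_cast h3
    rw [h1, h2] at h
    omega
  have hYcard : SY.card = (p - 1) / e := by
    have hc := Finset.card_eq_sum_card_image Y (Finset.univ : Finset {j : ZMod p // j ≠ 0})
    rw [Finset.card_univ, Fintype.card_subtype_compl, Fintype.card_subtype_eq, ZMod.card,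
      Finset.sum_congr rfl fun b hb => show _ = e by
        obtain ⟨i, -, rfl⟩ := Finset.mem_image.1 hb
        rw [← hfib i]
        congr 1
        exact Finset.filter_congr fun j _ => (hYR j i).trans ⟨hRsymm _ _, hRsymm _ _⟩,
      Finset.sum_const, smul_eq_mul] at hc
    rw [hc, Nat.mul_div_cancel _ hepos]
  have hdegX : ∀ χ ∈ SX, (charDegree (χ : G → ℂ) : ℤ) ≡ d χ 1 [ZMOD p] := by
    intro χ hχ
    have h := hdsum χ
    have h0 := hm χ 0
    simp only [mul_zero, neg_zero, AddChar.map_zero_eq_one, mul_one] at h0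
    rw [← Finset.add_sum_erase _ _ (Finset.mem_univ (0 : ZMod p)), ← h, upow_zero,
      ← charDegree_eq χ, ← Finset.add_sum_erase _ _ (Finset.mem_univ (0 : ZMod p)), hd0,
      Int.cast_zero, zero_add, Finset.sum_congr rfl fun j hj => by
        rw [hconst χ hχ j (Finset.mem_erase.1 hj).1], Finset.sum_const,
      Finset.card_erase_of_mem (Finset.mem_univ _), Finset.card_univ, ZMod.card, nsmul_eq_mul,
      Nat.cast_sub hp1.le, Nat.cast_one, eq_inv_mul_iff_mul_eq₀ hp0] at h0
    have h0' : (p : ℤ) * (m χ 0 : ℤ) =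
        (charDegree (χ : G → ℂ) : ℤ) + ((p : ℤ) - 1) * d χ 1 := by exact_mod_cast h0
    rw [Int.modEq_iff_dvd]
    exact ⟨d χ 1 - m χ 0, by linarith⟩
  have htX : trivIrr G ∈ SX := by
    refine Finset.mem_sdiff.2 ⟨htriv, fun h => ?_⟩
    obtain ⟨k, -, hk⟩ := Finset.mem_image.1 h
    rcases hYt with hne | ⟨i, j, hij⟩
    · exact hne k hk
    · obtain ⟨l, hl⟩ : ∃ l, ¬ R k l := by
        by_contra hall
        push Not at hall
        exact hij ((hYR i j).1 (((hYR k i).2 (hall i)).symm.trans ((hYR k j).2 (hall j))))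
      have h1 := hYd k l
      rw [hk, hdtriv _ l.2, if_neg hl] at h1
      exact one_ne_zero h1
  refine ⟨SX, SY, fun χ => d χ 1, ε, u, hu, hu1, ?_, Finset.sdiff_disjoint, hXcard, hYcard, htX,
    ?_, hε, ?_, ?_, ?_, ?_, ?_⟩
  · ext χ
    rw [← hBmem, Set.mem_union, Finset.mem_coe, Finset.mem_coe, ← Finset.mem_union, hSX,
      Finset.sdiff_union_of_subset hSYB]
  · intro χ hχ
    refine ⟨hsign χ hχ, hdegX χ hχ, fun x hx' hx1 y hy hyr => ?_⟩
    rw [hx χ (hSXmem χ hχ).1 x hx' hx1 y hy hyr]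
    obtain ⟨i, rfl⟩ := exists_upow_eq hQc hu hu1 hx'
    have hi : i ≠ 0 := fun h => hx1 (by rw [h, upow_zero])
    have hmj : ∀ j, (m χ j : ℂ) = (m χ 0 : ℂ) - (d χ j : ℂ) := fun j => by simp [d]
    rw [eq_sum_mult χ (m χ) (hm χ) i, Finset.sum_congr rfl fun j _ => by rw [hmj j, sub_mul],
      Finset.sum_sub_distrib, ← Finset.mul_sum, Finset.sum_congr rfl fun j _ => by rw [mul_comm i j],
      sum_stdAddChar_mul, if_neg hi, mul_zero, zero_sub,
      ← Finset.add_sum_erase _ _ (Finset.mem_univ (0 : ZMod p)), hd0, Int.cast_zero, zero_mul,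
      zero_add, Finset.sum_congr rfl fun j hj => by rw [hconst χ hχ j (Finset.mem_erase.1 hj).1],
      ← Finset.mul_sum]
    have h2 := sum_stdAddChar_mul (p := p) i
    rw [if_neg hi, ← Finset.add_sum_erase _ _ (Finset.mem_univ (0 : ZMod p)), zero_mul,
      AddChar.map_zero_eq_one, Finset.sum_congr rfl fun j _ => by rw [mul_comm j i]] at h2
    linear_combination -(d χ 1 : ℂ) * h2
  · intro θ hθ
    obtain ⟨i, -, rfl⟩ := Finset.mem_image.1 hθ
    have h := hrel i 1 (by rw [orderOf_one, Nat.dvd_one]; exact hp1.ne')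
    simp only [← charDegree_eq] at h
    have h' : ε * (charDegree ((Y i : IrrCharacter G) : G → ℂ) : ℤ) =
        ∑ χ ∈ SX, d χ 1 * (charDegree (χ : G → ℂ) : ℤ) := by exact_mod_cast h
    have h3 : ∑ χ ∈ SX, d χ 1 * (charDegree (χ : G → ℂ) : ℤ) ≡ (e : ℤ) [ZMOD p] := by
      rw [← hXcard, show ((SX.card : ℕ) : ℤ) = ∑ χ ∈ SX, (1 : ℤ) by simp]
      refine Int.ModEq.sum ?_
      intro χ hχ
      have := (hdegX χ hχ).mul_left (d χ 1)
      rwa [show d χ 1 * d χ 1 = 1 by rcases hsign χ hχ with h | h <;> rw [h] <;> norm_num] at this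
    rw [← h'] at h3
    have h4 := h3.mul_left ε
    rwa [← mul_assoc, show ε * ε = 1 by rcases hε with rfl | rfl <;> norm_num, one_mul] at h4
  · intro θ hθ θ' hθ' g hg
    obtain ⟨i, -, rfl⟩ := Finset.mem_image.1 hθ
    obtain ⟨k, -, rfl⟩ := Finset.mem_image.1 hθ'
    have h := (hrel i g hg).trans (hrel k g hg).symm
    exact mul_left_cancel₀ (by rcases hε with rfl | rfl <;> norm_num) h
  · intro θ hθ g hg
    obtain ⟨i, -, rfl⟩ := Finset.mem_image.1 hθ
    rw [hrel i g hg]
  · intro θ hθ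
    obtain ⟨i, -, rfl⟩ := Finset.mem_image.1 hθ
    have hsum : ∑ j ∈ (Finset.univ : Finset (ZMod p)).erase 0, d (Y i) j = -ε * (e : ℤ) := by
      rw [Finset.sum_subtype ((Finset.univ : Finset (ZMod p)).erase 0) (p := fun j => j ≠ 0)
        (fun x => by simp) (f := fun j => d (Y i) j), Finset.sum_congr rfl fun j _ => hYd i j,
        ← Finset.sum_filter, Finset.sum_const, hfib, nsmul_eq_mul]
      ring
    rw [← hdsum, ← Finset.add_sum_erase _ _ (Finset.mem_univ (0 : ZMod p)), hd0, Int.cast_zero, zero_add,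
      ← Int.cast_sum, hsum]
    push_cast
    rfl
  · intro i hi
    have h := horth i i hi hi
    rw [mul_inv_cancel₀ hi, one_pow, if_pos rfl] at h
    rw [hSX, Finset.sdiff_union_of_subset hSYB, h]

/-- **The principal block of a group whose Sylow `p`-subgroups have order `p`.** -/
theorem principal_block_prime_order (hM : IsPModular p M) (hodd : p ≠ 2) (P : Sylow p G)
    (hP : Nat.card P = p) (e : ℕ)
    (he : (Subgroup.centralizer ((P : Subgroup G) : Set G)).relIndex
      (Subgroup.normalizer ((P : Subgroup G) : Set G)) = e) :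
    ∃ X Y : Set (IrrCharacter G), principalBlock M G = X ∪ Y ∧ Disjoint X Y ∧ Nat.card X = e ∧
      Nat.card Y = (p - 1) / e ∧
      ∃ (εX : IrrCharacter G → ℤ) (ε : ℤ),
        (∀ χ ∈ X, (εX χ = 1 ∨ εX χ = -1) ∧ (charDegree (χ : G → ℂ) : ℤ) ≡ εX χ [ZMOD p] ∧
          ∀ x : G, x ∈ (P : Subgroup G) → x ≠ 1 → ∀ y : G,
            y ∈ Subgroup.centralizer ((P : Subgroup G) : Set G) → ¬ p ∣ orderOf y →
              (χ : G → ℂ) (x * y) = (εX χ : ℂ)) ∧
        (ε = 1 ∨ ε = -1) ∧
        (∀ θ ∈ Y, (charDegree (θ : G → ℂ) : ℤ) ≡ ε * (e : ℤ) [ZMOD p]) ∧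
        (∀ θ ∈ Y, ∀ θ' ∈ Y, ∀ g : G, ¬ p ∣ orderOf g → (θ : G → ℂ) g = (θ' : G → ℂ) g) ∧
        ∀ θ ∈ Y, ∀ g : G, ¬ p ∣ orderOf g →
          (ε : ℂ) * (θ : G → ℂ) g = ∑ᶠ χ ∈ X, (εX χ : ℂ) * (χ : G → ℂ) g := by
  obtain ⟨X, Y, εX, ε, -, -, -, hB, hd, hX, hY, -, h1, hε, h2, h3, h4, -, -⟩ :=
    principal_block_prime_order_data hM hodd P hP e he
  refine ⟨↑X, ↑Y, hB, Finset.disjoint_coe.2 hd, ?_, ?_, εX, ε, h1, hε, h2, h3, fun θ hθ g hg => ?_⟩
  · rw [Nat.card_coe_set_eq, Set.ncard_coe_finset, hX]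
  · rw [Nat.card_coe_set_eq, Set.ncard_coe_finset, hY]
  · rw [h4 θ hθ g hg, finsum_mem_coe_finset]

end Cfsg.Agent.Lib.Blocks
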