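import Cfsg.Agent.Lib.Blocks.PrimeOrderBound

/-!
# The stabilizer of a character of the regular part of the centralizer
-/

set_option autoImplicit false
set_option linter.unusedSectionVars false
set_option linter.unusedVariables false

namespace Cfsg.Agent.Lib.Blocks

open Cfsg Cfsg.Agent.Lib.Characters

universe u

variable {G : Type u} [Group G] {p : ℕ} [hp : Fact p.Prime]

/-- The stabilizer in the normalizer of `P` of a function on `O`. -/
def thetaStab (P O : Subgroup G) (hON : ∀ g ∈ Subgroup.normalizer (P : Set G), ∀ y ∈ O, g * y * g⁻¹ ∈ O)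
    (θ : O → ℂ) : Subgroup G where
  carrier := {g | g ∈ Subgroup.normalizer (P : Set G) ∧
    ∀ y y' : O, (y' : G) = g * y * g⁻¹ → θ y' = θ y}
  one_mem' := ⟨one_mem _, fun y y' h => by rw [show y' = y from Subtype.ext (by simpa using h)]⟩
  mul_mem' := fun {a b} ha hb => ⟨mul_mem ha.1 hb.1, fun y y' h => by
    have h2 := hb.2 y ⟨b * y * b⁻¹, hON b hb.1 y y.2⟩ rfl
    rw [← h2]
    exact ha.2 _ y' (by rw [h]; group)⟩
  inv_mem' := fun {a} ha => ⟨inv_mem ha.1, fun y y' h => (ha.2 y' y (by rw [h]; group)).symm⟩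

theorem mem_thetaStab {P O : Subgroup G}
    {hON : ∀ g ∈ Subgroup.normalizer (P : Set G), ∀ y ∈ O, g * y * g⁻¹ ∈ O} {θ : O → ℂ} {g : G} :
    g ∈ thetaStab P O hON θ ↔ g ∈ Subgroup.normalizer (P : Set G) ∧
      ∀ y y' : O, (y' : G) = g * y * g⁻¹ → θ y' = θ y := Iff.rfl

/-- A `p'`-element generating the normalizer modulo the centralizer, with the power generating the
stabilizer of a class function on the regular part of the centralizer. -/
theorem exists_stabilizer_generator [Finite G] (P : Subgroup G) (hP : Nat.card P = p)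
    (hsq : ¬ p ^ 2 ∣ Nat.card G) {u : G} (hu : u ∈ P) (hu1 : u ≠ 1) (O : Subgroup G)
    (hOC : O ≤ Subgroup.centralizer (P : Set G))
    (hdec : ∀ c ∈ Subgroup.centralizer (P : Set G), ∃ j : ℕ, ∃ y ∈ O, c = u ^ j * y)
    (hON : ∀ g ∈ Subgroup.normalizer (P : Set G), ∀ y ∈ O, g * y * g⁻¹ ∈ O)
    (θ : O → ℂ) (hθ : IsClassFunction O θ) :
    ∃ (t : G) (r n e : ℕ), 0 < n ∧ 0 < e ∧
      t ∈ Subgroup.normalizer (P : Set G) ∧ ¬ p ∣ orderOf t ∧ t * u * t⁻¹ = u ^ r ∧
      IsPrimitiveRoot (r : ZMod p) (n * e) ∧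
      t ^ (n * e) ∈ Subgroup.centralizer (P : Set G) ∧
      (∀ g ∈ Subgroup.normalizer (P : Set G), ∃ i : ℕ, (t ^ i)⁻¹ * g ∈ Subgroup.centralizer (P : Set G)) ∧
      (∀ i : ℕ, t ^ i ∈ thetaStab P O hON θ ↔ n ∣ i) ∧
      Subgroup.centralizer (P : Set G) ≤ thetaStab P O hON θ ∧
      (Subgroup.centralizer (P : Set G)).relIndex (Subgroup.normalizer (P : Set G)) = n * e ∧
      (Subgroup.centralizer (P : Set G)).relIndex (thetaStab P O hON θ) = e := by
  classical
  obtain ⟨t, r, htN, htreg, htu, hprim, hteC, hgen⟩ := exists_normalizer_generator P hP hsq hu hu1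
  set C := Subgroup.centralizer (P : Set G) with hC
  set T := thetaStab P O hON θ with hT
  set f := C.relIndex (Subgroup.normalizer (P : Set G)) with hf
  have hCN : C ≤ Subgroup.normalizer (P : Set G) := Subgroup.centralizer_le_normalizer _
  have hCT : C ≤ T := by
    intro c hc
    refine ⟨hCN hc, fun y y' h => ?_⟩
    obtain ⟨j, z, hz, rfl⟩ := hdec c hc
    have hcomm : u ^ j * (z * y * z⁻¹) * (u ^ j)⁻¹ = z * y * z⁻¹ := by
      have := Subgroup.mem_centralizer_iff.1 (hOC (O.mul_mem (O.mul_mem hz y.2) (O.inv_mem hz))) (u ^ j)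
        (P.pow_mem hu j)
      rw [this, mul_inv_cancel_right]
    have e : y' = (⟨z, hz⟩ : O) * y * (⟨z, hz⟩ : O)⁻¹ := Subtype.ext (by
      rw [h, show u ^ j * z * (y : G) * (u ^ j * z)⁻¹ = u ^ j * (z * y * z⁻¹) * (u ^ j)⁻¹ by group, hcomm]
      rfl)
    rw [e, hθ]
  have hf0 : 0 < f := Nat.pos_of_ne_zero (Subgroup.index_ne_zero_of_finite
    (H := C.subgroupOf (Subgroup.normalizer (P : Set G))))
  have hex : ∃ i : ℕ, 0 < i ∧ t ^ i ∈ T := ⟨f, hf0, hCT hteC⟩
  set n := Nat.find hex with hn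
  obtain ⟨hn0, hnT⟩ := Nat.find_spec hex
  have hdvd : ∀ i : ℕ, t ^ i ∈ T ↔ n ∣ i := by
    intro i
    constructor
    · intro hi
      by_contra hnd
      have hmod : 0 < i % n := Nat.pos_of_ne_zero fun h => hnd (Nat.dvd_of_mod_eq_zero h)
      refine Nat.find_min hex (Nat.mod_lt i hn0) ⟨hmod, ?_⟩
      have e : t ^ (i % n) = (t ^ (n * (i / n)))⁻¹ * t ^ i := by
        conv_rhs => rhs; rw [← Nat.div_add_mod i n, pow_add]
        rw [inv_mul_cancel_left]
      rw [e, pow_mul]
      exact T.mul_mem (T.inv_mem (T.pow_mem hnT _)) hi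
    · rintro ⟨s, rfl⟩
      rw [pow_mul]; exact T.pow_mem hnT s
  obtain ⟨e, he⟩ := (hdvd f).1 (hCT hteC)
  have he0 : 0 < e := Nat.pos_of_ne_zero fun h => by rw [h, mul_zero] at he; omega
  have hpowC : ∀ i : ℕ, t ^ i ∈ C ↔ f ∣ i := by
    intro i
    constructor
    · intro hi
      refine hprim.dvd_of_pow_eq_one _ ?_
      have hiter : ∀ s : ℕ, t ^ s * u * (t ^ s)⁻¹ = u ^ (r ^ s) := by
        intro s
        induction s with
        | zero => simp
        | succ s ih =>
          rw [pow_succ' t, show t * t ^ s * u * (t * t ^ s)⁻¹ = t * (t ^ s * u * (t ^ s)⁻¹) * t⁻¹ by group,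
            ih, ← conj_pow, htu, ← pow_mul, pow_succ, mul_comm]
      have h := hiter i
      rw [← Subgroup.mem_centralizer_iff.1 hi u hu, mul_inv_cancel_right] at h
      have h1 : u ^ (1 : ℕ) = u ^ (r ^ i) := by rw [pow_one]; exact h
      rw [pow_eq_pow_iff_modEq, orderOf_of_mem_prime hP hu hu1, ← ZMod.natCast_eq_natCast_iff] at h1
      push_cast at h1
      exact h1.symm
    · rintro ⟨s, rfl⟩
      rw [pow_mul]; exact C.pow_mem hteC s
  refine ⟨t, r, n, e, hn0, he0, htN, htreg, htu, he ▸ hprim, he ▸ hteC, hgen, hdvd, hCT, he, ?_⟩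
  let q : Fin e → T ⧸ C.subgroupOf T := fun i =>
    QuotientGroup.mk (⟨t ^ (n * (i : ℕ)), (hdvd _).2 (dvd_mul_right _ _)⟩ : T)
  have hq : Function.Bijective q := by
    constructor
    · intro i j hij
      have h := QuotientGroup.eq.1 hij
      rw [Subgroup.mem_subgroupOf, Subgroup.coe_mul, Subgroup.coe_inv] at h
      simp only at h
      rcases le_total (i : ℕ) (j : ℕ) with hle | hle
      · have h2 : t ^ (n * ((j : ℕ) - i)) ∈ C := by
          rwa [Nat.mul_sub, pow_sub _ (Nat.mul_le_mul_left n hle),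
            (Commute.refl t).pow_pow (n * (j : ℕ)) (n * (i : ℕ)) |>.inv_right.eq]
        rw [hpowC, he, Nat.mul_dvd_mul_iff_left hn0] at h2
        have := Nat.eq_zero_of_dvd_of_lt h2 (by have := j.2; omega)
        exact Fin.ext (by omega)
      · have h' := C.inv_mem h
        rw [_root_.mul_inv_rev, inv_inv] at h'
        have h2 : t ^ (n * ((i : ℕ) - j)) ∈ C := by
          rwa [Nat.mul_sub, pow_sub _ (Nat.mul_le_mul_left n hle),
            (Commute.refl t).pow_pow (n * (i : ℕ)) (n * (j : ℕ)) |>.inv_right.eq]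
        rw [hpowC, he, Nat.mul_dvd_mul_iff_left hn0] at h2
        have := Nat.eq_zero_of_dvd_of_lt h2 (by have := i.2; omega)
        exact Fin.ext (by omega)
    · intro x
      obtain ⟨g, rfl⟩ := QuotientGroup.mk_surjective x
      obtain ⟨i, hi⟩ := hgen (g : G) g.2.1
      obtain ⟨s, rfl⟩ := (hdvd i).1 (by
        have := T.mul_mem g.2 (T.inv_mem (hCT hi))
        simpa using this)
      refine ⟨⟨s % e, Nat.mod_lt _ he0⟩, QuotientGroup.eq.2 ?_⟩
      rw [Subgroup.mem_subgroupOf, Subgroup.coe_mul, Subgroup.coe_inv]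
      show (t ^ (n * (s % e)))⁻¹ * (g : G) ∈ C
      have e1 : (t ^ (n * (s % e)))⁻¹ * (g : G) = t ^ (f * (s / e)) * ((t ^ (n * s))⁻¹ * g) := by
        have e2 : n * s = n * (s % e) + f * (s / e) := by
          rw [he, mul_assoc n, ← Nat.mul_add, Nat.mod_add_div]
        rw [e2, pow_add, _root_.mul_inv_rev]
        simp only [← mul_assoc, mul_inv_cancel, one_mul]
      rw [e1]
      exact C.mul_mem ((hpowC _).2 (dvd_mul_right _ _)) hi
  rw [Subgroup.relIndex, Subgroup.index, ← Nat.card_eq_of_bijective q hq, Nat.card_fin]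

end Cfsg.Agent.Lib.Blocks
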