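import Cfsg.Agent.Lib.Blocks.MatrixUnits
import Cfsg.Agent.Lib.Blocks.CornerTwist
import Cfsg.Agent.Lib.Blocks.ThetaStab
import Mathlib.LinearAlgebra.Matrix.Rank

/-!
# The section bound at an arbitrary character of the regular part of the centralizer
-/

set_option autoImplicit false
set_option linter.unusedSectionVars false
set_option linter.unusedVariables false
set_option maxHeartbeats 1200000

namespace Cfsg.Agent.Lib.Blocks

open Cfsg Cfsg.Agent.Lib.Characters Matrix Module

universe u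

variable {M : Ideal AlgInt} [hMp : M.IsPrime]

/-- The residue field has all roots. -/
theorem exists_root_resField (c : ResField M) {e : ℕ} (he : 0 < e) :
    ∃ α : ResField M, α ^ e = c := by
  obtain ⟨⟨z, a, b, hb, hab⟩, rfl⟩ := red_surjective (M := M) c
  obtain ⟨w, hw⟩ := IsAlgClosed.exists_pow_nat_eq ((a : ℂ) * (b : ℂ) ^ (e - 1)) he
  have hwi : IsIntegral ℤ w := IsIntegral.of_pow he (by
    rw [hw]; exact a.2.mul (b.2.pow _))
  have hmem : MemLocalRing M (w / (b : ℂ)) := ⟨⟨w, hwi⟩, b, hb, rfl⟩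
  refine ⟨red M ⟨w / (b : ℂ), hmem⟩, ?_⟩
  rw [← map_pow]
  congr 1
  apply Subtype.ext
  show (w / (b : ℂ)) ^ e = z
  rw [div_pow, hw, ← hab]
  obtain ⟨j, rfl⟩ : ∃ j, e = j + 1 := ⟨e - 1, by omega⟩
  rw [Nat.add_sub_cancel, pow_succ]
  have := algInt_coe_ne_zero hb
  field_simp

variable {G : Type u} [Group G] {p : ℕ} [hp : Fact p.Prime]

/-- **The section bound** for the multiplicity of a character of `O` in the sections. -/
theorem section_theta_bound [Fintype G] (hM : IsPModular p M) (P : Subgroup G) (hP : Nat.card P = p)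
    (hsq : ¬ p ^ 2 ∣ Nat.card G) {u : G} (hu : u ∈ P) (hu1 : u ≠ 1)
    (O : Subgroup G) [Fintype O] (hOC : O ≤ Subgroup.centralizer (P : Set G))
    (hO : ¬ p ∣ Nat.card O)
    (hOreg : ∀ c ∈ Subgroup.centralizer (P : Set G), ¬ p ∣ orderOf c → c ∈ O)
    (hdec : ∀ c ∈ Subgroup.centralizer (P : Set G), ∃ j : ℕ, ∃ y ∈ O, c = u ^ j * y)
    (hON : ∀ g ∈ Subgroup.normalizer (P : Set G), ∀ y ∈ O, g * y * g⁻¹ ∈ O)
    (θ : IrrCharacter O) (χ : IrrCharacter G) :
    ∃ S : ℤ, ∑ j ∈ Finset.Ico 1 p, (Nat.card O : ℂ)⁻¹ *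
        ∑ y : O, (θ : O → ℂ) y⁻¹ * (χ : G → ℂ) (u ^ j * (y : G)) = (S : ℂ) ∧
      -((p : ℤ) - 1) ≤ S ∧ S ≤ p := by
  classical
  haveI := resField_charP (M := M) hM
  obtain ⟨N₀, σ, hσχ, hloc⟩ := exists_localEnd_model hM χ.2
  obtain ⟨t, r, n, e, hn0, he0, htN, htreg, htu, hprim, hteC, hNgen, hdvd, hCT, hrel, -⟩ :=
    exists_stabilizer_generator P hP hsq hu hu1 O hOC hdec hON (θ : O → ℂ) (irr_isClassFunction θ)
  set N := Subgroup.normalizer (P : Set G) with hN
  set C := Subgroup.centralizer (P : Set G) with hC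
  set T := thetaStab P O hON (θ : O → ℂ) with hT
  let ι := (locSubring M).subtype
  have hordu : orderOf u = p := orderOf_of_mem_prime hP hu hu1
  have hup : u ^ p = 1 := hordu ▸ pow_orderOf_eq_one u
  obtain ⟨d, E, eθ, hd0, hdθ, hEE, heθ, heC, hσE, hEsum, horth⟩ :=
    exists_matrixUnits hM O.subtype hO σ θ
  let i₀ : Fin d := ⟨0, hd0⟩
  have huy : ∀ y : O, Commute u (y : G) := fun y =>
    Subgroup.mem_centralizer_iff.1 (hOC y.2) u hu
  have hEu : ∀ a b, E a b * σ u = σ u * E a b := by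
    intro a b
    obtain ⟨f, hf⟩ := hEsum a b
    rw [hf, Finset.sum_mul, Finset.mul_sum]
    refine Finset.sum_congr rfl fun y _ => ?_
    rw [smul_mul_assoc, mul_smul_comm, ← map_mul, ← map_mul, show O.subtype y = (y : G) from rfl, (huy y).eq]
  have heσ : ∀ g ∈ T, σ g * eθ = eθ * σ g := by
    intro g hg
    apply Matrix.map_injective (f := ι) Subtype.val_injective
    beta_reduce
    rw [Matrix.map_mul, Matrix.map_mul, heC, mul_smul_comm, smul_mul_assoc]
    refine congrArg _ ?_
    rw [Finset.mul_sum, Finset.sum_mul]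
    refine Fintype.sum_equiv
      { toFun := fun z : O => (⟨g * z * g⁻¹, hON g hg.1 z z.2⟩ : O)
        invFun := fun z : O => (⟨g⁻¹ * z * g, by
          simpa using hON g⁻¹ (N.inv_mem hg.1) z z.2⟩ : O)
        left_inv := fun z => Subtype.ext (by simp [mul_assoc])
        right_inv := fun z => Subtype.ext (by simp [mul_assoc]) } _ _ fun z => ?_
    rw [mul_smul_comm, smul_mul_assoc, ← Matrix.map_mul, ← Matrix.map_mul, ← map_mul, ← map_mul]
    congr 1
    · exact (hg.2 z⁻¹ _ (by simp [mul_assoc])).symm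
    · congr 2; simp [mul_assoc]
  have hOT : ∀ y : O, (y : G) ∈ T := fun y => hCT (hOC y.2)
  have hEe : ∀ a b, E a b * eθ = E a b ∧ eθ * E a b = E a b := by
    intro a b
    rw [heθ, Finset.mul_sum, Finset.sum_mul]
    constructor
    · rw [Finset.sum_eq_single b (fun x _ hx => by rw [hEE, if_neg (Ne.symm hx)]) (by simp), hEE, if_pos rfl]
    · rw [Finset.sum_eq_single a (fun x _ hx => by rw [hEE, if_neg hx]) (by simp), hEE, if_pos rfl]
  -- complex matrices
  set X0 : Matrix (Fin N₀) (Fin N₀) (locSubring M) := E i₀ i₀ with hX0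
  let A1 : Matrix (Fin N₀) (Fin N₀) (locSubring M) := (∑ j ∈ Finset.range p, σ (u ^ j)) * X0
  let E0 : Matrix (Fin N₀) (Fin N₀) ℂ := X0.map ι
  let Q : Matrix (Fin N₀) (Fin N₀) ℂ := (p : ℂ)⁻¹ • A1.map ι
  have hp0 : (p : ℂ) ≠ 0 := Nat.cast_ne_zero.2 hp.out.ne_zero
  have hXX : X0 * X0 = X0 := by rw [hX0, hEE, if_pos rfl]
  have hE0 : E0 * E0 = E0 := by
    show X0.map ι * X0.map ι = X0.map ι
    rw [← Matrix.map_mul, hXX]
  have huA : σ u * A1 = A1 := by
    simp only [A1, ← mul_assoc, Finset.mul_sum]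
    congr 1
    calc ∑ j ∈ Finset.range p, σ u * σ (u ^ j) = ∑ j ∈ Finset.range p, σ (u ^ (j + 1)) :=
          Finset.sum_congr rfl fun j _ => by rw [← map_mul, ← pow_succ']
      _ = _ := by
          apply add_right_cancel (b := σ (u ^ 0))
          rw [← Finset.sum_range_succ' (fun j => σ (u ^ j)), Finset.sum_range_succ, hup, pow_zero]
  have huA' : ∀ j : ℕ, σ (u ^ j) * A1 = A1 := by
    intro j
    induction j with
    | zero => rw [pow_zero, map_one, one_mul]
    | succ j ih => rw [pow_succ, map_mul, mul_assoc, huA, ih]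
  have hXuj : ∀ j : ℕ, Commute X0 (σ (u ^ j)) := fun j => by
    rw [map_pow]; exact (show Commute X0 (σ u) from hEu i₀ i₀).pow_right j
  have hEA : X0 * A1 = A1 := by
    simp only [A1]
    rw [← mul_assoc, Finset.mul_sum, Finset.sum_congr rfl fun j _ => (hXuj j).eq, ← Finset.sum_mul,
      mul_assoc, hXX]
  have hAA : A1 * A1 = (p : locSubring M) • A1 := by
    conv_lhs => lhs; simp only [A1]
    rw [mul_assoc, hEA, Finset.sum_mul, Finset.sum_congr rfl fun j _ => huA' j, Finset.sum_const,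
      Finset.card_range, Nat.cast_smul_eq_nsmul]
  have hQ : Q * Q = Q := by
    simp only [Q, smul_mul_assoc, mul_smul_comm, ← Matrix.map_mul, hAA, smul_smul]
    ext a b
    simp [ι, mul_assoc, hp0]
  set m0 := Q.rank with hm0
  set w := E0.rank with hw
  have hA1rank : (A1.map ι).rank = m0 := by
    have h : A1.map ι = (p : ℂ) • Q := by
      simp only [Q, smul_smul, mul_inv_cancel₀ hp0, one_smul]
    rw [h, hm0]
    refine le_antisymm ?_ ?_
    · calc ((p : ℂ) • Q).rank = (((p : ℂ) • (1 : Matrix (Fin N₀) (Fin N₀) ℂ)) * Q).rank := by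
            rw [smul_mul_assoc, one_mul]
        _ ≤ Q.rank := Matrix.rank_mul_le_right _ _
    · calc Q.rank = (((p : ℂ)⁻¹ • (1 : Matrix (Fin N₀) (Fin N₀) ℂ)) * ((p : ℂ) • Q)).rank := by
            rw [smul_mul_assoc, one_mul, smul_smul, inv_mul_cancel₀ hp0, one_smul]
        _ ≤ _ := Matrix.rank_mul_le_right _ _
  let c : ℕ → ℂ := fun j => (Nat.card O : ℂ)⁻¹ * ∑ y : O, (θ : O → ℂ) y⁻¹ * (χ : G → ℂ) (u ^ j * (y : G))
  have hj : ∀ j : ℕ, ((σ (u ^ j) * X0).map ι).trace = c j := by
    intro j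
    have hall : ∀ a, ((σ (u ^ j) * E a a).map ι).trace = ((σ (u ^ j) * X0).map ι).trace := by
      intro a
      have hc : σ (u ^ j) * E a i₀ = E a i₀ * σ (u ^ j) := by
        rw [map_pow]; exact ((show Commute (E a i₀) (σ u) from hEu a i₀).pow_right j).eq.symm
      rw [show E a a = E a i₀ * E i₀ a by rw [hEE, if_pos rfl], ← mul_assoc, hc, Matrix.map_mul,
        Matrix.trace_mul_comm, ← Matrix.map_mul, ← mul_assoc, hEE, if_pos rfl, ← (hXuj j).eq]
    have h1 : (d : ℂ) * ((σ (u ^ j) * X0).map ι).trace = ((σ (u ^ j) * eθ).map ι).trace := by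
      rw [heθ, Finset.mul_sum, show (∑ a, σ (u ^ j) * E a a).map ι = ∑ a, (σ (u ^ j) * E a a).map ι from
        map_sum ι.mapMatrix _ _, Matrix.trace_sum, Finset.sum_congr rfl fun a _ => hall a,
        Finset.sum_const, Finset.card_univ, Fintype.card_fin, nsmul_eq_mul]
    rw [Matrix.map_mul, Matrix.map_mul, heC, mul_smul_comm, Matrix.trace_smul, Finset.mul_sum,
      Matrix.trace_sum, ← Matrix.map_mul] at h1
    simp only [ι, mul_smul_comm, Matrix.trace_smul, ← Matrix.map_mul, ← map_mul, smul_eq_mul] at h1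
    rw [← hdθ] at h1
    have hd : (d : ℂ) ≠ 0 := Nat.cast_ne_zero.2 hd0.ne'
    apply mul_left_cancel₀ hd
    rw [h1]
    simp only [c, ← hσχ, Subgroup.coe_subtype, div_eq_mul_inv]
    ring
  have htr : ∑ j ∈ Finset.Ico 1 p, c j = (((p * m0 : ℕ) : ℤ) - (w : ℤ) : ℤ) := by
    have h1 : (p : ℂ) * (m0 : ℂ) = ∑ j ∈ Finset.range p, c j := by
      rw [hm0, rank_eq_trace_of_idempotent hQ]
      simp only [Q, Matrix.trace_smul, smul_eq_mul, ← mul_assoc, mul_inv_cancel₀ hp0, one_mul]
      rw [← Finset.sum_congr rfl fun j _ => hj j, ← Matrix.trace_sum]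
      congr 1
      simp only [A1, Finset.sum_mul]
      ext a b
      simp [Matrix.sum_apply, ← Matrix.map_mul]
    have h2 : (w : ℂ) = c 0 := by
      rw [hw, rank_eq_trace_of_idempotent hE0, ← hj 0, pow_zero, map_one, one_mul]
    push_cast
    rw [h1, h2, Finset.range_eq_Ico, Finset.sum_eq_sum_Ico_succ_bot hp.out.pos, zero_add,
      add_sub_cancel_left]
  refine ⟨_, htr, ?_⟩
  -- the modular side
  let k := ResField M
  let ρ := redModel σ
  let red' : Matrix (Fin N₀) (Fin N₀) (locSubring M) →+* Module.End k (Fin N₀ → k) :=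
    (Matrix.toLinAlgEquiv' (R := k) (n := Fin N₀)).toRingEquiv.toRingHom.comp (red M).mapMatrix
  have hred' : ∀ A, red' A = Matrix.toLinAlgEquiv' (A.map (red M)) := fun A => rfl
  have hρ : ∀ g, red' (σ g) = ρ g := fun g => rfl
  have hsmul : ∀ (x : locSubring M) (A : Matrix (Fin N₀) (Fin N₀) (locSubring M)),
      red' (x • A) = red M x • red' A := by
    intro x A
    rw [hred', hred', ← map_smul]
    congr 1
  let Ek : Fin d → Fin d → Module.End k (Fin N₀ → k) := fun a b => red' (E a b)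
  set πk : Module.End k (Fin N₀ → k) := Ek i₀ i₀ with hπk
  have hEkk : ∀ a b c c', Ek a b * Ek c c' = if b = c then Ek a c' else 0 := by
    intro a b c c'
    simp only [Ek, ← map_mul, hEE]
    split_ifs
    · rfl
    · exact map_zero red'
  have hspan : ∀ A ∈ Submodule.span (locSubring M) (Set.range fun ab : Fin d × Fin d => E ab.1 ab.2),
      red' A ∈ Submodule.span k (Set.range fun ab : Fin d × Fin d => Ek ab.1 ab.2) := by
    intro A hA
    refine Submodule.span_induction ?_ (by rw [map_zero]; exact zero_mem _)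
      (fun x y _ _ hx hy => by rw [map_add]; exact add_mem hx hy)
      (fun s x _ hx => by rw [hsmul]; exact Submodule.smul_mem _ _ hx) hA
    rintro _ ⟨ab, rfl⟩
    exact Submodule.subset_span ⟨ab, rfl⟩
  have hconjE : ∀ g ∈ T, ∀ a b, σ g * E a b * σ g⁻¹ ∈
      Submodule.span (locSubring M) (Set.range fun ab : Fin d × Fin d => E ab.1 ab.2) := by
    intro g hg a b
    obtain ⟨f, hf⟩ := hEsum a b
    have hinv : σ g⁻¹ * eθ = eθ * σ g⁻¹ := heσ _ (T.inv_mem hg)
    rw [← (hEe a b).1, hf, ← mul_assoc, mul_assoc _ eθ, ← hinv, ← mul_assoc]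
    simp only [Finset.mul_sum, Finset.sum_mul, mul_smul_comm, smul_mul_assoc, ← map_mul]
    refine Submodule.sum_mem _ fun y _ => Submodule.smul_mem _ _ ?_
    rw [heθ, Finset.mul_sum]
    refine Submodule.sum_mem _ fun x _ => ?_
    exact hσE ⟨_, hON g hg.1 y y.2⟩ x x
  have hρu : ρ u ^ p = 1 := by rw [← map_pow, hup, map_one]
  have hEku : ∀ a b, Commute (Ek a b) (ρ u) := fun a b => by
    show red' (E a b) * red' (σ u) = red' (σ u) * red' (E a b)
    rw [← map_mul, ← map_mul, hEu]
  have hππ : πk * πk = πk := by rw [hπk, hEkk, if_pos rfl]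
  set τ₀ : G := t ^ n with hτ₀
  have hτT : τ₀ ∈ T := (hdvd n).2 dvd_rfl
  let Tu : (Module.End k (Fin N₀ → k))ˣ := ρ.toHomUnits τ₀
  have hiter : ∀ s : ℕ, t ^ s * u * (t ^ s)⁻¹ = u ^ (r ^ s) := by
    intro s
    induction s with
    | zero => simp
    | succ s ih =>
      rw [pow_succ' t, show t * t ^ s * u * (t * t ^ s)⁻¹ = t * (t ^ s * u * (t ^ s)⁻¹) * t⁻¹ by group,
        ih, ← conj_pow, htu, ← pow_mul, pow_succ, mul_comm]
  set rn : ℕ := r ^ n with hrn
  have hr1 : IsPrimitiveRoot (rn : k) e := by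
    have h := hprim.map_of_injective (f := ZMod.castHom (dvd_refl p) k) (RingHom.injective _)
    have h' : IsPrimitiveRoot (r : k) (n * e) := by simpa using h
    rw [hrn, Nat.cast_pow]
    exact IsPrimitiveRoot.pow (Nat.mul_pos hn0 he0) h' rfl
  have heNZ : (e : k) ≠ 0 := by
    rw [Ne, CharP.cast_eq_zero_iff k p]
    intro hd
    have hr0 : (r : ZMod p) ≠ 0 := hprim.ne_zero (Nat.mul_pos hn0 he0).ne'
    have h1 : n * e ∣ p - 1 := hprim.dvd_of_pow_eq_one _ (ZMod.pow_card_sub_one_eq_one hr0)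
    have := Nat.le_of_dvd (by have := hp.out.two_le; omega) ((hd.trans (dvd_mul_left e n)).trans h1)
    have := hp.out.two_le
    omega
  have huz : u ∈ N := Subgroup.le_normalizer hu
  have hfree : ∀ g : G, g⁻¹ * u * g ∈ N → g ∈ N := fun g hg =>
    mem_normalizer_of_conj_mem P hP hsq hu hu1 hg
  have hte : t ^ (n * e) ∈ O := hOreg _ hteC fun h => htreg (h.trans (orderOf_pow_dvd _))
  have hinvρ : ∀ g, ρ g * ρ g⁻¹ = 1 ∧ ρ g⁻¹ * ρ g = 1 := fun g =>
    ⟨by rw [← map_mul, mul_inv_cancel, map_one], by rw [← map_mul, inv_mul_cancel, map_one]⟩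
  have heρ : ∀ g ∈ T, ρ g * red' eθ = red' eθ * ρ g := fun g hg => by
    rw [← hρ, ← map_mul, ← map_mul, heσ g hg]
  have heEk : red' eθ = ∑ a, Ek a a := by rw [heθ, map_sum]
  -- the fixed-point bound
  have hK : finrank k ↥(LinearMap.ker (ρ u - 1) ⊓ LinearMap.range πk) ≤
      finrank k ↥(LinearMap.range ((ρ u - 1) ^ (p - 1) * πk)) + 1 := by
    by_cases hπ0 : πk = 0
    · have : finrank k ↥(LinearMap.range πk) = 0 := by rw [hπ0, LinearMap.range_zero, finrank_bot]
      have h2 : finrank k ↥(LinearMap.ker (ρ u - 1) ⊓ LinearMap.range πk) ≤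
          finrank k ↥(LinearMap.range πk) := Submodule.finrank_mono inf_le_right
      omega
    obtain ⟨τ, cst, hc, hπτ, hτπ, hτu, hτe, hext⟩ := exists_corner_twist (k := k) Ek i₀ hEkk hπ0 Tu
      (ρ u) rn e he0
      (fun a b => by
        have h := hspan _ (hconjE τ₀ hτT a b)
        rwa [map_mul, map_mul, hρ, hρ] at h)
      (fun a b => by
        have h := hspan _ (hconjE τ₀⁻¹ (T.inv_mem hτT) a b)
        rw [inv_inv, map_mul, map_mul, hρ, hρ] at h
        exact h)
      (by
        show ρ τ₀ * ∑ a, Ek a a = (∑ a, Ek a a) * ρ τ₀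
        rw [← heEk]; exact heρ τ₀ hτT)
      hEku
      (by
        show ρ τ₀ * ρ u = ρ u ^ rn * ρ τ₀
        rw [← map_pow, ← map_mul, ← map_mul, hτ₀, hrn, ← hiter n, inv_mul_cancel_right])
      (fun a => by
        show ρ τ₀ ^ e * _ ∈ _
        rw [← map_pow, hτ₀, ← pow_mul, ← hρ, ← map_mul]
        exact hspan _ (hσE ⟨_, hte⟩ a i₀))
    obtain ⟨α, hα⟩ := exists_root_resField cst⁻¹ he0
    have hπτ' : πk * (α • τ) = α • τ := by rw [mul_smul_comm, hπτ]
    have hτπ' : (α • τ) * πk = α • τ := by rw [smul_mul_assoc, hτπ]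
    refine finrank_corner_fixed_le (p := p) (ρ u) πk (α • τ) rn e hρu hππ (hEku i₀ i₀)
      (hπτ'.trans hτπ'.symm) ?_ ?_ heNZ hr1 ?_
    · rw [smul_pow, hτe, smul_smul, hα, inv_mul_cancel₀ hc, one_smul]; exact hππ
    · rw [smul_mul_assoc, hτu, mul_smul_comm]
    intro φ hφ2 hφπ hπφ hφu hφt
    have hα0 : α ≠ 0 := fun h => by
      rw [h, zero_pow he0.ne'] at hα; exact inv_ne_zero hc hα.symm
    have hφτ : Commute φ τ := by
      have h := hφt.smul_right α⁻¹
      rwa [smul_smul, inv_mul_cancel₀ hα0, one_smul] at h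
    set ψ := ∑ a, Ek a i₀ * φ * Ek i₀ a with hψ
    have hψT : Commute ψ (ρ τ₀) := hext φ hπφ hφπ hφτ
    have hψψ : ψ * ψ = ψ := by
      rw [hψ, Finset.sum_mul]
      refine Finset.sum_congr rfl fun a _ => ?_
      rw [Finset.mul_sum, Finset.sum_eq_single a]
      · rw [show Ek a i₀ * φ * Ek i₀ a * (Ek a i₀ * φ * Ek i₀ a) =
          Ek a i₀ * φ * (Ek i₀ a * Ek a i₀) * φ * Ek i₀ a by simp only [mul_assoc], hEkk, if_pos rfl,
          show Ek a i₀ * φ * Ek i₀ i₀ * φ * Ek i₀ a = Ek a i₀ * (φ * Ek i₀ i₀ * φ) * Ek i₀ a by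
            simp only [mul_assoc], ← hπk, hφπ, hφ2]
      · intro b _ hb
        rw [show Ek a i₀ * φ * Ek i₀ a * (Ek b i₀ * φ * Ek i₀ b) =
          Ek a i₀ * φ * (Ek i₀ a * Ek b i₀) * φ * Ek i₀ b by simp only [mul_assoc], hEkk,
          if_neg (Ne.symm hb), mul_zero, zero_mul, zero_mul]
      · simp
    have hψE : ∀ b c, ψ * Ek b c = Ek b c * ψ := by
      intro b c
      rw [hψ, Finset.sum_mul, Finset.mul_sum, Finset.sum_eq_single b, Finset.sum_eq_single c]
      · simp only [mul_assoc]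
        rw [hEkk, if_pos rfl, ← mul_assoc (Ek b c), hEkk, if_pos rfl]
      · intro x _ hx
        rw [← mul_assoc, ← mul_assoc, hEkk, if_neg (Ne.symm hx), zero_mul, zero_mul]
      · simp
      · intro x _ hx
        rw [mul_assoc, hEkk, if_neg hx, mul_zero]
      · simp
    have hψe : ψ * red' eθ = ψ ∧ red' eθ * ψ = ψ := by
      rw [heEk, hψ, Finset.sum_mul, Finset.mul_sum]
      constructor
      · refine Finset.sum_congr rfl fun a _ => ?_
        rw [Finset.mul_sum, Finset.sum_eq_single a]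
        · rw [mul_assoc, hEkk, if_pos rfl]
        · intro b _ hb; rw [mul_assoc, hEkk, if_neg (Ne.symm hb), mul_zero]
        · simp
      · refine Finset.sum_congr rfl fun a _ => ?_
        rw [Finset.sum_mul, Finset.sum_eq_single a]
        · rw [← mul_assoc, ← mul_assoc, hEkk, if_pos rfl]
        · intro b _ hb; rw [← mul_assoc, ← mul_assoc, hEkk, if_neg hb, zero_mul, zero_mul]
        · simp
    have hψspan : ∀ A ∈ Submodule.span k (Set.range fun ab : Fin d × Fin d => Ek ab.1 ab.2),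
        ψ * A = A * ψ := by
      intro A hA
      refine Submodule.span_induction ?_ (by simp) (fun x y _ _ hx hy => by
        rw [mul_add, add_mul, hx, hy]) (fun s x _ hx => by rw [mul_smul_comm, smul_mul_assoc, hx]) hA
      rintro _ ⟨ab, rfl⟩
      exact hψE ab.1 ab.2
    have hψy : ∀ y : O, Commute ψ (ρ (y : G)) := by
      intro y
      show ψ * ρ (y : G) = ρ (y : G) * ψ
      have hmem : ρ (y : G) * red' eθ ∈ Submodule.span k (Set.range fun ab : Fin d × Fin d => Ek ab.1 ab.2) := by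
        rw [← hρ, heθ, map_sum, Finset.mul_sum]
        refine Submodule.sum_mem _ fun a _ => ?_
        rw [← map_mul]
        exact hspan _ (hσE y a a)
      calc ψ * ρ (y : G) = ψ * (red' eθ * ρ (y : G)) := by rw [← mul_assoc, hψe.1]
        _ = ρ (y : G) * red' eθ * ψ := by rw [← heρ _ (hOT y), hψspan _ hmem]
        _ = ρ (y : G) * ψ := by rw [mul_assoc, hψe.2]
    have hψu : Commute ψ (ρ u) := Commute.sum_left _ _ _ fun a _ =>
      ((hEku a i₀).mul_left hφu).mul_left (hEku i₀ a)
    -- the sum over the normalizer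
    let cg : ℕ → Module.End k (Fin N₀ → k) := fun i => ρ (t ^ i) * ψ * ρ (t ^ i)⁻¹
    set Ψ : Module.End k (Fin N₀ → k) := ∑ i ∈ Finset.range n, cg i with hΨ
    have hcg : ∀ i, cg (i + 1) = ρ t * cg i * ρ t⁻¹ := by
      intro i
      simp only [cg, pow_succ' t, map_mul, _root_.mul_inv_rev, mul_assoc]
    have hcgn : cg n = cg 0 := by
      simp only [cg, pow_zero, inv_one, map_one, one_mul, mul_one]
      rw [← hτ₀, ← hψT.eq, mul_assoc, (hinvρ τ₀).1, mul_one]
    have hΨt : Commute Ψ (ρ t) := by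
      have h : ρ t * Ψ * ρ t⁻¹ = Ψ := by
        rw [hΨ, Finset.mul_sum, Finset.sum_mul]
        simp only [← hcg]
        apply add_right_cancel (b := cg 0)
        rw [← Finset.sum_range_succ' cg, Finset.sum_range_succ, hcgn]
      show Ψ * ρ t = ρ t * Ψ
      conv_lhs => rw [← h, mul_assoc, (hinvρ t).2, mul_one]
    have hΨu : Commute Ψ (ρ u) := by
      refine Commute.sum_left _ _ _ fun i _ => ?_
      have hui : (t ^ i)⁻¹ * u * t ^ i ∈ P := by
        have := ((Subgroup.mem_normalizer_iff.1 (N.inv_mem (N.pow_mem htN i))) u).1 hu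
        rwa [inv_inv] at this
      obtain ⟨j, hj⟩ := exists_pow_eq_mem hP hu hu1 hui
      show ρ (t ^ i) * ψ * ρ (t ^ i)⁻¹ * ρ u = ρ u * (ρ (t ^ i) * ψ * ρ (t ^ i)⁻¹)
      rw [mul_assoc _ (ρ (t ^ i)⁻¹) (ρ u), ← map_mul,
        show (t ^ i)⁻¹ * u = u ^ j * (t ^ i)⁻¹ by rw [hj, mul_inv_cancel_right], map_mul,
        ← mul_assoc, mul_assoc _ ψ (ρ (u ^ j)),
        (show Commute ψ (ρ (u ^ j)) by rw [map_pow]; exact hψu.pow_right j).eq, ← mul_assoc, ← map_mul,
        show t ^ i * u ^ j = u * t ^ i by rw [hj]; group, map_mul]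
      simp only [mul_assoc]
    have hΨy : ∀ y : O, Commute Ψ (ρ (y : G)) := by
      intro y
      refine Commute.sum_left _ _ _ fun i _ => ?_
      let y' : O := ⟨(t ^ i)⁻¹ * y * t ^ i, by
        simpa using hON _ (N.inv_mem (N.pow_mem htN i)) y y.2⟩
      show ρ (t ^ i) * ψ * ρ (t ^ i)⁻¹ * ρ (y : G) = ρ (y : G) * (ρ (t ^ i) * ψ * ρ (t ^ i)⁻¹)
      rw [mul_assoc _ (ρ (t ^ i)⁻¹) (ρ (y : G)), ← map_mul,
        show (t ^ i)⁻¹ * (y : G) = (y' : G) * (t ^ i)⁻¹ by
          show _ = (t ^ i)⁻¹ * y * t ^ i * (t ^ i)⁻¹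
          rw [mul_inv_cancel_right], map_mul,
        ← mul_assoc, mul_assoc _ ψ (ρ (y' : G)), (hψy y').eq, ← mul_assoc, ← map_mul,
        show t ^ i * (y' : G) = (y : G) * t ^ i by
          show t ^ i * ((t ^ i)⁻¹ * y * t ^ i) = _
          group, map_mul]
      simp only [mul_assoc]
    have hΨN : ∀ g ∈ N, Commute Ψ (ρ g) := by
      intro g hg
      obtain ⟨i, hi⟩ := hNgen g hg
      obtain ⟨j, y, hy, hjy⟩ := hdec _ hi
      rw [show g = t ^ i * (u ^ j * y) by rw [← hjy, mul_inv_cancel_left], map_mul, map_mul, map_pow,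
        map_pow]
      exact (hΨt.pow_right i).mul_right ((hΨu.pow_right j).mul_right (hΨy ⟨y, hy⟩))
    -- orthogonality of the conjugates
    have hortho : ∀ g ∈ N, g ∉ T → red' eθ * ρ g * red' eθ = 0 := by
      intro g hgN hgT
      let conjg : O ≃* O :=
        { toFun := fun z => (⟨g * z * g⁻¹, hON g hgN z z.2⟩ : O)
          invFun := fun z => (⟨g⁻¹ * z * g, by simpa using hON g⁻¹ (N.inv_mem hgN) z z.2⟩ : O)
          left_inv := fun z => Subtype.ext (by simp [mul_assoc])
          right_inv := fun z => Subtype.ext (by simp [mul_assoc])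
          map_mul' := fun a b => Subtype.ext (by simp [mul_assoc]) }
      let η : IrrCharacter O := ⟨(θ : O → ℂ) ∘ conjg.symm,
        IsIrrCharacter.comp_equiv θ.2 conjg.symm⟩
      have hη : η ≠ θ := by
        intro h
        refine hgT ⟨hgN, fun z z' hz => ?_⟩
        have e1 : z' = conjg z := Subtype.ext hz
        have e2 := congrArg (fun f : IrrCharacter O => (f : O → ℂ) (conjg z)) h
        simp only [η, Function.comp_apply, MulEquiv.symm_apply_apply] at e2
        rw [e1]; exact e2.symm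
      have key : σ g * eθ * σ g⁻¹ * eθ = 0 := by
        apply Matrix.map_injective (f := ι) Subtype.val_injective
        beta_reduce
        have e1 : (σ g * eθ * σ g⁻¹).map ι = ((θ : O → ℂ) 1 / (Nat.card O : ℂ)) •
            ∑ y : O, (η : O → ℂ) y⁻¹ • (σ (y : G)).map ι := by
          rw [Matrix.map_mul, Matrix.map_mul, heC, mul_smul_comm, smul_mul_assoc, Finset.mul_sum,
            Finset.sum_mul]
          refine congrArg _ (Fintype.sum_equiv conjg.toEquiv _ _ fun z => ?_)
          rw [mul_smul_comm, smul_mul_assoc, ← Matrix.map_mul, ← Matrix.map_mul, ← map_mul, ← map_mul]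
          show _ • (σ (g * (z : G) * g⁻¹)).map ι = _ • (σ (g * (z : G) * g⁻¹)).map ι
          congr 1
          show (θ : O → ℂ) z⁻¹ = (θ : O → ℂ) (conjg.symm (conjg z)⁻¹)
          rw [map_inv conjg.symm, MulEquiv.symm_apply_apply]
        rw [Matrix.map_mul, e1, Matrix.map_zero _ (map_zero ι), heθ,
          show (∑ a, E a a).map ι = ∑ a, (E a a).map ι from map_sum ι.mapMatrix _ _, Finset.mul_sum]
        refine Finset.sum_eq_zero fun a _ => ?_
        rw [smul_mul_assoc]
        have := horth η hη a a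
        simp only [Subgroup.coe_subtype] at this
        rw [this, smul_zero]
      have h2 : ρ g * red' eθ * ρ g⁻¹ * red' eθ = 0 := by
        rw [← hρ, ← hρ, ← map_mul, ← map_mul, ← map_mul, key, map_zero]
      have h3 : ∀ y : O, Commute (red' eθ) (ρ (y : G)) := fun y => (heρ _ (hOT y)).symm
      have h4 : Commute (red' eθ) (ρ g * red' eθ * ρ g⁻¹) := by
        have hsum : ρ g * red' eθ * ρ g⁻¹ ∈ Submodule.span k (Set.range fun y : O => ρ (y : G)) := by
          rw [heEk, Finset.mul_sum, Finset.sum_mul]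
          refine Submodule.sum_mem _ fun a _ => ?_
          obtain ⟨f, hf⟩ := hEsum a a
          show ρ g * red' (E a a) * ρ g⁻¹ ∈ _
          rw [hf, map_sum, Finset.mul_sum, Finset.sum_mul]
          refine Submodule.sum_mem _ fun y _ => ?_
          rw [hsmul, hρ, mul_smul_comm, smul_mul_assoc, ← map_mul, ← map_mul]
          exact Submodule.smul_mem _ _ (Submodule.subset_span ⟨⟨_, hON g hgN y y.2⟩, rfl⟩)
        refine Submodule.span_induction ?_ (Commute.zero_right _) (fun x y _ _ hx hy => hx.add_right hy)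
          (fun s x _ hx => hx.smul_right s) hsum
        rintro _ ⟨y, rfl⟩
        exact h3 y
      calc red' eθ * ρ g * red' eθ = red' eθ * (ρ g * red' eθ * ρ g⁻¹) * ρ g := by
            simp only [mul_assoc, (hinvρ g).2, mul_one]
        _ = ρ g * red' eθ * ρ g⁻¹ * red' eθ * ρ g := by rw [h4.eq]
        _ = 0 := by rw [h2, zero_mul]
    have hΨ2 : Ψ * Ψ = Ψ := by
      rw [hΨ, Finset.sum_mul]
      refine Finset.sum_congr rfl fun i hi => ?_
      rw [Finset.mul_sum, Finset.sum_eq_single i]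
      · simp only [cg, mul_assoc]
        rw [← mul_assoc (ρ (t ^ i)⁻¹), (hinvρ _).2, one_mul, ← mul_assoc ψ ψ, hψψ]
      · intro j hj hji
        have hnot : (t ^ i)⁻¹ * t ^ j ∉ T := by
          intro hm
          rw [Finset.mem_range] at hi hj
          rcases le_total i j with h | h
          · rw [show j = i + (j - i) by omega, pow_add, inv_mul_cancel_left, hdvd] at hm
            exact hji (by have := Nat.eq_zero_of_dvd_of_lt hm (by omega); omega)
          · have hm' := T.inv_mem hm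
            rw [_root_.mul_inv_rev, inv_inv, show i = j + (i - j) by omega, pow_add, inv_mul_cancel_left,
              hdvd] at hm'
            exact hji (by have := Nat.eq_zero_of_dvd_of_lt hm' (by omega); omega)
        have hz := hortho _ (N.mul_mem (N.inv_mem (N.pow_mem htN i)) (N.pow_mem htN j)) hnot
        calc cg i * cg j = ρ (t ^ i) * (ψ * red' eθ) * (ρ (t ^ i)⁻¹ * ρ (t ^ j)) * (red' eθ * ψ) *
              ρ (t ^ j)⁻¹ := by simp only [cg, hψe.1, hψe.2, mul_assoc]
          _ = ρ (t ^ i) * ψ * (red' eθ * ρ ((t ^ i)⁻¹ * t ^ j) * red' eθ) * ψ * ρ (t ^ j)⁻¹ := by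
              simp only [map_mul, mul_assoc]
          _ = 0 := by rw [hz]; simp
      · simp [hi]
    have hΨx : ∀ x, πk x = x → Ψ x = φ x := by
      intro x hx
      have h0 : Ψ * πk = φ := by
        rw [hΨ, Finset.sum_mul, Finset.sum_eq_single 0]
        · simp only [cg, pow_zero, inv_one, map_one, one_mul, mul_one]
          rw [hψ, Finset.sum_mul, Finset.sum_eq_single i₀]
          · rw [mul_assoc, hπk, hEkk, if_pos rfl, ← hπk, hπφ, hφπ]
          · intro b _ hb; rw [mul_assoc, hπk, hEkk, if_neg hb, mul_zero]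
          · simp
        · intro i hi hi0
          have hnot : (t ^ i)⁻¹ ∉ T := fun hm => by
            have := (hdvd i).1 (by simpa using T.inv_mem hm)
            rw [Finset.mem_range] at hi
            exact hi0 (Nat.eq_zero_of_dvd_of_lt this hi)
          have hz := hortho _ (N.inv_mem (N.pow_mem htN i)) hnot
          have hπe : red' eθ * πk = πk := by
            rw [hπk]; show red' eθ * red' (E i₀ i₀) = _
            rw [← map_mul, (hEe i₀ i₀).2]
          calc cg i * πk = ρ (t ^ i) * (ψ * red' eθ) * ρ (t ^ i)⁻¹ * (red' eθ * πk) := by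
                simp only [cg, hψe.1, hπe]
            _ = ρ (t ^ i) * ψ * (red' eθ * ρ (t ^ i)⁻¹ * red' eθ) * πk := by simp only [mul_assoc]
            _ = 0 := by rw [hz]; simp
        · exact fun h => absurd (Finset.mem_range.2 hn0) h
      rw [← h0, End.mul_apply, hx]
    rcases idempotent_stable_dichotomy (p := p) ρ hloc u hup N huz hfree Ψ hΨN hΨ2 with h | h
    · exact Or.inl fun x hx hux => hΨx x hx ▸ h x hux
    · exact Or.inr fun x hx hux => hΨx x hx ▸ h x hux
  obtain ⟨hlo, hhi⟩ := finrank_corner_bounds (p := p) (ρ u) πk hρu (hEku i₀ i₀) hK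
  set cc := finrank k ↥(LinearMap.range ((ρ u - 1) ^ (p - 1) * πk)) with hcc
  have hc_le : cc ≤ m0 := by
    have h : (ρ u - 1) ^ (p - 1) * πk = Matrix.toLinAlgEquiv' (A1.map (red M)) := by
      rw [sub_one_pow_pred (k := k), ← hred']
      simp only [A1, map_mul, map_sum]
      congr 1
      exact Finset.sum_congr rfl fun j _ => by rw [← hρ, map_pow, map_pow]
    rw [hcc, h]
    exact (rank_red_le A1).trans hA1rank.le
  have hwk : finrank k ↥(LinearMap.range πk) = w := by
    have h1 : finrank k ↥(LinearMap.range πk) ≤ w := rank_red_le X0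
    have h2 : finrank k ↥(LinearMap.range (1 - πk)) ≤ (1 - E0).rank := by
      have he' : 1 - πk = Matrix.toLinAlgEquiv' ((1 - X0).map (red M)) := by
        rw [← hred', map_sub, map_one]
      rw [he', show (1 - E0) = (1 - X0).map ι by
        rw [Matrix.map_sub (hf := map_sub ι), Matrix.map_one _ (map_zero _) (map_one _)]]
      exact rank_red_le (1 - X0)
    have h3 : finrank k ↥(LinearMap.range πk) + finrank k ↥(LinearMap.range (1 - πk)) ≥ N₀ := by
      have htop : LinearMap.range πk ⊔ LinearMap.range (1 - πk) = ⊤ := eq_top_iff.2 fun x _ =>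
        Submodule.mem_sup.2 ⟨πk x, ⟨x, rfl⟩, (1 - πk) x, ⟨x, rfl⟩, by simp⟩
      have h := Submodule.finrank_add_le_finrank_add_finrank (LinearMap.range πk)
        (LinearMap.range (1 - πk))
      rw [htop, finrank_top, Module.finrank_fin_fun] at h
      exact h
    have h4 : E0.rank + (1 - E0).rank = N₀ := by
      have e2 : (1 - E0) * (1 - E0) = 1 - E0 := by rw [mul_sub, mul_one, sub_mul, one_mul, hE0]; abel
      have e3 : ((E0.rank + (1 - E0).rank : ℕ) : ℂ) = (N₀ : ℂ) := by
        push_cast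
        rw [rank_eq_trace_of_idempotent hE0, rank_eq_trace_of_idempotent e2, Matrix.trace_sub,
          Matrix.trace_one, Fintype.card_fin]
        ring
      exact_mod_cast e3
    omega
  have hK0 : m0 ≤ finrank k ↥(LinearMap.ker (ρ u - 1) ⊓ LinearMap.range πk) := by
    let B : Matrix (Fin N₀) (Fin N₀) (locSubring M) := (σ u - 1) * X0 + (1 - X0)
    set Bk : Module.End k (Fin N₀ → k) := Matrix.toLinAlgEquiv' (B.map (red M)) with hBk
    set Bc : Module.End ℂ (Fin N₀ → ℂ) := Matrix.toLinAlgEquiv' (B.map ι) with hBc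
    have hle := rank_red_le B
    have hk := LinearMap.finrank_range_add_finrank_ker Bk
    have hcx := LinearMap.finrank_range_add_finrank_ker Bc
    rw [Module.finrank_fin_fun] at hk hcx
    have hBkval : Bk = (ρ u - 1) * πk + (1 - πk) := by
      rw [hBk, ← hred']
      simp only [B, map_add, map_mul, map_sub, map_one, hρ]
      rfl
    have hkerk : LinearMap.ker Bk ≤ LinearMap.ker (ρ u - 1) ⊓ LinearMap.range πk := by
      intro x hx
      rw [LinearMap.mem_ker, hBkval] at hx
      have hc' : Commute πk (ρ u - 1) := (hEku i₀ i₀).sub_right (Commute.one_right _)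
      have e' : πk * ((ρ u - 1) * πk + (1 - πk)) = (ρ u - 1) * πk := by
        rw [mul_add, mul_sub, mul_one, hππ, sub_self, add_zero, ← mul_assoc, hc'.eq, mul_assoc, hππ]
      have h1 : (ρ u - 1) (πk x) = 0 := by
        rw [← Module.End.mul_apply, ← e', Module.End.mul_apply, hx, map_zero]
      rw [LinearMap.add_apply, Module.End.mul_apply, h1, zero_add, LinearMap.sub_apply,
        Module.End.one_apply, sub_eq_zero] at hx
      refine Submodule.mem_inf.2 ⟨?_, ⟨x, hx.symm⟩⟩
      rw [LinearMap.mem_ker, hx, h1]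
    have hkerc : m0 ≤ finrank ℂ ↥(LinearMap.ker Bc) := by
      refine Submodule.finrank_mono (s := LinearMap.range (Matrix.mulVecLin Q)) ?_
      rintro _ ⟨y, rfl⟩
      rw [LinearMap.mem_ker]
      show B.map ι *ᵥ (Q *ᵥ y) = 0
      rw [Matrix.mulVec_mulVec]
      have h0 : B * A1 = 0 := by
        simp only [B]
        rw [add_mul, sub_mul (1 : Matrix (Fin N₀) (Fin N₀) (locSubring M)), mul_assoc, hEA,
          sub_mul, one_mul, huA, sub_self, add_zero]
      simp only [Q, Matrix.mul_smul, ← Matrix.map_mul, h0, Matrix.map_zero _ (map_zero ι),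
        smul_zero, Matrix.zero_mulVec]
    have := Submodule.finrank_mono hkerk
    have e1 : finrank k ↥(LinearMap.range Bk) = (B.map (red M)).rank := rfl
    have e2 : finrank ℂ ↥(LinearMap.range Bc) = (B.map ι).rank := rfl
    have hle' : (B.map (red M)).rank ≤ (B.map ι).rank := hle
    omega
  rw [hwk] at hlo hhi
  have hKc : m0 ≤ cc + 1 := hK0.trans hK
  have h1 : p * cc ≤ p * m0 := Nat.mul_le_mul_left p hc_le
  have h2 : p * m0 ≤ p * cc + p := by
    rw [← Nat.mul_succ]; exact Nat.mul_le_mul_left p hKc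
  have := hp.out.one_le
  constructor <;> · push_cast; omega

end Cfsg.Agent.Lib.Blocks
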