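import Cfsg.Agent.Lib.Blocks.PrimeOrderBound
import Cfsg.Agent.Lib.Blocks.Central

/-!
# Multiplicativity modulo `p` of a character on a self-centred subgroup of order `p`
-/

set_option autoImplicit false
set_option linter.unusedSectionVars false
set_option linter.unusedVariables false

namespace Cfsg.Agent.Lib.Blocks

open Cfsg Cfsg.Agent.Lib.Characters

universe u

variable {G : Type u} [Group G] [Fintype G] {M : Ideal AlgInt} [hMp : M.IsPrime] {p : ℕ}
  [hp : Fact p.Prime]

/-- A bi-invariant function summed over a free set of double cosets. -/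
theorem sum_free_doubleCoset (P : Subgroup G) (hP : Nat.card P = p) (F : G → ℂ)
    (hF : ∀ g, MemLocalRing M (F g)) (hinv : ∀ a ∈ P, ∀ b ∈ P, ∀ g, F (a * g * b) = F g) :
    ∀ s : Finset G, (∀ g ∈ s, ∀ a ∈ P, ∀ b ∈ P, a * g * b ∈ s) →
      (∀ g ∈ s, ∀ a ∈ P, ∀ b ∈ P, a * g * b = g → a = 1 ∧ b = 1) →
      MemLocalRing M ((∑ g ∈ s, F g) / ((p : ℂ) * p)) := by
  classical
  intro s
  induction s using Finset.strongInductionOn with
  | _ s ih =>
    intro hs hfree
    rcases s.eq_empty_or_nonempty with rfl | ⟨g, hg⟩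
    · simp [memLocalRing_zero]
    haveI := Fintype.ofFinite P
    set O : Finset G := Finset.univ.image fun ab : P × P => (ab.1 : G) * g * (ab.2 : G) with hO
    have hOs : O ⊆ s := by
      intro x hx
      obtain ⟨ab, -, rfl⟩ := Finset.mem_image.1 hx
      exact hs g hg _ ab.1.2 _ ab.2.2
    have hinj : Function.Injective fun ab : P × P => (ab.1 : G) * g * (ab.2 : G) := by
      rintro ⟨a, b⟩ ⟨a', b'⟩ h
      simp only at h
      have h1 : ((a'⁻¹ * a : P) : G) * g * ((b * b'⁻¹ : P) : G) = g := by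
        simp only [Subgroup.coe_mul, Subgroup.coe_inv]
        rw [show (a' : G)⁻¹ * (a : G) * g * ((b : G) * (b' : G)⁻¹) =
          (a' : G)⁻¹ * ((a : G) * g * (b : G)) * (b' : G)⁻¹ by group, h]
        group
      obtain ⟨ha, hb⟩ := hfree g hg _ (a'⁻¹ * a).2 _ (b * b'⁻¹).2 h1
      rw [OneMemClass.coe_eq_one, inv_mul_eq_one] at ha
      rw [OneMemClass.coe_eq_one, mul_inv_eq_one] at hb
      rw [ha, hb]
    have hgO : g ∈ O := Finset.mem_image.2 ⟨(1, 1), Finset.mem_univ _, by simp⟩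
    rw [← Finset.sum_sdiff hOs, add_div]
    refine memLocalRing_add (ih _ (Finset.sdiff_ssubset hOs ⟨g, hgO⟩) ?_
      fun x hx => hfree x (Finset.mem_sdiff.1 hx).1) ?_
    · intro x hx a ha b hb
      rw [Finset.mem_sdiff] at hx ⊢
      refine ⟨hs x hx.1 a ha b hb, fun hxO => hx.2 ?_⟩
      obtain ⟨ab, -, hab⟩ := Finset.mem_image.1 hxO
      refine Finset.mem_image.2 ⟨(⟨a, ha⟩⁻¹ * ab.1, ab.2 * ⟨b, hb⟩⁻¹), Finset.mem_univ _, ?_⟩
      simp only [Subgroup.coe_mul, Subgroup.coe_inv]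
      rw [show a⁻¹ * (ab.1 : G) * g * ((ab.2 : G) * b⁻¹) = a⁻¹ * ((ab.1 : G) * g * (ab.2 : G)) * b⁻¹ by
        group, hab]
      group
    · rw [hO, Finset.sum_image hinj.injOn, Finset.sum_congr rfl fun ab _ =>
        hinv _ ab.1.2 _ ab.2.2 g, Finset.sum_const, Finset.card_univ, Fintype.card_prod,
        ← Nat.card_eq_fintype_card, hP, nsmul_eq_mul, Nat.cast_mul]
      have hp0 : (p : ℂ) ≠ 0 := Nat.cast_ne_zero.2 hp.out.ne_zero
      rw [mul_div_cancel_left₀ _ (mul_ne_zero hp0 hp0)]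
      exact hF g

theorem card_normalizer_eq (P : Subgroup G) (hP : Nat.card P = p) (hsq : ¬ p ^ 2 ∣ Nat.card G) :
    ∃ m : ℕ, Nat.card (Subgroup.normalizer (P : Set G)) = p * m ∧ ¬ p ∣ m := by
  obtain ⟨m, hm⟩ : p ∣ Nat.card (Subgroup.normalizer (P : Set G)) :=
    hP ▸ Subgroup.card_dvd_of_le Subgroup.le_normalizer
  refine ⟨m, hm, fun hd => hsq ?_⟩
  refine Dvd.dvd.trans ?_ (Subgroup.card_subgroup_dvd_card (Subgroup.normalizer (P : Set G)))
  rw [hm, pow_two]
  exact mul_dvd_mul_left p hd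

/-- **The product congruence.** -/
theorem product_congr (hM : IsPModular p M) (P : Subgroup G) (hP : Nat.card P = p)
    (hsq : ¬ p ^ 2 ∣ Nat.card G) (χ : IrrCharacter G) (f h : G → ℂ)
    (hf : ∀ x, MemLocalRing M (f x)) (hh : ∀ x, MemLocalRing M (h x))
    (hfN : ∀ g ∈ Subgroup.normalizer (P : Set G), ∀ x, f (g * x * g⁻¹) = f x)
    (hfC : ∀ x, f x ≠ 0 → x ∈ Subgroup.centralizer (P : Set G))
    (hhC : ∀ x, h x ≠ 0 → x ∈ Subgroup.centralizer (P : Set G)) :
    MemLocalRing M ((∑ z, ∑ w, f z * h w * (χ : G → ℂ) (z * w) -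
      (Nat.card G : ℂ) / ((χ : G → ℂ) 1 * (Nat.card (Subgroup.normalizer (P : Set G)) : ℂ)) *
        (∑ z, f z * (χ : G → ℂ) z) * ∑ w, h w * (χ : G → ℂ) w) / p) := by
  classical
  set N := Subgroup.normalizer (P : Set G) with hN
  set X : G → ℂ := (χ : G → ℂ) with hX
  have hcl : IsClassFunction G X := IsCharacter.isClassFunction (irr_isCharacter χ)
  have hcm : ∀ a b : G, X (a * b) = X (b * a) := fun a b => classFunction_mul_comm hcl a b
  let F : G → ℂ := fun g => ∑ z, ∑ w, f z * h w * X (w * (g * z * g⁻¹))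
  have hF : ∀ g, MemLocalRing M (F g) := fun g => memLocalRing_sum _ fun z _ =>
    memLocalRing_sum _ fun w _ => memLocalRing_mul (memLocalRing_mul (hf z) (hh w))
      (memLocalRing_of_isIntegral' (isIntegral_char χ _))
  obtain ⟨m, hm, hpm⟩ := card_normalizer_eq P hP hsq
  have hcomm : ∀ x ∈ Subgroup.centralizer (P : Set G), ∀ a ∈ P, a * x = x * a := fun x hx a ha =>
    Subgroup.mem_centralizer_iff.1 hx a ha
  have hinv : ∀ a ∈ P, ∀ b ∈ P, ∀ g, F (a * g * b) = F g := by
    intro a ha b hb g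
    refine Finset.sum_congr rfl fun z _ => Finset.sum_congr rfl fun w _ => ?_
    by_cases hz : f z = 0
    · simp [hz]
    by_cases hw : h w = 0
    · simp [hw]
    congr 1
    have e1 : b * z * b⁻¹ = z := by rw [hcomm z (hfC z hz) b hb, mul_inv_cancel_right]
    rw [show a * g * b * z * (a * g * b)⁻¹ = a * (g * (b * z * b⁻¹) * g⁻¹) * a⁻¹ by group, e1,
      show w * (a * (g * z * g⁻¹) * a⁻¹) = (w * a) * (g * z * g⁻¹) * a⁻¹ by group,
      ← hcomm w (hhC w hw) a ha,
      show a * w * (g * z * g⁻¹) * a⁻¹ = a * (w * (g * z * g⁻¹)) * a⁻¹ by group]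
    exact hcl _ a
  have hFN : ∀ g ∈ N, F g = ∑ z, ∑ w, f z * h w * X (z * w) := by
    intro g hg
    refine Fintype.sum_equiv (MulAut.conj g).toEquiv _ _ fun z => ?_
    simp only [MulEquiv.toEquiv_eq_coe, EquivLike.coe_coe, MulAut.conj_apply]
    refine Finset.sum_congr rfl fun w _ => ?_
    rw [hfN g hg, hcm]
  -- split the sum
  have hout : MemLocalRing M ((∑ g ∈ Finset.univ.filter (fun g => g ∉ N), F g) / ((p : ℂ) * p)) := by
    refine sum_free_doubleCoset P hP F hF hinv _ ?_ ?_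
    · intro g hg a ha b hb
      simp only [Finset.mem_filter, Finset.mem_univ, true_and] at hg ⊢
      intro h'
      apply hg
      have := N.mul_mem (N.mul_mem (N.inv_mem (Subgroup.le_normalizer ha)) h')
        (N.inv_mem (Subgroup.le_normalizer hb))
      simpa [mul_assoc] using this
    · intro g hg a ha b hb hab
      simp only [Finset.mem_filter, Finset.mem_univ, true_and] at hg
      by_cases ha1 : a = 1
      · subst ha1
        rw [one_mul, mul_eq_left] at hab
        exact ⟨rfl, hab⟩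
      · refine absurd (mem_normalizer_of_conj_mem P hP hsq ha ha1 (g := g) ?_) hg
        have : g⁻¹ * a * g = b⁻¹ := by
          rw [eq_inv_iff_mul_eq_one]
          have h2 : g⁻¹ * a * g * b = g⁻¹ * (a * g * b) := by group
          rw [h2, hab, inv_mul_cancel]
        rw [this]
        exact Subgroup.le_normalizer (P.inv_mem hb)
  have htot : ∑ g, F g = (Nat.card G : ℂ) * (∑ z, f z * X z) * (∑ w, h w * X w) / X 1 := by
    simp only [F]
    rw [Finset.sum_comm]
    simp only [Finset.sum_comm (γ := G) (s := Finset.univ) (t := Finset.univ)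
      (f := fun g w => f _ * h w * X (w * (g * _ * g⁻¹))), ← Finset.mul_sum]
    simp only [hX, sum_char_mul_conj χ.2]
    rw [mul_assoc, Finset.sum_mul, Finset.mul_sum, Finset.sum_div]
    refine Finset.sum_congr rfl fun z _ => ?_
    rw [Finset.mul_sum, Finset.mul_sum, Finset.sum_div]
    exact Finset.sum_congr rfl fun w _ => by ring
  have hin : ∑ g ∈ Finset.univ.filter (fun g => g ∈ N), F g =
      ((p * m : ℕ) : ℂ) * ∑ z, ∑ w, f z * h w * X (z * w) := by
    rw [Finset.sum_congr rfl fun g hg => hFN g (Finset.mem_filter.1 hg).2, Finset.sum_const,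
      nsmul_eq_mul, ← hm, Nat.card_eq_fintype_card, Fintype.card_subtype]
  have hsum := Finset.sum_filter_add_sum_filter_not (s := Finset.univ) (p := fun g => g ∈ N) F
  rw [hin, htot] at hsum
  rw [show Nat.card (Subgroup.normalizer (P : Set G)) = p * m from hm]
  have hm0 : (m : ℂ) ≠ 0 := Nat.cast_ne_zero.2 fun h0 => hpm (by rw [h0]; exact dvd_zero p)
  have hp0 : (p : ℂ) ≠ 0 := Nat.cast_ne_zero.2 hp.out.ne_zero
  have hX0 : X 1 ≠ 0 := IsIrrCharacter.apply_one_ne_zero χ.2
  have key := memLocalRing_neg (memLocalRing_mul hout (memLocalRing_inv_natCast hM hpm))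
  convert key using 1
  rw [eq_comm, ← sub_eq_iff_eq_add'] at hsum
  rw [← hsum]
  push_cast
  field_simp
  ring

end Cfsg.Agent.Lib.Blocks
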