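import Cfsg.Agent.Lib.Blocks.SectionTheta
import Cfsg.Agent.Lib.Blocks.PrimeOrderProduct

/-!
# The product congruence for the sections with respect to a character of the regular part
-/

set_option autoImplicit false
set_option linter.unusedSectionVars false
set_option linter.unusedVariables false

namespace Cfsg.Agent.Lib.Blocks

open Cfsg Cfsg.Agent.Lib.Characters

universe u

variable {G : Type u} [Group G] [Fintype G] {M : Ideal AlgInt} [hMp : M.IsPrime] {p : ℕ}
  [hp : Fact p.Prime]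

/-- The function `u ^ a * y ↦ α a * θ y⁻¹ / |O|`, extended by zero. -/
noncomputable def sectionFn {O : Subgroup G} [Fintype O] (u : G) (α : ZMod p → ℂ) (θ : O → ℂ) (z : G) : ℂ :=
  open scoped Classical in
  ∑ a : ZMod p, ∑ y : O, if upow u a * (y : G) = z then (Nat.card O : ℂ)⁻¹ * (α a * θ y⁻¹) else 0

variable {P O : Subgroup G} {u : G} [Fintype O]

theorem sum_sectionFn_mul (α : ZMod p → ℂ) (θ : O → ℂ) (F : G → ℂ) :
    ∑ z, sectionFn u α θ z * F z =
      ∑ a : ZMod p, ∑ y : O, (Nat.card O : ℂ)⁻¹ * (α a * θ y⁻¹) * F (upow u a * (y : G)) := by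
  classical
  simp only [sectionFn, Finset.sum_mul]
  rw [Finset.sum_comm]
  refine Finset.sum_congr rfl fun a _ => ?_
  rw [Finset.sum_comm]
  refine Finset.sum_congr rfl fun y _ => ?_
  simp only [ite_mul, zero_mul, Finset.sum_ite_eq, Finset.mem_univ, if_true]

theorem sum_sectionFn_mul_char (α : ZMod p → ℂ) (θ : O → ℂ) (χ : IrrCharacter G) :
    ∑ z, sectionFn u α θ z * (χ : G → ℂ) z = ∑ a : ZMod p, α a * secCoeff u θ χ a := by
  rw [sum_sectionFn_mul]
  refine Finset.sum_congr rfl fun a _ => ?_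
  rw [secCoeff, Finset.mul_sum, Finset.mul_sum]
  exact Finset.sum_congr rfl fun y _ => by ring

namespace PrimeSplit

theorem sectionFn_mem (S : PrimeSplit p P O u) {α : ZMod p → ℂ} {θ : O → ℂ} {z : G}
    (hz : sectionFn u α θ z ≠ 0) : z ∈ Subgroup.centralizer (P : Set G) := by
  classical
  obtain ⟨a, -, ha⟩ := Finset.exists_ne_zero_of_sum_ne_zero hz
  obtain ⟨y, -, hy⟩ := Finset.exists_ne_zero_of_sum_ne_zero ha
  by_cases h : upow u a * (y : G) = z
  · exact h ▸ S.upow_mul_mem a y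
  · rw [if_neg h] at hy; exact absurd rfl hy

theorem memLocalRing_sectionFn (hM : IsPModular p M) (S : PrimeSplit p P O u) {α : ZMod p → ℂ}
    (hα : ∀ a, MemLocalRing M (α a)) (θ : IrrCharacter O) (z : G) :
    MemLocalRing M (sectionFn u α (θ : O → ℂ) z) := by
  classical
  refine memLocalRing_sum _ fun a _ => memLocalRing_sum _ fun y _ => ?_
  split_ifs
  · exact memLocalRing_mul (memLocalRing_inv_natCast hM S.not_dvd)
      (memLocalRing_mul (hα a) (memLocalRing_of_isIntegral' (isIntegral_char θ _)))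
  · exact memLocalRing_zero

theorem sectionFn_conj (S : PrimeSplit p P O u) {g : G} (hg : g ∈ Subgroup.normalizer (P : Set G))
    {h : ZMod p} (hh0 : h ≠ 0) (hh : ∀ i, g * upow u i * g⁻¹ = upow u (h * i)) (α : ZMod p → ℂ)
    (θ : O → ℂ) (hα : ∀ a, α (h * a) = α a)
    (hθ : ∀ y y' : O, (y' : G) = g * y * g⁻¹ → θ y' = θ y) (z : G) :
    sectionFn u α θ (g * z * g⁻¹) = sectionFn u α θ z := by
  classical
  refine (Fintype.sum_equiv (Equiv.mulLeft₀ h hh0) _ _ fun a => ?_).symm
  refine Fintype.sum_equiv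
    { toFun := fun y : O => (⟨g * (y : G) * g⁻¹, S.normal g hg y y.2⟩ : O)
      invFun := fun y : O => (⟨g⁻¹ * (y : G) * g, by
        simpa using S.normal g⁻¹ ((Subgroup.normalizer (P : Set G)).inv_mem hg) y y.2⟩ : O)
      left_inv := fun y => Subtype.ext (by simp [mul_assoc])
      right_inv := fun y => Subtype.ext (by simp [mul_assoc]) } _ _ fun y => ?_
  show (if upow u a * (y : G) = z then (Nat.card O : ℂ)⁻¹ * (α a * θ y⁻¹) else 0) =
    if upow u (h * a) * (g * (y : G) * g⁻¹) = g * z * g⁻¹ then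
      (Nat.card O : ℂ)⁻¹ * (α (h * a) * θ (⟨g * (y : G) * g⁻¹, _⟩ : O)⁻¹) else 0
  rw [hα, hθ y⁻¹ (⟨g * (y : G) * g⁻¹, S.normal g hg y y.2⟩ : O)⁻¹ (by simp [mul_assoc]), ← hh,
    show g * upow u a * g⁻¹ * (g * (y : G) * g⁻¹) = g * (upow u a * y) * g⁻¹ by group]
  exact if_congr (by simp) rfl rfl

/-- **The product congruence** for the sections. -/
theorem section_product_congr (hM : IsPModular p M) (S : PrimeSplit p P O u) (θ : IrrCharacter O)
    {t : G} {n e : ℕ} (hn : 0 < n) (he : 0 < e) (htN : t ∈ Subgroup.normalizer (P : Set G))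
    (hgen : ∀ g ∈ Subgroup.normalizer (P : Set G), ∃ i : ℕ,
      (t ^ i)⁻¹ * g ∈ Subgroup.centralizer (P : Set G))
    (hdvd : ∀ i : ℕ, t ^ i ∈ thetaStab P O S.normal (θ : O → ℂ) ↔ n ∣ i)
    (hCT : Subgroup.centralizer (P : Set G) ≤ thetaStab P O S.normal (θ : O → ℂ))
    (hTH : ∀ g ∈ thetaStab P O S.normal (θ : O → ℂ), ∃ h : ZMod p, h ^ e = 1 ∧
      ∀ i, g * upow u i * g⁻¹ = upow u (h * i))
    (χ : IrrCharacter G) (α β : ZMod p → ℂ) (hα : ∀ a, MemLocalRing M (α a))
    (hβ : ∀ a, MemLocalRing M (β a)) (hαH : ∀ h a : ZMod p, h ^ e = 1 → α (h * a) = α a) :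
    MemLocalRing M ((∑ a, ∑ b, α a * β b * secCoeff u (θ : O → ℂ) χ (a + b) -
      (Nat.card G : ℂ) / ((χ : G → ℂ) 1 * (Nat.card (Subgroup.normalizer (P : Set G)) : ℂ)) *
        ((n : ℂ) * (θ : O → ℂ) 1) * (∑ a, α a * secCoeff u (θ : O → ℂ) χ a) *
        ∑ b, β b * secCoeff u (θ : O → ℂ) χ b) / p) := by
  classical
  set T := thetaStab P O S.normal (θ : O → ℂ) with hT
  set X : G → ℂ := (χ : G → ℂ) with hX
  have hcl : IsClassFunction G X := irr_isClassFunction χ
  let f₀ : G → ℂ := sectionFn u α (θ : O → ℂ)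
  let f : G → ℂ := fun z => ∑ s ∈ Finset.range n, f₀ (t ^ s * z * (t ^ s)⁻¹)
  let h : G → ℂ := sectionFn u β (θ : O → ℂ)
  have hf₀T : ∀ g ∈ T, ∀ z, f₀ (g * z * g⁻¹) = f₀ z := by
    intro g hg z
    obtain ⟨k, hk, hk'⟩ := hTH g hg
    have hk0 : k ≠ 0 := fun h0 => by rw [h0, zero_pow he.ne'] at hk; exact zero_ne_one hk
    exact S.sectionFn_conj hg.1 hk0 hk' α (θ : O → ℂ) (fun a => hαH k a hk) hg.2 z
  have htP : ∀ s : ℕ, t ^ s ∈ Subgroup.normalizer (P : Set G) := fun s =>
    (Subgroup.normalizer (P : Set G)).pow_mem htN s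
  have hCN : ∀ g ∈ Subgroup.normalizer (P : Set G), ∀ c ∈ Subgroup.centralizer (P : Set G),
      g * c * g⁻¹ ∈ Subgroup.centralizer (P : Set G) := by
    intro g hg c hc
    rw [Subgroup.mem_centralizer_iff]
    intro a ha
    have h2 : g⁻¹ * a * g ∈ P := by
      have := ((Subgroup.mem_normalizer_iff.1 ((Subgroup.normalizer (P : Set G)).inv_mem hg)) a).1 ha
      rwa [inv_inv] at this
    have h3 := Subgroup.mem_centralizer_iff.1 hc _ h2
    calc a * (g * c * g⁻¹) = g * ((g⁻¹ * a * g) * c) * g⁻¹ := by group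
      _ = g * (c * (g⁻¹ * a * g)) * g⁻¹ := by rw [h3]
      _ = g * c * g⁻¹ * a := by group
  have hfC : ∀ c ∈ Subgroup.centralizer (P : Set G), ∀ z, f (c * z * c⁻¹) = f z := by
    intro c hc z
    refine Finset.sum_congr rfl fun s _ => ?_
    rw [show t ^ s * (c * z * c⁻¹) * (t ^ s)⁻¹ =
      (t ^ s * c * (t ^ s)⁻¹) * (t ^ s * z * (t ^ s)⁻¹) * (t ^ s * c * (t ^ s)⁻¹)⁻¹ by group]
    exact hf₀T _ (hCT (hCN _ (htP s) c hc)) _
  have hft : ∀ z, f (t * z * t⁻¹) = f z := by
    intro z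
    have e1 : ∀ s : ℕ, t ^ s * (t * z * t⁻¹) * (t ^ s)⁻¹ = t ^ (s + 1) * z * (t ^ (s + 1))⁻¹ :=
      fun s => by rw [pow_succ]; group
    simp only [f, e1]
    apply add_right_cancel (b := f₀ (t ^ 0 * z * (t ^ 0)⁻¹))
    rw [← Finset.sum_range_succ' (fun s => f₀ (t ^ s * z * (t ^ s)⁻¹)), Finset.sum_range_succ,
      hf₀T _ ((hdvd n).2 dvd_rfl), pow_zero, inv_one, one_mul, mul_one]
  have hfN : ∀ g ∈ Subgroup.normalizer (P : Set G), ∀ z, f (g * z * g⁻¹) = f z := by
    intro g hg z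
    obtain ⟨i, hi⟩ := hgen g hg
    have hti : ∀ (j : ℕ) (w : G), f (t ^ j * w * (t ^ j)⁻¹) = f w := by
      intro j
      induction j with
      | zero => intro w; simp
      | succ j ih =>
        intro w
        rw [pow_succ', show t * t ^ j * w * (t * t ^ j)⁻¹ = t * (t ^ j * w * (t ^ j)⁻¹) * t⁻¹ by group,
          hft, ih]
    rw [show g * z * g⁻¹ = t ^ i * (((t ^ i)⁻¹ * g) * z * ((t ^ i)⁻¹ * g)⁻¹) * (t ^ i)⁻¹ by group, hti,
      hfC _ hi]
  have hfmem : ∀ z, f z ≠ 0 → z ∈ Subgroup.centralizer (P : Set G) := by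
    intro z hz
    obtain ⟨s, -, hs⟩ := Finset.exists_ne_zero_of_sum_ne_zero hz
    have := hCN _ ((Subgroup.normalizer (P : Set G)).inv_mem (htP s)) _ (S.sectionFn_mem hs)
    simpa [mul_assoc] using this
  have key := product_congr hM P S.card_P S.sq χ f h
    (fun z => memLocalRing_sum _ fun s _ => S.memLocalRing_sectionFn hM hα θ _)
    (fun z => S.memLocalRing_sectionFn hM hβ θ z) hfN hfmem (fun z hz => S.sectionFn_mem hz)
  -- the three sums
  have hshift : ∀ (s : ℕ) (F : G → ℂ), ∑ z, f₀ (t ^ s * z * (t ^ s)⁻¹) * F z =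
      ∑ z, f₀ z * F ((t ^ s)⁻¹ * z * t ^ s) := by
    intro s F
    refine Fintype.sum_equiv (MulAut.conj (t ^ s)).toEquiv _ _ fun z => ?_
    show _ = f₀ (t ^ s * z * (t ^ s)⁻¹) * F ((t ^ s)⁻¹ * (t ^ s * z * (t ^ s)⁻¹) * t ^ s)
    rw [show (t ^ s)⁻¹ * (t ^ s * z * (t ^ s)⁻¹) * t ^ s = z by group]
  have h1 : ∑ z, f z * X z = (n : ℂ) * ∑ a, α a * secCoeff u (θ : O → ℂ) χ a := by
    simp only [f, Finset.sum_mul]
    rw [Finset.sum_comm, Finset.sum_congr rfl fun s _ => by
      rw [hshift s X, Finset.sum_congr rfl fun z _ => by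
        rw [show X ((t ^ s)⁻¹ * z * t ^ s) = X z by
          have := hcl z (t ^ s)⁻¹; rwa [inv_inv] at this]]]
    rw [Finset.sum_const, Finset.card_range, nsmul_eq_mul, sum_sectionFn_mul_char]
  have h2 : ∑ w, h w * X w = ∑ b, β b * secCoeff u (θ : O → ℂ) χ b := sum_sectionFn_mul_char _ _ _
  have hθ1 : (θ : O → ℂ) 1 ≠ 0 := IsIrrCharacter.apply_one_ne_zero θ.2
  have hO0 : (Nat.card O : ℂ) ≠ 0 := Nat.cast_ne_zero.2 Nat.card_pos.ne'
  have h3 : ∑ z, ∑ w, f z * h w * X (z * w) =
      ((θ : O → ℂ) 1)⁻¹ * ∑ a, ∑ b, α a * β b * secCoeff u (θ : O → ℂ) χ (a + b) := by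
    rw [Finset.sum_congr rfl fun z _ => show ∑ w, f z * h w * X (z * w) =
      ∑ s ∈ Finset.range n, f₀ (t ^ s * z * (t ^ s)⁻¹) * ∑ w, h w * X (z * w) by
        rw [← Finset.sum_mul, Finset.mul_sum]; simp only [f, mul_assoc],
      Finset.sum_comm, Finset.sum_eq_single_of_mem 0 (Finset.mem_range.2 hn)]
    · simp only [pow_zero, inv_one, one_mul, mul_one]
      rw [sum_sectionFn_mul, Finset.mul_sum]
      refine Finset.sum_congr rfl fun a _ => ?_
      simp only [h, sum_sectionFn_mul, Finset.mul_sum]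
      rw [Finset.sum_comm]
      refine Finset.sum_congr rfl fun b _ => ?_
      rw [secCoeff]
      have hconv : ∀ z : O, ∑ y : O, (θ : O → ℂ) y⁻¹ * (θ : O → ℂ) (z⁻¹ * y) =
          (Nat.card O : ℂ) / (θ : O → ℂ) 1 * (θ : O → ℂ) z⁻¹ := by
        intro z
        have hc := IsIrrCharacter.sum_mul_convolution θ.2 θ.2 z⁻¹
        rw [if_pos rfl] at hc
        rw [← hc]
        refine Fintype.sum_equiv (Equiv.inv O) _ _ fun y => ?_
        rw [Equiv.inv_apply, inv_inv, classFunction_mul_comm (irr_isClassFunction θ)]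
      calc ∑ y : O, ∑ y' : O, (Nat.card O : ℂ)⁻¹ * (α a * (θ : O → ℂ) y⁻¹) *
            ((Nat.card O : ℂ)⁻¹ * (β b * (θ : O → ℂ) y'⁻¹) *
              X (upow u a * (y : G) * (upow u b * (y' : G))))
          = (Nat.card O : ℂ)⁻¹ * (Nat.card O : ℂ)⁻¹ * (α a * β b) *
              ∑ z : O, (∑ y : O, (θ : O → ℂ) y⁻¹ * (θ : O → ℂ) (z⁻¹ * y)) *
                X (upow u (a + b) * (z : G)) := by
            simp only [Finset.sum_mul, Finset.mul_sum]
            rw [Finset.sum_comm (s := Finset.univ) (t := Finset.univ) (f := fun (z : O) (y : O) =>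
              (Nat.card O : ℂ)⁻¹ * (Nat.card O : ℂ)⁻¹ * (α a * β b) *
                ((θ : O → ℂ) y⁻¹ * (θ : O → ℂ) (z⁻¹ * y) * X (upow u (a + b) * (z : G))))]
            refine Finset.sum_congr rfl fun y _ => ?_
            refine Fintype.sum_equiv (Equiv.mulLeft y) _ _ fun y' => ?_
            rw [Equiv.coe_mulLeft, _root_.mul_inv_rev, inv_mul_cancel_right, Subgroup.coe_mul,
              show upow u a * (y : G) * (upow u b * (y' : G)) =
                upow u (a + b) * ((y : G) * y') by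
              rw [upow_add S.pow_u, mul_assoc (upow u a) (upow u b), ← mul_assoc (upow u b) (y : G),
                (S.comm b y).eq]; simp only [mul_assoc]]
            ring
        _ = _ := by
            simp only [hconv, Finset.mul_sum, hX]
            refine Finset.sum_congr rfl fun z _ => ?_
            field_simp
    · intro s hs hs0
      rw [hshift s fun z => ∑ w, h w * X (z * w)]
      have hsN := htP s
      have hsn : ¬ n ∣ s := fun hd => by
        have := Nat.eq_zero_of_dvd_of_lt hd (Finset.mem_range.1 hs); exact hs0 this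
      let cs : O ≃* O :=
        { toFun := fun y => ⟨t ^ s * (y : G) * (t ^ s)⁻¹, S.normal _ hsN y y.2⟩
          invFun := fun y => ⟨(t ^ s)⁻¹ * (y : G) * t ^ s, by
            simpa using S.normal _ ((Subgroup.normalizer (P : Set G)).inv_mem hsN) y y.2⟩
          left_inv := fun y => Subtype.ext (by simp [mul_assoc])
          right_inv := fun y => Subtype.ext (by simp [mul_assoc])
          map_mul' := fun a b => Subtype.ext (by simp [mul_assoc]) }
      let φ : IrrCharacter O := ⟨(θ : O → ℂ) ∘ cs, IsIrrCharacter.comp_equiv θ.2 cs⟩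
      have hne : (φ : O → ℂ) ≠ (θ : O → ℂ) := fun he' => hsn ((hdvd s).1 ⟨hsN, fun y y' hy => by
        rw [show y' = cs y from Subtype.ext hy]
        exact congrFun he' y⟩)
      rw [sum_sectionFn_mul]
      refine Finset.sum_eq_zero fun a _ => ?_
      obtain ⟨a', ha'⟩ : ∃ a' : ZMod p, upow u a' = (t ^ s)⁻¹ * upow u a * t ^ s := by
        refine exists_upow_eq S.card_P S.mem S.ne_one ?_
        have := ((Subgroup.mem_normalizer_iff.1 ((Subgroup.normalizer (P : Set G)).inv_mem hsN))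
          (upow u a)).1 (upow_mem S.mem a)
        rwa [inv_inv] at this
      simp only [h, sum_sectionFn_mul, Finset.mul_sum]
      rw [Finset.sum_comm]
      refine Finset.sum_eq_zero fun b _ => ?_
      calc ∑ y : O, ∑ y' : O, (Nat.card O : ℂ)⁻¹ * (α a * (θ : O → ℂ) y⁻¹) *
            ((Nat.card O : ℂ)⁻¹ * (β b * (θ : O → ℂ) y'⁻¹) *
              X ((t ^ s)⁻¹ * (upow u a * (y : G)) * t ^ s * (upow u b * (y' : G))))
          = (Nat.card O : ℂ)⁻¹ * (Nat.card O : ℂ)⁻¹ * (α a * β b) *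
              ∑ z : O, (∑ y : O, (φ : O → ℂ) y⁻¹ * (θ : O → ℂ) (z⁻¹ * y)) *
                X (upow u (a' + b) * (z : G)) := by
            simp only [Finset.sum_mul, Finset.mul_sum]
            rw [Finset.sum_comm (s := Finset.univ) (t := Finset.univ) (f := fun (z : O) (y : O) =>
              (Nat.card O : ℂ)⁻¹ * (Nat.card O : ℂ)⁻¹ * (α a * β b) *
                ((φ : O → ℂ) y⁻¹ * (θ : O → ℂ) (z⁻¹ * y) * X (upow u (a' + b) * (z : G))))]
            refine Fintype.sum_equiv cs.symm.toEquiv _ _ fun y => ?_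
            refine Fintype.sum_equiv (Equiv.mulLeft (cs.symm y)) _ _ fun y' => ?_
            rw [MulEquiv.toEquiv_eq_coe, EquivLike.coe_coe, Equiv.coe_mulLeft, _root_.mul_inv_rev,
              inv_mul_cancel_right,
              show (φ : O → ℂ) (cs.symm y)⁻¹ = (θ : O → ℂ) y⁻¹ by
                show (θ : O → ℂ) (cs (cs.symm y)⁻¹) = _
                rw [map_inv cs, MulEquiv.apply_symm_apply],
              show ((cs.symm y * y' : O) : G) = (t ^ s)⁻¹ * (y : G) * t ^ s * y' from rfl,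
              show (t ^ s)⁻¹ * (upow u a * (y : G)) * t ^ s * (upow u b * (y' : G)) =
                upow u (a' + b) * ((t ^ s)⁻¹ * (y : G) * t ^ s * y') by
              rw [upow_add S.pow_u, show (t ^ s)⁻¹ * (upow u a * (y : G)) * t ^ s =
                upow u a' * ((cs.symm y : O) : G) by
                  rw [ha']
                  show _ = _ * ((t ^ s)⁻¹ * (y : G) * t ^ s)
                  group,
                mul_assoc (upow u a') (upow u b),
                show ((t ^ s)⁻¹ * (y : G) * t ^ s * y') = ((cs.symm y : O) : G) * y' from rfl,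
                ← mul_assoc (upow u b) ((cs.symm y : O) : G), (S.comm b (cs.symm y)).eq]
              simp only [mul_assoc]]
            ring
        _ = 0 := by
            rw [Finset.sum_eq_zero fun z _ => ?_, mul_zero]
            have hc := IsIrrCharacter.sum_mul_convolution φ.2 θ.2 z⁻¹
            rw [if_neg hne] at hc
            rw [show (∑ y : O, (φ : O → ℂ) y⁻¹ * (θ : O → ℂ) (z⁻¹ * y)) = 0 by
              rw [← hc]
              refine Fintype.sum_equiv (Equiv.inv O) _ _ fun y => ?_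
              rw [Equiv.inv_apply, inv_inv, classFunction_mul_comm (irr_isClassFunction θ)], zero_mul]
  rw [h1, h2, h3] at key
  have key2 := memLocalRing_mul
    (memLocalRing_of_isIntegral' (M := M) (isIntegral_char θ 1)) key
  convert key2 using 1
  simp only [hX]
  field_simp

end PrimeSplit

end Cfsg.Agent.Lib.Blocks
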