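import Cfsg.Agent.Lib.Blocks.SectionVanish
import Cfsg.Agent.Lib.Blocks.SectionProduct
import Cfsg.Agent.Lib.Blocks.NoShiftGen
import Cfsg.Agent.Lib.Blocks.SectionBoundTheta
import Cfsg.Agent.Lib.Blocks.PrimeOrderPrincipal

/-!
# Blocks with a defect group of order `p`
-/

set_option autoImplicit false
set_option linter.unusedSectionVars false
set_option linter.unusedVariables false
set_option maxHeartbeats 1600000

namespace Cfsg.Agent.Lib.Blocks

open Cfsg Cfsg.Agent.Lib.Characters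
open scoped ComplexConjugate

universe u

variable {G : Type u} [Group G] [Fintype G] {M : Ideal AlgInt} [hMp : M.IsPrime] {p : ℕ}
  [hp : Fact p.Prime] {P O : Subgroup G} {u : G}

/-- An integer bounded by the sum and square bounds is a sign. -/
theorem hpm_of_bounds {e : ℕ} (hp1 : 1 < p) (he : e ≤ p - 1) {d : ℤ} (h0 : d ≠ 0)
    (hlo : -((p : ℤ) - 1) ≤ ((p : ℤ) - 1) * d) (hhi : ((p : ℤ) - 1) * d ≤ p)
    (hsq : d * d ≤ (e : ℤ) + 1) : d = 1 ∨ d = -1 := by
  rcases (show p = 2 ∨ 3 ≤ p by omega) with h | h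
  · have h1 : d * d ≤ 2 := by omega
    have h2 : d ≤ 1 := by nlinarith
    have h3 : -1 ≤ d := by nlinarith
    omega
  · have hp3' : (3 : ℤ) ≤ p := by exact_mod_cast h
    have hu' : d ≤ 1 := by nlinarith
    have hl' : -1 ≤ d := by nlinarith
    omega

/-- Conjugation of powers of `u` by powers of `t`. -/
theorem conj_upow_pow (hup : u ^ p = 1) {t : G} {r : ℕ} (htu : t * u * t⁻¹ = u ^ r) :
    ∀ (s : ℕ) (i : ZMod p), t ^ s * upow u i * (t ^ s)⁻¹ = upow u ((r : ZMod p) ^ s * i) := by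
  intro s
  induction s with
  | zero => intro i; simp
  | succ s ih =>
    intro i
    rw [pow_succ, show t ^ s * t * upow u i * (t ^ s * t)⁻¹ = t ^ s * (t * upow u i * t⁻¹) * (t ^ s)⁻¹
      by group, show t * upow u i * t⁻¹ = upow u ((r : ZMod p) * i) by
        rw [upow, ← conj_pow, htu, ← pow_mul, mul_comm r, pow_mul, upow_mul_natCast hup]
        rfl, ih, pow_succ, mul_assoc]

namespace PrimeSplit

/-- The data of a character `θ` of the regular part of the centralizer: its stabilizer in the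
normalizer of `P`. -/
structure StabData (S : PrimeSplit p P O u) (θ : IrrCharacter O) (t : G) (r n e : ℕ) : Prop where
  n_pos : 0 < n
  e_pos : 0 < e
  t_mem : t ∈ Subgroup.normalizer (P : Set G)
  conj_u : t * u * t⁻¹ = u ^ r
  prim : IsPrimitiveRoot (r : ZMod p) (n * e)
  gen : ∀ g ∈ Subgroup.normalizer (P : Set G), ∃ i : ℕ,
    (t ^ i)⁻¹ * g ∈ Subgroup.centralizer (P : Set G)
  dvd : ∀ i : ℕ, t ^ i ∈ thetaStab P O S.normal (θ : O → ℂ) ↔ n ∣ i
  le : Subgroup.centralizer (P : Set G) ≤ thetaStab P O S.normal (θ : O → ℂ)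
  relIndex_N : (Subgroup.centralizer (P : Set G)).relIndex (Subgroup.normalizer (P : Set G)) = n * e
  relIndex_T : (Subgroup.centralizer (P : Set G)).relIndex (thetaStab P O S.normal (θ : O → ℂ)) = e

theorem exists_stabData (S : PrimeSplit p P O u) (θ : IrrCharacter O) :
    ∃ (t : G) (r n e : ℕ), S.StabData θ t r n e := by
  obtain ⟨t, r, n, e, h1, h2, h3, -, h4, h5, -, h6, h7, h8, h9, h10⟩ :=
    exists_stabilizer_generator P S.card_P S.sq S.mem S.ne_one O S.le_centralizer S.dec S.normal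
      (θ : O → ℂ) (irr_isClassFunction θ)
  exact ⟨t, r, n, e, h1, h2, h3, h4, h5, h6, h7, h8, h9, h10⟩

variable {S : PrimeSplit p P O u} {θ : IrrCharacter O} {t : G} {r n e : ℕ}

theorem StabData.prim_e (D : S.StabData θ t r n e) : IsPrimitiveRoot ((r : ZMod p) ^ n) e :=
  D.prim.pow (Nat.mul_pos D.n_pos D.e_pos) rfl

theorem StabData.e_dvd (D : S.StabData θ t r n e) : e ∣ p - 1 :=
  D.prim_e.dvd_of_pow_eq_one _
    (ZMod.pow_card_sub_one_eq_one (D.prim_e.ne_zero D.e_pos.ne'))

theorem StabData.conj_pow (D : S.StabData θ t r n e) (s : ℕ) (i : ZMod p) :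
    t ^ s * upow u i * (t ^ s)⁻¹ = upow u ((r : ZMod p) ^ s * i) :=
  conj_upow_pow S.pow_u D.conj_u s i

theorem StabData.exists_scalar (D : S.StabData θ t r n e) {g : G}
    (hg : g ∈ thetaStab P O S.normal (θ : O → ℂ)) : ∃ h : ZMod p, h ^ e = 1 ∧
      ∀ i, g * upow u i * g⁻¹ = upow u (h * i) := by
  obtain ⟨k, hk⟩ := D.gen g hg.1
  have hkT : t ^ k ∈ thetaStab P O S.normal (θ : O → ℂ) := by
    have := (thetaStab P O S.normal (θ : O → ℂ)).mul_mem hg
      ((thetaStab P O S.normal (θ : O → ℂ)).inv_mem (D.le hk))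
    simpa [mul_assoc] using this
  obtain ⟨q, rfl⟩ := (D.dvd k).1 hkT
  refine ⟨((r : ZMod p) ^ n) ^ q, by rw [← pow_mul, mul_comm, pow_mul, D.prim_e.pow_eq_one, one_pow],
    fun i => ?_⟩
  rw [← pow_mul, ← D.conj_pow]
  have hc : ((t ^ (n * q))⁻¹ * g) * upow u i * ((t ^ (n * q))⁻¹ * g)⁻¹ = upow u i := by
    rw [← Subgroup.mem_centralizer_iff.1 hk _ (upow_mem S.mem i), mul_inv_cancel_right]
  conv_rhs => rw [← hc]
  group

/-- Every conjugate of `θ` under the normalizer is the conjugate by a power of `t`. -/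
theorem StabData.exists_orbit (D : S.StabData θ t r n e) {g : G}
    (hg : g ∈ Subgroup.normalizer (P : Set G)) :
    ∃ s < n, ∀ y : O, (θ : O → ℂ) ⟨g * (y : G) * g⁻¹, S.normal g hg y y.2⟩ =
      (θ : O → ℂ) ⟨t ^ s * (y : G) * (t ^ s)⁻¹,
        S.normal _ ((Subgroup.normalizer (P : Set G)).pow_mem D.t_mem s) y y.2⟩ := by
  obtain ⟨i, hi⟩ := D.gen g hg
  refine ⟨i % n, Nat.mod_lt _ D.n_pos, fun y => ?_⟩
  have hts := (Subgroup.normalizer (P : Set G)).pow_mem D.t_mem (i % n)
  have hw : g * (t ^ (i % n))⁻¹ ∈ thetaStab P O S.normal (θ : O → ℂ) := by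
    have hti := (Subgroup.normalizer (P : Set G)).pow_mem D.t_mem i
    have e1 : g * (t ^ (i % n))⁻¹ =
        (t ^ i * ((t ^ i)⁻¹ * g) * (t ^ i)⁻¹) * t ^ (n * (i / n)) := by
      have e2 : t ^ i = t ^ (n * (i / n)) * t ^ (i % n) := by rw [← pow_add, Nat.div_add_mod]
      rw [e2]; group
    rw [e1]
    refine mul_mem (D.le ?_) ((D.dvd _).2 (dvd_mul_right _ _))
    rw [Subgroup.mem_centralizer_iff]
    intro a ha
    have h2 : (t ^ i)⁻¹ * a * t ^ i ∈ P := by
      have := ((Subgroup.mem_normalizer_iff.1 ((Subgroup.normalizer (P : Set G)).inv_mem hti)) a).1 ha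
      rwa [inv_inv] at this
    have h3 := Subgroup.mem_centralizer_iff.1 hi _ h2
    calc a * (t ^ i * ((t ^ i)⁻¹ * g) * (t ^ i)⁻¹) =
        t ^ i * (((t ^ i)⁻¹ * a * t ^ i) * ((t ^ i)⁻¹ * g)) * (t ^ i)⁻¹ := by group
      _ = t ^ i * (((t ^ i)⁻¹ * g) * ((t ^ i)⁻¹ * a * t ^ i)) * (t ^ i)⁻¹ := by rw [h3]
      _ = t ^ i * ((t ^ i)⁻¹ * g) * (t ^ i)⁻¹ * a := by group
  exact hw.2 ⟨t ^ (i % n) * (y : G) * (t ^ (i % n))⁻¹, S.normal _ hts y y.2⟩
    ⟨g * (y : G) * g⁻¹, S.normal g hg y y.2⟩ (by simp [mul_assoc])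

/-- `θ` conjugated by `t ^ s`. -/
noncomputable def StabData.conjTheta (D : S.StabData θ t r n e) (s : ℕ) : IrrCharacter O :=
  ⟨fun y => (θ : O → ℂ) ⟨t ^ s * (y : G) * (t ^ s)⁻¹,
      S.normal _ ((Subgroup.normalizer (P : Set G)).pow_mem D.t_mem s) y y.2⟩,
    IsIrrCharacter.comp_equiv θ.2
      { toFun := fun y : O => (⟨t ^ s * (y : G) * (t ^ s)⁻¹,
          S.normal _ ((Subgroup.normalizer (P : Set G)).pow_mem D.t_mem s) y y.2⟩ : O)
        invFun := fun y : O => (⟨(t ^ s)⁻¹ * (y : G) * t ^ s, by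
          simpa using S.normal _ ((Subgroup.normalizer (P : Set G)).inv_mem
            ((Subgroup.normalizer (P : Set G)).pow_mem D.t_mem s)) y y.2⟩ : O)
        left_inv := fun y => Subtype.ext (by simp [mul_assoc])
        right_inv := fun y => Subtype.ext (by simp [mul_assoc])
        map_mul' := fun a b => Subtype.ext (by simp [mul_assoc]) }⟩

variable [Fintype O]

theorem StabData.conjTheta_injOn (D : S.StabData θ t r n e) :
    Set.InjOn D.conjTheta (Finset.range n) := by
  have key : ∀ a b : ℕ, a ≤ b → D.conjTheta a = D.conjTheta b → n ∣ b - a := by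
    intro a b h hab
    refine (D.dvd _).1 ⟨(Subgroup.normalizer (P : Set G)).pow_mem D.t_mem _, fun y y' hy => ?_⟩
    have hz : (t ^ a)⁻¹ * (y : G) * t ^ a ∈ O := by
      simpa using S.normal _ ((Subgroup.normalizer (P : Set G)).inv_mem
        ((Subgroup.normalizer (P : Set G)).pow_mem D.t_mem a)) y y.2
    have h1 : (D.conjTheta a : O → ℂ) ⟨_, hz⟩ = (D.conjTheta b : O → ℂ) ⟨_, hz⟩ := by rw [hab]
    refine ((congrArg (θ : O → ℂ) (Subtype.ext ?_)).trans h1.symm).trans
      (congrArg (θ : O → ℂ) (Subtype.ext ?_))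
    · rw [hy]
      show t ^ (b - a) * (y : G) * (t ^ (b - a))⁻¹ = t ^ b * ((t ^ a)⁻¹ * (y : G) * t ^ a) * (t ^ b)⁻¹
      rw [pow_sub t h]
      group
    · show t ^ a * ((t ^ a)⁻¹ * (y : G) * t ^ a) * (t ^ a)⁻¹ = (y : G)
      group
  intro a ha b hb hab
  simp only [Finset.coe_range, Set.mem_Iio] at ha hb
  rcases le_total a b with h | h
  · have := Nat.eq_zero_of_dvd_of_lt (key a b h hab) (by omega)
    omega
  · have := Nat.eq_zero_of_dvd_of_lt (key b a h hab.symm) (by omega)
    omega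

/-- A section of a character of the block as a sum over the conjugates of `θ`. -/
theorem StabData.section_eq (D : S.StabData θ t r n e) {χ : IrrCharacter G}
    (hin : ∀ η : IrrCharacter O, (∀ (g : G) (hg : g ∈ Subgroup.normalizer (P : Set G)),
        ∃ y : O, (η : O → ℂ) y ≠ (θ : O → ℂ) ⟨g * (y : G) * g⁻¹, S.normal g hg y y.2⟩) →
      ∀ i : ZMod p, i ≠ 0 → secCoeff u (η : O → ℂ) χ i = 0)
    {i : ZMod p} (hi : i ≠ 0) (y : O) :
    (χ : G → ℂ) (upow u i * (y : G)) = ∑ s ∈ Finset.range n,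
      secCoeff u (θ : O → ℂ) χ ((r : ZMod p) ^ s * i) * (D.conjTheta s : O → ℂ) y := by
  classical
  haveI := Fintype.ofFinite (IrrCharacter O)
  rw [S.section_eq_sum χ i y, ← Finset.sum_subset
    (Finset.subset_univ ((Finset.range n).image D.conjTheta))]
  · rw [Finset.sum_image D.conjTheta_injOn]
    refine Finset.sum_congr rfl fun s _ => ?_
    congr 1
    exact S.secCoeff_conj ((Subgroup.normalizer (P : Set G)).pow_mem D.t_mem s) (D.conj_pow s i) _ χ
  · intro η _ hη
    rw [hin η (fun g hg => ?_) i hi, zero_mul]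
    by_contra hcon
    push Not at hcon
    obtain ⟨s, hs, hgs⟩ := D.exists_orbit hg
    exact hη (Finset.mem_image.2 ⟨s, Finset.mem_range.2 hs,
      Subtype.ext (funext fun y => ((hcon y).trans (hgs y)).symm)⟩)

/-- **A block with a defect group of order `p`**, in terms of its sections. -/
theorem StabData.defect_one (hM : IsPModular p M) (D : S.StabData θ t r n e)
    {Bs : Set (IrrCharacter G)} (hBs : IsPBlock M Bs)
    (hout : ∀ χ ∉ Bs, ∀ i : ZMod p, i ≠ 0 → secCoeff u (θ : O → ℂ) χ i = 0)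
    (hin : ∀ χ ∈ Bs, ∀ η : IrrCharacter O, (∀ (g : G) (hg : g ∈ Subgroup.normalizer (P : Set G)),
        ∃ y : O, (η : O → ℂ) y ≠ (θ : O → ℂ) ⟨g * (y : G) * g⁻¹, S.normal g hg y y.2⟩) →
      ∀ i : ZMod p, i ≠ 0 → secCoeff u (η : O → ℂ) χ i = 0) :
    ∃ (SX SY : Finset (IrrCharacter G)) (dX : IrrCharacter G → ℤ) (ε : ℤ)
      (Y : {j : ZMod p // j ≠ 0} → IrrCharacter G),
      (∀ χ, χ ∈ Bs ↔ χ ∈ SX ∨ χ ∈ SY) ∧ Disjoint SX SY ∧ SX.card = e ∧ SY.card = (p - 1) / e ∧
      (∀ χ, χ ∈ SY ↔ ∃ i, Y i = χ) ∧ (ε = 1 ∨ ε = -1) ∧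
      (∀ i j, Y i = Y j ↔ ((j : ZMod p) * (i : ZMod p)⁻¹) ^ e = 1) ∧
      (∀ χ ∈ SX, (dX χ = 1 ∨ dX χ = -1) ∧
        (∀ i : ZMod p, i ≠ 0 → secCoeff u (θ : O → ℂ) χ i = (dX χ : ℂ)) ∧
        (charDegree (χ : G → ℂ) : ℤ) ≡
          dX χ * ((n * charDegree (θ : O → ℂ) : ℕ) : ℤ) [ZMOD p]) ∧
      (∀ (k : {j : ZMod p // j ≠ 0}) (i : ZMod p), i ≠ 0 → secCoeff u (θ : O → ℂ) (Y k) i =
        (ε : ℂ) * ∑ j ∈ Finset.univ.filter (fun j : ZMod p => (j * (k : ZMod p)⁻¹) ^ e = 1),
          ZMod.stdAddChar (i * j)) ∧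
      (∀ k, (charDegree (Y k : G → ℂ) : ℤ) ≡
        ε * ((n * e * charDegree (θ : O → ℂ) : ℕ) : ℤ) [ZMOD p]) ∧
      (∀ (k : {j : ZMod p // j ≠ 0}) (g : G), ¬ p ∣ orderOf g →
        (ε : ℂ) * (Y k : G → ℂ) g = ∑ χ ∈ SX, (dX χ : ℂ) * (χ : G → ℂ) g) ∧
      ∀ χ ∈ Bs, ∃ i : ZMod p, i ≠ 0 ∧ secCoeff u (θ : O → ℂ) χ i ≠ 0 := by
  classical
  haveI := Fintype.ofFinite (IrrCharacter G)
  have hepos : 0 < e := D.e_pos
  haveI : NeZero e := ⟨hepos.ne'⟩
  have hp1 : 1 < p := hp.out.one_lt
  have hp0 : (p : ℂ) ≠ 0 := Nat.cast_ne_zero.2 hp.out.ne_zero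
  have hordu : orderOf u = p := S.orderOf_u
  have hup : u ^ p = 1 := S.pow_u
  have hprim := D.prim_e
  have hedvd : e ∣ p - 1 := D.e_dvd
  have hele : e ≤ p - 1 := Nat.le_of_dvd (by omega) hedvd
  set ψ := ZMod.stdAddChar (N := p) with hψ
  let c : IrrCharacter G → ZMod p → ℂ := fun χ i => secCoeff u (θ : O → ℂ) χ i
  choose m hm using fun χ : IrrCharacter G => S.exists_secMult_nat θ χ
  replace hm : ∀ χ j, (m χ j : ℂ) = (p : ℂ)⁻¹ * ∑ i, c χ i * ψ (-(i * j)) := hm
  have hval : ∀ χ i, c χ i = ∑ j, (m χ j : ℂ) * ψ (i * j) := by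
    intro χ i
    simp only [hm, Finset.mul_sum, Finset.sum_mul]
    rw [Finset.sum_comm, Finset.sum_eq_single i]
    · rw [Finset.sum_congr rfl fun j _ => show (p : ℂ)⁻¹ * (c χ i * ψ (-(i * j))) * ψ (i * j) =
        (p : ℂ)⁻¹ * c χ i by
        rw [mul_assoc, mul_assoc, ← AddChar.map_add_eq_mul, neg_add_cancel, AddChar.map_zero_eq_one,
          mul_one], Finset.sum_const, Finset.card_univ, ZMod.card, nsmul_eq_mul]
      field_simp
    · intro b _ hb
      rw [Finset.sum_congr rfl fun j _ => show (p : ℂ)⁻¹ * (c χ b * ψ (-(b * j))) * ψ (i * j) =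
        (p : ℂ)⁻¹ * c χ b * ψ (j * (i - b)) by
        rw [show j * (i - b) = -(b * j) + i * j by ring, AddChar.map_add_eq_mul]; ring,
        ← Finset.mul_sum, sum_stdAddChar_mul, if_neg (sub_ne_zero.2 hb.symm), mul_zero]
    · simp
  let d : IrrCharacter G → ZMod p → ℤ := fun χ j => (m χ 0 : ℤ) - m χ j
  have hd0 : ∀ χ, d χ 0 = 0 := fun χ => sub_self _
  have hdC : ∀ χ j, (d χ j : ℂ) = (p : ℂ)⁻¹ * ∑ i, c χ i * (1 - ψ (-(i * j))) := by
    intro χ j
    simp only [d, Int.cast_sub, Int.cast_natCast, hm, mul_zero, neg_zero, AddChar.map_zero_eq_one,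
      mul_one, ← mul_sub, ← Finset.sum_sub_distrib]
    exact congrArg _ (Finset.sum_congr rfl fun i _ => by ring)
  have hdsum : ∀ χ, ∑ j, (d χ j : ℂ) = ∑ i ∈ (Finset.univ : Finset (ZMod p)).erase 0, c χ i := by
    intro χ
    simp only [hdC, ← Finset.mul_sum]
    rw [Finset.sum_comm]
    have : ∀ i : ZMod p, ∑ j, c χ i * (1 - ψ (-(i * j))) = if i = 0 then 0 else (p : ℂ) * c χ i := by
      intro i
      rw [← Finset.mul_sum, Finset.sum_sub_distrib, Finset.sum_const, Finset.card_univ, ZMod.card,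
        nsmul_one, Finset.sum_congr rfl fun j _ => show ψ (-(i * j)) = ψ (j * -i) by
          rw [mul_neg, mul_comm j], sum_stdAddChar_mul]
      split_ifs with h1 h2 h2
      · simp
      · exact absurd (neg_eq_zero.1 h1) h2
      · exact absurd (by rw [h2, neg_zero]) h1
      · ring
    rw [Finset.sum_congr rfl fun i _ => this i, ← Finset.add_sum_erase _ _ (Finset.mem_univ (0 : ZMod p)),
      if_pos rfl, zero_add, Finset.sum_congr rfl fun i hi => if_neg (Finset.mem_erase.1 hi).1,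
      ← Finset.mul_sum, ← mul_assoc, inv_mul_cancel₀ hp0, one_mul]
  have hex : ∀ h : ZMod p, h ^ e = 1 →
      ∃ g, g ∈ thetaStab P O S.normal (θ : O → ℂ) ∧ ∀ i, g * upow u i * g⁻¹ = upow u (h * i) := by
    intro h hh
    obtain ⟨s, -, hs⟩ := hprim.eq_pow_of_pow_eq_one hh
    exact ⟨t ^ (n * s), (D.dvd _).2 (dvd_mul_right _ _), fun i => by
      rw [D.conj_pow, pow_mul, hs]⟩
  have hcl : ∀ χ i h, h ^ e = 1 → c χ (h * i) = c χ i := by
    intro χ i h hh
    obtain ⟨g, hg, hgi⟩ := hex h hh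
    show secCoeff u (θ : O → ℂ) χ (h * i) = secCoeff u (θ : O → ℂ) χ i
    rw [← S.secCoeff_conj hg.1 (hgi i) (θ : O → ℂ) χ]
    exact congrArg (fun φ => secCoeff u φ χ i) (funext fun y => hg.2 y _ rfl)
  have hdinv : ∀ χ j h, h ^ e = 1 → d χ (h * j) = d χ j := by
    intro χ j h hh
    have hh0 : h ≠ 0 := fun h' => by
      rw [h', zero_pow hepos.ne'] at hh; exact zero_ne_one hh
    have key : ((d χ (h * j) : ℤ) : ℂ) = d χ j := by
      rw [hdC, hdC]
      refine congrArg _ (Fintype.sum_equiv (Equiv.mulLeft₀ h hh0) _ _ fun i => ?_)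
      show _ = c χ (h * i) * (1 - ψ (-(h * i * j)))
      rw [hcl χ i h hh, show h * i * j = i * (h * j) by ring]
    exact_mod_cast key
  -- the block
  set B := Finset.univ.filter (fun χ : IrrCharacter G => χ ∈ Bs) with hBdef
  have hBmem : ∀ χ, χ ∈ B ↔ χ ∈ Bs := fun χ => by simp [hBdef]
  have hcout : ∀ χ, χ ∉ B → ∀ i : ZMod p, i ≠ 0 → c χ i = 0 := fun χ h i hi =>
    hout χ (fun h' => h ((hBmem χ).2 h')) i hi
  have horth : ∀ i i' : ZMod p, i ≠ 0 → i' ≠ 0 →
      ∑ χ ∈ B, c χ i' * conj (c χ i) = if (i' * i⁻¹) ^ e = 1 then (p : ℂ) else 0 := by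
    intro i i' hi hi'
    rw [Finset.sum_subset (Finset.subset_univ B) fun χ _ h => by rw [hcout χ h i' hi', zero_mul]]
    show ∑ χ, secCoeff u (θ : O → ℂ) χ i' * conj (secCoeff u (θ : O → ℂ) χ i) = _
    rw [S.sum_secCoeff_mul_conj θ hi' (i' := i)]
    by_cases h : (i' * i⁻¹) ^ e = 1
    · have h' : (i * i'⁻¹) ^ e = 1 := by
        rw [show i * i'⁻¹ = (i' * i⁻¹)⁻¹ by rw [mul_inv, inv_inv, mul_comm], inv_pow, h, inv_one]
      obtain ⟨x₀, hx₀, hx₀i⟩ := hex _ h'
      have hx₀' : x₀ * upow u i' * x₀⁻¹ = upow u i := by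
        rw [hx₀i, inv_mul_cancel_right₀ hi']
      rw [if_pos h, Nat.card_congr (α := {x : G // x ∈ thetaStab P O S.normal (θ : O → ℂ) ∧
          x * upow u i' * x⁻¹ = upow u i}) (β := Subgroup.centralizer (P : Set G))
        { toFun := fun x => ⟨x₀⁻¹ * (x : G), by
            rw [← S.centralizer_upow hi', Subgroup.mem_centralizer_singleton_iff]
            have h1 : (x : G) * upow u i' * (x : G)⁻¹ = x₀ * upow u i' * x₀⁻¹ := x.2.2.trans hx₀'.symm
            have h2 := congrArg (fun z => x₀⁻¹ * z * (x : G)) h1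
            simpa [mul_assoc] using h2⟩
          invFun := fun z => ⟨x₀ * (z : G), mul_mem hx₀ (D.le z.2), by
            rw [show x₀ * (z : G) * upow u i' * (x₀ * (z : G))⁻¹ =
              x₀ * ((z : G) * upow u i' * (z : G)⁻¹) * x₀⁻¹ by group,
              ← Subgroup.mem_centralizer_iff.1 z.2 _ (upow_mem S.mem i'), mul_inv_cancel_right, hx₀']⟩
          left_inv := fun x => Subtype.ext (by simp)
          right_inv := fun z => Subtype.ext (by simp) }, S.card_centralizer, Nat.cast_mul]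
      have hO0 : (Nat.card O : ℂ) ≠ 0 := Nat.cast_ne_zero.2 Nat.card_pos.ne'
      field_simp
    · haveI : IsEmpty {x : G // x ∈ thetaStab P O S.normal (θ : O → ℂ) ∧
          x * upow u i' * x⁻¹ = upow u i} := ⟨fun ⟨x, hx, hx'⟩ => by
        obtain ⟨k, hk, hk'⟩ := D.exists_scalar hx
        rw [hk'] at hx'
        apply h
        rw [← upow_injective hordu hx', mul_inv, ← mul_assoc, mul_comm i', mul_assoc,
          mul_inv_cancel₀ hi', mul_one, inv_pow, hk, inv_one]⟩
      rw [if_neg h, show Nat.card {x : G // x ∈ thetaStab P O S.normal (θ : O → ℂ) ∧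
          x * upow u i' * x⁻¹ = upow u i} = 0 from Nat.card_of_isEmpty, Nat.cast_zero, mul_zero]
  have hreg : ∀ (g : G), ¬ p ∣ orderOf g → ∀ j, ∑ χ ∈ B, (d χ j : ℂ) * (χ : G → ℂ) g = 0 := by
    intro g hg j
    simp only [hdC, Finset.mul_sum, Finset.sum_mul]
    rw [Finset.sum_comm]
    refine Finset.sum_eq_zero fun i _ => ?_
    by_cases hi : i = 0
    · simp [hi]
    · calc ∑ χ ∈ B, (p : ℂ)⁻¹ * (c χ i * (1 - ψ (-(i * j)))) * (χ : G → ℂ) g
          = (p : ℂ)⁻¹ * (1 - ψ (-(i * j))) * ∑ χ ∈ B, c χ i * (χ : G → ℂ) g := by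
            rw [Finset.mul_sum]
            exact Finset.sum_congr rfl fun χ _ => by ring
        _ = 0 := by
            rw [Finset.sum_subset (Finset.subset_univ B) fun χ _ h => by rw [hcout χ h i hi, zero_mul]]
            show _ * ∑ χ, secCoeff u (θ : O → ℂ) χ i * (χ : G → ℂ) g = 0
            rw [S.sum_secCoeff_mul_regular θ hi hg, mul_zero]
  have hdeg : ∀ j k, ∑ χ ∈ B, (d χ j - d χ k) * (charDegree (χ : G → ℂ) : ℤ) = 0 := by
    intro j k
    have h1 := hreg 1 (by rw [orderOf_one, Nat.dvd_one]; exact hp1.ne') j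
    have h2 := hreg 1 (by rw [orderOf_one, Nat.dvd_one]; exact hp1.ne') k
    have : ((∑ χ ∈ B, (d χ j - d χ k) * (charDegree (χ : G → ℂ) : ℤ) : ℤ) : ℂ) = 0 := by
      push_cast
      simp only [sub_mul, Finset.sum_sub_distrib]
      simp only [charDegree_eq, h1, h2, sub_zero]
    exact_mod_cast this
  -- the Gram matrix
  set H : Finset (ZMod p) := Finset.univ.filter fun h : ZMod p => h ^ e = 1 with hHdef
  have hHmem : ∀ h, h ∈ H ↔ h ^ e = 1 := fun h => by simp [hHdef]
  have hH0 : ∀ h ∈ H, h ≠ 0 := fun h hh h' => by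
    rw [hHmem, h', zero_pow hepos.ne'] at hh; exact zero_ne_one hh
  have hHcard : H.card = e := by
    have h : H = (Polynomial.nthRoots e (1 : ZMod p)).toFinset := by
      ext x; rw [hHmem, Multiset.mem_toFinset, Polynomial.mem_nthRoots hepos]
    rw [h, Multiset.toFinset_card_of_nodup hprim.nthRoots_one_nodup, hprim.card_nthRoots_one]
  have hgram : ∀ j k : ZMod p, j ≠ 0 → k ≠ 0 →
      ∑ χ ∈ B, d χ j * d χ k = (e : ℤ) + if (k * j⁻¹) ^ e = 1 then 1 else 0 := by
    intro j k hj hk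
    have hcd : ∀ χ, (d χ k : ℂ) =
        (p : ℂ)⁻¹ * ∑ i, conj (c χ i) * (1 - ψ (i * k)) := by
      intro χ
      have h := congrArg conj (hdC χ k)
      rw [map_intCast, map_mul, map_inv₀, map_natCast, map_sum] at h
      rw [h]
      exact congrArg _ (Finset.sum_congr rfl fun i _ => by
        rw [map_mul, map_sub, map_one, conj_stdAddChar, neg_neg])
    have key : ((∑ χ ∈ B, d χ j * d χ k : ℤ) : ℂ) =
        (p : ℂ)⁻¹ * ∑ h ∈ H, ∑ i', (1 - ψ (-(h * i' * j))) * (1 - ψ (i' * k)) := by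
      push_cast
      calc ∑ χ ∈ B, (d χ j : ℂ) * d χ k
          = ∑ χ ∈ B, ∑ i, ∑ i', (c χ i * conj (c χ i')) *
              ((p : ℂ)⁻¹ * (p : ℂ)⁻¹ * ((1 - ψ (-(i * j))) * (1 - ψ (i' * k)))) := by
            refine Finset.sum_congr rfl fun χ _ => ?_
            rw [hdC, hcd, Finset.mul_sum, Finset.mul_sum, Finset.sum_mul_sum]
            exact Finset.sum_congr rfl fun i _ => Finset.sum_congr rfl fun i' _ => by ring
        _ = ∑ i', ∑ i, (∑ χ ∈ B, c χ i * conj (c χ i')) *
              ((p : ℂ)⁻¹ * (p : ℂ)⁻¹ * ((1 - ψ (-(i * j))) * (1 - ψ (i' * k)))) := by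
            rw [Finset.sum_comm, Finset.sum_congr rfl fun i _ => Finset.sum_comm, Finset.sum_comm]
            simp only [Finset.sum_mul]
        _ = ∑ i', ∑ h ∈ H, (p : ℂ)⁻¹ * ((1 - ψ (-(h * i' * j))) * (1 - ψ (i' * k))) := by
            refine Finset.sum_congr rfl fun i' _ => ?_
            by_cases hi' : i' = 0
            · simp [hi']
            rw [show H.sum (fun h => (p : ℂ)⁻¹ * ((1 - ψ (-(h * i' * j))) * (1 - ψ (i' * k)))) =
              ∑ i ∈ H.image (· * i'), (p : ℂ)⁻¹ * ((1 - ψ (-(i * j))) * (1 - ψ (i' * k))) by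
                rw [Finset.sum_image (mul_left_injective₀ hi').injOn]]
            rw [← Finset.sum_subset (Finset.subset_univ (H.image (· * i')))]
            · refine Finset.sum_congr rfl fun i hi => ?_
              obtain ⟨h, hh, rfl⟩ := Finset.mem_image.1 hi
              rw [horth i' (h * i') hi' (mul_ne_zero (hH0 h hh) hi'), if_pos
                (by rw [mul_inv_cancel_right₀ hi']; exact (hHmem h).1 hh)]
              field_simp
            · intro i _ hi
              by_cases hi0 : i = 0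
              · simp [hi0]
              rw [horth i' i hi' hi0, if_neg, zero_mul]
              exact fun h => hi (Finset.mem_image.2
                ⟨i * i'⁻¹, (hHmem _).2 h, inv_mul_cancel_right₀ hi' i⟩)
        _ = _ := by rw [Finset.sum_comm, Finset.mul_sum]; simp only [Finset.mul_sum]
    have hinner : ∀ h ∈ H, ∑ i', (1 - ψ (-(h * i' * j))) * (1 - ψ (i' * k)) =
        (p : ℂ) + if k = h * j then (p : ℂ) else 0 := by
      intro h hh
      have e1 : ∀ i' : ZMod p, (1 - ψ (-(h * i' * j))) * (1 - ψ (i' * k)) =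
          1 - ψ (i' * -(h * j)) - ψ (i' * k) + ψ (i' * (k - h * j)) := by
        intro i'
        rw [show -(h * i' * j) = i' * -(h * j) by ring,
          show i' * (k - h * j) = i' * -(h * j) + i' * k by ring, AddChar.map_add_eq_mul]
        ring
      rw [Finset.sum_congr rfl fun i' _ => e1 i', Finset.sum_add_distrib, Finset.sum_sub_distrib,
        Finset.sum_sub_distrib, Finset.sum_const, Finset.card_univ, ZMod.card, sum_stdAddChar_mul,
        sum_stdAddChar_mul, sum_stdAddChar_mul, if_neg (neg_ne_zero.2 (mul_ne_zero (hH0 h hh) hj)),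
        if_neg hk, nsmul_one, sub_zero, sub_zero]
      simp only [sub_eq_zero]
    rw [Finset.sum_congr rfl hinner, Finset.sum_add_distrib, Finset.sum_const, hHcard, nsmul_eq_mul]
      at key
    have hlast : ∑ h ∈ H, (if k = h * j then (p : ℂ) else 0) =
        if (k * j⁻¹) ^ e = 1 then (p : ℂ) else 0 := by
      by_cases h1 : (k * j⁻¹) ^ e = 1
      · rw [if_pos h1, Finset.sum_eq_single (k * j⁻¹)]
        · rw [if_pos (inv_mul_cancel_right₀ hj k).symm]
        · intro h _ hne; rw [if_neg]; rintro rfl; exact hne (mul_inv_cancel_right₀ hj h).symm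
        · exact fun h => absurd ((hHmem _).2 h1) h
      · rw [if_neg h1, Finset.sum_eq_zero]
        intro h hh
        rw [if_neg]
        rintro rfl
        exact h1 (by rw [mul_inv_cancel_right₀ hj]; exact (hHmem h).1 hh)
    rw [hlast] at key
    have h' : ((∑ χ ∈ B, d χ j * d χ k : ℤ) : ℂ) =
        ((e : ℤ) + if (k * j⁻¹) ^ e = 1 then 1 else 0 : ℤ) := by
      rw [key]
      by_cases h1 : (k * j⁻¹) ^ e = 1 <;> simp [h1] <;> field_simp
    exact_mod_cast h'
  -- non-vanishing and the sum bound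
  have hnz : ∀ χ ∈ B, ∃ j : ZMod p, j ≠ 0 ∧ d χ j ≠ 0 := by
    intro χ hχ
    by_contra hcon
    push Not at hcon
    have hall : ∀ j, d χ j = 0 := fun j => by
      by_cases hj : j = 0
      · rw [hj]; exact hd0 χ
      · exact hcon j hj
    have hv0 : ∀ i : ZMod p, i ≠ 0 → c χ i = 0 := by
      intro i hi
      rw [hval χ i, Finset.sum_congr rfl fun j _ => show (m χ j : ℂ) * ψ (i * j) = (m χ 0 : ℂ) * ψ (j * i) by
          rw [show (m χ j : ℂ) = m χ 0 from Nat.cast_inj.2 (Int.natCast_inj.1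
            (sub_eq_zero.1 (hall j)).symm), mul_comm i], ← Finset.mul_sum, sum_stdAddChar_mul,
        if_neg hi, mul_zero]
    have hr0 : (r : ZMod p) ≠ 0 := D.prim.ne_zero (Nat.mul_pos D.n_pos hepos).ne'
    have hχ0 : ∀ i : ZMod p, i ≠ 0 → (χ : G → ℂ) (upow u i) = 0 := by
      intro i hi
      have h := D.section_eq (hin χ ((hBmem χ).1 hχ)) hi 1
      rw [OneMemClass.coe_one, mul_one] at h
      rw [h]
      exact Finset.sum_eq_zero fun s _ => by
        rw [show secCoeff u (θ : O → ℂ) χ ((r : ZMod p) ^ s * i) = 0 from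
          hv0 _ (mul_ne_zero (pow_ne_zero _ hr0) hi), zero_mul]
    obtain ⟨m0, hm0⟩ := exists_mult_nat (p := p) hordu χ 0
    have hdegp : p ∣ charDegree (χ : G → ℂ) := by
      simp only [mul_zero, neg_zero, AddChar.map_zero_eq_one, mul_one] at hm0
      rw [← Finset.add_sum_erase _ _ (Finset.mem_univ (0 : ZMod p)),
        Finset.sum_eq_zero fun i hi => hχ0 i (Finset.mem_erase.1 hi).1, add_zero, upow_zero,
        eq_inv_mul_iff_mul_eq₀ hp0, ← charDegree_eq χ] at hm0
      exact ⟨m0, (by exact_mod_cast hm0.symm)⟩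
    have hndvd : ¬ p ∣ Nat.card G / charDegree (χ : G → ℂ) := by
      intro hd'
      obtain ⟨k, hk⟩ := charDegree_dvd_card χ
      rw [hk, Nat.mul_div_cancel_left k (charDegree_pos χ)] at hd'
      exact S.sq (by rw [hk, pow_two]; exact Nat.mul_dvd_mul hdegp hd')
    have hsing : Bs = {χ} :=
      (IsPBlock.eq_blockOf hBs ((hBmem χ).1 hχ)).trans (blockOf_eq_singleton hM χ hndvd)
    have hB1 : B = {χ} := by
      ext ξ
      rw [hBmem, hsing, Set.mem_singleton_iff, Finset.mem_singleton]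
    have h := hgram 1 1 one_ne_zero one_ne_zero
    rw [if_pos (by rw [inv_one, mul_one, one_pow]), hB1, Finset.sum_singleton, hall 1] at h
    omega
  have hS : ∀ χ ∈ B, -((p : ℤ) - 1) ≤ ∑ j, d χ j ∧ ∑ j, d χ j ≤ p := by
    intro χ hχ
    obtain ⟨T, hTe, hT1, hT2⟩ := section_theta_bound hM P S.card_P S.sq S.mem S.ne_one O
      S.le_centralizer S.not_dvd (fun x hx hxr => (S.mem_iff x).2 ⟨hx, hxr⟩) S.dec S.normal θ χ
    have heq : (T : ℂ) = ((∑ j, d χ j : ℤ) : ℂ) := by
      push_cast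
      rw [← hTe, hdsum χ]
      refine Finset.sum_bij (fun l _ => (l : ZMod p)) (fun l hl => ?_) (fun l hl l' hl' h => ?_)
        (fun i hi => ⟨i.val, ?_, ZMod.natCast_zmod_val i⟩) fun l hl => ?_
      · refine Finset.mem_erase.2 ⟨fun h => ?_, Finset.mem_univ _⟩
        rw [ZMod.natCast_eq_zero_iff] at h
        rw [Finset.mem_Ico] at hl
        have := Nat.le_of_dvd (by omega) h
        omega
      · rw [Finset.mem_Ico] at hl hl'
        have := congrArg ZMod.val h
        rwa [ZMod.val_cast_of_lt hl.2, ZMod.val_cast_of_lt hl'.2] at this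
      · rw [Finset.mem_Ico]
        exact ⟨Nat.pos_of_ne_zero fun h => (Finset.mem_erase.1 hi).1 ((ZMod.val_eq_zero i).1 h),
          ZMod.val_lt i⟩
      · show _ = secCoeff u (θ : O → ℂ) χ (l : ZMod p)
        rw [secCoeff]
        refine congrArg _ (Finset.sum_congr rfl fun y _ => ?_)
        rw [upow_natCast hup, mul_comm]
    have hS' : T = ∑ j, d χ j := by exact_mod_cast heq
    exact ⟨hS' ▸ hT1, hS' ▸ hT2⟩
  -- orbits
  let R : {j : ZMod p // j ≠ 0} → {j : ZMod p // j ≠ 0} → Prop :=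
    fun j k => ((k : ZMod p) * (j : ZMod p)⁻¹) ^ e = 1
  have hRrefl : ∀ j, R j j := fun j => by
    show ((j : ZMod p) * (j : ZMod p)⁻¹) ^ e = 1
    rw [mul_inv_cancel₀ j.2, one_pow]
  have hRsymm : ∀ i j, R i j → R j i := fun i j h => by
    show ((i : ZMod p) * (j : ZMod p)⁻¹) ^ e = 1
    rw [show (i : ZMod p) * (j : ZMod p)⁻¹ = ((j : ZMod p) * (i : ZMod p)⁻¹)⁻¹ by
      rw [mul_inv, inv_inv, mul_comm], inv_pow, show ((j : ZMod p) * (i : ZMod p)⁻¹) ^ e = 1 from h, inv_one]
  have hRd : ∀ (χ : IrrCharacter G) (i j : {j : ZMod p // j ≠ 0}), R i j → d χ (j : ZMod p) = d χ (i : ZMod p) := fun χ i j h => by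
    conv_lhs => rw [← inv_mul_cancel_right₀ i.2 (j : ZMod p)]
    exact hdinv χ _ _ h
  have hfib : ∀ i, (Finset.univ.filter fun j => R i j).card = e := by
    intro i
    refine Eq.trans ?_ hHcard
    refine Finset.card_bij (fun j _ => (j : ZMod p) * (i : ZMod p)⁻¹)
      (fun j hj => (hHmem _).2 (Finset.mem_filter.1 hj).2)
      (fun j _ j' _ h => Subtype.ext (mul_right_cancel₀ (inv_ne_zero i.2) h))
      fun h hh => ⟨⟨h * i, mul_ne_zero (hH0 h hh) i.2⟩, Finset.mem_filter.2 ⟨Finset.mem_univ _, ?_⟩,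
        mul_inv_cancel_right₀ i.2 h⟩
    show (h * (i : ZMod p) * (i : ZMod p)⁻¹) ^ e = 1
    rw [mul_inv_cancel_right₀ i.2]; exact (hHmem h).1 hh
  -- the exceptional characters
  have hmain : ∃ (ε : ℤ) (Y : {j : ZMod p // j ≠ 0} → IrrCharacter G), (ε = 1 ∨ ε = -1) ∧
      (∀ i, Y i ∈ B) ∧ (∀ i j, Y i = Y j ↔ R i j) ∧
      (∀ i j : {j : ZMod p // j ≠ 0}, d (Y i) (j : ZMod p) = if R i j then -ε else 0) ∧
      ∀ χ ∈ B, (∀ i, χ ≠ Y i) → ∀ i j : {j : ZMod p // j ≠ 0}, d χ (i : ZMod p) = d χ (j : ZMod p) := by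
    let one : {j : ZMod p // j ≠ 0} := ⟨1, one_ne_zero⟩
    by_cases hq : ∀ i j, R i j
    · -- one orbit
      have h1 := hgram 1 1 one_ne_zero one_ne_zero
      rw [if_pos (by rw [inv_one, mul_one, one_pow])] at h1
      obtain ⟨φ, hφ, hφd⟩ : ∃ φ ∈ B, d φ 1 ≠ 0 := by
        by_contra hcon
        push Not at hcon
        rw [Finset.sum_eq_zero fun χ hχ => by rw [hcon χ hχ, mul_zero]] at h1
        omega
      have hb := hS φ hφ
      have hsum : ∑ j, d φ j = ((p : ℤ) - 1) * d φ 1 := by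
        rw [← Finset.add_sum_erase _ _ (Finset.mem_univ (0 : ZMod p)), hd0, zero_add,
          Finset.sum_congr rfl fun j hj => show d φ j = d φ 1 from
            hRd φ one ⟨j, (Finset.mem_erase.1 hj).1⟩ (hq _ _), Finset.sum_const,
          Finset.card_erase_of_mem (Finset.mem_univ _), Finset.card_univ, ZMod.card, nsmul_eq_mul]
        push_cast [Nat.cast_sub hp1.le]
        ring
      rw [hsum] at hb
      have h3 : d φ 1 * d φ 1 ≤ (e : ℤ) + 1 :=
        (Finset.single_le_sum (f := fun χ => d χ 1 * d χ 1) (fun χ _ => mul_self_nonneg _) hφ).trans h1.le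
      have hpm : d φ 1 = 1 ∨ d φ 1 = -1 := hpm_of_bounds hp1 hele hφd hb.1 hb.2 h3
      refine ⟨-d φ 1, fun _ => φ, ?_, fun _ => hφ, fun i j => ⟨fun _ => hq i j, fun _ => rfl⟩,
        fun i j => ?_, fun χ _ _ i j => hRd χ j i (hq j i)⟩
      · rcases hpm with h | h <;> rw [h] <;> simp
      · rw [if_pos (hq i j), neg_neg]; exact hRd φ one j (hq _ _)
    push Not at hq
    obtain ⟨i₀, i₁, h01⟩ := hq
    have h2e : 2 * e ≤ p - 1 := by
      have hdisj : Disjoint (Finset.univ.filter fun j => R i₀ j) (Finset.univ.filter fun j => R i₁ j) := by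
        rw [Finset.disjoint_filter]
        intro j _ h0 h1
        apply h01
        show ((i₁ : ZMod p) * (i₀ : ZMod p)⁻¹) ^ e = 1
        have h1' : ((i₁ : ZMod p) * (j : ZMod p)⁻¹) ^ e = 1 := hRsymm _ _ h1
        rw [show (i₁ : ZMod p) * (i₀ : ZMod p)⁻¹ =
          ((i₁ : ZMod p) * (j : ZMod p)⁻¹) * ((j : ZMod p) * (i₀ : ZMod p)⁻¹) by
            rw [mul_assoc, inv_mul_cancel_left₀ j.2], mul_pow, h1', one_mul]
        exact h0
      have := Finset.card_le_univ ((Finset.univ.filter fun j => R i₀ j) ∪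
        (Finset.univ.filter fun j => R i₁ j))
      rw [Finset.card_union_of_disjoint hdisj, hfib, hfib, Fintype.card_subtype_compl,
        Fintype.card_subtype_eq, ZMod.card] at this
      omega
    have hpair : ∀ i j : {j : ZMod p // j ≠ 0}, ¬ R i j →
        (∀ χ ∈ B, d χ (i : ZMod p) - d χ (j : ZMod p) = 0 ∨ d χ (i : ZMod p) - d χ (j : ZMod p) = 1 ∨
          d χ (i : ZMod p) - d χ (j : ZMod p) = -1) ∧
        (B.filter fun χ => d χ (i : ZMod p) - d χ (j : ZMod p) = 1).card = 1 := by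
      intro i j hij
      refine int_two_squares B _ (fun χ => (charDegree (χ : G → ℂ) : ℤ)) ?_
        (fun χ _ => by exact_mod_cast charDegree_pos χ) (hdeg _ _)
      have e1 := hgram i i i.2 i.2
      have e2 := hgram j j j.2 j.2
      have e3 := hgram i j i.2 j.2
      rw [if_pos (hRrefl i)] at e1
      rw [if_pos (hRrefl j)] at e2
      rw [if_neg (show ¬ _ from hij)] at e3
      calc ∑ χ ∈ B, (d χ (i : ZMod p) - d χ (j : ZMod p)) ^ 2
          = ∑ χ ∈ B, d χ i * d χ i + ∑ χ ∈ B, d χ j * d χ j - 2 * ∑ χ ∈ B, d χ i * d χ j := by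
            rw [Finset.mul_sum, ← Finset.sum_add_distrib, ← Finset.sum_sub_distrib]
            exact Finset.sum_congr rfl fun χ _ => by ring
        _ = 2 := by rw [e1, e2, e3]; ring
    haveI : Nonempty {j : ZMod p // j ≠ 0} := ⟨one⟩
    let lo : IrrCharacter G → ℤ := fun χ =>
      Finset.univ.inf' Finset.univ_nonempty fun j : {j : ZMod p // j ≠ 0} => d χ (j : ZMod p)
    have hlo : ∀ χ ∈ B, ∀ j : {j : ZMod p // j ≠ 0}, d χ (j : ZMod p) = lo χ ∨ d χ (j : ZMod p) = lo χ + 1 := by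
      intro χ hχ j
      obtain ⟨k, -, hk⟩ := Finset.exists_mem_eq_inf' Finset.univ_nonempty
        fun j : {j : ZMod p // j ≠ 0} => d χ (j : ZMod p)
      have hle : lo χ ≤ d χ (j : ZMod p) := Finset.inf'_le _ (Finset.mem_univ j)
      have hk' : lo χ = d χ (k : ZMod p) := hk
      by_cases hjk : R j k
      · left; rw [hk', hRd χ j k hjk]
      · rcases (hpair j k hjk).1 χ hχ with h | h | h <;> omega
    let F : {j : ZMod p // j ≠ 0} → Finset (IrrCharacter G) := fun j =>
      B.filter fun χ => d χ (j : ZMod p) ≠ lo χ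
    have hF : ∀ χ ∈ B, ∀ j : {j : ZMod p // j ≠ 0}, d χ (j : ZMod p) = lo χ + if χ ∈ F j then 1 else 0 := by
      intro χ hχ j
      by_cases h : χ ∈ F j
      · rw [if_pos h]
        exact (hlo χ hχ j).resolve_left (Finset.mem_filter.1 h).2
      · rw [if_neg h, add_zero]
        by_contra h'
        exact h (Finset.mem_filter.2 ⟨hχ, h'⟩)
    haveI : Nonempty (IrrCharacter G) := ⟨trivIrr G⟩
    obtain ⟨Y, hYR, hYF, hYo⟩ := exceptional_dichotomy F R hRsymm
      (fun i j h => Finset.filter_congr fun χ _ => by rw [hRd χ i j h])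
      (fun i j h => by
        rw [← (hpair i j h).2]
        congr 1
        ext χ
        simp only [Finset.mem_sdiff, Finset.mem_filter]
        constructor
        · rintro ⟨hi, hj⟩
          have hχ := (Finset.mem_filter.1 hi).1
          refine ⟨hχ, ?_⟩
          rw [hF χ hχ i, hF χ hχ j, if_pos hi, if_neg hj]
          omega
        · rintro ⟨hχ, hd'⟩
          rw [hF χ hχ i, hF χ hχ j] at hd'
          by_cases h1 : χ ∈ F i <;> by_cases h2 : χ ∈ F j <;> simp [h1, h2] at hd' ⊢) h01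
    have hYB : ∀ i, Y i ∈ B := by
      intro i
      obtain ⟨j, hij⟩ : ∃ j, ¬ R i j := by
        by_contra hall
        push Not at hall
        apply h01
        have := (hYR i₀ i₁).1 (((hYR i₀ i).2 (hRsymm _ _ (hall i₀))).trans ((hYR i i₁).2 (hall i₁)))
        exact this
      rcases hYF with h | h
      · exact (Finset.mem_filter.1 ((h i i).2 (hRrefl i))).1
      · exact (Finset.mem_filter.1 ((h i j).2 hij)).1
    have hothers : ∀ χ ∈ B, (∀ i, χ ≠ Y i) → ∀ i j : {j : ZMod p // j ≠ 0},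
        d χ (i : ZMod p) = d χ (j : ZMod p) := by
      intro χ hχ hne i j
      rw [hF χ hχ i, hF χ hχ j]
      congr 1
      exact if_congr (hYo χ hne i j) rfl rfl
    obtain ⟨ε, A, hεA, hYd⟩ : ∃ (ε : ℤ) (A : IrrCharacter G → ℤ), (ε = 1 ∨ ε = -1) ∧
        ∀ i j : {j : ZMod p // j ≠ 0}, d (Y i) (j : ZMod p) = A (Y i) - if R i j then ε else 0 := by
      rcases hYF with h | h
      · refine ⟨-1, lo, Or.inr rfl, fun i j => ?_⟩
        rw [hF _ (hYB i) j]
        by_cases hr : R i j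
        · rw [if_pos hr, if_pos ((h i j).2 hr)]; ring
        · rw [if_neg hr, if_neg fun h' => hr ((h i j).1 h')]; ring
      · refine ⟨1, fun χ => lo χ + 1, Or.inl rfl, fun i j => ?_⟩
        rw [hF _ (hYB i) j]
        by_cases hr : R i j
        · rw [if_pos hr, if_neg fun h' => (h i j).1 h' hr]; ring
        · rw [if_neg hr, if_pos ((h i j).2 hr)]; ring
    have hεsq : ε * ε = 1 := by rcases hεA with rfl | rfl <;> norm_num
    by_cases hq2 : 2 * e = p - 1
    · -- two orbits
      have htwo : ∀ j, R i₀ j ∨ R i₁ j := by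
        intro j
        by_contra hcon
        push Not at hcon
        have hdisj : Disjoint (Finset.univ.filter fun j => R i₀ j)
            (Finset.univ.filter fun j => R i₁ j) := by
          rw [Finset.disjoint_filter]
          intro k _ h0 h1
          exact h01 ((hYR i₀ i₁).1 (((hYR i₀ k).2 h0).trans ((hYR i₁ k).2 h1).symm))
        have hlt : ((Finset.univ.filter fun j => R i₀ j) ∪ (Finset.univ.filter fun j => R i₁ j)).card <
            (Finset.univ : Finset {j : ZMod p // j ≠ 0}).card := by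
          refine Finset.card_lt_card (Finset.ssubset_univ_iff.2 fun h => ?_)
          have := Finset.mem_univ j
          rw [← h, Finset.mem_union, Finset.mem_filter, Finset.mem_filter] at this
          tauto
        rw [Finset.card_union_of_disjoint hdisj, hfib, hfib, Finset.card_univ,
          Fintype.card_subtype_compl, Fintype.card_subtype_eq, ZMod.card] at hlt
        omega
      set a := Y i₀ with ha
      set b := Y i₁ with hb
      have hab : a ≠ b := fun h => h01 ((hYR _ _).1 h)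
      have hYab : ∀ i, Y i = a ∨ Y i = b := fun i =>
        (htwo i).imp (fun h => ((hYR _ _).2 h).symm) fun h => ((hYR _ _).2 h).symm
      have d00 : d a (i₀ : ZMod p) = A a - ε := by rw [hYd, if_pos (hRrefl i₀)]
      have d01 : d a (i₁ : ZMod p) = A a := by rw [hYd, if_neg h01, sub_zero]
      have d10 : d b (i₀ : ZMod p) = A b := by rw [hYd, if_neg fun h => h01 (hRsymm _ _ h), sub_zero]
      have d11 : d b (i₁ : ZMod p) = A b - ε := by rw [hYd, if_pos (hRrefl i₁)]
      set W := (B.erase a).erase b with hW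
      have hWmem : ∀ χ ∈ W, χ ∈ B ∧ ∀ i, χ ≠ Y i := fun χ hχ => by
        rw [hW, Finset.mem_erase, Finset.mem_erase] at hχ
        exact ⟨hχ.2.2, fun i h => (hYab i).elim (fun h' => hχ.2.1 (h.trans h'))
          fun h' => hχ.1 (h.trans h')⟩
      have hsplit : ∀ f : IrrCharacter G → ℤ, ∑ χ ∈ B, f χ = f a + (f b + ∑ χ ∈ W, f χ) := by
        intro f
        rw [hW, Finset.add_sum_erase (s := B.erase a) _ (Finset.mem_erase.2 ⟨hab.symm, hYB _⟩),
          Finset.add_sum_erase _ _ (hYB _)]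
      have g0 := hgram i₀ i₀ i₀.2 i₀.2
      have g1 := hgram i₁ i₁ i₁.2 i₁.2
      rw [if_pos (hRrefl i₀), hsplit, d00, d10] at g0
      rw [if_pos (hRrefl i₁), hsplit, d01, d11] at g1
      have hWeq : ∑ χ ∈ W, d χ (i₁ : ZMod p) * d χ (i₁ : ZMod p) =
          ∑ χ ∈ W, d χ (i₀ : ZMod p) * d χ (i₀ : ZMod p) :=
        Finset.sum_congr rfl fun χ hχ => by
          rw [hothers χ (hWmem χ hχ).1 (hWmem χ hχ).2 i₁ i₀]
      rw [hWeq] at g1
      have hAB : A a = A b := by
        have : ε * (A a - A b) = 0 := by nlinarith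
        rcases mul_eq_zero.1 this with h | h
        · rcases hεA with rfl | rfl <;> norm_num at h
        · omega
      have hW1 : 1 ≤ ∑ χ ∈ W, d χ (i₀ : ZMod p) * d χ (i₀ : ZMod p) := by
        obtain ⟨w, hw⟩ : W.Nonempty := by
          by_contra hne
          rw [Finset.not_nonempty_iff_eq_empty] at hne
          have hreg1 : ∀ i : {j : ZMod p // j ≠ 0},
              d a (i : ZMod p) * (charDegree (a : G → ℂ) : ℤ) +
                d b (i : ZMod p) * (charDegree (b : G → ℂ) : ℤ) = 0 := by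
            intro i
            have h := hreg 1 (by rw [orderOf_one, Nat.dvd_one]; exact hp1.ne') (i : ZMod p)
            simp only [← charDegree_eq] at h
            have h2 : ((∑ χ ∈ B, d χ (i : ZMod p) * (charDegree (χ : G → ℂ) : ℤ) : ℤ) : ℂ) = 0 := by
              push_cast; exact h
            rw [hsplit, hne, Finset.sum_empty, add_zero, Int.cast_eq_zero] at h2
            exact h2
          have g0' := hreg1 i₀
          have g1' := hreg1 i₁
          rw [d00, d10] at g0'
          rw [d01, d11] at g1'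
          have ha1 : (0 : ℤ) < charDegree (a : G → ℂ) := by exact_mod_cast charDegree_pos a
          rw [← hAB] at g0' g1'
          have heq : (charDegree (a : G → ℂ) : ℤ) = charDegree (b : G → ℂ) := by
            rcases hεA with rfl | rfl <;> linarith
          rw [← heq, ← add_mul] at g1'
          rcases mul_eq_zero.1 g1' with h | h
          · rcases hεA with rfl | rfl <;> omega
          · omega
        refine le_trans ?_ (Finset.single_le_sum (fun χ _ => mul_self_nonneg _) hw)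
        obtain ⟨j, hj, hj'⟩ := hnz w (hWmem w hw).1
        have e0 : d w (i₀ : ZMod p) = d w j := hothers w (hWmem w hw).1 (hWmem w hw).2 i₀ ⟨j, hj⟩
        rw [e0]
        exact mul_self_pos.2 hj'
      have hsum : ∑ j, d a j = (e : ℤ) * (2 * A a - ε) := by
        rw [← Finset.add_sum_erase _ _ (Finset.mem_univ (0 : ZMod p)), hd0, zero_add,
          Finset.sum_subtype ((Finset.univ : Finset (ZMod p)).erase 0) (p := fun j => j ≠ 0)
            (fun x => by simp), Finset.sum_congr rfl fun j _ => hYd i₀ j, Finset.sum_sub_distrib,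
          Finset.sum_const, ← Finset.sum_filter, Finset.sum_const, hfib, Finset.card_univ,
          Fintype.card_subtype_compl, Fintype.card_subtype_eq, ZMod.card, ← hq2]
        simp only [nsmul_eq_mul]
        push_cast
        ring
      have hb' := hS a (hYB _)
      rw [hsum] at hb'
      have hpe : (p : ℤ) = 2 * e + 1 := by omega
      rw [hpe] at hb'
      have heZ : (1 : ℤ) ≤ e := by exact_mod_cast hepos
      rw [← hAB] at g0
      have hA0 : A a = 0 ∨ A a = ε := by
        have hlo' : -1 ≤ A a := by rcases hεA with rfl | rfl <;> nlinarith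
        have hhi' : A a ≤ 2 := by rcases hεA with rfl | rfl <;> nlinarith
        rcases hεA with rfl | rfl <;> (interval_cases h : (A a) <;> first | omega | nlinarith)
      have hda : ∀ j : {j : ZMod p // j ≠ 0},
          d a (j : ZMod p) = A a - if Y j = a then ε else 0 := fun j => by
        rw [hYd i₀ j]; congr 1
        exact if_congr ((hYR i₀ j).symm.trans eq_comm) rfl rfl
      have hdb : ∀ j : {j : ZMod p // j ≠ 0},
          d b (j : ZMod p) = A b - if Y j = b then ε else 0 := fun j => by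
        rw [hYd i₁ j]; congr 1
        exact if_congr ((hYR i₁ j).symm.trans eq_comm) rfl rfl
      rcases hA0 with hA0 | hA0
      · refine ⟨ε, Y, hεA, hYB, hYR, fun i j => ?_, hothers⟩
        rw [hYd]
        have hAi : A (Y i) = 0 := by
          rcases hYab i with h | h
          · rw [h, hA0]
          · rw [h, ← hAB, hA0]
        rw [hAi]
        split_ifs <;> ring
      · -- exchange the two
        let Y' : {j : ZMod p // j ≠ 0} → IrrCharacter G := fun i => if Y i = a then b else a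
        refine ⟨-ε, Y', by rcases hεA with rfl | rfl <;> simp, fun i => ?_, fun i j => ?_,
          fun i j => ?_, fun χ hχ hne => hothers χ hχ fun i h => ?_⟩
        · simp only [Y']; split_ifs
          exacts [hYB _, hYB _]
        · rw [← hYR]
          rcases hYab i with h1 | h1 <;> rcases hYab j with h2 | h2 <;>
            simp [Y', h1, h2, hab, hab.symm]
        · have hR' : R i j ↔ Y i = Y j := (hYR i j).symm
          rcases hYab i with h1 | h1 <;> rcases hYab j with h2 | h2 <;>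
            simp [Y', hR', h1, h2, hab, hab.symm, hda, hdb, ← hAB, hA0]
        · rcases hYab i with h1 | h1
          · exact hne i₁ (by simp [Y', h, h1, ← hb, hab.symm])
          · exact hne i₀ (by simp [Y', h, h1, ← ha])
    · -- at least three orbits
      refine ⟨ε, Y, hεA, hYB, hYR, fun i j => ?_, hothers⟩
      have hA0 : A (Y i) = 0 := by
        by_contra hA
        obtain ⟨k, hk⟩ : ∃ k, ¬ R i k := by
          by_contra hall
          push Not at hall
          have := hfib i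
          rw [Finset.filter_true_of_mem fun x _ => hall x, Finset.card_univ,
            Fintype.card_subtype_compl, Fintype.card_subtype_eq, ZMod.card] at this
          omega
        have hAp : (A (Y i)).natAbs < p := by
          have h1 : d (Y i) (k : ZMod p) = A (Y i) := by rw [hYd, if_neg hk, sub_zero]
          have h2 := hgram k k k.2 k.2
          rw [if_pos (hRrefl k)] at h2
          have h3 : d (Y i) (k : ZMod p) * d (Y i) (k : ZMod p) ≤ (e : ℤ) + 1 :=
            (Finset.single_le_sum (f := fun χ => d χ (k : ZMod p) * d χ (k : ZMod p))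
              (fun χ _ => mul_self_nonneg _) (hYB i)).trans h2.le
          rw [h1] at h3
          have h4 : ((A (Y i)).natAbs : ℤ) ≤ A (Y i) * A (Y i) := by
            rw [← Int.natAbs_mul_self]
            exact_mod_cast Nat.le_mul_self _
          omega
        refine no_shift_abstract hM (r := r ^ n) (by push_cast; exact hprim) hepos (by omega)
          ((Nat.card G : ℂ) / ((Y i : G → ℂ) 1 * (Nat.card (Subgroup.normalizer (P : Set G)) : ℂ)) *
            ((n : ℂ) * (θ : O → ℂ) 1))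
          (c (Y i)) (m (Y i)) (A (Y i)) ε (i : ZMod p) i.2 hεA (hval (Y i))
          (fun α β hα hβ hαH => S.section_product_congr hM θ D.n_pos hepos D.t_mem D.gen D.dvd D.le
            (fun g hg => D.exists_scalar hg) (Y i) α β hα hβ hαH) (fun j hj => ?_) hA hAp
        exact hYd i ⟨j, hj⟩
      rw [hYd, hA0]
      split_ifs <;> ring
  obtain ⟨ε, Y, hε, hYB, hYR, hYd, hothers⟩ := hmain
  set SY : Finset (IrrCharacter G) := Finset.univ.image Y with hSY
  set SX : Finset (IrrCharacter G) := B \ SY with hSX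
  have hSYB : SY ⊆ B := fun χ hχ => by
    obtain ⟨i, -, rfl⟩ := Finset.mem_image.1 hχ; exact hYB i
  have hSXmem : ∀ χ ∈ SX, χ ∈ B ∧ ∀ i, χ ≠ Y i := fun χ hχ =>
    ⟨(Finset.mem_sdiff.1 hχ).1, fun i h => (Finset.mem_sdiff.1 hχ).2
      (Finset.mem_image.2 ⟨i, Finset.mem_univ _, h.symm⟩)⟩
  let one : {j : ZMod p // j ≠ 0} := ⟨1, one_ne_zero⟩
  have hconst : ∀ χ ∈ SX, ∀ j : ZMod p, j ≠ 0 → d χ j = d χ 1 := fun χ hχ j hj =>
    hothers χ (hSXmem χ hχ).1 (hSXmem χ hχ).2 ⟨j, hj⟩ one
  have hsign : ∀ χ ∈ SX, d χ 1 = 1 ∨ d χ 1 = -1 := by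
    intro χ hχ
    have hb := hS χ (hSXmem χ hχ).1
    rw [← Finset.add_sum_erase _ _ (Finset.mem_univ (0 : ZMod p)), hd0, zero_add,
      Finset.sum_congr rfl fun j hj => hconst χ hχ j (Finset.mem_erase.1 hj).1, Finset.sum_const,
      Finset.card_erase_of_mem (Finset.mem_univ _), Finset.card_univ, ZMod.card, nsmul_eq_mul,
      Nat.cast_sub hp1.le, Nat.cast_one] at hb
    have h0 : d χ 1 ≠ 0 := fun h => by
      obtain ⟨j, hj, hj'⟩ := hnz χ (hSXmem χ hχ).1
      exact hj' (by rw [hconst χ hχ j hj, h])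
    have h1 := hgram 1 1 one_ne_zero one_ne_zero
    rw [if_pos (by rw [inv_one, mul_one, one_pow])] at h1
    exact hpm_of_bounds hp1 hele h0 hb.1 hb.2
      ((Finset.single_le_sum (f := fun χ => d χ 1 * d χ 1) (fun χ _ => mul_self_nonneg _)
        (hSXmem χ hχ).1).trans h1.le)
  have hsplitY : ∀ (f : IrrCharacter G → ℂ) (i : {j : ZMod p // j ≠ 0}),
      ∑ χ ∈ SY, (d χ (i : ZMod p) : ℂ) * f χ = -(ε : ℂ) * f (Y i) := by
    intro f i
    rw [Finset.sum_eq_single (Y i)]
    · rw [hYd, if_pos (hRrefl i)]; push_cast; ring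
    · intro χ hχ hne
      obtain ⟨k, -, rfl⟩ := Finset.mem_image.1 hχ
      rw [hYd, if_neg fun h => hne ((hYR k i).2 h), Int.cast_zero, zero_mul]
    · exact fun h => absurd (Finset.mem_image.2 ⟨i, Finset.mem_univ _, rfl⟩) h
  have hrel : ∀ (i : {j : ZMod p // j ≠ 0}) (g : G), ¬ p ∣ orderOf g →
      (ε : ℂ) * ((Y i : IrrCharacter G) : G → ℂ) g = ∑ χ ∈ SX, (d χ 1 : ℂ) * (χ : G → ℂ) g := by
    intro i g hg
    have h := hreg g hg (i : ZMod p)
    rw [← Finset.sum_sdiff hSYB, hsplitY, Finset.sum_congr rfl fun χ hχ => by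
      rw [hconst χ hχ _ i.2]] at h
    rw [hSX]
    linear_combination -h
  have hXcard : SX.card = e := by
    have h := hgram 1 1 one_ne_zero one_ne_zero
    rw [if_pos (by rw [inv_one, mul_one, one_pow]), ← Finset.sum_sdiff hSYB] at h
    have h1 : ∑ χ ∈ B \ SY, d χ 1 * d χ 1 = (SX.card : ℤ) := by
      rw [Finset.sum_congr rfl fun χ hχ => show d χ 1 * d χ 1 = 1 by
        rcases hsign χ hχ with h | h <;> rw [h] <;> norm_num, Finset.sum_const, nsmul_one]
    have h2 : ∑ χ ∈ SY, d χ 1 * d χ 1 = 1 := by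
      have h3 : ((∑ χ ∈ SY, d χ 1 * d χ 1 : ℤ) : ℂ) = 1 := by
        push_cast
        rw [hsplitY (fun χ => (d χ 1 : ℂ)) one, show d (Y one) 1 = -ε from (hYd one one).trans (if_pos (hRrefl one))]
        rcases hε with rfl | rfl <;> norm_num
      exact_mod_cast h3
    rw [h1, h2] at h
    omega
  have hYcard : SY.card = (p - 1) / e := by
    have hc := Finset.card_eq_sum_card_image Y (Finset.univ : Finset {j : ZMod p // j ≠ 0})
    rw [Finset.card_univ, Fintype.card_subtype_compl, Fintype.card_subtype_eq, ZMod.card,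
      Finset.sum_congr rfl fun b hb => show _ = e by
        obtain ⟨i, -, rfl⟩ := Finset.mem_image.1 hb
        rw [← hfib i]
        congr 1
        exact Finset.filter_congr fun j _ => (hYR j i).trans ⟨hRsymm _ _, hRsymm _ _⟩,
      Finset.sum_const, smul_eq_mul] at hc
    rw [hc, Nat.mul_div_cancel _ hepos]
  have hcX : ∀ χ ∈ SX, ∀ i : ZMod p, i ≠ 0 → c χ i = (d χ 1 : ℂ) := by
    intro χ hχ i hi
    have hmj : ∀ j, (m χ j : ℂ) = (m χ 0 : ℂ) - (d χ j : ℂ) := fun j => by simp [d]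
    rw [hval χ i, Finset.sum_congr rfl fun j _ => by rw [hmj j, sub_mul],
      Finset.sum_sub_distrib, ← Finset.mul_sum, Finset.sum_congr rfl fun j _ => by rw [mul_comm i j],
      sum_stdAddChar_mul, if_neg hi, mul_zero, zero_sub,
      ← Finset.add_sum_erase _ _ (Finset.mem_univ (0 : ZMod p)), hd0, Int.cast_zero, zero_mul,
      zero_add, Finset.sum_congr rfl fun j hj => by rw [hconst χ hχ j (Finset.mem_erase.1 hj).1],
      ← Finset.mul_sum]
    have h2 := sum_stdAddChar_mul (p := p) i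
    rw [if_neg hi, ← Finset.add_sum_erase _ _ (Finset.mem_univ (0 : ZMod p)), zero_mul,
      AddChar.map_zero_eq_one, Finset.sum_congr rfl fun j _ => by rw [mul_comm j i]] at h2
    linear_combination -(d χ 1 : ℂ) * h2
  have hr0 : (r : ZMod p) ≠ 0 := D.prim.ne_zero (Nat.mul_pos D.n_pos hepos).ne'
  have hdegX : ∀ χ ∈ SX, (charDegree (χ : G → ℂ) : ℤ) ≡
      d χ 1 * ((n * charDegree (θ : O → ℂ) : ℕ) : ℤ) [ZMOD p] := by
    intro χ hχ
    obtain ⟨m0, hm0⟩ := exists_mult_nat (p := p) hordu χ 0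
    simp only [mul_zero, neg_zero, AddChar.map_zero_eq_one, mul_one] at hm0
    have hv : ∀ i : ZMod p, i ≠ 0 → (χ : G → ℂ) (upow u i) =
        (d χ 1 : ℂ) * ((n : ℂ) * (charDegree (θ : O → ℂ) : ℂ)) := by
      intro i hi
      have h := D.section_eq (hin χ ((hBmem χ).1 (hSXmem χ hχ).1)) hi 1
      rw [OneMemClass.coe_one, mul_one] at h
      rw [h, Finset.sum_congr rfl fun s _ => show secCoeff u (θ : O → ℂ) χ ((r : ZMod p) ^ s * i) *
          (D.conjTheta s : O → ℂ) 1 = (d χ 1 : ℂ) * (charDegree (θ : O → ℂ) : ℂ) by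
        rw [show secCoeff u (θ : O → ℂ) χ ((r : ZMod p) ^ s * i) = (d χ 1 : ℂ) from
          hcX χ hχ _ (mul_ne_zero (pow_ne_zero _ hr0) hi), charDegree_eq θ]
        exact congrArg _ (congrArg (θ : O → ℂ) (Subtype.ext (by simp))),
        Finset.sum_const, Finset.card_range, nsmul_eq_mul]
      ring
    rw [← Finset.add_sum_erase _ _ (Finset.mem_univ (0 : ZMod p)), upow_zero, ← charDegree_eq χ,
      Finset.sum_congr rfl fun i hi => hv i (Finset.mem_erase.1 hi).1, Finset.sum_const,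
      Finset.card_erase_of_mem (Finset.mem_univ _), Finset.card_univ, ZMod.card, nsmul_eq_mul,
      Nat.cast_sub hp1.le, Nat.cast_one, eq_inv_mul_iff_mul_eq₀ hp0] at hm0
    have hm0' : (p : ℤ) * (m0 : ℤ) = (charDegree (χ : G → ℂ) : ℤ) +
        ((p : ℤ) - 1) * (d χ 1 * ((n : ℤ) * (charDegree (θ : O → ℂ) : ℤ))) := by
      exact_mod_cast hm0
    rw [Int.modEq_iff_dvd]
    push_cast
    exact ⟨d χ 1 * ((n : ℤ) * charDegree (θ : O → ℂ)) - m0, by linarith⟩
  refine ⟨SX, SY, fun χ => d χ 1, ε, Y, ?_, ?_, hXcard, hYcard, ?_, hε, hYR, ?_, ?_, ?_, hrel, ?_⟩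
  · intro χ
    rw [← hBmem, ← Finset.mem_union, hSX, Finset.sdiff_union_of_subset hSYB]
  · exact Finset.sdiff_disjoint
  · intro χ
    simp [hSY]
  · exact fun χ hχ => ⟨hsign χ hχ, fun i hi => hcX χ hχ i hi, hdegX χ hχ⟩
  · intro k i hi
    show c (Y k) i = _
    have hmj : ∀ j, (m (Y k) j : ℂ) = (m (Y k) 0 : ℂ) +
        if (j * (k : ZMod p)⁻¹) ^ e = 1 then (ε : ℂ) else 0 := by
      intro j
      by_cases hj : j = 0
      · rw [hj, zero_mul, zero_pow hepos.ne', if_neg zero_ne_one, add_zero]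
      · have h : (m (Y k) 0 : ℤ) - m (Y k) j =
            if R k ⟨j, hj⟩ then -ε else 0 := hYd k ⟨j, hj⟩
        have h' := congrArg (fun z : ℤ => (z : ℂ)) h
        by_cases hR : (j * (k : ZMod p)⁻¹) ^ e = 1
        · rw [if_pos hR]
          simp only [if_pos (show R k ⟨j, hj⟩ from hR)] at h'
          push_cast at h'
          linear_combination -h'
        · rw [if_neg hR]
          simp only [if_neg (show ¬ R k ⟨j, hj⟩ from hR)] at h'
          push_cast at h'
          linear_combination -h'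
    rw [hval (Y k) i, Finset.sum_congr rfl fun j _ => by rw [hmj j, add_mul, ite_mul, zero_mul],
      Finset.sum_add_distrib, ← Finset.mul_sum, Finset.sum_congr rfl fun j _ => by rw [mul_comm i j],
      sum_stdAddChar_mul, if_neg hi, mul_zero, zero_add, ← Finset.sum_filter, Finset.mul_sum]
  · intro k
    have h := hrel k 1 (by rw [orderOf_one, Nat.dvd_one]; exact hp1.ne')
    simp only [← charDegree_eq] at h
    have h' : ε * (charDegree ((Y k : IrrCharacter G) : G → ℂ) : ℤ) =
        ∑ χ ∈ SX, d χ 1 * (charDegree (χ : G → ℂ) : ℤ) := by exact_mod_cast h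
    have h3 : ∑ χ ∈ SX, d χ 1 * (charDegree (χ : G → ℂ) : ℤ) ≡
        ((n * e * charDegree (θ : O → ℂ) : ℕ) : ℤ) [ZMOD p] := by
      rw [show ((n * e * charDegree (θ : O → ℂ) : ℕ) : ℤ) =
        ∑ χ ∈ SX, ((n * charDegree (θ : O → ℂ) : ℕ) : ℤ) by
          rw [Finset.sum_const, hXcard, nsmul_eq_mul]; push_cast; ring]
      refine Int.ModEq.sum ?_
      intro χ hχ
      have := (hdegX χ hχ).mul_left (d χ 1)
      rwa [← mul_assoc (d χ 1), show d χ 1 * d χ 1 = 1 by
        rcases hsign χ hχ with h | h <;> rw [h] <;> norm_num, one_mul] at this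
    rw [← h'] at h3
    have h4 := h3.mul_left ε
    rwa [← mul_assoc, show ε * ε = 1 by rcases hε with rfl | rfl <;> norm_num, one_mul] at h4
  · intro χ hχ
    by_contra hcon
    push Not at hcon
    obtain ⟨j, -, hj⟩ := hnz χ ((hBmem χ).2 hχ)
    apply hj
    have h : ((d χ j : ℤ) : ℂ) = 0 := by
      rw [hdC, Finset.sum_eq_zero fun i _ => ?_, mul_zero]
      by_cases hi : i = 0
      · simp [hi]
      · rw [show c χ i = 0 from hcon i hi, zero_mul]
    exact_mod_cast h

end PrimeSplit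

end Cfsg.Agent.Lib.Blocks
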