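import Cfsg.Agent.Lib.Blocks.DefectOneInputs

/-!
# Counting the characters of degree prime to `p`
-/

set_option autoImplicit false
set_option linter.unusedSectionVars false
set_option linter.unusedVariables false

namespace Cfsg.Agent.Lib.Blocks

open Cfsg Cfsg.Agent.Lib.Characters
open scoped ComplexConjugate

universe u

variable {G : Type u} [Group G] [Fintype G] {M : Ideal AlgInt} [hMp : M.IsPrime] {p : ℕ}
  [hp : Fact p.Prime] {P O : Subgroup G} {u : G} [Fintype O]

/-- The contribution of `θ` to the count of the characters of degree prime to `p`. -/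
noncomputable def thetaWeight (p : ℕ) (S : PrimeSplit p P O u) (θ : IrrCharacter O) : ℚ :=
  (((Nat.card (thetaStab P O S.normal (θ : O → ℂ)) / Nat.card (Subgroup.centralizer (P : Set G))) +
    (p - 1) / (Nat.card (thetaStab P O S.normal (θ : O → ℂ)) /
      Nat.card (Subgroup.centralizer (P : Set G))) : ℕ) : ℚ) *
    (Nat.card (thetaStab P O S.normal (θ : O → ℂ)) : ℚ) /
      (Nat.card (Subgroup.normalizer (P : Set G)) : ℚ)

namespace PrimeSplit

/-- Every character of the regular part of the centralizer leads to a block with defect group `P`. -/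
theorem exists_block_of_theta [Fintype (Subgroup.centralizer (P : Set G))] (hM : IsPModular p M)
    (S : PrimeSplit p P O u) (η : IrrCharacter O) :
    ∃ (B : Set (IrrCharacter G)) (b : Set (IrrCharacter (Subgroup.centralizer (P : Set G))))
      (ψ : IrrCharacter (Subgroup.centralizer (P : Set G))),
      IsPBlock M B ∧ IsDefectGroup p M B P ∧
        IsInducedBlock M (Subgroup.centralizer (P : Set G)) b B ∧ ψ ∈ b ∧ S.resIrr ψ = η := by
  classical
  haveI := Fintype.ofFinite (IrrCharacter G)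
  obtain ⟨ψ, hψ, -⟩ := S.exists_extend η
  have h10 : (1 : ZMod p) ≠ 0 := one_ne_zero
  have horth := S.sum_secCoeff_mul_conj η (i' := 1) h10
  obtain ⟨χ, hχ⟩ : ∃ χ : IrrCharacter G, secCoeff u (η : O → ℂ) χ (1 : ZMod p) ≠ 0 := by
    by_contra hcon
    push Not at hcon
    rw [Finset.sum_eq_zero fun χ _ => by rw [hcon χ, zero_mul]] at horth
    haveI : Nonempty {x : G // x ∈ thetaStab P O S.normal (η : O → ℂ) ∧
        x * upow u (1 : ZMod p) * x⁻¹ = upow u (1 : ZMod p)} := ⟨⟨1, one_mem _, by simp⟩⟩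
    exact mul_ne_zero (inv_ne_zero (Nat.cast_ne_zero.2 Nat.card_pos.ne'))
      (Nat.cast_ne_zero.2 Nat.card_pos.ne') horth.symm
  refine ⟨blockOf M (χ : G → ℂ), blockOf M (ψ : Subgroup.centralizer (P : Set G) → ℂ), ψ, ⟨χ, rfl⟩, ?_⟩
  have hind : IsInducedBlock M (Subgroup.centralizer (P : Set G))
      (blockOf M (ψ : Subgroup.centralizer (P : Set G) → ℂ)) (blockOf M (χ : G → ℂ)) := by
    by_contra hnot
    apply hχ
    rw [← hψ]
    exact S.secCoeff_eq_zero hM (B := blockOf M (χ : G → ℂ)) ⟨χ, rfl⟩ (self_mem_blockOf χ)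
      (b := blockOf M (ψ : Subgroup.centralizer (P : Set G) → ℂ)) ⟨ψ, rfl⟩ (self_mem_blockOf ψ) hnot h10
  refine ⟨?_, hind, self_mem_blockOf ψ, hψ⟩
  have hPp : IsPGroup p P := IsPGroup.of_card (n := 1) (by rw [S.card_P, pow_one])
  have hPC : P ≤ Subgroup.centralizer (P : Set G) := fun a ha => by
    obtain ⟨i, rfl⟩ := exists_upow_eq S.card_P S.mem S.ne_one ha
    simpa using S.upow_mul_mem i 1
  obtain ⟨E, hE, hPE⟩ := exists_le_defect_of_isInducedBlock hM hPp hPC
    (Subgroup.centralizer_le_normalizer _) hind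
  obtain ⟨k, hk⟩ := (IsDefectGroup.isPGroup hE).exists_card_eq
  have hk1 : k ≤ 1 := by
    by_contra hlt
    exact S.sq ((pow_dvd_pow p (by omega : 2 ≤ k)).trans (hk ▸ Subgroup.card_subgroup_dvd_card E))
  have hle : Nat.card E ≤ Nat.card P := by
    rw [hk, S.card_P]
    calc p ^ k ≤ p ^ 1 := Nat.pow_le_pow_right hp.out.pos hk1
      _ = p := pow_one p
  rwa [← Subgroup.eq_of_le_of_card_ge hPE hle] at hE

/-- The number of characters of degree prime to `p`. -/
theorem card_not_dvd_eq_sum [Fintype (IrrCharacter O)] (hM : IsPModular p M) (S : PrimeSplit p P O u) :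
    (Nat.card {χ : IrrCharacter G // ¬ p ∣ charDegree (χ : G → ℂ)} : ℚ) =
      ∑ θ : IrrCharacter O, thetaWeight p S θ := by
  classical
  haveI := Fintype.ofFinite (IrrCharacter G)
  haveI := Fintype.ofFinite (Subgroup.centralizer (P : Set G))
  let Sη : IrrCharacter O → Finset (IrrCharacter G) := fun η =>
    Finset.univ.filter fun χ => ∃ i : ZMod p, i ≠ 0 ∧ secCoeff u (η : O → ℂ) χ i ≠ 0
  let Nχ : IrrCharacter G → Finset (IrrCharacter O) := fun χ => Finset.univ.filter fun η => χ ∈ Sη η
  have key : ∀ η : IrrCharacter O, ∀ χ ∈ Sη η, ¬ p ∣ charDegree (χ : G → ℂ) ∧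
      thetaWeight p S η * ((Nχ χ).card : ℚ) = ((Sη η).card : ℚ) := by
    intro η
    obtain ⟨B, b, ψ, hB, hBP, hind, hψb, hψ⟩ := S.exists_block_of_theta hM η
    obtain ⟨hout, hin⟩ := S.defect_one_inputs hM hB hBP hind hψb
    rw [hψ] at hout hin
    obtain ⟨t, r, n, e, D⟩ := S.exists_stabData η
    obtain ⟨SX, SY, dX, ε, Y, hmem, hdisj, hX, hY, hYmem, hε, hYR, hXp, hYc, hYdeg, hrel, hne⟩ :=
      D.defect_one hM hB hout hin
    have hr0 : (r : ZMod p) ≠ 0 := D.prim.ne_zero (Nat.mul_pos D.n_pos D.e_pos).ne'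
    have hS : Sη η = SX ∪ SY := by
      ext χ
      rw [Finset.mem_union, ← hmem]
      simp only [Sη, Finset.mem_filter, Finset.mem_univ, true_and]
      refine ⟨fun ⟨i, hi, h⟩ => ?_, hne χ⟩
      by_contra hχ
      exact h (hout χ hχ i hi)
    have hScard : (Sη η).card = e + (p - 1) / e := by
      rw [hS, Finset.card_union_of_disjoint hdisj, hX, hY]
    intro χ hχ
    have hχB : χ ∈ B := by rw [hS, Finset.mem_union, ← hmem] at hχ; exact hχ
    refine ⟨?_, ?_⟩
    · have hdvdO : ¬ p ∣ charDegree (η : O → ℂ) := fun h => S.not_dvd (h.trans (charDegree_dvd_card η))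
      have hne' : e * n ∣ p - 1 := by
        rw [mul_comm]
        exact D.prim.dvd_of_pow_eq_one _ (ZMod.pow_card_sub_one_eq_one hr0)
      have hp1 := hp.out.one_lt
      have hne1 : ¬ p ∣ e * n := fun h => by
        have h1 := Nat.le_of_dvd (by omega) hne'
        have h2 := Nat.le_of_dvd (Nat.mul_pos D.e_pos D.n_pos) h
        omega
      have hfin : ∀ (δ : ℤ) (k : ℕ), (δ = 1 ∨ δ = -1) → ¬ p ∣ k →
          (charDegree (χ : G → ℂ) : ℤ) ≡ δ * (k : ℤ) [ZMOD p] → ¬ p ∣ charDegree (χ : G → ℂ) := by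
        intro δ k hδ hk h hd
        apply hk
        have h2 : (p : ℤ) ∣ δ * (k : ℤ) := by
          have := Int.modEq_iff_dvd.1 h
          have := dvd_add this (Int.natCast_dvd_natCast.2 hd)
          rwa [sub_add_cancel] at this
        rcases hδ with rfl | rfl
        · rw [one_mul] at h2; exact Int.natCast_dvd_natCast.1 h2
        · rw [neg_one_mul, dvd_neg] at h2; exact Int.natCast_dvd_natCast.1 h2
      rw [hS, Finset.mem_union] at hχ
      rcases hχ with h | h
      · refine hfin (dX χ) _ (hXp χ h).1 ?_ (hXp χ h).2.2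
        intro hd
        rcases (Nat.Prime.dvd_mul hp.out).1 hd with h' | h'
        · exact hne1 (dvd_mul_of_dvd_right h' e)
        · exact hdvdO h'
      · obtain ⟨k, rfl⟩ := (hYmem χ).1 h
        refine hfin ε _ hε ?_ (hYdeg k)
        intro hd
        rcases (Nat.Prime.dvd_mul hp.out).1 hd with h' | h'
        · exact hne1 (by rwa [mul_comm] at h')
        · exact hdvdO h'
    · have hN : Nχ χ = (Finset.range n).image D.conjTheta := by
        ext η'
        simp only [Nχ, Sη, Finset.mem_filter, Finset.mem_univ, true_and, Finset.mem_image, Finset.mem_range]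
        constructor
        · rintro ⟨i, hi, h⟩
          by_contra hnot
          push Not at hnot
          refine h (hin χ hχB η' (fun g hg => ?_) i hi)
          by_contra hcon
          push Not at hcon
          obtain ⟨s, hs, hgs⟩ := D.exists_orbit hg
          exact hnot s hs (Subtype.ext (funext fun y => ((hcon y).trans (hgs y)).symm))
        · rintro ⟨s, -, rfl⟩
          obtain ⟨i, hi, h⟩ := hne χ hχB
          refine ⟨((r : ZMod p) ^ s)⁻¹ * i, mul_ne_zero (inv_ne_zero (pow_ne_zero _ hr0)) hi, ?_⟩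
          show secCoeff u (fun y : O => (η : O → ℂ) ⟨t ^ s * (y : G) * (t ^ s)⁻¹, _⟩) χ _ ≠ 0
          rw [S.secCoeff_conj ((Subgroup.normalizer (P : Set G)).pow_mem D.t_mem s)
            (D.conj_pow s _) (η : O → ℂ) χ, mul_inv_cancel_left₀ (pow_ne_zero _ hr0)]
          exact h
      have hTC : Nat.card (thetaStab P O S.normal (η : O → ℂ)) =
          e * Nat.card (Subgroup.centralizer (P : Set G)) := by
        rw [← D.relIndex_T, Subgroup.relIndex,
          ← Nat.card_congr (Subgroup.subgroupOfEquivOfLe D.le).toEquiv, Subgroup.index_mul_card]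
      have hNC : Nat.card (Subgroup.normalizer (P : Set G)) =
          n * e * Nat.card (Subgroup.centralizer (P : Set G)) := by
        rw [← D.relIndex_N, Subgroup.relIndex,
          ← Nat.card_congr (Subgroup.subgroupOfEquivOfLe (Subgroup.centralizer_le_normalizer
            (P : Set G))).toEquiv, Subgroup.index_mul_card]
      rw [hN, Finset.card_image_of_injOn D.conjTheta_injOn, Finset.card_range, hScard, thetaWeight,
        hTC, hNC, Nat.mul_div_cancel _ Nat.card_pos]
      have hC0 : (Nat.card (Subgroup.centralizer (P : Set G)) : ℚ) ≠ 0 := Nat.cast_ne_zero.2 Nat.card_pos.ne'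
      have hn0 : (n : ℚ) ≠ 0 := Nat.cast_ne_zero.2 D.n_pos.ne'
      have he0 : (e : ℚ) ≠ 0 := Nat.cast_ne_zero.2 D.e_pos.ne'
      push_cast
      field_simp
  have hmem : ∀ χ : IrrCharacter G, (Nχ χ).Nonempty ↔ ¬ p ∣ charDegree (χ : G → ℂ) := by
    intro χ
    constructor
    · rintro ⟨η, hη⟩
      exact (key η χ (Finset.mem_filter.1 hη).2).1
    · intro hd
      by_contra hne
      apply hd
      rw [Finset.not_nonempty_iff_eq_empty] at hne
      have hv : ∀ i : ZMod p, i ≠ 0 → (χ : G → ℂ) (upow u i) = 0 := by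
        intro i hi
        have h := S.section_eq_sum χ i 1
        rw [OneMemClass.coe_one, mul_one] at h
        rw [h]
        refine Finset.sum_eq_zero fun η _ => ?_
        have : χ ∉ Sη η := fun hm =>
          Finset.notMem_empty η (hne ▸ Finset.mem_filter.2 ⟨Finset.mem_univ _, hm⟩)
        simp only [Sη, Finset.mem_filter, Finset.mem_univ, true_and] at this
        push Not at this
        rw [this i hi, zero_mul]
      obtain ⟨m0, hm0⟩ := exists_mult_nat (p := p) S.orderOf_u χ 0
      simp only [mul_zero, neg_zero, AddChar.map_zero_eq_one, mul_one] at hm0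
      rw [← Finset.add_sum_erase _ _ (Finset.mem_univ (0 : ZMod p)),
        Finset.sum_eq_zero fun i hi => hv i (Finset.mem_erase.1 hi).1, add_zero, upow_zero,
        eq_inv_mul_iff_mul_eq₀ (Nat.cast_ne_zero.2 hp.out.ne_zero), ← charDegree_eq χ] at hm0
      exact ⟨m0, (by exact_mod_cast hm0.symm)⟩
  have hweight : ∀ η, thetaWeight p S η = ∑ χ : IrrCharacter G,
      if χ ∈ Sη η then 1 / ((Nχ χ).card : ℚ) else 0 := by
    intro η
    rw [← Finset.sum_filter, Finset.filter_univ_mem]
    obtain ⟨B, b, ψ, hB, hBP, hind, hψb, hψ⟩ := S.exists_block_of_theta hM η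
    by_cases hne : (Sη η).Nonempty
    · obtain ⟨χ₀, hχ₀⟩ := hne
      have hpos : ∀ χ ∈ Sη η, 0 < (Nχ χ).card := fun χ hχ =>
        Finset.card_pos.2 ⟨η, Finset.mem_filter.2 ⟨Finset.mem_univ _, hχ⟩⟩
      have hS0 : (0 : ℚ) < (Sη η).card := Nat.cast_pos.2 (Finset.card_pos.2 ⟨χ₀, hχ₀⟩)
      have e1 : ∀ χ ∈ Sη η, (1 : ℚ) / (Nχ χ).card = thetaWeight p S η / (Sη η).card := by
        intro χ hχ
        rw [div_eq_div_iff (Nat.cast_ne_zero.2 (hpos χ hχ).ne') hS0.ne', one_mul, (key η χ hχ).2]
      rw [Finset.sum_congr rfl e1, Finset.sum_const, nsmul_eq_mul, mul_div_cancel₀ _ hS0.ne']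
    · exfalso
      apply hne
      obtain ⟨t, r, n, e, D⟩ := S.exists_stabData η
      obtain ⟨hout, hin⟩ := S.defect_one_inputs hM hB hBP hind hψb
      rw [hψ] at hout hin
      obtain ⟨SX, SY, dX, ε, Y, hmem', -, -, -, -, -, -, -, -, -, -, hne'⟩ := D.defect_one hM hB hout hin
      obtain ⟨χ, hχ⟩ := IsPBlock.nonempty hB
      exact ⟨χ, Finset.mem_filter.2 ⟨Finset.mem_univ _, hne' χ hχ⟩⟩
  rw [Finset.sum_congr rfl fun η _ => hweight η, Finset.sum_comm, Nat.card_eq_fintype_card,
    Fintype.card_subtype, Finset.card_filter, Nat.cast_sum]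
  refine Finset.sum_congr rfl fun χ _ => ?_
  rw [← Finset.sum_filter, Finset.sum_const, nsmul_eq_mul]
  show _ = ((Nχ χ).card : ℚ) * _
  by_cases h : (Nχ χ).Nonempty
  · rw [if_pos ((hmem χ).1 h), Nat.cast_one, mul_one_div,
      div_self (Nat.cast_ne_zero.2 (Finset.card_pos.2 h).ne')]
  · rw [if_neg (fun h' => h ((hmem χ).2 h')), Nat.cast_zero,
      Finset.not_nonempty_iff_eq_empty.1 h, Finset.card_empty, Nat.cast_zero, zero_mul]

end PrimeSplit

end Cfsg.Agent.Lib.Blocks
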