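import Cfsg.Agent.Lib.Blocks.DefectOne

/-!
# Blocks with a defect group of order `p`: the inputs of the main theorem
-/

set_option autoImplicit false
set_option linter.unusedSectionVars false
set_option linter.unusedVariables false

namespace Cfsg.Agent.Lib.Blocks

open Cfsg Cfsg.Agent.Lib.Characters

universe u

variable {G : Type u} [Group G] [Fintype G] {M : Ideal AlgInt} [hMp : M.IsPrime] {p : ℕ}
  [hp : Fact p.Prime] {P O : Subgroup G} {u : G}

/-- A central element with value the degree may be left out. -/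
theorem apply_central_mul {K : Type u} [Group K] [Fintype K] {χ : K → ℂ} (hχ : IsIrrCharacter K χ)
    {z : K} (hz : ∀ x, x * z = z * x) (h1 : χ z = χ 1) (y : K) : χ (z * y) = χ y := by
  classical
  have hcl : IsClassFunction K (fun x => if x = z then (1 : ℂ) else 0) := fun x c => by
    show (if c * x * c⁻¹ = z then (1 : ℂ) else 0) = if x = z then 1 else 0
    refine if_congr ?_ rfl rfl
    rw [mul_inv_eq_iff_eq_mul, ← hz c, mul_right_inj]
  have h := IsIrrCharacter.sum_mul_translate hχ hcl y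
  simp only [ite_mul, one_mul, zero_mul, Finset.sum_ite_eq', Finset.mem_univ, if_true] at h
  rw [← hz, h, h1, div_mul_cancel₀ _ (IsIrrCharacter.apply_one_ne_zero hχ)]

namespace PrimeSplit

variable [Fintype O] [Fintype (Subgroup.centralizer (P : Set G))]

/-- The hypotheses of the defect one theorem. -/
theorem defect_one_inputs (hM : IsPModular p M) (S : PrimeSplit p P O u) {B : Set (IrrCharacter G)}
    (hB : IsPBlock M B) (hBP : IsDefectGroup p M B P)
    {b : Set (IrrCharacter (Subgroup.centralizer (P : Set G)))}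
    (hb : IsInducedBlock M (Subgroup.centralizer (P : Set G)) b B)
    {ψ₀ : IrrCharacter (Subgroup.centralizer (P : Set G))} (hψ₀ : ψ₀ ∈ b) :
    (∀ χ ∉ B, ∀ i : ZMod p, i ≠ 0 → secCoeff u (S.resIrr ψ₀ : O → ℂ) χ i = 0) ∧
    ∀ χ ∈ B, ∀ η : IrrCharacter O, (∀ (g : G) (hg : g ∈ Subgroup.normalizer (P : Set G)),
        ∃ y : O, (η : O → ℂ) y ≠ (S.resIrr ψ₀ : O → ℂ) ⟨g * (y : G) * g⁻¹, S.normal g hg y y.2⟩) →
      ∀ i : ZMod p, i ≠ 0 → secCoeff u (η : O → ℂ) χ i = 0 := by
  constructor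
  · intro χ hχ i hi
    refine S.secCoeff_eq_zero hM ⟨χ, rfl⟩ (self_mem_blockOf χ) hb.1 hψ₀ (fun h => hχ ?_) hi
    rw [IsInducedBlock.unique hb h]
    exact self_mem_blockOf χ
  · intro χ hχ η hη i hi
    obtain ⟨ψ, hψ, -⟩ := S.exists_extend η
    rw [← hψ]
    refine S.secCoeff_eq_zero hM hB hχ (b := blockOf M (ψ : Subgroup.centralizer (P : Set G) → ℂ)) ⟨ψ, rfl⟩ (self_mem_blockOf ψ)
      (fun h => ?_) hi
    obtain ⟨g, hg, hconj⟩ := S.resIrr_conj_of_induced hM hB hBP hb h hψ₀ (self_mem_blockOf ψ)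
    obtain ⟨y, hy⟩ := hη g hg
    exact hy (by rw [← hψ]; exact hconj y)

/-- A character of the centralizer with `P` in its kernel is the inflation of its restriction. -/
theorem apply_eq_resIrr (S : PrimeSplit p P O u) (ψ : IrrCharacter (Subgroup.centralizer (P : Set G)))
    (hψ : ∀ x : Subgroup.centralizer (P : Set G), (x : G) ∈ P →
      (ψ : Subgroup.centralizer (P : Set G) → ℂ) x = (ψ : Subgroup.centralizer (P : Set G) → ℂ) 1)
    (i : ZMod p) (y : O) :
    (ψ : Subgroup.centralizer (P : Set G) → ℂ) ⟨upow u i * (y : G), S.upow_mul_mem i y⟩ =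
      (S.resIrr ψ : O → ℂ) y :=
  apply_central_mul ψ.2 (z := ⟨upow u i, by simpa using S.upow_mul_mem i 1⟩) (fun x => Subtype.ext
    (Subgroup.mem_centralizer_iff.1 x.2 _ (upow_mem S.mem i)).symm) (hψ _ (upow_mem S.mem i))
    ⟨(y : G), S.le_centralizer y.2⟩

theorem charDegree_resIrr (S : PrimeSplit p P O u) (ψ : IrrCharacter (Subgroup.centralizer (P : Set G))) :
    charDegree (S.resIrr ψ : O → ℂ) = charDegree (ψ : Subgroup.centralizer (P : Set G) → ℂ) := by
  apply Nat.cast_injective (R := ℂ)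
  rw [charDegree_eq, charDegree_eq]
  rfl

/-- The stabilizer of `θ` seen on the regular part. -/
theorem eq_thetaStab (S : PrimeSplit p P O u) (ψ : IrrCharacter (Subgroup.centralizer (P : Set G)))
    (hψ : ∀ x : Subgroup.centralizer (P : Set G), (x : G) ∈ P →
      (ψ : Subgroup.centralizer (P : Set G) → ℂ) x = (ψ : Subgroup.centralizer (P : Set G) → ℂ) 1)
    (T : Subgroup G)
    (hT : ∀ g : G, g ∈ T ↔ (g ∈ Subgroup.normalizer (P : Set G) ∧
      ∀ c c' : Subgroup.centralizer (P : Set G), (c' : G) = g * c * g⁻¹ →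
        (ψ : Subgroup.centralizer (P : Set G) → ℂ) c' = (ψ : Subgroup.centralizer (P : Set G) → ℂ) c)) :
    T = thetaStab P O S.normal (S.resIrr ψ : O → ℂ) := by
  ext g
  rw [hT, mem_thetaStab]
  refine and_congr_right fun hg => ⟨fun h y y' hy => ?_, fun h c c' hc => ?_⟩
  · exact h ⟨(y : G), S.le_centralizer y.2⟩ ⟨(y' : G), S.le_centralizer y'.2⟩ hy
  · obtain ⟨⟨a, y⟩, rfl⟩ := S.splitEquiv.surjective c
    obtain ⟨⟨a', y'⟩, rfl⟩ := S.splitEquiv.surjective c'
    obtain ⟨i, rfl⟩ : ∃ i : ZMod p, Multiplicative.ofAdd i = a := ⟨a.toAdd, rfl⟩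
    obtain ⟨i', rfl⟩ : ∃ i : ZMod p, Multiplicative.ofAdd i = a' := ⟨a'.toAdd, rfl⟩
    rw [S.splitEquiv_coe, S.splitEquiv_coe] at hc
    obtain ⟨-, h2⟩ := S.components y.2 y'.2 hc.symm
    exact ((S.apply_eq_resIrr ψ hψ i' y').trans (h y y' h2.symm)).trans
      (S.apply_eq_resIrr ψ hψ i y).symm

end PrimeSplit

end Cfsg.Agent.Lib.Blocks
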