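import Cfsg.Agent.Lib.Blocks.DefectOneForm
import Cfsg.Agent.Lib.Blocks.CentralQuotientBlock
import Cfsg.Agent.Lib.Blocks.MajorSubsection

/-!
# At most `p ^ 2` characters in a block of defect two
-/

set_option autoImplicit false
set_option linter.unusedSectionVars false
set_option linter.style.haveILetI false
set_option maxHeartbeats 1600000

namespace Cfsg.Agent.Lib.Blocks

open Cfsg Cfsg.Agent.Lib.Characters Cfsg.Agent.Lib.BlockHeights Cfsg.Agent.Lib.BrauerPairs
open scoped ComplexConjugate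

universe u

variable {G : Type u} [Group G] [Fintype G] {M : Ideal AlgInt} [hMp : M.IsPrime] {p : ℕ}

/-- The average squared absolute value. -/
noncomputable def normAvg {H : Type u} [Group H] [Fintype H] (w : H → ℂ) : ℝ :=
  (Nat.card H : ℝ)⁻¹ * ∑ s, Complex.normSq (w s)

theorem classInner_self_eq_normAvg {H : Type u} [Group H] [Fintype H] (w : H → ℂ) :
    classInner w w = (normAvg w : ℂ) := by
  rw [classInner, normAvg]
  push_cast
  congr 1
  exact Finset.sum_congr rfl fun s _ => Complex.mul_conj _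

theorem normAvg_nonneg {H : Type u} [Group H] [Fintype H] (w : H → ℂ) : 0 ≤ normAvg w :=
  mul_nonneg (inv_nonneg.2 (Nat.cast_nonneg _)) (Finset.sum_nonneg fun _ _ => Complex.normSq_nonneg _)

theorem sum_pairs_normSq {ι : Type*} [Fintype ι] (z : ι → ℂ) :
    ∑ i, ∑ j, Complex.normSq (z i - z j) =
      2 * ((Fintype.card ι : ℝ) * ∑ i, Complex.normSq (z i) - Complex.normSq (∑ i, z i)) := by
  apply Complex.ofReal_injective
  push_cast
  simp only [← Complex.mul_conj, map_sub, sub_mul, mul_sub, map_sum, Finset.sum_sub_distrib,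
    Finset.sum_const, Finset.card_univ, nsmul_eq_mul, ← Finset.mul_sum, ← Finset.sum_mul]
  ring

/-- **Brauer.** A block of defect two has at most `p ^ 2` characters. -/
theorem card_block_le_sq (hM : IsPModular p M) {B : Set (IrrCharacter G)} (hB : IsPBlock M B)
    (hd : blockDefect p B = 2) : Nat.card B ≤ p ^ 2 := by
  classical
  haveI := Fact.mk hM.1
  obtain ⟨D, hD⟩ := exists_isDefectGroup hM hB
  have hDcard : Nat.card D = p ^ 2 := by rw [card_isDefectGroup hM hB hD, hd]
  obtain ⟨x, hxD, hxc, hxo⟩ : ∃ x ∈ D, (∀ g ∈ D, g * x = x * g) ∧ orderOf x = p := by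
    haveI : Nontrivial D := Finite.one_lt_card_iff_nontrivial.1
      (hDcard ▸ Nat.one_lt_pow two_ne_zero hM.1.one_lt)
    haveI := IsPGroup.center_nontrivial (IsDefectGroup.isPGroup hD)
    have hpd : p ∣ Nat.card (Subgroup.center D) := by
      obtain ⟨n, hn, hn'⟩ := ((IsDefectGroup.isPGroup hD).to_subgroup _).nontrivial_iff_card.1
        (inferInstance : Nontrivial (Subgroup.center D))
      rw [hn']
      exact dvd_pow_self p hn.ne'
    obtain ⟨⟨⟨x, hxD⟩, hz⟩, hzo⟩ := exists_prime_orderOf_dvd_card' p hpd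
    rw [Subgroup.orderOf_mk, Subgroup.orderOf_mk] at hzo
    exact ⟨x, hxD, fun g hg => congrArg Subtype.val (Subgroup.mem_center_iff.1 hz ⟨g, hg⟩), hzo⟩
  have hx : ∃ k : ℕ, orderOf x = p ^ k := ⟨1, by rw [pow_one, hxo]⟩
  set C := Subgroup.centralizer (Subgroup.zpowers x : Set G) with hCdef
  obtain ⟨e, D', hind, hD', hde, hD'card⟩ : ∃ (e : Set (IrrCharacter C)) (D' : Subgroup C),
      IsInducedBlock M C e B ∧ IsDefectGroup p M e D' ∧ blockDefect p e = blockDefect p B ∧
      Nat.card D' = p ^ blockDefect p B := exists_major_subsection hM hB hD hxD hxc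
  rw [hd] at hde hD'card
  haveI := Fintype.ofFinite C
  have hC : ∀ g, g ∈ C ↔ Commute x g := fun g => mem_centralizer_zpowers_iff
  have hxC : x ∈ C := (hC x).2 (Commute.refl x)
  -- the quotient
  set K : Subgroup C := Subgroup.zpowers ⟨x, hxC⟩ with hKdef
  have hKZ : K ≤ Subgroup.center C := Subgroup.zpowers_le.2
    (Subgroup.mem_center_iff.2 fun g => Subtype.ext ((hC g.1).1 g.2).eq.symm)
  haveI : K.Normal := ⟨fun n hn g => by
    rw [Subgroup.mem_center_iff.1 (hKZ hn) g, mul_inv_cancel_right]; exact hn⟩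
  have hKcard : Nat.card K = p := by rw [hKdef, Nat.card_zpowers, Subgroup.orderOf_mk, hxo]
  have hKp : IsPGroup p K := IsPGroup.of_card (n := 1) (by rw [hKcard, pow_one])
  haveI := Fintype.ofFinite (C ⧸ K)
  obtain ⟨eb, heb, hinfl, hdef⟩ := exists_block_image_defect hM hKp hind.1
  have hdeb : blockDefect p eb = 1 := by
    have hKD : K ≤ D' := le_of_isDefectGroup hM hKp hind.1 hD'
    have h : Nat.card (K.subgroupOf D') * K.relIndex D' = Nat.card D' :=
      (K.subgroupOf D').card_mul_index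
    rw [Nat.card_congr (Subgroup.subgroupOfEquivOfLe hKD).toEquiv, hKcard, hD'card] at h
    have h2 : Nat.card (D'.map (QuotientGroup.mk' K)) = K.relIndex D' := by
      rw [← Subgroup.relIndex_ker (f := QuotientGroup.mk' K), QuotientGroup.ker_mk']
    have h3 := card_isDefectGroup hM heb ((hdef _).2 ⟨D', hD', rfl⟩)
    rw [h2, Nat.eq_of_mul_eq_mul_left hM.1.pos (h.trans (pow_two p))] at h3
    exact Nat.pow_right_injective hM.1.two_le (h3.symm.trans (pow_one p).symm)
  haveI : Fintype {η // η ∈ e} := Fintype.ofFinite _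
  haveI : Fintype {η // η ∈ eb} := Fintype.ofFinite _
  set l := blockRank p e with hl
  have hlpos : (0 : ℝ) < l := Nat.cast_pos.2 (blockRank_pos hM hind.1)
  -- the form
  have hq : ∀ f : {η // η ∈ e} → ℤ, ∑ η, (f η : ℂ) • pRegularPart p (η.1 : C → ℂ) ≠ 0 →
      (l : ℝ) ≤ (p : ℝ) ^ 2 * normAvg (∑ η, (f η : ℂ) • pRegularPart p (η.1 : C → ℂ)) := by
    intro f hne
    choose n hn using fun η : {η // η ∈ e} =>
      exists_int_infl_expansion hM K hKp hKZ hind.1 heb hinfl η.2
    set f' : {η // η ∈ eb} → ℤ := fun φ => ∑ η, f η * n η φ with hf'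
    set wb := ∑ φ, (f' φ : ℂ) • pRegularPart p (φ.1 : C ⧸ K → ℂ) with hwb
    have hw : ∑ η, (f η : ℂ) • pRegularPart p (η.1 : C → ℂ) =
        fun s => regInd p s * wb (QuotientGroup.mk' K s) := by
      funext s
      simp only [hn, hwb, hf', Finset.sum_apply, Pi.smul_apply, smul_eq_mul, Finset.mul_sum,
        Int.cast_sum, Int.cast_mul, Finset.sum_mul, pRegularPart_inflIrr hM.1]
      rw [Finset.sum_comm]
      exact Finset.sum_congr rfl fun φ _ => Finset.sum_congr rfl fun η _ => by ring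
    have hwb0 : wb ≠ 0 := fun h => hne (by rw [hw, h]; funext s; simp)
    have hwbreg : (fun c => regInd p c * wb c) = wb := by
      funext c
      simp only [hwb, Finset.sum_apply, Pi.smul_apply, smul_eq_mul, Finset.mul_sum, pRegularPart_eq]
      exact Finset.sum_congr rfl fun φ _ => by
        rw [mul_left_comm, ← mul_assoc (regInd p c), regInd_mul_self]
    have h1 := classInner_regular_infl hM K hKp hKZ wb wb
    rw [hwbreg, ← hw, hKcard, classInner_self_eq_normAvg, classInner_self_eq_normAvg,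
      ← Complex.ofReal_natCast, ← Complex.ofReal_mul] at h1
    have h2 := le_regForm_of_defect_one hM heb hdeb f' hwb0
    rw [← hwb, classInner_self_eq_normAvg, Complex.ofReal_re, ← Complex.ofReal_injective h1] at h2
    refine le_trans (Nat.cast_le.2 (blockRank_le_quotient hM K hKp hKZ hind.1 heb hinfl))
      (h2.trans (le_of_eq ?_))
    ring
  -- the subsections at the powers
  haveI : Fintype (IrrCharacter G) := Fintype.ofFinite _
  haveI : Fintype (IrrCharacter C) := Fintype.ofFinite _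
  haveI : Fintype {χ // χ ∈ B} := Fintype.ofFinite _
  haveI : NeZero p := ⟨hM.1.ne_zero⟩
  obtain ⟨ζ, hζ⟩ : ∃ ζ : ℂ, IsPrimitiveRoot ζ p := ⟨_, Complex.isPrimitiveRoot_exp _ hM.1.ne_zero⟩
  have hxp : x ^ p = 1 := by rw [← hxo, pow_orderOf_eq_one]
  choose em hem1 hem2 using fun η : {η // η ∈ e} =>
    hζ.eq_pow_of_pow_eq_one (centralRoot_pow hC hxC η.1 hxp)
  choose mult hmult using fun (χ : {χ // χ ∈ B}) (η : {η // η ∈ e}) =>
    exists_resMult_nat (C := C) χ.1 η.1
  set cf : {χ // χ ∈ B} → Fin p → {η // η ∈ e} → ℤ := fun χ j η =>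
    if (⟨em η, hem1 η⟩ : Fin p) = j then (mult χ η : ℤ) else 0 with hcf
  set v : {χ // χ ∈ B} → Fin p → (C → ℂ) := fun χ j =>
    ∑ η, (cf χ j η : ℂ) • pRegularPart p (η.1 : C → ℂ) with hv
  have hsect : ∀ u : ℕ, (∀ g, g ∈ C ↔ Commute (x ^ u) g) → ∀ χ : {χ // χ ∈ B}, ∀ s,
      sect p (x ^ u) e (χ.1 : G → ℂ) s = ∑ j : Fin p, v χ j s * ζ ^ (u * (j : ℕ)) := by
    intro u hCu χ s
    rw [sect_expand hCu (pow_mem hxC u) e χ.1]
    simp only [ite_smul, zero_smul]
    rw [← Finset.sum_filter,
      Finset.sum_subtype (p := (· ∈ e)) _ (fun y => by simp) (fun η =>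
        (centralRoot (x ^ u) (pow_mem hxC u) η * resMult C χ.1 η) • pRegularPart p (η : C → ℂ))]
    simp only [hv, Finset.sum_apply, Pi.smul_apply, smul_eq_mul, Finset.sum_mul]
    rw [Finset.sum_comm]
    refine Finset.sum_congr rfl fun η _ => ?_
    simp only [hcf, Int.cast_ite, Int.cast_zero, ite_mul, zero_mul, Finset.sum_ite_eq,
      Finset.mem_univ, if_true, Int.cast_natCast]
    rw [centralRoot_apply_pow hC hxC η.1 u, hmult χ η, ← hem2 η, ← pow_mul, mul_comm (em η) u]
    ring
  have hCu : ∀ u ∈ (Finset.range p).erase 0, ∀ g, g ∈ C ↔ Commute (x ^ u) g := by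
    intro u hu g
    obtain ⟨hu0, hup⟩ := Finset.mem_erase.1 hu
    have hcop : Nat.Coprime u (orderOf x) := by
      rw [hxo, Nat.coprime_comm, hM.1.coprime_iff_not_dvd]
      exact fun h => hu0 (Nat.eq_zero_of_dvd_of_lt h (Finset.mem_range.1 hup))
    obtain ⟨w, hw⟩ := exists_pow_eq_self_of_coprime hcop
    refine ⟨fun h => ((hC g).1 h).pow_left u, fun h => (hC g).2 ?_⟩
    have := h.pow_left w
    rwa [hw] at this
  have htot : ∀ u ∈ (Finset.range p).erase 0,
      ∑ χ : {χ // χ ∈ B}, normAvg (sect p (x ^ u) e (χ.1 : G → ℂ)) = (l : ℝ) := by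
    intro u hu
    have hpow : ∃ k' : ℕ, orderOf (x ^ u) = p ^ k' := by
      obtain ⟨m', -, hm'⟩ := (Nat.dvd_prime_pow hM.1).1
        (show orderOf (x ^ u) ∣ p ^ 1 by rw [pow_one, ← hxo]; exact orderOf_pow_dvd u)
      exact ⟨m', hm'⟩
    have h := sum_sect_norm hM (hCu u hu) hpow hind
    rw [finsum_mem_eq_finite_toFinset_sum _ (Set.toFinite B),
      Finset.sum_subtype (p := (· ∈ B)) _ (fun y => Set.Finite.mem_toFinset _)
      (fun χ => ∑ s : C, sect p (x ^ u) e (χ : G → ℂ) s *
        conj (sect p (x ^ u) e (χ : G → ℂ) s))] at h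
    apply Complex.ofReal_injective
    rw [Complex.ofReal_sum]
    simp only [← classInner_self_eq_normAvg, classInner, ← Finset.mul_sum]
    rw [h, ← mul_assoc, inv_mul_cancel₀ natCard_ne_zero_complex, one_mul, Complex.ofReal_natCast]
  have hlow : ∀ χ : {χ // χ ∈ B}, ((p : ℝ) - 1) * l ≤
      (p : ℝ) ^ 2 * ∑ u ∈ (Finset.range p).erase 0, normAvg (sect p (x ^ u) e (χ.1 : G → ℂ)) := by
    intro χ
    have hsum : ∑ u ∈ (Finset.range p).erase 0, normAvg (sect p (x ^ u) e (χ.1 : G → ℂ)) =
        2⁻¹ * ∑ i, ∑ j, normAvg (v χ i - v χ j) := by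
      have hs : ∀ s, ∑ u ∈ (Finset.range p).erase 0,
          Complex.normSq (sect p (x ^ u) e (χ.1 : G → ℂ) s) =
          2⁻¹ * ∑ i, ∑ j, Complex.normSq (v χ i s - v χ j s) := by
        intro s
        rw [Finset.sum_congr rfl fun u hu => by rw [hsect u (hCu u hu) χ s], sum_pairs_normSq,
          Fintype.card_fin]
        have h := sum_range_mul_conj_pow hζ (fun j => v χ j s)
        rw [← Finset.add_sum_erase _ _ (Finset.mem_range.2 hM.1.pos)] at h
        simp only [Complex.mul_conj, zero_mul, pow_zero, mul_one] at h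
        norm_cast at h
        push_cast at h
        linarith
      simp only [normAvg, ← Finset.mul_sum]
      rw [Finset.sum_comm, Finset.sum_congr rfl fun s _ => hs s, ← Finset.mul_sum, mul_left_comm]
      congr 2
      rw [Finset.sum_comm]
      refine Finset.sum_congr rfl fun i _ => ?_
      rw [Finset.sum_comm]
      rfl
    have hne : ∃ i j, v χ i ≠ v χ j := by
      by_contra hall
      simp only [not_exists, ne_eq, not_not] at hall
      obtain ⟨ψ, hψ, hmin⟩ := exists_nu_eq_minExp (p := p) (IsPBlock.nonempty hB)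
      have hψ0 : blockHeight p B (ψ : G → ℂ) = 0 := by
        have := minExp_add_blockHeight (p := p) hψ; omega
      refine (contrib_height hM hC hx hind (hde.trans hd.symm) χ.2 hψ hψ0).1 ?_
      have hz : sect p x e (χ.1 : G → ℂ) = 0 := by
        funext s
        have h := hsect 1 (by simpa using hC) χ s
        rw [pow_one] at h
        rw [h]
        simp only [one_mul, hall _ ⟨0, hM.1.pos⟩, ← Finset.mul_sum]
        rw [Fin.sum_univ_eq_sum_range (fun j => ζ ^ j), hζ.geom_sum_eq_zero hM.1.one_lt, mul_zero]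
        rfl
      rw [contrib, hz]
      simp [classInner]
    obtain ⟨i₀, j₀, hij⟩ := hne
    have hpairs := two_mul_le_unequal_pairs (v χ) hij
    rw [Fintype.card_fin] at hpairs
    have hterm : ∀ i j, (if v χ i ≠ v χ j then (l : ℝ) else 0) ≤
        (p : ℝ) ^ 2 * normAvg (v χ i - v χ j) := by
      intro i j
      split_ifs with h
      · have e1 : v χ i - v χ j =
            ∑ η, (((fun η => cf χ i η - cf χ j η) η : ℤ) : ℂ) • pRegularPart p (η.1 : C → ℂ) := by
          simp only [hv, Int.cast_sub, sub_smul, Finset.sum_sub_distrib]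
        rw [e1]
        exact hq _ (e1 ▸ sub_ne_zero.2 h)
      · exact mul_nonneg (by positivity) (normAvg_nonneg _)
    have h2 : ((2 * (p - 1) : ℕ) : ℝ) * l ≤ ∑ i, ∑ j, if v χ i ≠ v χ j then (l : ℝ) else 0 := by
      refine le_trans (mul_le_mul_of_nonneg_right (Nat.cast_le.2 hpairs) hlpos.le) (le_of_eq ?_)
      push_cast
      simp only [Finset.sum_mul, ite_mul, one_mul, zero_mul]
    have h3 := le_trans h2 (Finset.sum_le_sum fun i _ => Finset.sum_le_sum fun j _ => hterm i j)
    simp only [← Finset.mul_sum] at h3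
    rw [hsum]
    push_cast [Nat.cast_sub hM.1.one_lt.le] at h3
    linarith
  have h := Finset.sum_le_sum fun χ (_ : χ ∈ (Finset.univ : Finset {χ // χ ∈ B})) => hlow χ
  rw [Finset.sum_const, ← Finset.mul_sum, Finset.sum_comm, Finset.sum_congr rfl htot,
    Finset.sum_const, Finset.card_erase_of_mem (Finset.mem_range.2 hM.1.pos), Finset.card_range,
    Finset.card_univ, nsmul_eq_mul, nsmul_eq_mul, Nat.cast_sub hM.1.one_lt.le, Nat.cast_one] at h
  have hp1 : (0 : ℝ) < (p : ℝ) - 1 := sub_pos.2 (Nat.one_lt_cast.2 hM.1.one_lt)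
  have hfin : (Fintype.card {χ // χ ∈ B} : ℝ) * (((p : ℝ) - 1) * l) ≤
      (p : ℝ) ^ 2 * (((p : ℝ) - 1) * l) := h
  have := le_of_mul_le_mul_right hfin (mul_pos hp1 hlpos)
  rw [Nat.card_eq_fintype_card]
  exact_mod_cast this

end Cfsg.Agent.Lib.Blocks
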