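import Cfsg.Agent.Lib.Blocks.Quotient2
import Cfsg.Agent.Lib.Coprime.Action
import Cfsg.Agent.Lib.Coprime.Generation

/-!
# Blocks modulo the derived subgroup of a normal `p`-subgroup
-/

set_option autoImplicit false
set_option linter.unusedSectionVars false
set_option linter.style.haveILetI false

namespace Cfsg.Agent.Lib.Blocks

open Cfsg Cfsg.Agent.Lib.Characters

universe u

variable {G : Type u} [Group G] [Fintype G] {M : Ideal AlgInt} [hMp : M.IsPrime] {p : ℕ}

/-- Block idempotents are supported modulo `M` on the centraliser of a normal `p`-subgroup. -/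
theorem memLocalIdeal_blockCoeff_of_notMem (hM : IsPModular p M) {Q : Subgroup G} [Q.Normal]
    (hQ : IsPGroup p Q) {B : Set (IrrCharacter G)} (hB : IsPBlock M B) {x : G}
    (hx : x ∉ Subgroup.centralizer (Q : Set G)) : MemLocalIdeal M (blockCoeff B x) := by
  classical
  haveI := Fact.mk hM.1
  have he := isRCentral_blockCoeff hM hB
  have ht : IsRCentral M (trunc Q (blockCoeff B)) :=
    ⟨isClassFunction_trunc_of_normal he.1, memLocalRing_trunc he.2⟩
  have hz := he.sub ht
  haveI : Finite (ConjClasses G) := Finite.of_surjective _ ConjClasses.mk_surjective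
  haveI := Fintype.ofFinite (ConjClasses G)
  obtain ⟨n, hn⟩ := exists_convPow_memLocalIdeal hM hz fun η => by
    rw [omega_eq_sum_classes (irr_isClassFunction η) hz.1]
    refine memLocalIdeal_sum _ fun C _ => ?_
    by_cases hC : (Quotient.out C : G) ∈ Subgroup.centralizer (Q : Set G)
    · rw [Pi.sub_apply, trunc_of_mem hC, sub_self, zero_mul]; exact memLocalIdeal_zero
    · exact memLocalIdeal_mul_left (hz.2 _) (by_contra fun h =>
        hC (mem_centralizer_of_centralChar_ne hM hQ h))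
  set e := redAlg (blockCoeff B) he.2 with hedef
  set t := redAlg (trunc Q (blockCoeff B)) ht.2 with htdef
  have hee : e * e = e := by
    rw [hedef, ← redAlg_conv _ _ he.2 he.2 (he.conv he).2, redAlg_eq_iff]
    intro x
    rw [blockCoeff_conv_self, sub_self]
    exact memLocalIdeal_zero
  have htt : t * t = t := by
    rw [htdef, ← redAlg_conv _ _ ht.2 ht.2 (ht.conv ht).2, redAlg_eq_iff]
    intro x
    have h := trunc_conv_congr hM Q hQ he.2 he.2 (isPInv_of_isClassFunction Q he.1)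
      (isPInv_of_isClassFunction Q he.1) x
    rw [blockCoeff_conv_self] at h
    simpa using memLocalIdeal_neg h
  have het : e * t = t * e := redAlg_central he t
  have hzred : redAlg (blockCoeff B - trunc Q (blockCoeff B)) hz.2 = e - t := by
    rw [eq_sub_iff_add_eq, hedef, htdef]
    refine MonoidAlgebra.coeff_injective (Finsupp.ext fun y => ?_)
    rw [MonoidAlgebra.coeff_add, Finsupp.add_apply, coeff_redAlg, coeff_redAlg, coeff_redAlg,
      ← map_add]
    congr 1
    exact Subtype.ext (sub_add_cancel _ _)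
  have hpow : ∀ m, redAlg (convPow (blockCoeff B - trunc Q (blockCoeff B)) m)
      (isRCentral_convPow hz m).2 = (e - t) ^ m := by
    intro m
    induction m with
    | zero => rw [pow_zero]; exact redAlg_deltaOne
    | succ m ih =>
      rw [pow_succ', ← ih, ← hzred, ← redAlg_conv]
      rfl
  have hcube : (e - t) * ((e - t) * (e - t)) = e - t := by
    have h1 : e * (e * t) = e * t := by rw [← mul_assoc, hee]
    have h2 : t * (e * t) = e * t := by rw [← mul_assoc, ← het, mul_assoc, htt]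
    simp only [sub_mul, mul_sub, htt, hee, ← het, h1, h2]
    abel
  have hodd : ∀ m, (e - t) ^ (2 * m + 1) = e - t := by
    intro m
    induction m with
    | zero => simp
    | succ m ih =>
      rw [show 2 * (m + 1) + 1 = 2 * m + 1 + 1 + 1 by ring, pow_succ, pow_succ, ih, mul_assoc, hcube]
  have hzero : e - t = 0 := by
    rw [← hodd n, ← hpow, redAlg_eq_zero_iff]
    exact hn _ (by omega)
  have := (redAlg_eq_iff he.2 ht.2).1 (sub_eq_zero.1 hzero) x
  rwa [trunc_of_notMem hx, sub_zero] at this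

variable (D : Subgroup G) [D.Normal]

theorem mem_centralizer_of_regular_defect [Fact p.Prime] (hD : IsPGroup p D) {x : G}
    (hx : ¬ p ∣ orderOf x) (hxD : ∀ d ∈ D, x * d * x⁻¹ * d⁻¹ ∈ ⁅D, D⁆) :
    x ∈ Subgroup.centralizer (D : Set G) := by
  have hfrat : ⁅D, D⁆ ≤ (frattini D).map D.subtype := by
    rw [← Subgroup.map_subtype_commutator]
    exact Subgroup.map_mono (Cfsg.Agent.Lib.Coprime.commutator_le_frattini_of_isPGroup hD)
  refine Cfsg.Agent.Lib.Coprime.le_centralizer_of_frattini (A := Subgroup.zpowers x) ?_ ?_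
    (Subgroup.mem_zpowers x)
  · rw [Nat.card_zpowers]
    obtain ⟨k, hk⟩ := IsPGroup.iff_card.1 (hD.to_subgroup (frattini D))
    rw [hk]
    exact (Nat.Coprime.pow_left k ((Fact.out : p.Prime).coprime_iff_not_dvd.2 hx)).symm
  · intro a ha
    obtain ⟨i, rfl⟩ := Subgroup.mem_zpowers_iff.1 ha
    intro d hd
    have h : ((x ^ i * d * (x ^ i)⁻¹ * d⁻¹ : G) : G ⧸ ⁅D, D⁆) = 1 := by
      have hc : Commute ((x : G) : G ⧸ ⁅D, D⁆) (d : G ⧸ ⁅D, D⁆) := by
        have h0 := (QuotientGroup.eq_one_iff _).2 (hxD d hd)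
        rw [QuotientGroup.mk_mul, QuotientGroup.mk_mul, QuotientGroup.mk_mul, QuotientGroup.mk_inv,
          QuotientGroup.mk_inv, mul_inv_eq_one, mul_inv_eq_iff_eq_mul] at h0
        exact h0
      rw [QuotientGroup.mk_mul, QuotientGroup.mk_mul, QuotientGroup.mk_mul, QuotientGroup.mk_inv,
        QuotientGroup.mk_inv, QuotientGroup.mk_zpow, (hc.zpow_left i).eq, mul_inv_cancel_right,
        mul_inv_cancel]
    exact hfrat ((QuotientGroup.eq_one_iff _).1 h)

theorem exists_regular_lift [Fact p.Prime] (hM : IsPModular p M) {K : Subgroup G} [K.Normal]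
    [Fintype (G ⧸ K)] (hK : IsPGroup p K) (x₀ : G) (hc : ¬ p ∣ orderOf (x₀ : G ⧸ K)) :
    ∃ y : G, ¬ p ∣ orderOf y ∧ (y : G ⧸ K) = x₀ := by
  obtain ⟨u, y, hxy, hcm, ⟨k, hk⟩, hy⟩ := exists_isPPart hM.1 x₀
  refine ⟨y, hy, ?_⟩
  have hu1 : QuotientGroup.mk' K u = 1 := by
    refine isPPart_unique hM.1 ⟨QuotientGroup.mk' K y, by rw [← map_mul, hxy]; rfl, hcm.map _,
      ?_, fun hd => hy (hd.trans (orderOf_map_dvd _ y))⟩ (isPPart_one_of_not_dvd hc)
    obtain ⟨i, -, hi⟩ := (Nat.dvd_prime_pow hM.1).1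
      (hk ▸ orderOf_map_dvd (QuotientGroup.mk' K) u)
    exact ⟨i, hi⟩
  show QuotientGroup.mk' K y = QuotientGroup.mk' K x₀
  rw [← hxy, map_mul, hu1, one_mul]

/-- Blocks of `G ⧸ D'` and of `G` correspond. -/
theorem sameBlock_derived_iff (hM : IsPModular p M) [Fintype (G ⧸ ⁅D, D⁆)]
    (hD : IsPGroup p D) (χ ψ : IrrCharacter (G ⧸ ⁅D, D⁆)) :
    SameBlock M (χ : G ⧸ ⁅D, D⁆ → ℂ) (ψ : G ⧸ ⁅D, D⁆ → ℂ) ↔
      SameBlock M (inflIrr ⁅D, D⁆ χ : G → ℂ) (inflIrr ⁅D, D⁆ ψ : G → ℂ) := by
  classical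
  haveI := Fact.mk hM.1
  refine ⟨sameBlock_inflIrr ⁅D, D⁆, fun h => ?_⟩
  have hKD : ⁅D, D⁆ ≤ D := Subgroup.commutator_le_self D
  have hK : IsPGroup p ↥⁅D, D⁆ := hD.to_le hKD
  have hDbar : IsPGroup p (D.map (QuotientGroup.mk' ⁅D, D⁆)) := hD.map _
  haveI : (D.map (QuotientGroup.mk' ⁅D, D⁆)).Normal :=
    Subgroup.Normal.map inferInstance _ (QuotientGroup.mk'_surjective _)
  have hB := isPBlock_blockOf (M := M) χ
  set E := blockCoeff (blockOf M (χ : G ⧸ ⁅D, D⁆ → ℂ)) with hEdef
  have hE : IsRCentral M E := isRCentral_blockCoeff hM hB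
  let L : G → ℂ := fun x => if ¬ p ∣ orderOf x ∧ x ∈ Subgroup.centralizer (D : Set G)
    then E (QuotientGroup.mk' ⁅D, D⁆ x) else 0
  have hL : IsRCentral M L := by
    refine ⟨fun x g => ?_, fun x => ?_⟩
    · have ho : orderOf (g * x * g⁻¹) = orderOf x :=
        orderOf_injective (MulAut.conj g).toMonoidHom (MulAut.conj g).injective x
      have hmem : g * x * g⁻¹ ∈ Subgroup.centralizer (D : Set G) ↔
          x ∈ Subgroup.centralizer (D : Set G) := by
        refine ⟨fun h => ?_, fun h => Subgroup.Normal.conj_mem inferInstance x h g⟩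
        simpa [mul_assoc] using
          Subgroup.Normal.conj_mem (inferInstance : (Subgroup.centralizer (D : Set G)).Normal) _ h g⁻¹
      simp only [L, ho, hmem, map_mul, map_inv, hE.1 _]
    · simp only [L]
      split_ifs
      exacts [hE.2 _, memLocalRing_zero]
  have hpush : ∀ c, MemLocalIdeal M (push ⁅D, D⁆ L c - E c) := by
    intro c
    by_cases hc : MemLocalIdeal M (E c)
    · refine memLocalIdeal_sub (memLocalIdeal_sum _ fun x _ => ?_) hc
      simp only [Set.indicator_apply, Set.mem_ofPred_eq, L]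
      split_ifs with hx hh
      · rw [hx]; exact hc
      · exact memLocalIdeal_zero
      · exact memLocalIdeal_zero
    · have hreg : ¬ p ∣ orderOf c := fun hd =>
        hc (by rw [hEdef, blockCoeff_eq_zero_of_dvd hM hB hd]; exact memLocalIdeal_zero)
      have hcen : c ∈ Subgroup.centralizer (D.map (QuotientGroup.mk' ⁅D, D⁆) : Set (G ⧸ ⁅D, D⁆)) :=
        by_contra fun hn => hc (memLocalIdeal_blockCoeff_of_notMem hM hDbar hB hn)
      obtain ⟨x₀, rfl⟩ := QuotientGroup.mk'_surjective ⁅D, D⁆ c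
      obtain ⟨y, hy, hyx⟩ := exists_regular_lift hM hK x₀ hreg
      have hyC : y ∈ Subgroup.centralizer (D : Set G) := by
        refine mem_centralizer_of_regular_defect D hD hy fun d hd => ?_
        rw [← QuotientGroup.eq_one_iff, QuotientGroup.mk_mul, QuotientGroup.mk_mul,
          QuotientGroup.mk_mul, QuotientGroup.mk_inv, QuotientGroup.mk_inv, mul_inv_eq_one,
          mul_inv_eq_iff_eq_mul, hyx]
        exact (Subgroup.mem_centralizer_iff.1 hcen _ ⟨d, hd, rfl⟩).symm
      rw [push, Finset.sum_eq_single y]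
      · rw [Set.indicator_of_mem
          (s := {x : G | QuotientGroup.mk' ⁅D, D⁆ x = QuotientGroup.mk' ⁅D, D⁆ x₀}) hyx]
        simp only [L, if_pos (And.intro hy hyC)]
        rw [show QuotientGroup.mk' ⁅D, D⁆ y = QuotientGroup.mk' ⁅D, D⁆ x₀ from hyx, sub_self]
        exact memLocalIdeal_zero
      · intro x _ hxy
        simp only [Set.indicator_apply, Set.mem_ofPred_eq, L]
        split_ifs with hx hh
        · exact absurd (eq_of_regular_of_commute ⁅D, D⁆ hM.1 hK hy
            (Subgroup.centralizer_le (SetLike.coe_subset_coe.2 hKD) hyC) hh.1 (hx.trans hyx.symm)) hxy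
        · rfl
        · rfl
      · simp
  have hc := omega_congr_of_sameBlock h hL
  change MemLocalIdeal M (omega ((χ : G ⧸ ⁅D, D⁆ → ℂ) ∘ QuotientGroup.mk' ⁅D, D⁆) L -
    omega ((ψ : G ⧸ ⁅D, D⁆ → ℂ) ∘ QuotientGroup.mk' ⁅D, D⁆) L) at hc
  rw [omega_comp_mk', omega_comp_mk'] at hc
  have hd : ∀ η : IrrCharacter (G ⧸ ⁅D, D⁆),
      MemLocalIdeal M (omega (η : G ⧸ ⁅D, D⁆ → ℂ) (push ⁅D, D⁆ L) - omega (η : G ⧸ ⁅D, D⁆ → ℂ) E) := by
    intro η
    rw [← omega_sub]
    exact memLocalIdeal_mul_omega hpush η ((isRCentral_push _ hL).sub hE).1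
  have hfin := memLocalIdeal_add (memLocalIdeal_sub hc (hd χ)) (hd ψ)
  rw [hEdef, omega_blockCoeff, omega_blockCoeff, if_pos (self_mem_blockOf χ)] at hfin
  by_contra hne
  rw [if_neg (fun hh : ψ ∈ blockOf M (χ : G ⧸ ⁅D, D⁆ → ℂ) => hne hh)] at hfin
  exact not_memLocalIdeal_one (by convert hfin using 1; ring)

end Cfsg.Agent.Lib.Blocks
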