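import Cfsg.Agent.Lib.Blocks.GramMinor
import Mathlib.LinearAlgebra.FreeModule.Finite.CardQuotient
import Mathlib.LinearAlgebra.Matrix.NonsingularInverse

/-!
# Forms of projection type with small discriminant

An integral symmetric matrix `A` with `A ^ 2 = q A` and trace `q l` takes values at least `l`
outside its kernel as soon as the discriminant group of its kernel lattice has at most `q`
elements; here this group is controlled by one functional modulo `q`.
-/

set_option autoImplicit false
set_option linter.unusedSectionVars false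

namespace Cfsg.Agent.Lib.Blocks

open Matrix

variable {ι : Type*}

variable [Fintype ι] [DecidableEq ι]

/-- **Forms of projection type with small discriminant.** -/
theorem le_projForm_of_disc {p : ℕ} (hp : 0 < p) {l : ℕ} (A : Matrix ι ι ℤ) (hsymm : Aᵀ = A)
    (hsq : A * A = (p : ℤ) • A) (htr : A.trace = (p : ℤ) * l)
    (hdiag : ∀ i, A i i ≠ (p : ℤ))
    (ψ : (ι → ℤ) →ₗ[ℤ] ℤ)
    (hψ : ∀ x, (p : ℤ) ∣ ψ x → ∃ n : ℤ, IsCoprime n (p : ℤ) ∧
      ∃ w, A *ᵥ w = 0 ∧ ∀ v, A *ᵥ v = 0 → (n • x - w) ⬝ᵥ v = 0)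
    (f : ι → ℤ) (hf : A *ᵥ f ≠ 0) : (l : ℤ) ≤ f ⬝ᵥ (A *ᵥ f) := by
  classical
  haveI : NeZero p := ⟨hp.ne'⟩
  have hp0 : (p : ℤ) ≠ 0 := Int.natCast_ne_zero.2 hp.ne'
  set B : Matrix ι ι ℤ := (p : ℤ) • 1 - A with hB
  have hAB : A * B = 0 := by rw [hB, Matrix.mul_sub, Matrix.mul_smul, Matrix.mul_one, hsq, sub_self]
  have hBT : Bᵀ = B := by rw [hB, transpose_sub, transpose_smul, transpose_one, hsymm]
  -- the saturated lattice
  set φ := A.mulVecLin.rangeRestrict with hφ
  obtain ⟨σ, hσ⟩ := Module.projective_lifting_property φ LinearMap.id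
    A.mulVecLin.surjective_rangeRestrict
  let π : (ι → ℤ) →ₗ[ℤ] LinearMap.ker A.mulVecLin :=
    (LinearMap.id - σ.comp φ).codRestrict _ fun v => by
      have h1 := LinearMap.congr_fun hσ (φ v)
      simp only [LinearMap.comp_apply, LinearMap.id_apply] at h1
      have h2 := congrArg Subtype.val h1
      simp only [hφ, LinearMap.codRestrict_apply] at h2
      rw [LinearMap.mem_ker, LinearMap.sub_apply, LinearMap.id_apply, LinearMap.comp_apply, map_sub,
        sub_eq_zero]
      exact h2.symm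
  have hπ : ∀ v : LinearMap.ker A.mulVecLin, π v.1 = v := fun v => by
    apply Subtype.ext
    show v.1 - σ (φ v.1) = v.1
    rw [show φ v.1 = 0 from Subtype.ext (LinearMap.mem_ker.1 v.2), map_zero, sub_zero]
  obtain ⟨r, b⟩ := Submodule.basisOfPid (Pi.basisFun ℤ ι) (LinearMap.ker A.mulVecLin)
  set N : Matrix (Fin r) ι ℤ := Matrix.of fun a => (b a).1 with hN
  set S : Matrix (Fin r) ι ℤ := LinearMap.toMatrix' (b.equivFun.toLinearMap.comp π) with hS
  have hSv : ∀ v, S *ᵥ v = b.equivFun (π v) := fun v => by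
    rw [hS, LinearMap.toMatrix'_mulVec]; rfl
  have hNS : ∀ v, A *ᵥ v = 0 → Nᵀ *ᵥ (S *ᵥ v) = v := by
    intro v hv
    have h := congrArg Subtype.val (b.sum_equivFun ⟨v, hv⟩)
    rw [hSv, hπ ⟨v, hv⟩]
    funext i
    have h' := congrFun h i
    simp only [AddSubmonoidClass.coe_finsetSum, SetLike.val_smul, Finset.sum_apply, Pi.smul_apply,
      smul_eq_mul] at h'
    rw [← h']
    simp [mulVec, dotProduct, hN, mul_comm]
  have hSN : S * Nᵀ = 1 := by
    ext a a'
    have h : (S * Nᵀ) a a' = (S *ᵥ (b a').1) a := rfl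
    rw [h, hSv, hπ, Module.Basis.equivFun_self, Matrix.one_apply]
    exact if_congr eq_comm rfl rfl
  have hAN : A * Nᵀ = 0 := by
    ext i a
    exact congrFun (LinearMap.mem_ker.1 (b a).2) i
  have hBN : B * Nᵀ = (p : ℤ) • Nᵀ := by
    rw [hB, Matrix.sub_mul, hAN, Matrix.smul_mul, Matrix.one_mul, sub_zero]
  have hNB : N * B = (p : ℤ) • N := by
    have h := congrArg Matrix.transpose hBN
    rwa [transpose_mul, transpose_smul, transpose_transpose, hBT] at h
  have hBR : B = Nᵀ * (S * B) := by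
    ext i j
    have h := hNS (fun k => B k j) (by
      funext k; exact congrFun (congrFun hAB k) j)
    exact (congrFun h i).symm
  set Q := S * B * Sᵀ with hQ
  set Gm := N * Nᵀ with hG
  have hNST : N * Sᵀ = 1 := by
    have h := congrArg Matrix.transpose hSN
    rwa [transpose_mul, transpose_transpose, transpose_one] at h
  have hGQ : Gm * Q = (p : ℤ) • 1 := by
    rw [hG, hQ, ← Matrix.mul_assoc, Matrix.mul_assoc N Nᵀ (S * B), ← hBR, hNB, Matrix.smul_mul,
      hNST]
  have hQT : Qᵀ = Q := by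
    rw [hQ, transpose_mul, transpose_mul, transpose_transpose, hBT, Matrix.mul_assoc]
  have hGT : Gmᵀ = Gm := by rw [hG, transpose_mul, transpose_transpose]
  have hQG : Q * Gm = (p : ℤ) • 1 := by
    have h := congrArg Matrix.transpose hGQ
    rwa [transpose_mul, hQT, hGT, transpose_smul, transpose_one] at h
  have hBS : B * Sᵀ = (S * B)ᵀ := by rw [transpose_mul, hBT]
  have hQN : Q * N = S * B := by
    have h : B = (S * B)ᵀ * N := by
      conv_lhs => rw [← hBT, hBR]
      rw [transpose_mul, transpose_transpose]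
    rw [hQ, Matrix.mul_assoc S B, hBS, Matrix.mul_assoc, ← h]
  have hBform : B = Nᵀ * Q * N := by rw [Matrix.mul_assoc, hQN, ← hBR]
  -- the rank
  have hr : (r : ℤ) + l = Fintype.card ι := by
    have h1 : B.trace = (p : ℤ) * r := by
      rw [hBform, Matrix.trace_mul_cycle, ← hG, hGQ, trace_smul, trace_one, Fintype.card_fin]
      rfl
    have h2 : B.trace = (p : ℤ) * Fintype.card ι - (p : ℤ) * l := by
      rw [hB, trace_sub, trace_smul, trace_one, htr]; rfl
    refine mul_left_cancel₀ hp0 ?_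
    linarith
  have hdetG0 : Gm.det ≠ 0 := fun h => by
    have h' := congrArg Matrix.det hGQ
    rw [det_mul, h, zero_mul, det_smul, det_one, mul_one] at h'
    exact pow_ne_zero _ hp0 h'.symm
  have hdetQ0 : Q.det ≠ 0 := fun h => by
    have h' := congrArg Matrix.det hGQ
    rw [det_mul, h, mul_zero, det_smul, det_one, mul_one] at h'
    exact pow_ne_zero _ hp0 h'.symm
  -- the determinant is at most `p`
  have hle0 : Gm.det.natAbs ≤ p := by
    set R := LinearMap.range Gm.mulVecLin with hR
    have hinj : Function.Injective Gm.mulVecLin := fun v w h => smul_right_injective _ hp0 (by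
      simpa [Matrix.mulVec_mulVec, hQG, smul_mulVec] using congrArg (fun z => Q *ᵥ z) h)
    let bN : Module.Basis (Fin r) ℤ R :=
      (Pi.basisFun ℤ (Fin r)).map (LinearEquiv.ofInjective _ hinj)
    have hdet := Submodule.natAbs_det_basis_change (Pi.basisFun ℤ (Fin r)) R bN
    have htm : (Pi.basisFun ℤ (Fin r)).toMatrix ((↑) ∘ bN) = Gm := by
      ext a c
      simp [bN, Module.Basis.toMatrix_apply, Matrix.mulVec_single_one, Matrix.col_apply]
      exact (congrFun (Matrix.mulVec_single_one Gm c) a).trans rfl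
    rw [Module.Basis.det_apply, htm] at hdet
    rw [hdet]
    let φ' : (Fin r → ℤ) →ₗ[ℤ] ZMod p :=
      (Int.castAddHom (ZMod p)).toIntLinearMap.comp (ψ.comp Sᵀ.mulVecLin)
    have hker : LinearMap.ker φ' ≤ R := by
      intro y hy
      have hy' : (p : ℤ) ∣ ψ (Sᵀ *ᵥ y) := (ZMod.intCast_zmod_eq_zero_iff_dvd _ p).1 hy
      obtain ⟨n, hn, w, hw, horth⟩ := hψ _ hy'
      have h1 : N *ᵥ (n • (Sᵀ *ᵥ y) - w) = 0 := by
        funext a
        rw [mulVec, dotProduct_comm]
        exact horth _ (LinearMap.mem_ker.1 (b a).2)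
      have h2 : n • y = Gm *ᵥ (S *ᵥ w) := by
        rw [mulVec_sub, mulVec_smul, mulVec_mulVec, hNST, one_mulVec, sub_eq_zero] at h1
        rw [h1, hG, ← mulVec_mulVec, hNS w hw]
      have h3 : (p : ℤ) • y = Gm *ᵥ (Q *ᵥ y) := by
        rw [mulVec_mulVec, hGQ, smul_mulVec, one_mulVec]
      obtain ⟨s, t, hst⟩ := hn
      refine ⟨s • (S *ᵥ w) + t • (Q *ᵥ y), ?_⟩
      rw [Matrix.mulVecLin_apply, mulVec_add, mulVec_smul, mulVec_smul, ← h2, ← h3, smul_smul,
        smul_smul, ← add_smul, hst, one_smul]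
    haveI : Finite ((Fin r → ℤ) ⧸ LinearMap.ker φ') :=
      Finite.of_equiv _ φ'.quotKerEquivRange.symm.toEquiv
    refine (Nat.card_le_card_of_surjective _ (Submodule.factor_surjective hker)).trans ?_
    rw [Nat.card_congr φ'.quotKerEquivRange.toEquiv]
    exact (Nat.card_le_card_of_injective _ Subtype.val_injective).trans (Nat.card_zmod p).le
  -- the extended Gram matrix
  set cv : Matrix (Fin r) Unit ℤ := Matrix.of fun a _ => (N *ᵥ f) a with hcv
  set G' := fromBlocks Gm cv cvᵀ (Matrix.of fun _ _ : Unit => f ⬝ᵥ f) with hG'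
  set q := f ⬝ᵥ (A *ᵥ f) with hq
  have hqnn : 0 < q := by
    have h : (p : ℤ) * q = (A *ᵥ f) ⬝ᵥ (A *ᵥ f) := by
      rw [hq, ← smul_eq_mul, ← dotProduct_smul, ← smul_mulVec, ← hsq, ← mulVec_mulVec,
        dotProduct_mulVec, ← mulVec_transpose, hsymm]
    have h0 : 0 < (A *ᵥ f) ⬝ᵥ (A *ᵥ f) :=
      lt_of_le_of_ne (Finset.sum_nonneg fun i _ => mul_self_nonneg _)
        (Ne.symm fun h => hf (dotProduct_self_eq_zero.1 h))
    rw [← h] at h0
    exact pos_of_mul_pos_right h0 (Int.natCast_nonneg p)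
  have hGdet : Gm.det * q = (p : ℤ) * G'.det := by
    set L := fromBlocks Q 0 (-(cvᵀ * Q)) ((p : ℤ) • (1 : Matrix Unit Unit ℤ)) with hL
    have hprod : L * G' = fromBlocks ((p : ℤ) • 1) (Q * cv) 0 (Matrix.of fun _ _ : Unit => q) := by
      rw [hL, hG', fromBlocks_multiply]
      simp only [Matrix.zero_mul, add_zero, hQG]
      congr 1
      · rw [Matrix.neg_mul, Matrix.mul_assoc, hQG, Matrix.mul_smul, Matrix.mul_one, Matrix.smul_mul,
          Matrix.one_mul, neg_add_cancel]
      · ext _ _
        have h1 : (cvᵀ * Q * cv) () () = f ⬝ᵥ (B *ᵥ f) := by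
          rw [hBform, ← mulVec_mulVec, ← mulVec_mulVec, dotProduct_mulVec, vecMul_transpose,
            Matrix.mul_assoc]
          rfl
        have h2 : f ⬝ᵥ (B *ᵥ f) = (p : ℤ) * (f ⬝ᵥ f) - q := by
          rw [hB, sub_mulVec, smul_mulVec, one_mulVec, dotProduct_sub, dotProduct_smul, smul_eq_mul]
        rw [Matrix.neg_mul, Matrix.smul_mul, Matrix.one_mul, Matrix.add_apply, Matrix.neg_apply,
          Matrix.smul_apply, h1, h2, smul_eq_mul, of_apply, of_apply]
        ring
    have h := congrArg Matrix.det hprod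
    rw [det_mul, hL, det_fromBlocks_zero₁₂, det_fromBlocks_zero₂₁, det_smul, det_smul, det_one,
      det_one, det_unique (Matrix.of fun _ _ : Unit => q), Fintype.card_fin, Fintype.card_unit, pow_one,
      mul_one, mul_one] at h
    have hpr : Gm.det * Q.det = (p : ℤ) ^ r := by
      rw [← det_mul, hGQ, det_smul, det_one, mul_one, Fintype.card_fin]
    rw [← hpr] at h
    simp only [of_apply] at h
    refine mul_left_cancel₀ hdetQ0 ?_
    linear_combination -h
  have hG'0 : G'.det ≠ 0 := fun h => by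
    rw [h, mul_zero] at hGdet
    exact (mul_ne_zero hdetG0 hqnn.ne') hGdet
  have hG'le : G'.det ≤ q := by
    have hGpos : 0 < Gm.det := by
      refine lt_of_le_of_ne ?_ (Ne.symm hdetG0)
      have h := det_colGram_nonneg (Finset.univ : Finset ι) (fun i a => N a i)
      rwa [show colGram Finset.univ (fun i a => N a i) = Gm by
        ext a c; simp [colGram, hG, Matrix.sum_apply, vecMulVec_apply, mul_apply]] at h
    have hle : Gm.det ≤ (p : ℤ) := Int.le_natAbs.trans (by exact_mod_cast hle0)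
    refine le_of_mul_le_mul_left ?_ (show (0 : ℤ) < (p : ℤ) by exact_mod_cast hp)
    rw [← hGdet]
    exact mul_le_mul_of_nonneg_right hle hqnn.le
  -- the columns
  have hG'col : G' = colGram Finset.univ (fun i => Sum.elim (fun a => N a i) (fun _ : Unit => f i)) := by
    ext a c
    rcases a with a | a <;> rcases c with c | c <;>
      simp [hG', hG, hcv, colGram, Matrix.sum_apply, vecMulVec_apply, mul_apply, mulVec, dotProduct,
        mul_comm]
  have hcol : ∀ i, (fun a => Sum.elim (fun a => N a i) (fun _ : Unit => f i) a) ≠ 0 := by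
    intro i h
    have hz : ∀ a, N a i = 0 := fun a => congrFun h (Sum.inl a)
    have hBii : B i i = 0 := by
      rw [hBform, Matrix.mul_assoc, Matrix.mul_apply]
      exact Finset.sum_eq_zero fun a _ => by rw [transpose_apply, hz, zero_mul]
    apply hdiag i
    rw [hB, Matrix.sub_apply, Matrix.smul_apply, Matrix.one_apply_eq, smul_eq_mul, mul_one] at hBii
    linarith
  have hmain := card_le_det_colGram (fun i => Sum.elim (fun a => N a i) (fun _ : Unit => f i))
    (Fintype.card ι) Finset.univ Finset.card_univ (fun i _ => hcol i) (hG'col ▸ hG'0)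
  rw [← hG'col, Fintype.card_sum, Fintype.card_fin, Fintype.card_unit] at hmain
  push_cast at hmain
  linarith

end Cfsg.Agent.Lib.Blocks
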