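import Cfsg.Agent.Lib.Fusion.Essential
import Mathlib

/-!
Transvections in a linear group with a strongly `p`-embedded subgroup.
-/

set_option autoImplicit false
set_option linter.unusedSectionVars false
set_option linter.style.haveILetI false

namespace Cfsg.Agent.Lib.EmbeddedTransvection

open scoped commutatorElement
open Cfsg Cfsg.Agent.Lib.Fusion

variable {X : Type*} [Group X] [Finite X] {p : ℕ} [hp : Fact p.Prime]
  {P : Sylow p X} {Y : Subgroup X}

theorem isPGroup_zpowers {y : X} (hy : y ^ p = 1) : IsPGroup p (Subgroup.zpowers y) := fun u => by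
  obtain ⟨i, hi⟩ := Subgroup.mem_zpowers_iff.1 u.2
  refine ⟨1, Subtype.ext ?_⟩
  show (u : X) ^ p ^ 1 = 1
  rw [pow_one, ← hi, ← zpow_natCast, ← zpow_mul, mul_comm, zpow_mul, zpow_natCast, hy, one_zpow]

theorem exists_conj_mem (hY : kGeneratedCore p 1 (P : Subgroup X) ≤ Y) (hPY : (P : Subgroup X) ≤ Y)
    {y : X} (hyY : y ∈ Y) (hy : y ^ p = 1) : ∃ k ∈ Y, k * y * k⁻¹ ∈ (P : Subgroup X) := by
  obtain ⟨T, hT⟩ := (isPGroup_zpowers (X := Y) (y := ⟨y, hyY⟩) (Subtype.ext hy)).exists_le_sylow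
  obtain ⟨k, hk⟩ := MulAction.exists_smul_eq Y T (P.subtype hPY)
  refine ⟨k, k.2, ?_⟩
  have h1 : k * ⟨y, hyY⟩ * k⁻¹ ∈ ((P.subtype hPY : Sylow p Y) : Subgroup Y) := by
    rw [← hk, Sylow.coe_subgroup_smul]
    exact ⟨_, hT (Subgroup.mem_zpowers _), rfl⟩
  exact h1

/-- The centralizer of a `p`-element of `Y` lies in `Y`. -/
theorem centralizer_le (hY : kGeneratedCore p 1 (P : Subgroup X) ≤ Y) (hPY : (P : Subgroup X) ≤ Y)
    {y g : X} (hyY : y ∈ Y) (hy : y ^ p = 1) (hy1 : y ≠ 1) (hg : Commute g y) : g ∈ Y := by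
  obtain ⟨k, hkY, hk⟩ := exists_conj_mem hY hPY hyY hy
  have h1 : k * g * k⁻¹ ∈ Y := commute_mem_of_core hY hk (fun e => hy1 (conj_eq_one_iff.1 e))
    (show _ * _ = _ * _ by
      calc k * g * k⁻¹ * (k * y * k⁻¹) = k * (g * y) * k⁻¹ := by group
        _ = k * (y * g) * k⁻¹ := by rw [hg.eq]
        _ = k * y * k⁻¹ * (k * g * k⁻¹) := by group)
  rwa [Subgroup.mul_mem_cancel_right _ (Y.inv_mem hkY), Subgroup.mul_mem_cancel_left _ hkY] at h1

/-- An element moving a nontrivial element of order `p` of `P` into `Y` lies in `Y`. -/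
theorem mem_of_conj_mem (hY : kGeneratedCore p 1 (P : Subgroup X) ≤ Y) (hPY : (P : Subgroup X) ≤ Y)
    {u g : X} (hu : u ∈ (P : Subgroup X)) (hup : u ^ p = 1) (hu1 : u ≠ 1) (hg : g * u * g⁻¹ ∈ Y) : g ∈ Y := by
  obtain ⟨k, hkY, hk⟩ := exists_conj_mem hY hPY hg (by rw [conj_pow, hup, mul_one, mul_inv_cancel])
  have h1 := mem_of_core hY hu hu1 (g := k * g) (by
    rwa [show k * g * u * (k * g)⁻¹ = k * (g * u * g⁻¹) * k⁻¹ by group])
  rwa [Subgroup.mul_mem_cancel_left _ hkY] at h1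

variable {V : Type*} [AddCommGroup V] [Module (ZMod p) V] (ρ : X →* Module.End (ZMod p) V)

/-- `y` acts as the transvection with centre `w` and axis the kernel of `f`. -/
structure Tv (y : X) (w : V) (f : V →ₗ[ZMod p] ZMod p) : Prop where
  act : ∀ e, ρ y e = e + f e • w
  axis : f w = 0

variable {ρ} {x y : X} {v w : V} {k f : V →ₗ[ZMod p] ZMod p}

theorem Tv.inv (h : Tv ρ x v k) (e : V) : ρ x⁻¹ e = e - k e • v := by
  have h1 : ρ x⁻¹ (ρ x (e - k e • v)) = e - k e • v := by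
    rw [← Module.End.mul_apply, ← map_mul, inv_mul_cancel, map_one]; rfl
  rw [h.act, map_sub, map_smul, h.axis, smul_zero, sub_zero, sub_add_cancel] at h1
  exact h1

theorem Tv.npow (h : Tv ρ x v k) (m : ℕ) (e : V) : ρ (x ^ m) e = e + ((m : ZMod p) * k e) • v := by
  induction m with
  | zero => simp
  | succ m ih =>
    rw [pow_succ', map_mul, Module.End.mul_apply, ih, h.act]
    simp only [map_add, map_smul, h.axis, smul_zero, add_zero]
    push_cast
    module

theorem Tv.conj (h : Tv ρ x v k) (g : X) : Tv ρ (g * x * g⁻¹) (ρ g v) (k.comp (ρ g⁻¹)) where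
  act e := by
    rw [map_mul, map_mul, Module.End.mul_apply, Module.End.mul_apply, h.act, map_add, map_smul,
      ← Module.End.mul_apply, ← map_mul, mul_inv_cancel, map_one]
    rfl
  axis := by
    show k (ρ g⁻¹ (ρ g v)) = 0
    rw [← Module.End.mul_apply, ← map_mul, inv_mul_cancel, map_one]
    exact h.axis

theorem Tv.pow_p (hρ : Function.Injective ρ) (h : Tv ρ x v k) : x ^ p = 1 :=
  hρ (LinearMap.ext fun e => by rw [h.npow, ZMod.natCast_self, zero_mul, zero_smul, add_zero, map_one]; rfl)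

theorem Tv.commute (hρ : Function.Injective ρ) (hx : Tv ρ x v k) (hy : Tv ρ y w f) (h1 : k w = 0) (h2 : f v = 0) :
    Commute x y :=
  hρ (LinearMap.ext fun e => by
    simp only [map_mul, Module.End.mul_apply, hx.act, hy.act, map_add, map_smul, h1, h2, smul_zero, add_zero]
    abel)

theorem Tv.comm (hx : Tv ρ x v k) (hy : Tv ρ y w f) (h1 : k w = 0) : Tv ρ ⁅x, y⁆ w (-(f v) • k) where
  act e := by
    simp only [commutatorElement_def, map_mul, Module.End.mul_apply, hx.inv, hy.inv, hx.act, hy.act,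
      map_add, map_sub, map_smul, hx.axis, hy.axis, h1, smul_zero, add_zero, sub_zero, LinearMap.smul_apply]
    simp only [smul_eq_mul]
    module
  axis := by simp [h1]

theorem Tv.ne_one (h : Tv ρ x v k) (hk : k ≠ 0) (hv : v ≠ 0) : x ≠ 1 := by
  intro e
  obtain ⟨u, hu⟩ : ∃ u, k u ≠ 0 := by
    by_contra hc
    push Not at hc
    exact hk (LinearMap.ext hc)
  have := h.act u
  rw [e, map_one, Module.End.one_apply, left_eq_add, smul_eq_zero] at this
  exact this.elim hu hv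

variable [Module.Free (ZMod p) V]

/-- A conjugate of the transvection outside `Y` is in general position. -/
theorem nondegenerate (hρ : Function.Injective ρ) (hY : kGeneratedCore p 1 (P : Subgroup X) ≤ Y)
    (hPY : (P : Subgroup X) ≤ Y) (hx : x ∈ (P : Subgroup X)) (h : Tv ρ x v k) (hk : k ≠ 0) (hv : v ≠ 0)
    {g : X} (hg : g ∉ Y) : k (ρ g⁻¹ v) ≠ 0 ∧ k (ρ g v) ≠ 0 := by
  have hx1 := h.ne_one hk hv
  have hy := h.conj g
  set y := g * x * g⁻¹ with hyd
  set w := ρ g v with hwd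
  set f := k.comp (ρ g⁻¹) with hfd
  have hw : w ≠ 0 := fun e => hv (by
    have := congrArg (ρ g⁻¹) e
    rwa [map_zero, hwd, ← Module.End.mul_apply, ← map_mul, inv_mul_cancel, map_one, Module.End.one_apply] at this)
  have hf : f ≠ 0 := fun e => hk (LinearMap.ext fun u => by
    have := LinearMap.congr_fun e (ρ g u)
    rwa [hfd, LinearMap.comp_apply, ← Module.End.mul_apply, ← map_mul, inv_mul_cancel, map_one,
      Module.End.one_apply, LinearMap.zero_apply] at this)
  have hyY : y ∉ Y := fun e => hg (mem_of_conj_mem hY hPY hx (h.pow_p hρ) hx1 e)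
  have hfv : f v = k (ρ g⁻¹ v) := rfl
  rw [← hfv]
  constructor
  · intro h2
    by_cases h1 : k w = 0
    · exact hyY (commute_mem_of_core hY hx hx1 (h.commute hρ hy h1 h2).symm)
    · have hc := hy.comm h h2
      have hc0 : -(k w) • f ≠ 0 := smul_ne_zero (neg_ne_zero.mpr h1) hf
      refine hyY (centralizer_le hY hPY (commute_mem_of_core hY hx hx1
        (hc.commute hρ h (by simp [h.axis, h2]) h.axis)) (hc.pow_p hρ) (hc.ne_one hc0 hv) ?_)
      exact hy.commute hρ hc h2 (by simp [hy.axis])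
  · intro h1
    by_cases h2 : f v = 0
    · exact hyY (commute_mem_of_core hY hx hx1 (h.commute hρ hy h1 h2).symm)
    · have hc := h.comm hy h1
      have hc0 : -(f v) • k ≠ 0 := smul_ne_zero (neg_ne_zero.mpr h2) hk
      refine hyY (centralizer_le hY hPY (commute_mem_of_core hY hx hx1
        (hc.commute hρ h (by simp [h.axis]) h1)) (hc.pow_p hρ) (hc.ne_one hc0 hw) ?_)
      exact hy.commute hρ hc hy.axis (by simp [h1])

/-- With a transvection, a strongly `p`-embedded subgroup forces Sylow subgroups of order `p`. -/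
theorem card_sylow (hρ : Function.Injective ρ) (hY : kGeneratedCore p 1 (P : Subgroup X) ≤ Y)
    (hPY : (P : Subgroup X) ≤ Y) (hYt : Y ≠ ⊤) (hx : x ∈ (P : Subgroup X)) (h : Tv ρ x v k) (hk : k ≠ 0)
    (hv : v ≠ 0) : (P : Subgroup X) = Subgroup.zpowers x := by
  obtain ⟨g, -, hg⟩ := SetLike.exists_of_lt (lt_top_iff_ne_top.mpr hYt)
  have hxY : x ∈ Y := hPY hx
  have key : ∀ g' : X, g' ∉ Y → ∃ m : ℕ, g⁻¹ * x ^ m * g' ∈ Y := by
    intro g' hg'
    obtain ⟨a1, -⟩ := nondegenerate hρ hY hPY hx h hk hv hg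
    obtain ⟨-, a2⟩ := nondegenerate hρ hY hPY hx h hk hv hg'
    refine ⟨(-(k (ρ g⁻¹ (ρ g' v))) / (k (ρ g' v) * k (ρ g⁻¹ v))).val, ?_⟩
    by_contra hn
    refine (nondegenerate hρ hY hPY hx h hk hv hn).2 ?_
    rw [map_mul, map_mul, Module.End.mul_apply, Module.End.mul_apply, h.npow, ZMod.natCast_zmod_val,
      map_add, map_smul, map_add, map_smul, smul_eq_mul]
    field_simp
    ring
  refine le_antisymm (fun t ht => ?_) (Subgroup.zpowers_le.mpr hx)
  have htg : t * g ∉ Y := fun e => hg ((Subgroup.mul_mem_cancel_left _ (hPY ht)).mp e)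
  obtain ⟨m, hm⟩ := key _ htg
  set u := x ^ m * t with hu
  have huP : u ∈ (P : Subgroup X) := mul_mem (pow_mem hx m) ht
  by_cases hu1 : u = 1
  · rw [show t = (x ^ m)⁻¹ from eq_inv_of_mul_eq_one_right hu1]
    exact inv_mem (pow_mem (Subgroup.mem_zpowers x) m)
  · exfalso
    obtain ⟨r, hr⟩ := (IsPGroup.iff_orderOf (G := (P : Subgroup X))).mp P.2 ⟨u, huP⟩
    rw [Subgroup.orderOf_mk] at hr
    have hr0 : r ≠ 0 := fun e => hu1 (orderOf_eq_one_iff.mp (by rw [hr, e, pow_zero]))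
    set q := u ^ p ^ (r - 1) with hq
    have hqp : q ^ p = 1 := by
      rw [hq, ← pow_mul, ← pow_succ, Nat.sub_add_cancel (Nat.pos_of_ne_zero hr0), ← hr]
      exact pow_orderOf_eq_one u
    have hq1 : q ≠ 1 := fun e => by
      have := orderOf_dvd_of_pow_eq_one e
      rw [hr, Nat.pow_dvd_pow_iff_le_right hp.out.one_lt] at this
      omega
    have hgq : g⁻¹ * q * g⁻¹⁻¹ ∈ Y := by
      have h1 : g⁻¹ * u * g⁻¹⁻¹ ∈ Y := by rwa [inv_inv, hu, mul_assoc g⁻¹, mul_assoc (x ^ m), ← mul_assoc g⁻¹]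
      have h2 := Y.pow_mem h1 (p ^ (r - 1))
      rwa [conj_pow] at h2
    exact hg (inv_mem_iff.mp (mem_of_conj_mem hY hPY (pow_mem huP _) hqp hq1 hgq))

/-- The split torus of the group generated by the transvection and a conjugate. -/
theorem exists_torus (hρ : Function.Injective ρ) (hY : kGeneratedCore p 1 (P : Subgroup X) ≤ Y)
    (hPY : (P : Subgroup X) ≤ Y) (hYt : Y ≠ ⊤) (hx : x ∈ (P : Subgroup X)) (h : Tv ρ x v k) (hk : k ≠ 0)
    (hv : v ≠ 0) : ∃ (w : V) (f : V →ₗ[ZMod p] ZMod p), f w = 0 ∧ f v ≠ 0 ∧ k w ≠ 0 ∧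
      ∀ c : ZMod p, c ≠ 0 → ∃ α : X, ρ α v = c • v ∧ ρ α w = c⁻¹ • w ∧
        ∀ u, k u = 0 → f u = 0 → ρ α u = u := by
  obtain ⟨g, -, hg⟩ := SetLike.exists_of_lt (lt_top_iff_ne_top.mpr hYt)
  obtain ⟨hfv, hkw⟩ := nondegenerate hρ hY hPY hx h hk hv hg
  have hy := h.conj g
  refine ⟨ρ g v, k.comp (ρ g⁻¹), hy.axis, hfv, hkw, fun c hc => ?_⟩
  set y := g * x * g⁻¹
  set w := ρ g v
  set f := k.comp (ρ g⁻¹)
  let A : ZMod p → X := fun t => x ^ (t / k w).val
  let B : ZMod p → X := fun t => y ^ (t / f v).val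
  let M : ZMod p → X := fun t => A t * B (-t⁻¹) * A t
  have hfv' : f v ≠ 0 := hfv
  have hA : ∀ t e, ρ (A t) e = e + (t / k w * k e) • v := fun t e => by
    simp only [A, h.npow, ZMod.natCast_zmod_val]
  have hB : ∀ t e, ρ (B t) e = e + (t / f v * f e) • w := fun t e => by
    simp only [B, hy.npow, ZMod.natCast_zmod_val]
  have hMv : ∀ t ≠ 0, ρ (M t) v = (-t⁻¹) • w := fun t ht => by
    simp only [M, map_mul, Module.End.mul_apply, hA, hB, map_add, map_smul, h.axis, hy.axis, smul_eq_mul,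
      mul_zero, zero_smul, add_zero, zero_add, div_mul_cancel₀ _ hfv']
    rw [mul_left_comm, div_mul_cancel₀ _ hkw, neg_mul, inv_mul_cancel₀ ht]
    module
  have hMw : ∀ t ≠ 0, ρ (M t) w = t • v := fun t ht => by
    simp only [M, map_mul, Module.End.mul_apply, hA, hB, map_add, map_smul, h.axis, hy.axis, smul_eq_mul,
      mul_zero, zero_smul, add_zero, zero_add, div_mul_cancel₀ _ hkw, div_mul_cancel₀ _ hfv']
    simp only [smul_add, smul_smul]
    have e1 : t * -t⁻¹ = -1 := by field_simp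
    have e2 : t * (t / k w * (-t⁻¹ * k w)) = -t := by field_simp
    rw [e1, e2]
    module
  have hMu : ∀ t u, k u = 0 → f u = 0 → ρ (M t) u = u := fun t u h1 h2 => by
    simp only [M, map_mul, Module.End.mul_apply, hA, hB, h1, h2, mul_zero, zero_smul, add_zero]
  refine ⟨M c * M (-1), ?_, ?_, fun u h1 h2 => by rw [map_mul, Module.End.mul_apply, hMu _ _ h1 h2, hMu _ _ h1 h2]⟩
  · rw [map_mul, Module.End.mul_apply, hMv _ (by simp), map_smul, hMw _ hc]
    simp
  · rw [map_mul, Module.End.mul_apply, hMw _ (by simp), map_smul, hMv _ hc]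
    simp

end Cfsg.Agent.Lib.EmbeddedTransvection
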