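import Cfsg.Agent.Lib.Blocks.EmbeddedTransvection
import Cfsg.Agent.Lib.Fusion.NormalCriteria

/-!
An essential elementary abelian subgroup of order `p ^ 3` on which some element of `S` induces a
transvection has normalizer of order `p ^ 4`, with a torus acting on it.
-/

set_option autoImplicit false
set_option linter.unusedSectionVars false
set_option linter.style.haveILetI false

namespace Cfsg.Agent.Lib.EssentialTorus

open Cfsg Cfsg.FusionSystem Cfsg.Agent.Lib.Fusion Cfsg.Agent.Lib.EmbeddedTransvection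

/-- The linear representation given by automorphisms of an abelian group of exponent `p`. -/
def linRep {p : ℕ} {A : Type*} [CommGroup A] [Module (ZMod p) (Additive A)] {X : Type*} [Monoid X]
    (σ : X →* MulAut A) : X →* Module.End (ZMod p) (Additive A) where
  toFun x := AddMonoidHom.toZModLinearMap p (MonoidHom.toAdditive (σ x).toMonoidHom)
  map_one' := LinearMap.ext fun e => by simp
  map_mul' x y := LinearMap.ext fun e => by simp

variable {Ω : Type*} [Group Ω] {S : Subgroup Ω} [Finite S] {p : ℕ} [hp : Fact p.Prime] {F : FusionSystem S}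

theorem torus (hS : IsPGroup p S) (hF : F.IsSaturated p) {E : Subgroup Ω} (hE : F.IsEssential p E)
    (hea : IsElementaryAbelian p E) (hc : Nat.card E = p ^ 3) {m : Ω} (hm : m ∈ normalizerIn S E) (hmE : m ∉ E)
    {v : Ω} (hvE : v ∈ E) (hD : ∀ e ∈ E, m * e * m⁻¹ * e⁻¹ ∈ Subgroup.zpowers v) :
    Nat.card (normalizerIn S E) ≤ p ^ 4 ∧ Commute m v ∧ ∃ u ∈ E, ∃ w ∈ E, Commute m u ∧ u ∉ Subgroup.zpowers v ∧
      m * w * m⁻¹ * w⁻¹ ≠ 1 ∧ ∀ c c' : ℕ, (c : ZMod p) * c' = 1 → ∃ β : ↥(normalizerIn S E) →* Ω,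
        β ∈ F.Hom (normalizerIn S E) ∧ (∀ x, β x ∈ normalizerIn S E) ∧
        (∀ x : ↥(normalizerIn S E), ((x : Ω) = v → β x = v ^ c) ∧ ((x : Ω) = u → β x = u) ∧
          ((x : Ω) = w → β x = w ^ c') ∧ ((x : Ω) ∈ E → β x ∈ E) ∧
          ((x : Ω) = m → (m ^ (c * c))⁻¹ * β x ∈ E)) := by
  classical
  obtain ⟨hEcomm, hEp⟩ := hea
  have hES : E ≤ S := hE.1.1
  have hfinE := finite_of_le hES
  have := finite_mulAut hES
  letI : CommGroup ↥E := { (inferInstance : Group ↥E) with mul_comm := hEcomm.is_comm.comm }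
  have hzero : ∀ a : Additive ↥E, p • a = 0 := fun a => by
    apply Additive.toMul.injective
    rw [toMul_nsmul, toMul_zero]
    exact Subtype.ext (hEp _ (a.toMul : ↥E).2)
  letI : Module (ZMod p) (Additive ↥E) := AddCommGroup.zmodModule (n := p) (G := Additive ↥E) (fun a => hzero a)
  haveI : Finite (Additive ↥E) := hfinE
  let ρ₀ : ↥(F.autGroup E) →* Module.End (ZMod p) (Additive ↥E) := linRep (F.autGroup E).subtype
  have hρ₀ : ∀ α (e : ↥E), ρ₀ α (Additive.ofMul e) = Additive.ofMul ((α : MulAut ↥E) e) := fun _ _ => rfl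
  have hInn : ∀ α ∈ Inn E, α = 1 := by
    rintro _ ⟨g, rfl⟩
    exact MulEquiv.ext fun e => by
      rw [MulAut.conj_apply, mul_comm g e, mul_inv_cancel_right]
      rfl
  obtain ⟨hcen, hfn, hnorm, Y₀, hY₀⟩ := hE
  haveI := hnorm
  have hker : (Inn E).subgroupOf (F.autGroup E) ≤ ρ₀.ker := fun α hα => by
    rw [show α = 1 from Subtype.ext (hInn _ hα)]
    exact one_mem _
  set π := QuotientGroup.mk' ((Inn E).subgroupOf (F.autGroup E))
  let ρ : outQuot F E →* Module.End (ZMod p) (Additive ↥E) := QuotientGroup.lift _ ρ₀ hker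
  have hρπ : ∀ α, ρ (π α) = ρ₀ α := fun α => QuotientGroup.lift_mk _ _ _
  have hρ : Function.Injective ρ := by
    intro a b hab
    obtain ⟨a, rfl⟩ := QuotientGroup.mk'_surjective _ a
    obtain ⟨b, rfl⟩ := QuotientGroup.mk'_surjective _ b
    rw [hρπ, hρπ] at hab
    congr 1
    exact Subtype.ext (MulEquiv.ext fun e => Additive.ofMul.injective (LinearMap.congr_fun hab (Additive.ofMul e)))
  obtain ⟨hfa, hrec⟩ := IsSaturated.automized_receptive hS hF hfn
  obtain ⟨T, hT⟩ := exists_sylow_out hfa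
  obtain ⟨Y, hYt, hY⟩ := exists_core_of_stronglyPEmbedded hY₀ T
  let γ : ∀ {g : Ω}, g ∈ normalizerIn S E → ↥(F.autGroup E) := fun hg =>
    ⟨conjAut hg.2, conjAut_mem_autGroup F hES hg.1 hg.2⟩
  have hxT : π (γ hm) ∈ (T : Subgroup (outQuot F E)) := by
    rw [hT]; exact Subgroup.mem_map_of_mem _ (conjAut_mem_autInducedBy hm.1 hm.2)
  have hρm : ∀ e : ↥E, ρ (π (γ hm)) (Additive.ofMul e) = Additive.ofMul (conjAut hm.2 e) := fun e => by
    rw [hρπ]; rfl
  have hx1 : π (γ hm) ≠ 1 := fun e => hmE (mem_of_conjAut_inn hcen hm ((QuotientGroup.eq_one_iff (γ hm)).1 e))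
  have hPY : (T : Subgroup (outQuot F E)) ≤ Y :=
    (le_of_core hY (by
      obtain ⟨k, hk, hc'⟩ := T.2.nontrivial_iff_card.1
        ⟨⟨⟨_, hxT⟩, 1, fun e => hx1 (congrArg Subtype.val e)⟩⟩
      exact (dvd_pow_self p hk.ne').trans (hc' ▸ Subgroup.card_subgroup_dvd_card _))).1
  set vV : Additive ↥E := Additive.ofMul (⟨v, hvE⟩ : ↥E) with hvV
  -- the transvection functional
  set D : Additive ↥E →ₗ[ZMod p] Additive ↥E := ρ (π (γ hm)) - 1 with hDdef
  have hDe : ∀ e : Additive ↥E, ∃ c : ZMod p, D e = c • vV := by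
    intro e
    obtain ⟨e, rfl⟩ := Additive.ofMul.surjective e
    obtain ⟨i, hi⟩ := Subgroup.mem_zpowers_iff.1 (hD e e.2)
    refine ⟨(i : ZMod p), ?_⟩
    rw [hDdef, LinearMap.sub_apply, Module.End.one_apply, hρm, sub_eq_iff_eq_add, Int.cast_smul_eq_zsmul,
      hvV, ← ofMul_zpow, ← ofMul_mul]
    congr 1
    exact Subtype.ext (by simp [hi])
  have hv0 : vV ≠ 0 := by
    intro e
    refine hmE (mem_of_conjAut_inn hcen hm ?_)
    have : conjAut hm.2 = 1 := MulEquiv.ext fun x => by
      obtain ⟨c, hc'⟩ := hDe (Additive.ofMul x)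
      rw [e, smul_zero, hDdef, LinearMap.sub_apply, Module.End.one_apply, hρm, sub_eq_zero] at hc'
      exact Additive.ofMul.injective hc'
    rw [this]; exact one_mem _
  obtain ⟨φ, hφ⟩ := Module.Projective.exists_dual_eq_one (ZMod p) hv0
  set k : Additive ↥E →ₗ[ZMod p] ZMod p := φ.comp D with hk
  have htv : Tv ρ (π (γ hm)) vV k := by
    have h1 : ∀ e, D e = k e • vV := fun e => by
      obtain ⟨c, hc'⟩ := hDe e
      rw [hk, LinearMap.comp_apply, hc', map_smul, hφ, smul_eq_mul, mul_one]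
    refine ⟨fun e => ?_, ?_⟩
    · rw [← h1, hDdef, LinearMap.sub_apply, Module.End.one_apply, add_sub_cancel]
    · by_contra hne
      have h2 : ∀ i : ℕ, ρ ((π (γ hm)) ^ i) vV = (1 + k vV) ^ i • vV := by
        intro i
        induction i with
        | zero => simp
        | succ i ih =>
          rw [pow_succ', map_mul, Module.End.mul_apply, ih, map_smul]
          have : ρ (π (γ hm)) vV = (1 + k vV) • vV := by
            rw [add_smul, one_smul, ← h1, hDdef, LinearMap.sub_apply, Module.End.one_apply, add_sub_cancel]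
          rw [this, smul_smul, ← pow_succ]
      obtain ⟨r, hr⟩ := T.2 ⟨_, hxT⟩
      have h3 := h2 (p ^ r)
      rw [show π (γ hm) ^ p ^ r = 1 from congrArg Subtype.val hr, map_one, Module.End.one_apply,
        ZMod.pow_card_pow] at h3
      have : k vV • vV = 0 := by
        rw [add_smul, one_smul] at h3
        exact (left_eq_add.mp h3)
      exact hne ((smul_eq_zero.mp this).resolve_right hv0)
  have hk0 : k ≠ 0 := fun e => hx1 (hρ (LinearMap.ext fun u => by rw [htv.act, e]; simp))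
  have hTeq := card_sylow hρ hY hPY hYt hxT htv hk0 hv0
  obtain ⟨wV, f, hfw, hfv, hkw, htor⟩ := exists_torus hρ hY hPY hYt hxT htv hk0 hv0
  -- elements of the normalizer
  have hgen : ∀ {g : Ω} (hg : g ∈ normalizerIn S E), ∃ i : ℕ, (m ^ i)⁻¹ * g ∈ E := by
    intro g hg
    have hgT : π (γ hg) ∈ (T : Subgroup (outQuot F E)) := by
      rw [hT]; exact Subgroup.mem_map_of_mem _ (conjAut_mem_autInducedBy hg.1 hg.2)
    rw [hTeq] at hgT
    obtain ⟨i, hi⟩ := mem_powers_iff_mem_zpowers.2 hgT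
    refine ⟨i, mem_of_conjAut_inn hcen ((normalizerIn S E).mul_mem
      ((normalizerIn S E).inv_mem ((normalizerIn S E).pow_mem hm i)) hg) ?_⟩
    have e : π ((γ hm ^ i)⁻¹ * γ hg) = 1 := by
      rw [map_mul, map_inv, map_pow]
      exact inv_mul_eq_one.2 hi
    have e2 := (QuotientGroup.eq_one_iff _).1 e
    have e3 : ((γ hm ^ i)⁻¹ * γ hg : ↥(F.autGroup E)) = (⟨conjAut ((normalizerIn S E).mul_mem
      ((normalizerIn S E).inv_mem ((normalizerIn S E).pow_mem hm i)) hg).2, conjAut_mem_autGroup F hES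
        (((normalizerIn S E).mul_mem ((normalizerIn S E).inv_mem ((normalizerIn S E).pow_mem hm i)) hg).1)
        _⟩ : ↥(F.autGroup E)) := by
      refine Subtype.ext ?_
      show (conjAut hm.2 ^ i)⁻¹ * conjAut hg.2 = _
      simp only [conjAut, ← map_pow, ← map_inv, ← map_mul]
      rfl
    rw [e3] at e2
    exact e2
  have hmp : m ^ p ∈ E := by
    refine mem_of_conjAut_inn hcen ((normalizerIn S E).pow_mem hm p) ?_
    have e : π (γ hm) ^ p = 1 := htv.pow_p hρ
    rw [← map_pow] at e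
    have e2 := (QuotientGroup.eq_one_iff _).1 e
    have e3 : (γ hm ^ p : ↥(F.autGroup E)) = ⟨conjAut ((normalizerIn S E).pow_mem hm p).2,
        conjAut_mem_autGroup F hES ((normalizerIn S E).pow_mem hm p).1 _⟩ := by
      refine Subtype.ext ?_
      show conjAut hm.2 ^ p = _
      simp only [conjAut, ← map_pow]
      rfl
    rw [e3] at e2
    exact e2
  have hN : Nat.card (normalizerIn S E) ≤ p ^ 4 := by
    haveI := finite_of_le (normalizerIn_le S E)
    let F' : Fin p × ↥E → ↥(normalizerIn S E) := fun q =>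
      ⟨m ^ (q.1 : ℕ) * q.2, (normalizerIn S E).mul_mem ((normalizerIn S E).pow_mem hm _)
        (le_normalizerIn hES q.2.2)⟩
    have hsur : Function.Surjective F' := by
      intro g
      obtain ⟨i, hi⟩ := hgen g.2
      have h1 : (m ^ p) ^ (i / p) * ((m ^ i)⁻¹ * g) ∈ E := E.mul_mem (E.pow_mem hmp _) hi
      refine ⟨(⟨i % p, Nat.mod_lt _ hp.out.pos⟩, ⟨_, h1⟩), Subtype.ext ?_⟩
      show m ^ (i % p) * ((m ^ p) ^ (i / p) * ((m ^ i)⁻¹ * g)) = g
      rw [← mul_assoc, ← pow_mul, ← pow_add, Nat.mod_add_div, mul_inv_cancel_left]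
    calc Nat.card (normalizerIn S E) ≤ Nat.card (Fin p × ↥E) := Nat.card_le_card_of_surjective F' hsur
      _ = p ^ 4 := by rw [Nat.card_prod, Nat.card_fin, hc]; ring
  -- the fixed line
  let Φ : Additive ↥E →ₗ[ZMod p] ZMod p × ZMod p := k.prod f
  obtain ⟨uV, hu0, hku, hfu⟩ : ∃ uV : Additive ↥E, uV ≠ 0 ∧ k uV = 0 ∧ f uV = 0 := by
    by_contra hno
    push Not at hno
    have hinj : Function.Injective Φ := by
      rw [injective_iff_map_eq_zero]
      intro a ha
      by_contra h0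
      exact hno a h0 (congrArg Prod.fst ha) (congrArg Prod.snd ha)
    have := Nat.card_le_card_of_injective _ hinj
    rw [Nat.card_prod, Nat.card_zmod, show Nat.card (Additive ↥E) = p ^ 3 from hc] at this
    have := hp.out.two_le
    nlinarith
  set U := LinearMap.ker Φ
  have huU : uV ∈ U := LinearMap.mem_ker.2 (Prod.ext hku hfu)
  have hUcard : Nat.card U = p := by
    have hsur : Function.Surjective Φ := fun q =>
      ⟨(q.1 / k wV) • wV + (q.2 / f vV) • vV, Prod.ext
        (by simp [Φ, htv.axis, div_mul_cancel₀ _ hkw]) (by simp [Φ, hfw, div_mul_cancel₀ _ hfv])⟩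
    have e := AddSubgroup.card_eq_card_quotient_mul_card_addSubgroup U.toAddSubgroup
    rw [show Nat.card (Additive ↥E ⧸ U.toAddSubgroup) = p * p by
      have e' : Nat.card (ZMod p × ZMod p) = p * p := by rw [Nat.card_prod, Nat.card_zmod]
      exact (Nat.card_congr (LinearMap.quotKerEquivOfSurjective Φ hsur).toEquiv).trans e',
      show Nat.card (Additive ↥E) = p ^ 3 from hc, show p ^ 3 = p * p * p by ring] at e
    exact (Nat.eq_of_mul_eq_mul_left (Nat.mul_pos hp.out.pos hp.out.pos) e).symm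
  have hUspan : ∀ a ∈ U, ∃ c : ZMod p, a = c • uV := by
    intro a ha
    have hbij : Function.Bijective fun c : ZMod p => (⟨c • uV, U.smul_mem c huU⟩ : U) := by
      haveI : Finite U := Nat.finite_of_card_ne_zero (by rw [hUcard]; exact hp.out.ne_zero)
      refine (Nat.bijective_iff_injective_and_card _).2 ⟨fun c c' h => ?_, by rw [hUcard, Nat.card_zmod]⟩
      exact smul_left_injective _ hu0 (congrArg Subtype.val h)
    obtain ⟨c, hc'⟩ := hbij.2 ⟨a, ha⟩
    exact ⟨c, (congrArg Subtype.val hc').symm⟩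
  have hdec : ∀ a : Additive ↥E, ∃ c : ZMod p, a = (f a / f vV) • vV + (k a / k wV) • wV + c • uV := by
    intro a
    obtain ⟨c, hc'⟩ := hUspan (a - (f a / f vV) • vV - (k a / k wV) • wV) (LinearMap.mem_ker.2 (Prod.ext
      (by simp [Φ, htv.axis, div_mul_cancel₀ _ hkw]) (by simp [Φ, hfw, div_mul_cancel₀ _ hfv])))
    exact ⟨c, by rw [← hc']; abel⟩
  set u : Ω := ((Additive.toMul uV : ↥E) : Ω) with hu
  set w : Ω := ((Additive.toMul wV : ↥E) : Ω) with hw
  have hmu : Commute m u := by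
    have := htv.act uV
    rw [hku, zero_smul, add_zero, ← ofMul_toMul uV, hρm] at this
    have h := congrArg Subtype.val (Additive.ofMul.injective this)
    show m * u = u * m
    exact mul_inv_eq_iff_eq_mul.1 h
  have huv : u ∉ Subgroup.zpowers v := by
    intro hmem
    obtain ⟨i, hi⟩ := Subgroup.mem_zpowers_iff.1 hmem
    have e : uV = (i : ZMod p) • vV := by
      rw [Int.cast_smul_eq_zsmul, hvV, ← ofMul_zpow, ← ofMul_toMul uV]
      congr 1
      exact Subtype.ext (by simp [hi, hu])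
    rw [e, map_smul, smul_eq_mul, mul_eq_zero] at hfu
    exact hu0 (by rw [e, hfu.resolve_right hfv, zero_smul])
  have hmw : m * w * m⁻¹ * w⁻¹ ≠ 1 := by
    intro e
    have := htv.act wV
    rw [← ofMul_toMul wV, hρm] at this
    have h2 : conjAut hm.2 (Additive.toMul wV) = Additive.toMul wV := Subtype.ext (mul_inv_eq_one.1 e)
    rw [h2, left_eq_add, smul_eq_zero] at this
    exact this.elim hkw hv0
  have hmv : Commute m v := by
    have := htv.act vV
    rw [htv.axis, zero_smul, add_zero, hvV, hρm] at this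
    exact mul_inv_eq_iff_eq_mul.1 (congrArg Subtype.val (Additive.ofMul.injective this))
  refine ⟨hN, hmv, u, (Additive.toMul uV).2, w, (Additive.toMul wV).2, hmu, huv, hmw, fun c c' hcc => ?_⟩
  have hc0 : (c : ZMod p) ≠ 0 := left_ne_zero_of_mul_eq_one hcc
  obtain ⟨αq, hαv, hαw, hαu⟩ := htor c hc0
  obtain ⟨α, rfl⟩ := QuotientGroup.mk'_surjective _ αq
  rw [hρπ] at hαv hαw
  have hαu' : ρ₀ α uV = uV := by rw [← hρπ]; exact hαu _ hku hfu
  rw [← eq_inv_of_mul_eq_one_right hcc] at hαw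
  have hconj : ρ₀ α * ρ₀ (γ hm) = (ρ₀ (γ hm)) ^ (c * c) * ρ₀ α := by
    rw [← map_pow]
    refine LinearMap.ext fun a => ?_
    obtain ⟨d, hd⟩ := hdec a
    have hpw : ∀ e, ρ₀ (γ hm ^ (c * c)) e = e + ((c * c : ℕ) * k e : ZMod p) • vV := fun e => by
      rw [← hρπ, map_pow, htv.npow]
    have hact : ∀ e, ρ₀ (γ hm) e = e + k e • vV := fun e => by rw [← hρπ, htv.act]
    rw [hd]
    simp only [Module.End.mul_apply, map_add, map_smul, hact, hpw, hαv, hαw, hαu', htv.axis, hku, zero_smul,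
      smul_zero, add_zero, mul_zero, smul_eq_mul, smul_smul, smul_add]
    have e : ((c * c : ℕ) : ZMod p) * ((c' : ZMod p) * k wV) = c * k wV := by
      push_cast; linear_combination ((c : ZMod p) * k wV) * hcc
    push_cast at e
    match_scalars <;> push_cast <;>
      first
      | linear_combination (k a / k wV) * e
      | linear_combination -(k a / k wV) * e
      | ring
  have hconj' : (α : MulAut ↥E) * conjAut hm.2 = conjAut hm.2 ^ (c * c) * (α : MulAut ↥E) :=
    MulEquiv.ext fun e => Additive.ofMul.injective (by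
      have := LinearMap.congr_fun hconj (Additive.ofMul e)
      rw [← map_pow] at this
      exact this)
  have hα' : autHom (α : MulAut ↥E) ∈ F.Hom E := autHom_mem F hES α.2
  have hsub : normalizerIn S E ≤ extender S E (autHom (α : MulAut ↥E)) := by
    intro g hg
    obtain ⟨i, hi⟩ := hgen hg
    have hEle : E ≤ extender S E (autHom (α : MulAut ↥E)) := le_extender hES (apply_mem hα')
    suffices m ∈ extender S E (autHom (α : MulAut ↥E)) by
      have := Subgroup.mul_mem _ (Subgroup.pow_mem _ this i) (hEle hi)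
      rwa [mul_inv_cancel_left] at this
    refine mem_extender.2 ⟨hm.1, hm.2, m ^ (c * c), S.pow_mem hm.1 _, fun x hx => ?_⟩
    show ((((α : MulAut ↥E) ⟨m * x * m⁻¹, hx⟩) : ↥E) : Ω) = _
    have := congrArg (fun (θ : MulAut ↥E) => ((θ x : ↥E) : Ω)) hconj'
    simp only [MulAut.mul_apply] at this
    rw [show (⟨m * x * m⁻¹, hx⟩ : ↥E) = conjAut hm.2 x from Subtype.ext rfl, this]
    simp only [conjAut, ← map_pow]
    rfl
  obtain ⟨ψ, hψ, hext, hval⟩ := IsReceptive.extend hrec hα' (range_autHom _)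
  refine ⟨restr hsub ψ, restr_mem F hψ hsub, fun x => hval _, fun x => ?_⟩
  have hb : ∀ hxE : (x : Ω) ∈ E, restr hsub ψ x = ((((α : MulAut ↥E) ⟨x, hxE⟩) : ↥E) : Ω) := fun hxE =>
    hext x hxE _
  have hval' : ∀ (e : Additive ↥E) (r : ℕ) (e' : Additive ↥E), ρ₀ α e = (r : ZMod p) • e' →
      ((((α : MulAut ↥E) (Additive.toMul e)) : ↥E) : Ω) = (((Additive.toMul e' : ↥E)) : Ω) ^ r := by
    intro e r e' he
    rw [← ofMul_toMul e, hρ₀, Nat.cast_smul_eq_nsmul] at he
    rw [← SubmonoidClass.coe_pow]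
    exact congrArg Subtype.val (show (α : MulAut ↥E) (Additive.toMul e) = Additive.toMul (r • e') from
      congrArg Additive.toMul he)
  refine ⟨fun hx => ?_, fun hx => ?_, fun hx => ?_, fun hx => ?_, fun hx => ?_⟩
  · rw [hb (hx ▸ hvE), show (⟨(x : Ω), hx ▸ hvE⟩ : ↥E) = Additive.toMul vV from Subtype.ext hx]
    exact hval' vV c vV hαv
  · rw [hb (hx ▸ (Additive.toMul uV).2), show (⟨(x : Ω), hx ▸ (Additive.toMul uV).2⟩ : ↥E) = Additive.toMul uV from Subtype.ext hx]
    have := hval' uV 1 uV (by rw [hαu', Nat.cast_one, one_smul])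
    rwa [pow_one] at this
  · rw [hb (hx ▸ (Additive.toMul wV).2), show (⟨(x : Ω), hx ▸ (Additive.toMul wV).2⟩ : ↥E) = Additive.toMul wV from Subtype.ext hx]
    exact hval' wV c' wV hαw
  · rw [hb hx]; exact SetLike.coe_mem _
  · haveI := finite_of_le (normalizerIn_le S E)
    have hmem : (m ^ (c * c))⁻¹ * restr hsub ψ x ∈ centralizerIn S E := by
      refine mem_centralizerIn_iff_conj.2
        ⟨S.mul_mem (S.inv_mem (S.pow_mem hm.1 _)) (hval _).1, fun e he => ?_⟩
      obtain ⟨e', he'⟩ := (α : MulAut ↥E).surjective ⟨e, he⟩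
      have hin : (e' : Ω) ∈ normalizerIn S E := le_normalizerIn hES e'.2
      have hin2 : m * (e' : Ω) * m⁻¹ ∈ E := conj_mem_of_mem_normalizer hm.2 e'.2
      have h1 : restr hsub ψ ⟨e', hin⟩ = e := by
        show ψ ⟨e', _⟩ = e
        rw [hext _ e'.2 _]
        exact congrArg Subtype.val he'
      have h2 : restr hsub ψ x * e * (restr hsub ψ x)⁻¹ = m ^ (c * c) * e * (m ^ (c * c))⁻¹ := by
        have h3 : restr hsub ψ (x * ⟨e', hin⟩ * x⁻¹) = restr hsub ψ x * e * (restr hsub ψ x)⁻¹ := by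
          rw [map_mul, map_mul, map_inv, h1]
        rw [← h3]
        show ψ ⟨(x * ⟨e', hin⟩ * x⁻¹ : ↥(normalizerIn S E)), _⟩ = _
        rw [hext _ (by simpa [hx] using hin2) _]
        have := congrArg (fun (θ : MulAut ↥E) => ((θ e' : ↥E) : Ω)) hconj'
        simp only [MulAut.mul_apply, he'] at this
        have e4 : ((conjAut hm.2 ^ (c * c)) (⟨e, he⟩ : ↥E) : Ω) = m ^ (c * c) * e * (m ^ (c * c))⁻¹ := by
          simp only [conjAut, ← map_pow]; rfl
        rw [← e4, ← this]
        show ((((α : MulAut ↥E) _) : ↥E) : Ω) = _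
        congr 2
        exact Subtype.ext (by simp [hx])
      calc (m ^ (c * c))⁻¹ * restr hsub ψ x * e * ((m ^ (c * c))⁻¹ * restr hsub ψ x)⁻¹
          = (m ^ (c * c))⁻¹ * (restr hsub ψ x * e * (restr hsub ψ x)⁻¹) * m ^ (c * c) := by group
        _ = e := by rw [h2]; group
    exact hcen.2 E (isConj_refl F hES) hmem

end Cfsg.Agent.Lib.EssentialTorus
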