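import Cfsg.Agent.Lib.Blocks.PrimeOrderShift
import Cfsg.Agent.Lib.Blocks.PrimeOrderPrincipal
import Mathlib.GroupTheory.FiniteAbelian.Duality
import Mathlib.RingTheory.RootsOfUnity.AlgebraicallyClosed

/-!
# The principal block for an abelian Sylow subgroup with Frobenius normalizer action
-/

set_option autoImplicit false
set_option linter.unusedSectionVars false
set_option linter.unusedVariables false
set_option maxHeartbeats 800000

namespace Cfsg.Agent.Lib.Blocks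

open Cfsg Cfsg.Agent.Lib.Characters Cfsg.Agent.Lib.Cores
open scoped ComplexConjugate

universe u

section LinearChars

variable {A : Type*} [Group A] [Fintype A]

theorem sum_linearChar [DecidableEq (A →* ℂˣ)] (ψ : A →* ℂˣ) :
    ∑ y : A, ((ψ y : ℂˣ) : ℂ) = if ψ = 1 then (Nat.card A : ℂ) else 0 := by
  split_ifs with h
  · subst h; simp [Nat.card_eq_fintype_card]
  · refine sum_hom_units_eq_zero ((Units.coeHom ℂ).comp ψ) fun h' => h ?_
    refine MonoidHom.ext fun y => Units.ext ?_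
    simpa using DFunLike.congr_fun h' y

theorem conj_linearChar (ψ : A →* ℂˣ) (y : A) :
    conj ((ψ y : ℂˣ) : ℂ) = ((ψ y⁻¹ : ℂˣ) : ℂ) := by
  have h : ((ψ y : ℂˣ) : ℂ) ^ Nat.card A = 1 := by
    rw [← Units.val_pow_eq_pow_val, ← map_pow, pow_card_eq_one', map_one, Units.val_one]
  rw [map_inv, Units.val_inv_eq_inv_val,
    Complex.inv_eq_conj (Complex.norm_eq_one_of_pow_eq_one h Nat.card_pos.ne')]

/-- A representation contains a linear character a natural number of times. -/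
theorem exists_mult_nat' {G : Type u} [Group G] [Fintype G] (H : Subgroup G) [Fintype H]
    (χ : IrrCharacter G) (ψ : H →* ℂˣ) :
    ∃ n : ℕ, (n : ℂ) = (Nat.card H : ℂ)⁻¹ *
      ∑ y : H, (χ : G → ℂ) y * ((ψ y⁻¹ : ℂˣ) : ℂ) := by
  obtain ⟨n, ρ, -, hρ⟩ := χ.2
  let Q : Module.End ℂ (Fin n → ℂ) :=
    (Nat.card H : ℂ)⁻¹ • ∑ y : H, ((ψ y⁻¹ : ℂˣ) : ℂ) • ρ (y : G)
  have hQ : Q * Q = Q := by
    have h : ∀ a : H, (((ψ a⁻¹ : ℂˣ) : ℂ) • ρ (a : G)) *
        (∑ y : H, ((ψ y⁻¹ : ℂˣ) : ℂ) • ρ (y : G)) = ∑ y : H, ((ψ y⁻¹ : ℂˣ) : ℂ) • ρ (y : G) := by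
      intro a
      rw [Finset.mul_sum]
      refine Fintype.sum_equiv (Equiv.mulLeft a) _ _ fun b => ?_
      rw [smul_mul_smul_comm, Equiv.coe_mulLeft, Subgroup.coe_mul,
        _root_.mul_inv_rev, map_mul ψ, Units.val_mul, map_mul ρ, mul_comm ((ψ b⁻¹ : ℂˣ) : ℂ)]
    simp only [Q, smul_mul_smul_comm, Finset.sum_mul]
    rw [Finset.sum_congr rfl fun a _ => h a, Finset.sum_const, Finset.card_univ,
      ← Nat.card_eq_fintype_card, ← Nat.cast_smul_eq_nsmul ℂ, smul_smul, mul_assoc,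
      inv_mul_cancel₀ (Nat.cast_ne_zero.2 Nat.card_pos.ne'), mul_one]
  refine ⟨Module.finrank ℂ (LinearMap.range Q), ?_⟩
  have hproj : LinearMap.IsProj (LinearMap.range Q) Q :=
    ⟨fun x => ⟨x, rfl⟩, by rintro _ ⟨y, rfl⟩; rw [← Module.End.mul_apply, hQ]⟩
  rw [← hproj.trace]
  simp only [Q, map_smul, map_sum, smul_eq_mul, ← hρ, Representation.character]
  exact congrArg _ (Finset.sum_congr rfl fun i _ => mul_comm _ _)

end LinearChars

section DualSum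

variable {A : Type*} [CommGroup A] [Fintype A]

theorem sum_dual [Fintype (A →* ℂˣ)] [DecidableEq A] (y : A) :
    ∑ ψ : A →* ℂˣ, ((ψ y : ℂˣ) : ℂ) = if y = 1 then (Nat.card A : ℂ) else 0 := by
  haveI : NeZero (Monoid.exponent A) := ⟨Monoid.exponent_ne_zero_of_finite⟩
  split_ifs with h
  · subst h
    simp only [map_one, Units.val_one, Finset.sum_const, nsmul_one, Finset.card_univ]
    rw [← Nat.card_eq_fintype_card, CommGroup.card_monoidHom_of_hasEnoughRootsOfUnity A ℂ]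
  · obtain ⟨ψ₀, hψ₀⟩ := CommGroup.exists_apply_ne_one_of_hasEnoughRootsOfUnity A ℂ h
    have hmul : ((ψ₀ y : ℂˣ) : ℂ) * ∑ ψ : A →* ℂˣ, ((ψ y : ℂˣ) : ℂ) =
        1 * ∑ ψ : A →* ℂˣ, ((ψ y : ℂˣ) : ℂ) := by
      rw [one_mul, Finset.mul_sum]
      exact Fintype.sum_equiv (Equiv.mulLeft ψ₀) _ _ fun ψ => by simp
    by_contra hne
    exact hψ₀ (Units.ext (mul_right_cancel₀ hne hmul))

end DualSum

variable {G : Type u} [Group G] [Fintype G] {M : Ideal AlgInt} [hMp : M.IsPrime] {p : ℕ}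
  [hp : Fact p.Prime]

open scoped IsMulCommutative in
/-- **The principal block when the normalizer acts semiregularly on an abelian Sylow subgroup.** -/
theorem frobenius_normalizer_block (hM : IsPModular p M) (P : Sylow p G) [IsMulCommutative P]
    (m : ℕ) (hm : 0 < m) (hm2 : m + 1 < Nat.card P)
    (hCN : (Subgroup.centralizer ((P : Subgroup G) : Set G)).relIndex
      (Subgroup.normalizer ((P : Subgroup G) : Set G)) = m)
    (hfrob : ∀ y : G, y ∈ (P : Subgroup G) → y ≠ 1 →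
      Subgroup.centralizer ({y} : Set G) ⊓ Subgroup.normalizer ((P : Subgroup G) : Set G) =
        Subgroup.centralizer ((P : Subgroup G) : Set G)) :
    ∃ (X Y : Finset (IrrCharacter G)) (ζ : (↥(P : Subgroup G) →* ℂˣ) → IrrCharacter G)
      (a : IrrCharacter G → ℤ) (d δ : ℤ),
      principalBlock M G = (↑X : Set (IrrCharacter G)) ∪ ↑Y ∧ Disjoint X Y ∧
      trivIrr G ∈ X ∧ a (trivIrr G) = 1 ∧
      Y.card * m = Nat.card P - 1 ∧ (δ = 1 ∨ δ = -1) ∧
      (∀ χ ∈ X, a χ ≠ 0 ∧ ∀ z y : G, IsPPart p z y → y ∈ (P : Subgroup G) → y ≠ 1 →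
        (χ : G → ℂ) z = (a χ : ℂ)) ∧
      (∀ ψ, ψ ≠ 1 → ζ ψ ∈ Y) ∧ (∀ η ∈ Y, ∃ ψ, ψ ≠ 1 ∧ ζ ψ = η) ∧
      (∀ ψ ψ' : ↥(P : Subgroup G) →* ℂˣ, ψ ≠ 1 →
        (∃ n : G, n ∈ Subgroup.normalizer ((P : Subgroup G) : Set G) ∧
          ∀ w w' : ↥(P : Subgroup G), (w' : G) = n * w * n⁻¹ → ψ' w' = ψ w) → ζ ψ' = ζ ψ) ∧
      (∀ ψ, ψ ≠ 1 → ∀ (z : G) (y : ↥(P : Subgroup G)), IsPPart p z (y : G) → (y : G) ≠ 1 →
        (ζ ψ : G → ℂ) z = (d : ℂ) + (δ : ℂ) *
          ∑ᶠ ψ' ∈ {ψ' : ↥(P : Subgroup G) →* ℂˣ |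
            ∃ n : G, n ∈ Subgroup.normalizer ((P : Subgroup G) : Set G) ∧
              ∀ w w' : ↥(P : Subgroup G), (w' : G) = n * w * n⁻¹ → ψ' w' = ψ w},
            ((ψ' y : ℂˣ) : ℂ)) ∧
      (d - δ) ^ 2 + ((Y.card : ℤ) - 1) * d ^ 2 + ∑ χ ∈ X, a χ ^ 2 = (m : ℤ) + 1 ∧
      (∀ η ∈ Y, ∀ η' ∈ Y, ∀ g : G, ¬ p ∣ orderOf g → (η : G → ℂ) g = (η' : G → ℂ) g) ∧
      (∀ η ∈ Y, ∀ g : G, ¬ p ∣ orderOf g →
        ((Y.card : ℂ) * d - δ) * (η : G → ℂ) g + ∑ χ ∈ X, (a χ : ℂ) * (χ : G → ℂ) g = 0) ∧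
      (∀ y : ↥(P : Subgroup G), y ≠ 1 →
        (pPrimeCore p (Subgroup.centralizer ({(y : G)} : Set G))).index = Nat.card P ∧
        ∑ η ∈ Y, (η : G → ℂ) y = (Y.card : ℂ) * d - δ) ∧
      ∃ A : Finset (MulAut ↥(P : Subgroup G)), 1 ∈ A ∧ A.card = m ∧
        (∀ α ∈ A, ∀ β ∈ A, α * β ∈ A) ∧
        (∀ α ∈ A, ∀ y : ↥(P : Subgroup G), y ≠ 1 → α y = y → α = 1) ∧
        (∀ y y' : ↥(P : Subgroup G), IsConj (y : G) (y' : G) ↔ ∃ α ∈ A, α y = y') ∧
        (∀ ψ, ψ ≠ 1 → ∀ y : ↥(P : Subgroup G), y ≠ 1 →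
          (ζ ψ : G → ℂ) y = (d : ℂ) + (δ : ℂ) * ∑ α ∈ A, ((ψ (α y) : ℂˣ) : ℂ)) := by
  classical
  haveI := Fintype.ofFinite (IrrCharacter G)
  haveI : NeZero (Monoid.exponent ↥(P : Subgroup G)) := ⟨Monoid.exponent_ne_zero_of_finite⟩
  set Q : Subgroup G := (P : Subgroup G) with hQdef
  haveI := Fintype.ofFinite Q
  have hcardΛ : Nat.card (Q →* ℂˣ) = Nat.card Q :=
    CommGroup.card_monoidHom_of_hasEnoughRootsOfUnity Q ℂ
  haveI : Finite (Q →* ℂˣ) :=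
    Nat.finite_of_card_ne_zero (by rw [hcardΛ]; exact Nat.card_pos.ne')
  haveI := Fintype.ofFinite (Q →* ℂˣ)
  set q := Nat.card Q with hq
  have hq0 : (q : ℂ) ≠ 0 := Nat.cast_ne_zero.2 Nat.card_pos.ne'
  have hqP : Nat.card P = q := rfl
  obtain ⟨a0, ha0⟩ := P.2.exists_card_eq
  -- the automiser
  let f := Q.normalizerMonoidHom
  set A : Finset (MulAut Q) := Finset.univ.image fun n => f n with hA
  have hAcard : A.card = m := by
    have h1 : Nat.card f.range = m := by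
      rw [← hCN, ← Subgroup.index_ker]
      show Q.normalizerMonoidHom.ker.index = _
      rw [Subgroup.normalizerMonoidHom_ker]; rfl
    rw [← h1, hA, ← Set.ncard_coe_finset, ← Nat.card_coe_set_eq]
    refine Nat.card_congr (Equiv.setCongr ?_)
    ext α
    simp [MonoidHom.coe_range]
  have hAmem : ∀ α, α ∈ A ↔ ∃ n, f n = α := fun α => by simp [hA]
  have hA1 : (1 : MulAut Q) ∈ A := (hAmem _).2 ⟨1, map_one f⟩
  have hAmul : ∀ α ∈ A, ∀ β ∈ A, α * β ∈ A := fun α hα β hβ => by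
    obtain ⟨n, rfl⟩ := (hAmem _).1 hα; obtain ⟨n', rfl⟩ := (hAmem _).1 hβ
    exact (hAmem _).2 ⟨n * n', map_mul f n n'⟩
  have hAinv : ∀ α ∈ A, α⁻¹ ∈ A := fun α hα => by
    obtain ⟨n, rfl⟩ := (hAmem _).1 hα
    exact (hAmem _).2 ⟨n⁻¹, map_inv f n⟩
  have hfval : ∀ (n : Subgroup.normalizer (Q : Set G)) (w : Q),
      ((f n w : Q) : G) = (n : G) * w * (n : G)⁻¹ := fun n w => rfl
  have hsemi : ∀ α ∈ A, ∀ y : Q, y ≠ 1 → α y = y → α = 1 := by
    intro α hα y hy hfix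
    obtain ⟨n, rfl⟩ := (hAmem _).1 hα
    have hyG : (y : G) ≠ 1 := fun h => hy (Subtype.ext h)
    have hn : (n : G) ∈ Subgroup.centralizer ({(y : G)} : Set G) := by
      rw [Subgroup.mem_centralizer_singleton_iff]
      exact mul_inv_eq_iff_eq_mul.1 ((hfval n y).symm.trans (congrArg Subtype.val hfix))
    have hC : (n : G) ∈ Subgroup.centralizer (Q : Set G) :=
      (SetLike.ext_iff.1 (hfrob y y.2 hyG) _).1 ⟨hn, n.2⟩
    refine MulEquiv.ext fun w => Subtype.ext ?_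
    rw [hfval, MulAut.one_apply, ← Subgroup.mem_centralizer_iff.1 hC w w.2, mul_inv_cancel_right]
  have hψfix : ∀ α ∈ A, ∀ ψ : Q →* ℂˣ, ψ ≠ 1 → ψ.comp α.toMonoidHom = ψ → α = 1 := by
    intro α hα ψ hψ hfix
    by_contra hne
    have hinj : Function.Injective fun y : Q => y⁻¹ * α y := by
      intro y z hyz
      have h1 : y⁻¹ * α y = z⁻¹ * α z := hyz
      by_contra hne'
      refine hne (hsemi α hα (y * z⁻¹) (fun h => hne' (mul_inv_eq_one.1 h)) ?_)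
      rw [map_mul, map_inv]
      calc α y * (α z)⁻¹ = y * (y⁻¹ * α y) * (α z)⁻¹ := by group
        _ = y * (z⁻¹ * α z) * (α z)⁻¹ := by rw [h1]
        _ = y * z⁻¹ := by group
    refine hψ (MonoidHom.ext fun x => ?_)
    obtain ⟨y, rfl⟩ := (Finite.injective_iff_surjective.1 hinj) x
    rw [map_mul, map_inv, MonoidHom.one_apply, inv_mul_eq_one]
    exact (DFunLike.congr_fun hfix y).symm
  -- sections
  have hidx : ∀ y : Q, y ≠ 1 →
      (pPrimeCore p (Subgroup.centralizer ({(y : G)} : Set G))).index = q := by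
    intro y hy
    have hQD : Q ≤ Subgroup.centralizer ({(y : G)} : Set G) := fun w hw =>
      Subgroup.mem_centralizer_singleton_iff.2
        (Subgroup.mul_comm_of_mem_isMulCommutative (H := Q) hw y.2)
    have hcoe : ((P.subtype hQD : Sylow p (Subgroup.centralizer ({(y : G)} : Set G))) :
        Subgroup (Subgroup.centralizer ({(y : G)} : Set G))) =
        Q.subgroupOf (Subgroup.centralizer ({(y : G)} : Set G)) := rfl
    rw [index_pPrimeCore_of_normalizer_le (P.subtype hQD) ?_, hcoe,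
      Nat.card_congr (Subgroup.subgroupOfEquivOfLe hQD).toEquiv]
    intro c hc
    rw [hcoe] at hc ⊢
    have hcN : (c : G) ∈ Subgroup.normalizer (Q : Set G) := by
      rw [Subgroup.mem_normalizer_iff]
      intro w
      constructor
      · intro hw
        exact ((Subgroup.mem_normalizer_iff.1 hc) ⟨w, hQD hw⟩).1 hw
      · intro hw
        have hwD : w ∈ Subgroup.centralizer ({(y : G)} : Set G) := by
          have := mul_mem (mul_mem (inv_mem c.2) (hQD hw)) c.2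
          simpa [mul_assoc] using this
        exact ((Subgroup.mem_normalizer_iff.1 hc) ⟨w, hwD⟩).2 hw
    have hcC : (c : G) ∈ Subgroup.centralizer (Q : Set G) :=
      (SetLike.ext_iff.1 (hfrob y y.2 fun h => hy (Subtype.ext h)) _).1 ⟨c.2, hcN⟩
    rw [Subgroup.mem_centralizer_iff]
    exact fun w hw => Subtype.ext (Subgroup.mem_centralizer_iff.1 hcC w hw)
  have hppow : ∀ y : Q, ∃ k : ℕ, orderOf (y : G) = p ^ k := fun y => by
    obtain ⟨k, hk⟩ := IsPGroup.iff_orderOf.1 P.2 y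
    exact ⟨k, by rw [Subgroup.orderOf_coe]; exact hk⟩
  have hsec : ∀ χ ∈ principalBlock M G, ∀ z y : G, IsPPart p z y → y ∈ Q → y ≠ 1 →
      (χ : G → ℂ) z = (χ : G → ℂ) y := by
    rintro χ hχ z y ⟨v, rfl, hcomm, hyk, hv⟩ hy hy1
    refine Cfsg.Agent.S0942.result p M hM y hyk v ?_ χ hχ
    have hvD : v ∈ Subgroup.centralizer ({y} : Set G) :=
      Subgroup.mem_centralizer_singleton_iff.2 hcomm.symm.eq
    refine ⟨⟨v, hvD⟩, ?_, rfl⟩
    haveI : (pPrimeCore p (Subgroup.centralizer ({y} : Set G))).Normal := (pPrimeCore_mem p _).1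
    have hv' : ¬ p ∣ orderOf (⟨v, hvD⟩ : Subgroup.centralizer ({y} : Set G)) := by
      rwa [Subgroup.orderOf_mk]
    rw [SetLike.mem_coe, ← QuotientGroup.eq_one_iff, ← orderOf_eq_one_iff]
    refine Nat.eq_one_of_dvd_coprimes (a := p ^ a0) ?_ ?_ (orderOf_map_dvd (QuotientGroup.mk' _) _)
    · exact (hp.out.coprime_iff_not_dvd.2 hv').pow_left a0
    · refine (orderOf_dvd_natCard _).trans (dvd_of_eq ?_)
      rw [← Subgroup.index, hidx ⟨y, hy⟩ (fun h => hy1 (congrArg Subtype.val h)), ← ha0]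
  have hconj : ∀ y y' : Q, IsConj (y : G) (y' : G) ↔ ∃ α ∈ A, α y = y' := by
    intro y y'
    constructor
    · intro h
      obtain ⟨g, hg⟩ := isConj_iff.1 h
      obtain ⟨n, hn, hgn⟩ := P.conj_eq_normalizer_conj_of_mem (y : G) g⁻¹ y.2
        (by rw [inv_inv, hg]; exact y'.2)
      rw [inv_inv, hg] at hgn
      refine ⟨f (⟨n, hn⟩⁻¹), (hAmem _).2 ⟨_, rfl⟩, Subtype.ext ?_⟩
      rw [hfval, Subgroup.coe_inv, inv_inv, hgn]
    · rintro ⟨α, hα, rfl⟩
      obtain ⟨n, rfl⟩ := (hAmem _).1 hα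
      exact isConj_iff.2 ⟨n, (hfval n y).symm⟩
  -- multiplicities
  choose μ hμ using fun χ : IrrCharacter G => exists_mult_nat' Q χ
  let D : IrrCharacter G → (Q →* ℂˣ) → ℤ := fun χ ψ => (μ χ 1 : ℤ) - μ χ ψ
  have hDC : ∀ χ ψ, (D χ ψ : ℂ) =
      (q : ℂ)⁻¹ * ∑ y : Q, (χ : G → ℂ) y * (1 - ((ψ y⁻¹ : ℂˣ) : ℂ)) := by
    intro χ ψ
    simp only [D, Int.cast_sub, Int.cast_natCast, hμ, MonoidHom.one_apply, Units.val_one, mul_one,
      ← mul_sub, ← Finset.sum_sub_distrib]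
    exact congrArg _ (Finset.sum_congr rfl fun i _ => by ring)
  have hD1 : ∀ χ, D χ 1 = 0 := fun χ => sub_self _
  have hfour : ∀ (χ : IrrCharacter G) (y : Q), (χ : G → ℂ) y = ∑ ψ : Q →* ℂˣ, (μ χ ψ : ℂ) * ((ψ y : ℂˣ) : ℂ) := by
    intro χ y
    simp only [hμ, Finset.mul_sum, Finset.sum_mul]
    rw [Finset.sum_comm]
    rw [Finset.sum_eq_single y]
    · rw [Finset.sum_congr rfl fun ψ _ => show (q : ℂ)⁻¹ * ((χ : G → ℂ) y * ((ψ y⁻¹ : ℂˣ) : ℂ)) *
        ((ψ y : ℂˣ) : ℂ) = (q : ℂ)⁻¹ * (χ : G → ℂ) y by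
          rw [mul_assoc, mul_assoc, ← Units.val_mul, ← map_mul, inv_mul_cancel, map_one,
            Units.val_one, mul_one], Finset.sum_const, Finset.card_univ, ← Nat.card_eq_fintype_card,
        hcardΛ, nsmul_eq_mul, ← mul_assoc, mul_inv_cancel₀ hq0, one_mul]
    · intro b _ hb
      rw [Finset.sum_congr rfl fun ψ _ => show (q : ℂ)⁻¹ * ((χ : G → ℂ) b * ((ψ b⁻¹ : ℂˣ) : ℂ)) *
        ((ψ y : ℂˣ) : ℂ) = (q : ℂ)⁻¹ * (χ : G → ℂ) b * ((ψ (b⁻¹ * y) : ℂˣ) : ℂ) by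
          rw [map_mul, Units.val_mul]; ring, ← Finset.mul_sum, sum_dual, if_neg, mul_zero]
      exact fun h => hb (inv_mul_eq_one.1 h)
    · simp
  have hval : ∀ (χ : IrrCharacter G) (y : Q), y ≠ 1 → (χ : G → ℂ) y =
      -∑ ψ ∈ (Finset.univ : Finset (Q →* ℂˣ)).erase 1, (D χ ψ : ℂ) * ((ψ y : ℂˣ) : ℂ) := by
    intro χ y hy
    rw [hfour, Finset.sum_congr rfl fun ψ _ => show (μ χ ψ : ℂ) * ((ψ y : ℂˣ) : ℂ) =
      (μ χ 1 : ℂ) * ((ψ y : ℂˣ) : ℂ) - (D χ ψ : ℂ) * ((ψ y : ℂˣ) : ℂ) by simp only [D]; push_cast; ring,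
      Finset.sum_sub_distrib, ← Finset.mul_sum, sum_dual, if_neg hy, mul_zero, zero_sub,
      ← Finset.add_sum_erase _ _ (Finset.mem_univ (1 : Q →* ℂˣ)), hD1, Int.cast_zero, zero_mul,
      zero_add]
  set B := Finset.univ.filter (fun χ : IrrCharacter G => χ ∈ principalBlock M G) with hBdef
  have hBmem : ∀ χ, χ ∈ B ↔ χ ∈ principalBlock M G := fun χ => by simp [hBdef]
  have horth : ∀ y y' : Q, y ≠ 1 → ∑ χ ∈ B, (χ : G → ℂ) y' * conj ((χ : G → ℂ) y) =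
      if ∃ α ∈ A, α y' = y then (q : ℂ) else 0 := by
    intro y y' hy
    have h := sum_principal_mul_conj hM (hppow y) (hppow y')
      (k := a0) ((hidx y hy).trans ha0)
    rw [← Finset.sum_filter, ← ha0] at h
    rw [hBdef, h]
    exact if_congr (hconj y' y) rfl rfl
  have hreg : ∀ (g : G), ¬ p ∣ orderOf g → ∀ ψ, ∑ χ ∈ B, (D χ ψ : ℂ) * (χ : G → ℂ) g = 0 := by
    intro g hg ψ
    simp only [hDC, Finset.mul_sum, Finset.sum_mul]
    rw [Finset.sum_comm]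
    refine Finset.sum_eq_zero fun y _ => ?_
    by_cases hy : y = 1
    · simp [hy]
    · have hord : p ∣ orderOf ((y⁻¹ : Q) : G) := by
        obtain ⟨k, hk⟩ := hppow y⁻¹
        rw [hk]
        refine dvd_pow_self p fun h0 => hy ?_
        rw [h0, pow_zero, orderOf_eq_one_iff, OneMemClass.coe_eq_one, inv_eq_one] at hk
        exact hk
      have h := finsum_regular_singular_eq_zero hM (isPBlock_principalBlock (G := G) (M := M)) hg hord
      rw [finsum_irr_eq_sum_ite, ← Finset.sum_filter] at h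
      have hconjv : ∀ χ : IrrCharacter G,
          conj ((χ : G → ℂ) ((y⁻¹ : Q) : G)) = (χ : G → ℂ) y := by
        intro χ
        rw [← IsCharacter.apply_inv (irr_isCharacter χ)]
        simp
      simp only [hconjv] at h
      calc ∑ χ ∈ B, (q : ℂ)⁻¹ * ((χ : G → ℂ) y * (1 - ((ψ y⁻¹ : ℂˣ) : ℂ))) * (χ : G → ℂ) g
          = (q : ℂ)⁻¹ * (1 - ((ψ y⁻¹ : ℂˣ) : ℂ)) *
              ∑ χ ∈ B, (χ : G → ℂ) g * (χ : G → ℂ) y := by
            rw [Finset.mul_sum]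
            exact Finset.sum_congr rfl fun χ _ => by ring
        _ = 0 := by rw [hBdef, h, mul_zero]
  have hone : ¬ p ∣ orderOf (1 : G) := by rw [orderOf_one, Nat.dvd_one]; exact hp.out.ne_one
  have hdeg : ∀ ψ ψ', ∑ χ ∈ B, (D χ ψ - D χ ψ') * (charDegree (χ : G → ℂ) : ℤ) = 0 := by
    intro ψ ψ'
    have : ((∑ χ ∈ B, (D χ ψ - D χ ψ') * (charDegree (χ : G → ℂ) : ℤ) : ℤ) : ℂ) = 0 := by
      push_cast
      simp only [sub_mul, Finset.sum_sub_distrib]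
      simp only [charDegree_eq, hreg 1 hone, sub_zero]
    exact_mod_cast this
  -- the Gram matrix
  have hgram : ∀ ψ ψ' : Q →* ℂˣ, ψ ≠ 1 → ψ' ≠ 1 → ∑ χ ∈ B, D χ ψ * D χ ψ' =
      (m : ℤ) + if ∃ α ∈ A, ψ' = ψ.comp α.toMonoidHom then 1 else 0 := by
    intro ψ ψ' hψ hψ'
    have hcd : ∀ χ, (D χ ψ' : ℂ) =
        (q : ℂ)⁻¹ * ∑ y : Q, conj ((χ : G → ℂ) y) * (1 - ((ψ' y : ℂˣ) : ℂ)) := by
      intro χ
      have h := congrArg conj (hDC χ ψ')
      rw [map_intCast, map_mul, map_inv₀, map_natCast, map_sum] at h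
      rw [h]
      exact congrArg _ (Finset.sum_congr rfl fun y _ => by
        rw [map_mul, map_sub, map_one, conj_linearChar, inv_inv])
    have key : ((∑ χ ∈ B, D χ ψ * D χ ψ' : ℤ) : ℂ) = (q : ℂ)⁻¹ * ∑ α ∈ A, ∑ y : Q,
        (1 - ((ψ (α y)⁻¹ : ℂˣ) : ℂ)) * (1 - ((ψ' y : ℂˣ) : ℂ)) := by
      push_cast
      calc ∑ χ ∈ B, (D χ ψ : ℂ) * D χ ψ'
          = ∑ χ ∈ B, ∑ y : Q, ∑ y' : Q, ((χ : G → ℂ) y * conj ((χ : G → ℂ) y')) *
              ((q : ℂ)⁻¹ * (q : ℂ)⁻¹ *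
                ((1 - ((ψ y⁻¹ : ℂˣ) : ℂ)) * (1 - ((ψ' y' : ℂˣ) : ℂ)))) := by
            refine Finset.sum_congr rfl fun χ _ => ?_
            rw [hDC, hcd, Finset.mul_sum, Finset.mul_sum, Finset.sum_mul_sum]
            exact Finset.sum_congr rfl fun i _ => Finset.sum_congr rfl fun i' _ => by ring
        _ = ∑ y' : Q, ∑ y : Q, (∑ χ ∈ B, (χ : G → ℂ) y * conj ((χ : G → ℂ) y')) *
              ((q : ℂ)⁻¹ * (q : ℂ)⁻¹ *
                ((1 - ((ψ y⁻¹ : ℂˣ) : ℂ)) * (1 - ((ψ' y' : ℂˣ) : ℂ)))) := by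
            rw [Finset.sum_comm, Finset.sum_congr rfl fun i _ => Finset.sum_comm, Finset.sum_comm]
            simp only [Finset.sum_mul]
        _ = ∑ y' : Q, ∑ α ∈ A, (q : ℂ)⁻¹ *
              ((1 - ((ψ (α y')⁻¹ : ℂˣ) : ℂ)) * (1 - ((ψ' y' : ℂˣ) : ℂ))) := by
            refine Finset.sum_congr rfl fun y' _ => ?_
            by_cases hy' : y' = 1
            · simp [hy']
            have hinj : Set.InjOn (fun α : MulAut Q => α y') A := by
              intro α hα β hβ h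
              exact (inv_mul_eq_one.1 (hsemi (β⁻¹ * α) (hAmul _ (hAinv β hβ) _ hα) y' hy' (by
                rw [MulAut.mul_apply, show α y' = β y' from h, MulAut.inv_apply_self]))).symm
            rw [← Finset.sum_image (f := fun y => (q : ℂ)⁻¹ *
              ((1 - ((ψ y⁻¹ : ℂˣ) : ℂ)) * (1 - ((ψ' y' : ℂˣ) : ℂ)))) hinj,
              ← Finset.sum_subset (Finset.subset_univ (A.image fun α => α y'))]
            · refine Finset.sum_congr rfl fun y hy => ?_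
              obtain ⟨α, hα, rfl⟩ := Finset.mem_image.1 hy
              rw [horth y' (α y') hy', if_pos ⟨α⁻¹, hAinv α hα, MulAut.inv_apply_self _ α y'⟩]
              field_simp
            · intro y _ hy
              rw [horth y' y hy', if_neg, zero_mul]
              rintro ⟨α, hα, h⟩
              exact hy (Finset.mem_image.2 ⟨α⁻¹, hAinv α hα, by rw [← h, MulAut.inv_apply_self]⟩)
        _ = _ := by rw [Finset.sum_comm, Finset.mul_sum]; simp only [Finset.mul_sum]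
    have hinner : ∀ α ∈ A, ∑ y : Q, (1 - ((ψ (α y)⁻¹ : ℂˣ) : ℂ)) * (1 - ((ψ' y : ℂˣ) : ℂ)) =
        (q : ℂ) + if ψ' = ψ.comp α.toMonoidHom then (q : ℂ) else 0 := by
      intro α hα
      set φ : Q →* ℂˣ := ψ.comp α.toMonoidHom with hφ
      have hφ1 : φ ≠ 1 := fun h => hψ (MonoidHom.ext fun y => by
        simpa [φ] using DFunLike.congr_fun h (α⁻¹ y))
      have e1 : ∀ y : Q, (1 - ((ψ (α y)⁻¹ : ℂˣ) : ℂ)) * (1 - ((ψ' y : ℂˣ) : ℂ)) =
          1 - (((φ⁻¹ : Q →* ℂˣ) y : ℂˣ) : ℂ) - ((ψ' y : ℂˣ) : ℂ) +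
            (((φ⁻¹ * ψ' : Q →* ℂˣ) y : ℂˣ) : ℂ) := by
        intro y
        simp only [φ, MonoidHom.mul_apply, MonoidHom.inv_apply, MonoidHom.comp_apply,
          MulEquiv.coe_toMonoidHom, Units.val_mul, map_inv]
        ring
      rw [Finset.sum_congr rfl fun y _ => e1 y, Finset.sum_add_distrib, Finset.sum_sub_distrib,
        Finset.sum_sub_distrib, sum_linearChar, sum_linearChar, sum_linearChar,
        if_neg (fun h : φ⁻¹ = 1 => hφ1 (MonoidHom.ext fun y => by simpa using DFunLike.congr_fun h y)), if_neg hψ', Finset.sum_const, Finset.card_univ,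
        ← Nat.card_eq_fintype_card, nsmul_one, sub_zero, sub_zero]
      refine congrArg _ (if_congr ⟨fun h => MonoidHom.ext fun y => ?_, fun h => ?_⟩ rfl rfl)
      · have := DFunLike.congr_fun h y
        rw [MonoidHom.mul_apply, MonoidHom.inv_apply, MonoidHom.one_apply, inv_mul_eq_one] at this
        exact this.symm
      · refine MonoidHom.ext fun y => ?_
        rw [MonoidHom.mul_apply, MonoidHom.inv_apply, MonoidHom.one_apply, h, inv_mul_cancel]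
    rw [Finset.sum_congr rfl hinner, Finset.sum_add_distrib, Finset.sum_const, hAcard,
      nsmul_eq_mul] at key
    have hlast : ∑ α ∈ A, (if ψ' = ψ.comp α.toMonoidHom then (q : ℂ) else 0) =
        if ∃ α ∈ A, ψ' = ψ.comp α.toMonoidHom then (q : ℂ) else 0 := by
      by_cases h1 : ∃ α ∈ A, ψ' = ψ.comp α.toMonoidHom
      · obtain ⟨α, hα, hαψ⟩ := h1
        rw [if_pos ⟨α, hα, hαψ⟩, Finset.sum_eq_single α]
        · rw [if_pos hαψ]
        · intro β hβ hne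
          refine if_neg fun h => hne ?_
          refine (mul_inv_eq_one.1 (hψfix (β * α⁻¹) (hAmul _ hβ _ (hAinv α hα)) ψ hψ ?_))
          refine MonoidHom.ext fun y => ?_
          have := DFunLike.congr_fun (h.symm.trans hαψ) (α⁻¹ y)
          simpa using this
        · exact fun h => absurd hα h
      · rw [if_neg h1]
        exact Finset.sum_eq_zero fun α hα => if_neg fun h => h1 ⟨α, hα, h⟩
    rw [hlast] at key
    have h' : ((∑ χ ∈ B, D χ ψ * D χ ψ' : ℤ) : ℂ) =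
        ((m : ℤ) + if ∃ α ∈ A, ψ' = ψ.comp α.toMonoidHom then 1 else 0 : ℤ) := by
      rw [key]
      by_cases h1 : ∃ α ∈ A, ψ' = ψ.comp α.toMonoidHom
      · rw [if_pos h1, if_pos h1]; push_cast; field_simp
      · rw [if_neg h1, if_neg h1]; push_cast; field_simp; ring
    exact_mod_cast h'
  -- invariance and orbits
  have hDinv : ∀ χ ψ, ∀ α ∈ A, D χ (ψ.comp α.toMonoidHom) = D χ ψ := by
    intro χ ψ α hα
    have key : ((D χ (ψ.comp α.toMonoidHom) : ℤ) : ℂ) = D χ ψ := by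
      rw [hDC, hDC]
      refine congrArg _ (Fintype.sum_equiv α.toEquiv _ _ fun y => ?_)
      show (χ : G → ℂ) y * (1 - ((ψ (α y⁻¹) : ℂˣ) : ℂ)) =
        (χ : G → ℂ) ((α y : Q) : G) * (1 - ((ψ (α y)⁻¹ : ℂˣ) : ℂ))
      obtain ⟨n, rfl⟩ := (hAmem _).1 hα
      rw [hfval, irr_isClassFunction χ (y : G) (n : G), map_inv (f n)]
    exact_mod_cast key
  let R : {ψ : Q →* ℂˣ // ψ ≠ 1} → {ψ : Q →* ℂˣ // ψ ≠ 1} → Prop :=
    fun i j => ∃ α ∈ A, (j : Q →* ℂˣ) = (i : Q →* ℂˣ).comp α.toMonoidHom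
  have hRrefl : ∀ i, R i i := fun i => ⟨1, hA1, by ext; rfl⟩
  have hRsymm : ∀ i j, R i j → R j i := fun i j ⟨α, hα, h⟩ => ⟨α⁻¹, hAinv α hα, by
    rw [h]; exact MonoidHom.ext fun y => by simp⟩
  have hRd : ∀ (χ : IrrCharacter G) (i j : {ψ : Q →* ℂˣ // ψ ≠ 1}), R i j →
      D χ (j : Q →* ℂˣ) = D χ (i : Q →* ℂˣ) := fun χ i j ⟨α, hα, h⟩ => by rw [h, hDinv χ _ α hα]
  have hfib : ∀ i, (Finset.univ.filter fun j => R i j).card = m := by
    intro i
    refine Eq.trans ?_ hAcard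
    refine (Finset.card_bij (fun α _ => (⟨(i : Q →* ℂˣ).comp α.toMonoidHom, fun h => i.2
      (MonoidHom.ext fun y => by simpa using DFunLike.congr_fun h (α⁻¹ y))⟩ :
        {ψ : Q →* ℂˣ // ψ ≠ 1})) (fun α hα => ?_) (fun α hα β hβ h => ?_) (fun j hj => ?_)).symm
    · exact Finset.mem_filter.2 ⟨Finset.mem_univ _, α, hα, rfl⟩
    · refine mul_inv_eq_one.1 (hψfix (α * β⁻¹) (hAmul _ hα _ (hAinv β hβ)) i i.2 ?_)
      refine MonoidHom.ext fun y => ?_
      have := DFunLike.congr_fun (congrArg Subtype.val h) (β⁻¹ y)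
      simpa using this
    · obtain ⟨α, hα, h⟩ := (Finset.mem_filter.1 hj).2
      exact ⟨α, hα, Subtype.ext h.symm⟩
  have hcardJ : Fintype.card {ψ : Q →* ℂˣ // ψ ≠ 1} = q - 1 := by
    rw [Fintype.card_subtype_compl, Fintype.card_subtype_eq, ← Nat.card_eq_fintype_card, hcardΛ]
  obtain ⟨i₀⟩ : Nonempty {ψ : Q →* ℂˣ // ψ ≠ 1} := by
    rw [← Fintype.card_pos_iff, hcardJ]; omega
  haveI : Nonempty {ψ : Q →* ℂˣ // ψ ≠ 1} := ⟨i₀⟩
  obtain ⟨i₁, h01⟩ : ∃ j, ¬ R i₀ j := by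
    by_contra hcon
    push Not at hcon
    have h := hfib i₀
    rw [Finset.filter_true_of_mem fun x _ => hcon x, Finset.card_univ, hcardJ] at h
    omega
  have hpair : ∀ i j : {ψ : Q →* ℂˣ // ψ ≠ 1}, ¬ R i j →
      (∀ χ ∈ B, D χ (i : Q →* ℂˣ) - D χ (j : Q →* ℂˣ) = 0 ∨
        D χ (i : Q →* ℂˣ) - D χ (j : Q →* ℂˣ) = 1 ∨
        D χ (i : Q →* ℂˣ) - D χ (j : Q →* ℂˣ) = -1) ∧
      (B.filter fun χ => D χ (i : Q →* ℂˣ) - D χ (j : Q →* ℂˣ) = 1).card = 1 := by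
    intro i j hij
    refine int_two_squares B _ (fun χ => (charDegree (χ : G → ℂ) : ℤ)) ?_
      (fun χ _ => by exact_mod_cast charDegree_pos χ) (hdeg _ _)
    have e1 := hgram i i i.2 i.2
    have e2 := hgram j j j.2 j.2
    have e3 := hgram i j i.2 j.2
    rw [if_pos (hRrefl i)] at e1
    rw [if_pos (hRrefl j)] at e2
    rw [if_neg (show ¬ _ from hij)] at e3
    calc ∑ χ ∈ B, (D χ (i : Q →* ℂˣ) - D χ (j : Q →* ℂˣ)) ^ 2
        = ∑ χ ∈ B, D χ i * D χ i + ∑ χ ∈ B, D χ j * D χ j - 2 * ∑ χ ∈ B, D χ i * D χ j := by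
          rw [Finset.mul_sum, ← Finset.sum_add_distrib, ← Finset.sum_sub_distrib]
          exact Finset.sum_congr rfl fun χ _ => by ring
      _ = 2 := by rw [e1, e2, e3]; ring
  let lo : IrrCharacter G → ℤ := fun χ =>
    Finset.univ.inf' Finset.univ_nonempty fun j : {ψ : Q →* ℂˣ // ψ ≠ 1} => D χ (j : Q →* ℂˣ)
  have hlo : ∀ χ ∈ B, ∀ j : {ψ : Q →* ℂˣ // ψ ≠ 1},
      D χ (j : Q →* ℂˣ) = lo χ ∨ D χ (j : Q →* ℂˣ) = lo χ + 1 := by
    intro χ hχ j
    obtain ⟨k, -, hk⟩ := Finset.exists_mem_eq_inf' Finset.univ_nonempty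
      fun j : {ψ : Q →* ℂˣ // ψ ≠ 1} => D χ (j : Q →* ℂˣ)
    have hle : lo χ ≤ D χ (j : Q →* ℂˣ) := Finset.inf'_le _ (Finset.mem_univ j)
    have hk' : lo χ = D χ (k : Q →* ℂˣ) := hk
    by_cases hjk : R j k
    · left; rw [hk', hRd χ j k hjk]
    · rcases (hpair j k hjk).1 χ hχ with h | h | h <;> omega
  let F : {ψ : Q →* ℂˣ // ψ ≠ 1} → Finset (IrrCharacter G) := fun j =>
    B.filter fun χ => D χ (j : Q →* ℂˣ) ≠ lo χ
  have hF : ∀ χ ∈ B, ∀ j : {ψ : Q →* ℂˣ // ψ ≠ 1},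
      D χ (j : Q →* ℂˣ) = lo χ + if χ ∈ F j then 1 else 0 := by
    intro χ hχ j
    by_cases h : χ ∈ F j
    · rw [if_pos h]
      exact (hlo χ hχ j).resolve_left (Finset.mem_filter.1 h).2
    · rw [if_neg h, add_zero]
      by_contra h'
      exact h (Finset.mem_filter.2 ⟨hχ, h'⟩)
  haveI : Nonempty (IrrCharacter G) := ⟨trivIrr G⟩
  obtain ⟨Y, hYR, hYF, hYo⟩ := exceptional_dichotomy F R hRsymm
    (fun i j h => Finset.filter_congr fun χ _ => by rw [hRd χ i j h])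
    (fun i j h => by
      rw [← (hpair i j h).2]
      congr 1
      ext χ
      simp only [Finset.mem_sdiff, Finset.mem_filter]
      constructor
      · rintro ⟨hi, hj⟩
        have hχ := (Finset.mem_filter.1 hi).1
        refine ⟨hχ, ?_⟩
        rw [hF χ hχ i, hF χ hχ j, if_pos hi, if_neg hj]
        omega
      · rintro ⟨hχ, hd'⟩
        rw [hF χ hχ i, hF χ hχ j] at hd'
        by_cases h1 : χ ∈ F i <;> by_cases h2 : χ ∈ F j <;> simp [h1, h2] at hd' ⊢) h01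
  have hYB : ∀ i, Y i ∈ B := by
    intro i
    obtain ⟨j, hij⟩ : ∃ j, ¬ R i j := by
      by_contra hall
      push Not at hall
      exact h01 ((hYR i₀ i₁).1 (((hYR i₀ i).2 (hRsymm _ _ (hall i₀))).trans ((hYR i i₁).2 (hall i₁))))
    rcases hYF with h | h
    · exact (Finset.mem_filter.1 ((h i i).2 (hRrefl i))).1
    · exact (Finset.mem_filter.1 ((h i j).2 hij)).1
  obtain ⟨ε, Af, hεA, hYd⟩ : ∃ (ε : ℤ) (Af : IrrCharacter G → ℤ), (ε = 1 ∨ ε = -1) ∧
      ∀ i j : {ψ : Q →* ℂˣ // ψ ≠ 1},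
        D (Y i) (j : Q →* ℂˣ) = Af (Y i) - if R i j then ε else 0 := by
    rcases hYF with h | h
    · refine ⟨-1, lo, Or.inr rfl, fun i j => ?_⟩
      rw [hF _ (hYB i) j]
      by_cases hr : R i j
      · rw [if_pos hr, if_pos ((h i j).2 hr)]; ring
      · rw [if_neg hr, if_neg fun h' => hr ((h i j).1 h')]; ring
    · refine ⟨1, fun χ => lo χ + 1, Or.inl rfl, fun i j => ?_⟩
      rw [hF _ (hYB i) j]
      by_cases hr : R i j
      · rw [if_pos hr, if_neg fun h' => (h i j).1 h' hr]; ring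
      · rw [if_neg hr, if_pos ((h i j).2 hr)]; ring
  set SY : Finset (IrrCharacter G) := Finset.univ.image Y with hSY
  set SX : Finset (IrrCharacter G) := B \ SY with hSX
  have hSYB : SY ⊆ B := fun χ hχ => by
    obtain ⟨i, -, rfl⟩ := Finset.mem_image.1 hχ; exact hYB i
  have hconst : ∀ χ ∈ SX, ∀ j : {ψ : Q →* ℂˣ // ψ ≠ 1},
      D χ (j : Q →* ℂˣ) = D χ (i₀ : Q →* ℂˣ) := by
    intro χ hχ j
    obtain ⟨hχB, hχY⟩ := Finset.mem_sdiff.1 hχ
    rw [hF χ hχB j, hF χ hχB i₀]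
    congr 1
    exact if_congr (hYo χ (fun i h => hχY (Finset.mem_image.2 ⟨i, Finset.mem_univ _, h.symm⟩)) j i₀)
      rfl rfl
  -- all shifts agree
  have hshift : ∀ i j, Af (Y i) = Af (Y j) := by
    intro i j
    by_cases hij : Y i = Y j
    · rw [hij]
    have hnR : ¬ R i j := fun h => hij ((hYR i j).2 h)
    have g0 := hgram i i i.2 i.2
    have g1 := hgram j j j.2 j.2
    rw [if_pos (hRrefl i)] at g0
    rw [if_pos (hRrefl j)] at g1
    set W := (B.erase (Y i)).erase (Y j) with hW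
    have hsplit : ∀ f : IrrCharacter G → ℤ,
        ∑ χ ∈ B, f χ = f (Y i) + (f (Y j) + ∑ χ ∈ W, f χ) := by
      intro f
      rw [hW, Finset.add_sum_erase (s := B.erase (Y i)) _ (Finset.mem_erase.2 ⟨Ne.symm hij, hYB _⟩),
        Finset.add_sum_erase _ _ (hYB _)]
    rw [hsplit, hYd, if_pos (hRrefl i), hYd, if_neg fun h => hnR (hRsymm _ _ h), sub_zero] at g0
    rw [hsplit, hYd, if_neg hnR, hYd, if_pos (hRrefl j), sub_zero] at g1
    have hWeq : ∑ χ ∈ W, D χ (j : Q →* ℂˣ) * D χ (j : Q →* ℂˣ) =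
        ∑ χ ∈ W, D χ (i : Q →* ℂˣ) * D χ (i : Q →* ℂˣ) := by
      refine Finset.sum_congr rfl fun χ hχ => ?_
      rw [hW, Finset.mem_erase, Finset.mem_erase] at hχ
      have heq : D χ (j : Q →* ℂˣ) = D χ (i : Q →* ℂˣ) := by
        by_cases hY : χ ∈ SY
        · obtain ⟨k, -, rfl⟩ := Finset.mem_image.1 hY
          rw [hYd, hYd, if_neg fun h => hχ.1 ((hYR k j).2 h), if_neg fun h => hχ.2.1 ((hYR k i).2 h)]
        · rw [hconst χ (Finset.mem_sdiff.2 ⟨hχ.2.2, hY⟩) j,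
            hconst χ (Finset.mem_sdiff.2 ⟨hχ.2.2, hY⟩) i]
      rw [heq]
    rw [hWeq] at g1
    rcases hεA with rfl | rfl <;> nlinarith
  set d := Af (Y i₀) with hd
  have hYd' : ∀ i j : {ψ : Q →* ℂˣ // ψ ≠ 1},
      D (Y i) (j : Q →* ℂˣ) = d - if R i j then ε else 0 := fun i j => by
    rw [hYd, hshift i i₀]
  have htrivB : trivIrr G ∈ B := (hBmem _).2 (self_mem_blockOf (trivIrr G))
  have hDtriv : ∀ ψ : Q →* ℂˣ, ψ ≠ 1 → D (trivIrr G) ψ = 1 := by
    intro ψ hψ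
    have : (D (trivIrr G) ψ : ℂ) = 1 := by
      rw [hDC]
      simp only [trivIrr_apply, one_mul, Finset.sum_sub_distrib, Finset.sum_const, Finset.card_univ,
        ← Nat.card_eq_fintype_card, nsmul_one]
      rw [Finset.sum_congr rfl fun y _ => show ((ψ y⁻¹ : ℂˣ) : ℂ) = (((ψ⁻¹ : Q →* ℂˣ) y : ℂˣ) : ℂ) by
        rw [map_inv, MonoidHom.inv_apply], sum_linearChar, if_neg (fun h : ψ⁻¹ = 1 => hψ (MonoidHom.ext fun y => by simpa using DFunLike.congr_fun h y)), sub_zero,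
        inv_mul_cancel₀ hq0]
    exact_mod_cast this
  have htX : trivIrr G ∈ SX := by
    refine Finset.mem_sdiff.2 ⟨htrivB, fun h => ?_⟩
    obtain ⟨i, -, hi⟩ := Finset.mem_image.1 h
    obtain ⟨j, hij⟩ : ∃ j, ¬ R i j := by
      by_contra hall
      push Not at hall
      exact h01 ((hYR i₀ i₁).1 (((hYR i₀ i).2 (hRsymm _ _ (hall i₀))).trans ((hYR i i₁).2 (hall i₁))))
    have e0 := hYd' i i
    have e1 := hYd' i j
    rw [hi, hDtriv _ i.2, if_pos (hRrefl i)] at e0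
    rw [hi, hDtriv _ j.2, if_neg hij] at e1
    rcases hεA with rfl | rfl <;> omega
  have hYcard : SY.card * m = q - 1 := by
    have hc := Finset.card_eq_sum_card_image Y (Finset.univ : Finset {ψ : Q →* ℂˣ // ψ ≠ 1})
    rw [Finset.card_univ, hcardJ, Finset.sum_congr rfl fun b hb => show _ = m by
        obtain ⟨i, -, rfl⟩ := Finset.mem_image.1 hb
        rw [← hfib i]
        congr 1
        exact Finset.filter_congr fun j _ => (hYR j i).trans ⟨hRsymm _ _, hRsymm _ _⟩,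
      Finset.sum_const, smul_eq_mul] at hc
    exact hc.symm
  have hAX : ∀ χ ∈ SX, ∀ y : Q, y ≠ 1 → (χ : G → ℂ) y = (D χ (i₀ : Q →* ℂˣ) : ℂ) := by
    intro χ hχ y hy
    rw [hval χ y hy, Finset.sum_congr rfl fun ψ hψ => by
      rw [show D χ ψ = D χ (i₀ : Q →* ℂˣ) from hconst χ hχ ⟨ψ, (Finset.mem_erase.1 hψ).1⟩],
      ← Finset.mul_sum]
    have h2 := sum_dual y
    rw [if_neg hy, ← Finset.add_sum_erase _ _ (Finset.mem_univ (1 : Q →* ℂˣ))] at h2
    simp only [MonoidHom.one_apply, Units.val_one] at h2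
    rw [eq_neg_of_add_eq_zero_right h2]
    ring
  let ζ : (Q →* ℂˣ) → IrrCharacter G := fun ψ => if h : ψ = 1 then trivIrr G else Y ⟨ψ, h⟩
  have hζ : ∀ (ψ : Q →* ℂˣ) (h : ψ ≠ 1), ζ ψ = Y ⟨ψ, h⟩ := fun ψ h => dif_neg h
  have hrel : ∀ (i : {ψ : Q →* ℂˣ // ψ ≠ 1}) (g : G), ¬ p ∣ orderOf g →
      ∑ χ ∈ SX, (D χ (i₀ : Q →* ℂˣ) : ℂ) * (χ : G → ℂ) g +
        ((d : ℂ) * ∑ χ ∈ SY, (χ : G → ℂ) g - (ε : ℂ) * (Y i : G → ℂ) g) = 0 := by
    intro i g hg
    have h := hreg g hg (i : Q →* ℂˣ)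
    rw [← Finset.sum_sdiff hSYB, Finset.sum_congr rfl fun χ hχ => by rw [hconst χ hχ i]] at h
    rw [hSX]
    have hY : ∑ χ ∈ SY, (D χ (i : Q →* ℂˣ) : ℂ) * (χ : G → ℂ) g =
        (d : ℂ) * ∑ χ ∈ SY, (χ : G → ℂ) g - (ε : ℂ) * (Y i : G → ℂ) g := by
      have hmem : Y i ∈ SY := Finset.mem_image.2 ⟨i, Finset.mem_univ _, rfl⟩
      have e : (d : ℂ) * ∑ χ ∈ SY, (χ : G → ℂ) g =
          (d : ℂ) * (Y i : G → ℂ) g + ∑ χ ∈ SY.erase (Y i), (d : ℂ) * (χ : G → ℂ) g := by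
        rw [← Finset.add_sum_erase _ _ hmem, mul_add, Finset.mul_sum]
      rw [e, ← Finset.add_sum_erase _ _ hmem, hYd', if_pos (hRrefl i), Finset.sum_congr rfl fun χ hχ => show (D χ (i : Q →* ℂˣ) : ℂ) *
          (χ : G → ℂ) g = (d : ℂ) * (χ : G → ℂ) g by
          obtain ⟨hne, hmem⟩ := Finset.mem_erase.1 hχ
          obtain ⟨k, -, rfl⟩ := Finset.mem_image.1 hmem
          rw [hYd', if_neg fun h => hne ((hYR k i).2 h), sub_zero]]
      push_cast
      ring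
    rw [← hY]
    exact h
  have hagree : ∀ i j : {ψ : Q →* ℂˣ // ψ ≠ 1}, ∀ g : G, ¬ p ∣ orderOf g →
      (Y i : G → ℂ) g = (Y j : G → ℂ) g := by
    intro i j g hg
    have h := (hrel i g hg).trans (hrel j g hg).symm
    have hε0 : (ε : ℂ) ≠ 0 := by rcases hεA with rfl | rfl <;> norm_num
    exact mul_left_cancel₀ hε0 (by linear_combination -h)
  have hsum : ∀ y : Q, y ≠ 1 → ∑ φ ∈ (Finset.univ : Finset (Q →* ℂˣ)).erase 1, ((φ y : ℂˣ) : ℂ) = -1 := by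
    intro y hy
    have h2 := sum_dual y
    rw [if_neg hy, ← Finset.add_sum_erase _ _ (Finset.mem_univ (1 : Q →* ℂˣ))] at h2
    simp only [MonoidHom.one_apply, Units.val_one] at h2
    exact eq_neg_of_add_eq_zero_right h2
  have hζy : ∀ ψ, ψ ≠ 1 → ∀ y : Q, y ≠ 1 →
      (ζ ψ : G → ℂ) y = (d : ℂ) + (ε : ℂ) * ∑ α ∈ A, ((ψ (α y) : ℂˣ) : ℂ) := by
    intro ψ hψ y hy
    rw [hζ ψ hψ, hval _ y hy]
    set i : {ψ : Q →* ℂˣ // ψ ≠ 1} := ⟨ψ, hψ⟩
    have hsub : A.image (fun α => ψ.comp α.toMonoidHom) ⊆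
        (Finset.univ : Finset (Q →* ℂˣ)).erase 1 := by
      intro φ hφ
      obtain ⟨α, -, rfl⟩ := Finset.mem_image.1 hφ
      refine Finset.mem_erase.2 ⟨fun h => hψ (MonoidHom.ext fun w => ?_), Finset.mem_univ _⟩
      simpa using DFunLike.congr_fun h (α⁻¹ w)
    have hinj : Set.InjOn (fun α : MulAut Q => ψ.comp α.toMonoidHom) A := by
      intro α hα β hβ h
      refine mul_inv_eq_one.1 (hψfix (α * β⁻¹) (hAmul _ hα _ (hAinv β hβ)) ψ hψ ?_)
      refine MonoidHom.ext fun w => ?_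
      have := DFunLike.congr_fun (show ψ.comp α.toMonoidHom = ψ.comp β.toMonoidHom from h) (β⁻¹ w)
      simpa using this
    have hcoef : ∀ φ ∈ (Finset.univ : Finset (Q →* ℂˣ)).erase 1, (D (Y i) φ : ℂ) * ((φ y : ℂˣ) : ℂ) =
        (d : ℂ) * ((φ y : ℂˣ) : ℂ) -
          if φ ∈ A.image (fun α => ψ.comp α.toMonoidHom) then (ε : ℂ) * ((φ y : ℂˣ) : ℂ) else 0 := by
      intro φ hφ
      rw [hYd' i ⟨φ, (Finset.mem_erase.1 hφ).1⟩]
      by_cases hm' : φ ∈ A.image (fun α => ψ.comp α.toMonoidHom)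
      · obtain ⟨α, hα, h⟩ := Finset.mem_image.1 hm'
        rw [if_pos ⟨α, hα, h.symm⟩, if_pos hm']
        push_cast; ring
      · rw [if_neg, if_neg hm', sub_zero, sub_zero]
        rintro ⟨α, hα, h⟩
        exact hm' (Finset.mem_image.2 ⟨α, hα, h.symm⟩)
    rw [Finset.sum_congr rfl hcoef, Finset.sum_sub_distrib, ← Finset.mul_sum, hsum y hy,
      ← Finset.sum_filter, Finset.filter_mem_eq_inter, Finset.inter_eq_right.2 hsub,
      Finset.sum_image hinj, ← Finset.mul_sum]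
    simp only [MonoidHom.comp_apply, MulEquiv.coe_toMonoidHom]
    ring
  refine ⟨SX, SY, ζ, fun χ => D χ (i₀ : Q →* ℂˣ), d, ε, ?_, Finset.sdiff_disjoint, htX,
    hDtriv _ i₀.2, hYcard, hεA, ?_, ?_, ?_, ?_, ?_, ?_, ?_, ?_, ?_,
    A, hA1, hAcard, hAmul, hsemi, hconj, hζy⟩
  · ext χ
    rw [← hBmem, Set.mem_union, Finset.mem_coe, Finset.mem_coe, ← Finset.mem_union, hSX,
      Finset.sdiff_union_of_subset hSYB]
  · intro χ hχ
    have hχB := (Finset.mem_sdiff.1 hχ).1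
    have hval' : ∀ z y : G, IsPPart p z y → y ∈ Q → y ≠ 1 →
        (χ : G → ℂ) z = (D χ (i₀ : Q →* ℂˣ) : ℂ) := fun z y hzy hy hy1 => by
      rw [hsec χ ((hBmem χ).1 hχB) z y hzy hy hy1]
      exact hAX χ hχ ⟨y, hy⟩ fun h => hy1 (congrArg Subtype.val h)
    refine ⟨fun h0 => ?_, hval'⟩
    have hv : ∀ x : G, p ∣ orderOf x → (χ : G → ℂ) x = 0 := by
      intro x hx
      obtain ⟨y, hy⟩ := exists_isPPart hp.out x
      obtain ⟨S, hS⟩ := (show IsPGroup p (Subgroup.zpowers y) from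
        isPGroup_zpowers_of_orderOf (by obtain ⟨v, -, -, hk, -⟩ := hy; exact hk)).exists_le_sylow
      obtain ⟨g, hg⟩ := MulAction.exists_smul_eq G S P
      have hy' := IsPPart.conjugate hy g
      have hmem : g * y * g⁻¹ ∈ Q := by
        show g * y * g⁻¹ ∈ (P : Subgroup G)
        rw [← hg, Sylow.coe_subgroup_smul]
        exact Subgroup.smul_mem_pointwise_smul y (MulAut.conj g) _ (hS (Subgroup.mem_zpowers y))
      have hne : g * y * g⁻¹ ≠ 1 := isPPart_ne_one hy' (by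
        rw [show g * x * g⁻¹ = MulAut.conj g x by simp, MulEquiv.orderOf_eq]; exact hx)
      have := hval' _ _ hy' hmem hne
      rw [show D χ (i₀ : Q →* ℂˣ) = 0 from h0, Int.cast_zero] at this
      exact (irr_isClassFunction χ x g).symm.trans this
    have hsing := blockOf_eq_singleton hM χ (not_dvd_card_div_of_vanish χ hv)
    have hmem : trivIrr G ∈ blockOf M (χ : G → ℂ) :=
      (IsPBlock.eq_blockOf isPBlock_principalBlock ((hBmem χ).1 hχB)) ▸ (hBmem _).1 htrivB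
    rw [hsing, Set.mem_singleton_iff] at hmem
    subst hmem
    exact one_ne_zero ((hDtriv _ i₀.2).symm.trans h0)
  · intro ψ hψ
    rw [hζ ψ hψ]; exact Finset.mem_image.2 ⟨_, Finset.mem_univ _, rfl⟩
  · intro η hη
    obtain ⟨i, -, rfl⟩ := Finset.mem_image.1 hη
    exact ⟨i, i.2, hζ i i.2⟩
  · rintro ψ ψ' hψ ⟨n, hn, hnψ⟩
    have h' : ψ' = ψ.comp (f (⟨n, hn⟩⁻¹)).toMonoidHom := by
      refine MonoidHom.ext fun w' => ?_
      exact hnψ _ w' (by
        rw [MulEquiv.coe_toMonoidHom, hfval]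
        simp [mul_assoc])
    have hψ' : ψ' ≠ 1 := fun h => hψ (MonoidHom.ext fun w => by
      have := hnψ w (f ⟨n, hn⟩ w) (hfval _ _)
      rw [h, MonoidHom.one_apply] at this
      exact this.symm)
    rw [hζ ψ hψ, hζ ψ' hψ']
    exact ((hYR _ _).2 ⟨_, (hAmem _).2 ⟨_, rfl⟩, h'⟩).symm
  · intro ψ hψ z y hzy hy1
    have hy : y ≠ 1 := fun h => hy1 (by rw [h]; rfl)
    rw [hζ ψ hψ, hsec _ ((hBmem _).1 (hYB _)) z y hzy y.2 hy1, hval _ y hy]
    have hset : {ψ' : Q →* ℂˣ | ∃ n : G, n ∈ Subgroup.normalizer (Q : Set G) ∧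
        ∀ w w' : Q, (w' : G) = n * w * n⁻¹ → ψ' w' = ψ w} =
        ↑(A.image fun α => ψ.comp α.toMonoidHom) := by
      ext φ
      simp only [Set.mem_setOf_eq, Finset.coe_image, Set.mem_image, Finset.mem_coe]
      constructor
      · rintro ⟨n, hn, hnφ⟩
        refine ⟨f (⟨n, hn⟩⁻¹), (hAmem _).2 ⟨_, rfl⟩, MonoidHom.ext fun w' => ?_⟩
        exact (hnφ _ w' (by
          rw [MulEquiv.coe_toMonoidHom, hfval]
          simp [mul_assoc])).symm
      · rintro ⟨α, hα, rfl⟩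
        obtain ⟨n, rfl⟩ := (hAmem _).1 hα
        refine ⟨(n : G)⁻¹, inv_mem n.2, fun w w' hw => ?_⟩
        show ψ (f n w') = ψ w
        congr 1
        apply Subtype.ext
        rw [hfval, hw]
        group
    rw [hset, finsum_mem_coe_finset]
    set i : {ψ : Q →* ℂˣ // ψ ≠ 1} := ⟨ψ, hψ⟩
    have hsum : ∑ φ ∈ (Finset.univ : Finset (Q →* ℂˣ)).erase 1,
        (D (Y i) φ : ℂ) * ((φ y : ℂˣ) : ℂ) =
        (d : ℂ) * ∑ φ ∈ (Finset.univ : Finset (Q →* ℂˣ)).erase 1, ((φ y : ℂˣ) : ℂ) -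
          (ε : ℂ) * ∑ φ ∈ A.image (fun α => ψ.comp α.toMonoidHom), ((φ y : ℂˣ) : ℂ) := by
      rw [Finset.mul_sum, Finset.mul_sum]
      have hsub : A.image (fun α => ψ.comp α.toMonoidHom) ⊆
          (Finset.univ : Finset (Q →* ℂˣ)).erase 1 := by
        intro φ hφ
        obtain ⟨α, -, rfl⟩ := Finset.mem_image.1 hφ
        refine Finset.mem_erase.2 ⟨fun h => hψ (MonoidHom.ext fun w => ?_), Finset.mem_univ _⟩
        simpa using DFunLike.congr_fun h (α⁻¹ w)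
      rw [← Finset.sum_sdiff hsub, ← Finset.sum_sdiff (f := fun φ => (d : ℂ) * ((φ y : ℂˣ) : ℂ)) hsub,
        add_sub_assoc, ← Finset.sum_sub_distrib]
      congr 1
      · refine Finset.sum_congr rfl fun φ hφ => ?_
        obtain ⟨h1, h2⟩ := Finset.mem_sdiff.1 hφ
        rw [hYd' i ⟨φ, (Finset.mem_erase.1 h1).1⟩, if_neg, sub_zero]
        rintro ⟨α, hα, h⟩
        exact h2 (Finset.mem_image.2 ⟨α, hα, h.symm⟩)
      · refine Finset.sum_congr rfl fun φ hφ => ?_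
        obtain ⟨α, hα, hαφ⟩ := Finset.mem_image.1 hφ
        rw [hYd' i ⟨φ, (Finset.mem_erase.1 (hsub hφ)).1⟩, if_pos ⟨α, hα, hαφ.symm⟩]
        push_cast
        ring
    rw [hsum]
    have h2 := sum_dual y
    rw [if_neg hy, ← Finset.add_sum_erase _ _ (Finset.mem_univ (1 : Q →* ℂˣ))] at h2
    simp only [MonoidHom.one_apply, Units.val_one] at h2
    linear_combination -(d : ℂ) * h2
  · have g := hgram i₀ i₀ i₀.2 i₀.2
    rw [if_pos (hRrefl i₀), ← Finset.sum_sdiff hSYB] at g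
    have hY : ∑ χ ∈ SY, D χ (i₀ : Q →* ℂˣ) * D χ (i₀ : Q →* ℂˣ) =
        (d - ε) ^ 2 + ((SY.card : ℤ) - 1) * d ^ 2 := by
      have hmem : Y i₀ ∈ SY := Finset.mem_image.2 ⟨i₀, Finset.mem_univ _, rfl⟩
      rw [← Finset.add_sum_erase _ _ hmem, hYd', if_pos (hRrefl i₀),
        Finset.sum_congr rfl fun χ hχ => show D χ (i₀ : Q →* ℂˣ) * D χ (i₀ : Q →* ℂˣ) = d ^ 2 by
          obtain ⟨hne, hm'⟩ := Finset.mem_erase.1 hχ
          obtain ⟨k, -, rfl⟩ := Finset.mem_image.1 hm'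
          rw [hYd', if_neg fun h => hne ((hYR k i₀).2 h)]; ring,
        Finset.sum_const, Finset.card_erase_of_mem hmem, nsmul_eq_mul,
        Nat.cast_sub (Finset.card_pos.2 ⟨_, hmem⟩), Nat.cast_one]
      ring
    rw [hY, ← hSX] at g
    rw [Finset.sum_congr rfl fun χ _ => sq (D χ (i₀ : Q →* ℂˣ))]
    linarith
  · intro η hη η' hη' g hg
    obtain ⟨i, -, rfl⟩ := Finset.mem_image.1 hη
    obtain ⟨j, -, rfl⟩ := Finset.mem_image.1 hη'
    exact hagree i j g hg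
  · intro η hη g hg
    obtain ⟨i, -, rfl⟩ := Finset.mem_image.1 hη
    have h := hrel i g hg
    rw [Finset.sum_congr rfl fun (χ : IrrCharacter G) (hχ : χ ∈ SY) =>
      show (χ : G → ℂ) g = (Y i : G → ℂ) g by
        obtain ⟨k, -, rfl⟩ := Finset.mem_image.1 hχ
        exact hagree k i g hg, Finset.sum_const, nsmul_eq_mul] at h
    linear_combination h
  · intro y hy
    refine ⟨hidx y hy, ?_⟩
    rw [Finset.sum_congr rfl fun η _ => hval η y hy, Finset.sum_neg_distrib, Finset.sum_comm]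
    rw [Finset.sum_congr rfl fun φ hφ => show ∑ η ∈ SY, (D η φ : ℂ) * ((φ y : ℂˣ) : ℂ) =
      ((SY.card : ℂ) * d - ε) * ((φ y : ℂˣ) : ℂ) by
        set j : {ψ : Q →* ℂˣ // ψ ≠ 1} := ⟨φ, (Finset.mem_erase.1 hφ).1⟩
        have hmem : Y j ∈ SY := Finset.mem_image.2 ⟨j, Finset.mem_univ _, rfl⟩
        rw [← Finset.sum_mul, ← Finset.add_sum_erase _ _ hmem, show D (Y j) φ = d - ε by
          rw [show φ = (j : Q →* ℂˣ) from rfl, hYd', if_pos (hRrefl j)],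
          Finset.sum_congr rfl fun η hη => show (D η φ : ℂ) = (d : ℂ) by
            obtain ⟨hne, hm'⟩ := Finset.mem_erase.1 hη
            obtain ⟨k, -, rfl⟩ := Finset.mem_image.1 hm'
            rw [show φ = (j : Q →* ℂˣ) from rfl, hYd', if_neg fun h => hne ((hYR k j).2 h), sub_zero],
          Finset.sum_const, Finset.card_erase_of_mem hmem, nsmul_eq_mul,
          Nat.cast_sub (Finset.card_pos.2 ⟨_, hmem⟩)]
        push_cast
        ring, ← Finset.mul_sum, hsum y hy]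
    ring

end Cfsg.Agent.Lib.Blocks
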