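import Mathlib.LinearAlgebra.Matrix.SchurComplement
import Mathlib.LinearAlgebra.Matrix.ToLinearEquiv
import Mathlib.Analysis.Matrix.PosDef
import Mathlib.LinearAlgebra.FreeModule.PID
import Mathlib.Algebra.Module.Projective
import Mathlib.Data.ZMod.Basic
import Mathlib.Data.Real.StarOrdered
import Mathlib.Algebra.Field.ZMod

/-!
# Gram determinants of integral matrices and forms of projection type

An integral Gram determinant of full rank is at least the number of columns minus the rank plus
one.  Consequently a symmetric integral matrix `A` with `A ^ 2 = p A`, of trace `p l` and of rank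
at most one modulo `p` takes values at least `l` outside its kernel.
-/

set_option autoImplicit false
set_option linter.unusedSectionVars false

namespace Cfsg.Agent.Lib.Blocks

open Matrix

variable {κ ι : Type*} [Fintype κ] [DecidableEq κ]

/-- The Gram matrix of a set of columns. -/
def colGram (s : Finset ι) (c : ι → κ → ℤ) : Matrix κ κ ℤ := ∑ i ∈ s, vecMulVec (c i) (c i)

theorem colGram_mulVec (s : Finset ι) (c : ι → κ → ℤ) (v : κ → ℤ) :
    colGram s c *ᵥ v = ∑ i ∈ s, (c i ⬝ᵥ v) • c i := by
  funext a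
  simp only [colGram, Matrix.sum_mulVec, Finset.sum_apply, Pi.smul_apply, smul_eq_mul]
  refine Finset.sum_congr rfl fun i _ => ?_
  simp only [vecMulVec_apply, mulVec, dotProduct, Finset.sum_mul]
  refine Finset.sum_congr rfl fun b _ => ?_
  ring

theorem dotProduct_colGram_mulVec (s : Finset ι) (c : ι → κ → ℤ) (v : κ → ℤ) :
    v ⬝ᵥ (colGram s c *ᵥ v) = ∑ i ∈ s, (c i ⬝ᵥ v) ^ 2 := by
  rw [colGram_mulVec, dotProduct_sum]
  refine Finset.sum_congr rfl fun i _ => ?_
  rw [dotProduct_smul, smul_eq_mul, dotProduct_comm v]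
  ring

theorem det_colGram_nonneg (s : Finset ι) (c : ι → κ → ℤ) : 0 ≤ (colGram s c).det := by
  let C : Matrix s κ ℝ := fun i a => (c i a : ℝ)
  have h : (colGram s c).map (Int.castRingHom ℝ) = Cᴴ * C := by
    ext a b
    simp only [colGram, map_apply, Matrix.sum_apply, vecMulVec_apply, mul_apply, conjTranspose_apply,
      eq_intCast, Int.cast_sum, Int.cast_mul, C, star_trivial]
    exact (Finset.sum_coe_sort s fun i => (c i a : ℝ) * c i b).symm
  have h2 : (0 : ℝ) ≤ ((colGram s c).map (Int.castRingHom ℝ)).det := by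
    rw [h]; exact (posSemidef_conjTranspose_mul_self C).det_nonneg
  rw [← RingHom.mapMatrix_apply, ← RingHom.map_det, eq_intCast] at h2
  exact_mod_cast h2

theorem det_add_vecMulVec_int (A : Matrix κ κ ℤ) (hA : A.det ≠ 0) (u : κ → ℤ) :
    (A + vecMulVec u u).det = A.det + u ⬝ᵥ (A.adjugate *ᵥ u) := by
  apply Int.cast_injective (α := ℚ)
  have hA' : IsUnit (A.map (Int.castRingHom ℚ)).det := by
    rw [← RingHom.mapMatrix_apply, ← RingHom.map_det, eq_intCast, isUnit_iff_ne_zero]
    exact_mod_cast hA
  have h := det_add_replicateCol_mul_replicateRow (ι := Unit) hA' (fun a => (u a : ℚ))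
    (fun a => (u a : ℚ))
  have e1 : (A + vecMulVec u u).map (Int.castRingHom ℚ) = A.map (Int.castRingHom ℚ) +
      replicateCol Unit (fun a => (u a : ℚ)) * replicateRow Unit (fun a => (u a : ℚ)) := by
    ext a b; simp [vecMulVec_apply, mul_apply]
  rw [← e1, ← RingHom.mapMatrix_apply, ← RingHom.map_det, eq_intCast] at h
  rw [h, det_unique (1 + _ : Matrix Unit Unit ℚ), Matrix.add_apply, Matrix.one_apply_eq, inv_def,
    Ring.inverse_eq_inv', Matrix.mul_smul, Matrix.smul_mul, Matrix.smul_apply]
  have e2 : (replicateRow Unit (fun a => (u a : ℚ)) * (A.map (Int.castRingHom ℚ)).adjugate *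
      replicateCol Unit (fun a => (u a : ℚ))) default default =
      ((u ⬝ᵥ (A.adjugate *ᵥ u) : ℤ) : ℚ) := by
    rw [← RingHom.mapMatrix_apply, ← RingHom.map_adjugate]
    simp only [mul_apply, replicateRow_apply, replicateCol_apply, RingHom.mapMatrix_apply,
      map_apply, eq_intCast, dotProduct, mulVec, Int.cast_sum, Int.cast_mul, Finset.sum_mul,
      Finset.mul_sum]
    rw [Finset.sum_comm]
    exact Finset.sum_congr rfl fun a _ => Finset.sum_congr rfl fun b _ => by ring
  rw [e2, ← RingHom.mapMatrix_apply, ← RingHom.map_det, eq_intCast, smul_eq_mul, Int.cast_add]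
  have : (A.det : ℚ) ≠ 0 := by exact_mod_cast hA
  field_simp

/-- **Gram determinant against the number of columns.** -/
theorem card_le_det_colGram [DecidableEq ι] (c : ι → κ → ℤ) :
    ∀ (n : ℕ) (s : Finset ι), s.card = n → (∀ i ∈ s, c i ≠ 0) → (colGram s c).det ≠ 0 →
      (n : ℤ) + 1 ≤ (colGram s c).det + Fintype.card κ := by
  intro n
  induction n with
  | zero =>
    intro s _ _ hdet
    have := det_colGram_nonneg s c
    omega
  | succ n ih =>
    intro s hs hc hdet
    by_cases hrem : ∃ i ∈ s, (colGram (s.erase i) c).det ≠ 0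
    · obtain ⟨i, hi, hd'⟩ := hrem
      have hcard : (s.erase i).card = n := by rw [Finset.card_erase_of_mem hi]; omega
      have hIH := ih (s.erase i) hcard (fun j hj => hc j (Finset.mem_of_mem_erase hj)) hd'
      have hsplit : colGram s c = colGram (s.erase i) c + vecMulVec (c i) (c i) :=
        (Finset.sum_erase_add s _ hi).symm
      have hpos : 0 < (colGram (s.erase i) c).det :=
        lt_of_le_of_ne (det_colGram_nonneg _ c) (Ne.symm hd')
      set y := (colGram (s.erase i) c).adjugate *ᵥ c i with hy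
      have hGy : colGram (s.erase i) c *ᵥ y = (colGram (s.erase i) c).det • c i := by
        rw [hy, mulVec_mulVec, mul_adjugate, smul_mulVec, one_mulVec]
      have hq : (colGram (s.erase i) c).det * (c i ⬝ᵥ y) =
          ∑ j ∈ s.erase i, (c j ⬝ᵥ y) ^ 2 := by
        rw [← dotProduct_colGram_mulVec, hGy, dotProduct_smul, smul_eq_mul, dotProduct_comm y]
      have ht : 1 ≤ c i ⬝ᵥ y := by
        have h0 : 0 ≤ c i ⬝ᵥ y :=
          nonneg_of_mul_nonneg_right (hq ▸ Finset.sum_nonneg fun j _ => sq_nonneg _) hpos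
        by_contra hlt
        have hz : c i ⬝ᵥ y = 0 := by omega
        rw [hz, mul_zero, eq_comm, Finset.sum_eq_zero_iff_of_nonneg fun j _ => sq_nonneg _] at hq
        have hG0 : colGram (s.erase i) c *ᵥ y = 0 := by
          rw [colGram_mulVec]
          exact Finset.sum_eq_zero fun j hj => by
            rw [(pow_eq_zero_iff two_ne_zero).1 (hq j hj), zero_smul]
        rw [hGy] at hG0
        exact hc i hi ((smul_eq_zero.1 hG0).resolve_left hd')
      rw [hsplit, det_add_vecMulVec_int _ hd', ← hy]
      push_cast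
      omega
    · simp only [not_exists, not_and, not_not] at hrem
      have hv : ∀ i : s, ∃ v : κ → ℤ, (∀ j ∈ s, j ≠ i.1 → c j ⬝ᵥ v = 0) ∧ c i.1 ⬝ᵥ v ≠ 0 := by
        intro i
        obtain ⟨v, hv0, hv⟩ := exists_mulVec_eq_zero_iff.2 (hrem i.1 i.2)
        have h1 : ∀ j ∈ s.erase i.1, c j ⬝ᵥ v = 0 := by
          have h := dotProduct_colGram_mulVec (s.erase i.1) c v
          rw [hv, dotProduct_zero, eq_comm,
            Finset.sum_eq_zero_iff_of_nonneg fun j _ => sq_nonneg _] at h
          exact fun j hj => (pow_eq_zero_iff two_ne_zero).1 (h j hj)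
        refine ⟨v, fun j hj hne => h1 j (Finset.mem_erase.2 ⟨hne, hj⟩), fun h => hdet ?_⟩
        refine exists_mulVec_eq_zero_iff.1 ⟨v, hv0, ?_⟩
        rw [colGram_mulVec]
        refine Finset.sum_eq_zero fun j hj => ?_
        by_cases hji : j = i.1
        · rw [hji, h, zero_smul]
        · rw [h1 j (Finset.mem_erase.2 ⟨hji, hj⟩), zero_smul]
      choose v hv1 hv2 using hv
      have hli : LinearIndependent ℤ fun i : s => c i.1 := by
        refine Fintype.linearIndependent_iff.2 fun g hg i => ?_
        have h := congrArg (fun w => w ⬝ᵥ v i) hg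
        simp only [sum_dotProduct, smul_dotProduct, smul_eq_mul, zero_dotProduct] at h
        rw [Finset.sum_eq_single i (fun j _ hji => by
          rw [hv1 i j.1 j.2 (fun e => hji (Subtype.ext e)), mul_zero]) (by simp)] at h
        exact (mul_eq_zero.1 h).resolve_right (hv2 i)
      have hle := hli.fintype_card_le_finrank
      rw [Fintype.card_coe, hs, Module.finrank_pi] at hle
      have := det_colGram_nonneg s c
      push_cast
      omega

variable [Fintype ι] [DecidableEq ι]

/-- **Forms of projection type with rank one modulo `p`.** -/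
theorem le_projForm {p : ℕ} (hp : p.Prime) {l : ℕ} (A : Matrix ι ι ℤ) (hsymm : Aᵀ = A)
    (hsq : A * A = (p : ℤ) • A) (htr : A.trace = (p : ℤ) * l)
    (hdiag : ∀ i, A i i ≠ (p : ℤ))
    (hminor : ∀ i j i' j', (p : ℤ) ∣ A i j * A i' j' - A i j' * A i' j)
    (f : ι → ℤ) (hf : A *ᵥ f ≠ 0) : (l : ℤ) ≤ f ⬝ᵥ (A *ᵥ f) := by
  classical
  haveI := Fact.mk hp
  have hp0 : (p : ℤ) ≠ 0 := Int.natCast_ne_zero.2 hp.ne_zero
  set B : Matrix ι ι ℤ := (p : ℤ) • 1 - A with hB
  have hAB : A * B = 0 := by rw [hB, Matrix.mul_sub, Matrix.mul_smul, Matrix.mul_one, hsq, sub_self]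
  have hBT : Bᵀ = B := by rw [hB, transpose_sub, transpose_smul, transpose_one, hsymm]
  -- the saturated lattice
  set φ := A.mulVecLin.rangeRestrict with hφ
  obtain ⟨σ, hσ⟩ := Module.projective_lifting_property φ LinearMap.id
    A.mulVecLin.surjective_rangeRestrict
  let π : (ι → ℤ) →ₗ[ℤ] LinearMap.ker A.mulVecLin :=
    (LinearMap.id - σ.comp φ).codRestrict _ fun v => by
      have h1 := LinearMap.congr_fun hσ (φ v)
      simp only [LinearMap.comp_apply, LinearMap.id_apply] at h1
      have h2 := congrArg Subtype.val h1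
      simp only [hφ, LinearMap.codRestrict_apply] at h2
      rw [LinearMap.mem_ker, LinearMap.sub_apply, LinearMap.id_apply, LinearMap.comp_apply, map_sub,
        sub_eq_zero]
      exact h2.symm
  have hπ : ∀ v : LinearMap.ker A.mulVecLin, π v.1 = v := fun v => by
    apply Subtype.ext
    show v.1 - σ (φ v.1) = v.1
    rw [show φ v.1 = 0 from Subtype.ext (LinearMap.mem_ker.1 v.2), map_zero, sub_zero]
  obtain ⟨r, b⟩ := Submodule.basisOfPid (Pi.basisFun ℤ ι) (LinearMap.ker A.mulVecLin)
  set N : Matrix (Fin r) ι ℤ := Matrix.of fun a => (b a).1 with hN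
  set S : Matrix (Fin r) ι ℤ := LinearMap.toMatrix' (b.equivFun.toLinearMap.comp π) with hS
  have hSv : ∀ v, S *ᵥ v = b.equivFun (π v) := fun v => by
    rw [hS, LinearMap.toMatrix'_mulVec]; rfl
  have hNS : ∀ v, A *ᵥ v = 0 → Nᵀ *ᵥ (S *ᵥ v) = v := by
    intro v hv
    have h := congrArg Subtype.val (b.sum_equivFun ⟨v, hv⟩)
    rw [hSv, hπ ⟨v, hv⟩]
    funext i
    have h' := congrFun h i
    simp only [AddSubmonoidClass.coe_finsetSum, SetLike.val_smul, Finset.sum_apply, Pi.smul_apply,
      smul_eq_mul] at h'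
    rw [← h']
    simp [mulVec, dotProduct, hN, mul_comm]
  have hSN : S * Nᵀ = 1 := by
    ext a a'
    have h : (S * Nᵀ) a a' = (S *ᵥ (b a').1) a := rfl
    rw [h, hSv, hπ, Module.Basis.equivFun_self, Matrix.one_apply]
    exact if_congr eq_comm rfl rfl
  have hAN : A * Nᵀ = 0 := by
    ext i a
    exact congrFun (LinearMap.mem_ker.1 (b a).2) i
  have hBN : B * Nᵀ = (p : ℤ) • Nᵀ := by
    rw [hB, Matrix.sub_mul, hAN, Matrix.smul_mul, Matrix.one_mul, sub_zero]
  have hNB : N * B = (p : ℤ) • N := by
    have h := congrArg Matrix.transpose hBN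
    rwa [transpose_mul, transpose_smul, transpose_transpose, hBT] at h
  have hBR : B = Nᵀ * (S * B) := by
    ext i j
    have h := hNS (fun k => B k j) (by
      funext k; exact congrFun (congrFun hAB k) j)
    exact (congrFun h i).symm
  set Q := S * B * Sᵀ with hQ
  set Gm := N * Nᵀ with hG
  have hNST : N * Sᵀ = 1 := by
    have h := congrArg Matrix.transpose hSN
    rwa [transpose_mul, transpose_transpose, transpose_one] at h
  have hGQ : Gm * Q = (p : ℤ) • 1 := by
    rw [hG, hQ, ← Matrix.mul_assoc, Matrix.mul_assoc N Nᵀ (S * B), ← hBR, hNB, Matrix.smul_mul,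
      hNST]
  have hQT : Qᵀ = Q := by
    rw [hQ, transpose_mul, transpose_mul, transpose_transpose, hBT, Matrix.mul_assoc]
  have hGT : Gmᵀ = Gm := by rw [hG, transpose_mul, transpose_transpose]
  have hQG : Q * Gm = (p : ℤ) • 1 := by
    have h := congrArg Matrix.transpose hGQ
    rwa [transpose_mul, hQT, hGT, transpose_smul, transpose_one] at h
  have hBS : B * Sᵀ = (S * B)ᵀ := by rw [transpose_mul, hBT]
  have hQN : Q * N = S * B := by
    have h : B = (S * B)ᵀ * N := by
      conv_lhs => rw [← hBT, hBR]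
      rw [transpose_mul, transpose_transpose]
    rw [hQ, Matrix.mul_assoc S B, hBS, Matrix.mul_assoc, ← h]
  have hBform : B = Nᵀ * Q * N := by rw [Matrix.mul_assoc, hQN, ← hBR]
  -- the rank
  have hr : (r : ℤ) + l = Fintype.card ι := by
    have h1 : B.trace = (p : ℤ) * r := by
      rw [hBform, Matrix.trace_mul_cycle, ← hG, hGQ, trace_smul, trace_one, Fintype.card_fin]
      rfl
    have h2 : B.trace = (p : ℤ) * Fintype.card ι - (p : ℤ) * l := by
      rw [hB, trace_sub, trace_smul, trace_one, htr]; rfl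
    refine mul_left_cancel₀ hp0 ?_
    linarith
  have hdetG0 : Gm.det ≠ 0 := fun h => by
    have h' := congrArg Matrix.det hGQ
    rw [det_mul, h, zero_mul, det_smul, det_one, mul_one] at h'
    exact pow_ne_zero _ hp0 h'.symm
  have hdetQ0 : Q.det ≠ 0 := fun h => by
    have h' := congrArg Matrix.det hGQ
    rw [det_mul, h, mul_zero, det_smul, det_one, mul_one] at h'
    exact pow_ne_zero _ hp0 h'.symm
  -- the determinant divides `p`
  have hdvd : Gm.det ∣ (p : ℤ) := by
    set Z := Int.castRingHom (ZMod p)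
    obtain ⟨u, v, huv⟩ : ∃ u v : ι → ZMod p, ∀ i j, (B i j : ZMod p) = u i * v j := by
      by_cases h0 : ∀ i j, (B i j : ZMod p) = 0
      · exact ⟨0, 0, fun i j => by simp [h0]⟩
      simp only [not_forall] at h0
      obtain ⟨i₀, j₀, h0⟩ := h0
      refine ⟨fun i => (B i j₀ : ZMod p) / (B i₀ j₀ : ZMod p), fun j => (B i₀ j : ZMod p),
        fun i j => ?_⟩
      have hBz : ∀ a c, (B a c : ZMod p) = -(A a c : ZMod p) := fun a c => by
        rw [hB, Matrix.sub_apply, Matrix.smul_apply, smul_eq_mul, Int.cast_sub, Int.cast_mul,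
          Int.cast_natCast, ZMod.natCast_self, zero_mul, zero_sub]
      have h := (ZMod.intCast_zmod_eq_zero_iff_dvd _ p).2 (hminor i j i₀ j₀)
      push_cast at h
      rw [div_mul_eq_mul_div, eq_div_iff h0]
      simp only [hBz]
      linear_combination h
    set α : Fin r → ZMod p := fun a => ∑ i, (S a i : ZMod p) * u i
    set β : Fin r → ZMod p := fun a => ∑ i, (S a i : ZMod p) * v i
    have hQz : ∀ a c, (Q a c : ZMod p) = α a * β c := by
      intro a c
      simp only [hQ, Matrix.mul_apply, transpose_apply, Int.cast_sum, Int.cast_mul, huv,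
        Finset.sum_mul, α, β, Finset.mul_sum]
      exact Finset.sum_congr rfl fun j _ => Finset.sum_congr rfl fun i _ => by ring
    have key : ∀ W : Matrix (Fin r) (Fin r) ℤ,
        (∀ a c, ((Q * W) a c : ZMod p) = 0) → Gm.det ∣ W.det := by
      intro W hW
      choose Y hY using fun a c => (ZMod.intCast_zmod_eq_zero_iff_dvd _ p).1 (hW a c)
      have hQY : Q * W = (p : ℤ) • Matrix.of Y := by
        ext a c; rw [Matrix.smul_apply, of_apply, smul_eq_mul, ← hY]
      have h : (p : ℤ) • (Gm * Matrix.of Y) = (p : ℤ) • W := by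
        rw [← Matrix.mul_smul, ← hQY, ← Matrix.mul_assoc, hGQ, Matrix.smul_mul, Matrix.one_mul]
      exact ⟨(Matrix.of Y).det, by rw [← det_mul, smul_right_injective _ hp0 h]⟩
    by_cases hβ : ∃ a, β a ≠ 0
    · obtain ⟨a₀, ha₀⟩ := hβ
      choose w hw using fun c => ZMod.intCast_surjective (-(β c / β a₀))
      set w' : Fin r → ℤ := fun c => if c = a₀ then (p : ℤ) else w c
      set W : Matrix (Fin r) (Fin r) ℤ := (1 : Matrix (Fin r) (Fin r) ℤ).updateRow a₀ w'
      have hWdet : W.det = (p : ℤ) := by
        rw [← det_transpose, show Wᵀ = ((1 : Matrix (Fin r) (Fin r) ℤ)ᵀ).updateCol a₀ w' from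
          updateCol_transpose.symm, transpose_one, ← cramer_apply, cramer_one]
        simp [w']
      rw [← hWdet]
      refine key W fun a c => ?_
      rw [Matrix.mul_apply, Int.cast_sum]
      by_cases hc : c = a₀
      · subst hc
        rw [Finset.sum_eq_single c]
        · simp [W, w']
        · intro d _ hd; simp [W, updateRow_ne hd, Matrix.one_apply_ne hd]
        · simp
      · rw [Finset.sum_eq_add a₀ c (Ne.symm hc)]
        · simp only [W, updateRow_self, updateRow_ne hc, Matrix.one_apply_eq, w', if_neg hc,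
            Int.cast_mul, Int.cast_one, hQz, hw]
          field_simp
          ring
        · intro d _ hd; simp [W, updateRow_ne hd.1, Matrix.one_apply_ne hd.2]
        · simp
        · simp
    · simp only [not_exists, not_not] at hβ
      refine (key 1 fun a c => ?_).trans (by simp)
      rw [Matrix.mul_one, hQz, hβ, mul_zero]
  -- the extended Gram matrix
  set cv : Matrix (Fin r) Unit ℤ := Matrix.of fun a _ => (N *ᵥ f) a with hcv
  set G' := fromBlocks Gm cv cvᵀ (Matrix.of fun _ _ : Unit => f ⬝ᵥ f) with hG'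
  set q := f ⬝ᵥ (A *ᵥ f) with hq
  have hqnn : 0 < q := by
    have h : (p : ℤ) * q = (A *ᵥ f) ⬝ᵥ (A *ᵥ f) := by
      rw [hq, ← smul_eq_mul, ← dotProduct_smul, ← smul_mulVec, ← hsq, ← mulVec_mulVec,
        dotProduct_mulVec, ← mulVec_transpose, hsymm]
    have h0 : 0 < (A *ᵥ f) ⬝ᵥ (A *ᵥ f) :=
      lt_of_le_of_ne (Finset.sum_nonneg fun i _ => mul_self_nonneg _)
        (Ne.symm fun h => hf (dotProduct_self_eq_zero.1 h))
    rw [← h] at h0
    exact pos_of_mul_pos_right h0 (Int.natCast_nonneg p)
  have hGdet : Gm.det * q = (p : ℤ) * G'.det := by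
    set L := fromBlocks Q 0 (-(cvᵀ * Q)) ((p : ℤ) • (1 : Matrix Unit Unit ℤ)) with hL
    have hprod : L * G' = fromBlocks ((p : ℤ) • 1) (Q * cv) 0 (Matrix.of fun _ _ : Unit => q) := by
      rw [hL, hG', fromBlocks_multiply]
      simp only [Matrix.zero_mul, add_zero, hQG]
      congr 1
      · rw [Matrix.neg_mul, Matrix.mul_assoc, hQG, Matrix.mul_smul, Matrix.mul_one, Matrix.smul_mul,
          Matrix.one_mul, neg_add_cancel]
      · ext _ _
        have h1 : (cvᵀ * Q * cv) () () = f ⬝ᵥ (B *ᵥ f) := by
          rw [hBform, ← mulVec_mulVec, ← mulVec_mulVec, dotProduct_mulVec, vecMul_transpose,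
            Matrix.mul_assoc]
          rfl
        have h2 : f ⬝ᵥ (B *ᵥ f) = (p : ℤ) * (f ⬝ᵥ f) - q := by
          rw [hB, sub_mulVec, smul_mulVec, one_mulVec, dotProduct_sub, dotProduct_smul, smul_eq_mul]
        rw [Matrix.neg_mul, Matrix.smul_mul, Matrix.one_mul, Matrix.add_apply, Matrix.neg_apply,
          Matrix.smul_apply, h1, h2, smul_eq_mul, of_apply, of_apply]
        ring
    have h := congrArg Matrix.det hprod
    rw [det_mul, hL, det_fromBlocks_zero₁₂, det_fromBlocks_zero₂₁, det_smul, det_smul, det_one,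
      det_one, det_unique (Matrix.of fun _ _ : Unit => q), Fintype.card_fin, Fintype.card_unit, pow_one,
      mul_one, mul_one] at h
    have hpr : Gm.det * Q.det = (p : ℤ) ^ r := by
      rw [← det_mul, hGQ, det_smul, det_one, mul_one, Fintype.card_fin]
    rw [← hpr] at h
    simp only [of_apply] at h
    refine mul_left_cancel₀ hdetQ0 ?_
    linear_combination -h
  have hG'0 : G'.det ≠ 0 := fun h => by
    rw [h, mul_zero] at hGdet
    exact (mul_ne_zero hdetG0 hqnn.ne') hGdet
  have hG'le : G'.det ≤ q := by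
    have hGpos : 0 < Gm.det := by
      refine lt_of_le_of_ne ?_ (Ne.symm hdetG0)
      have h := det_colGram_nonneg (Finset.univ : Finset ι) (fun i a => N a i)
      rwa [show colGram Finset.univ (fun i a => N a i) = Gm by
        ext a c; simp [colGram, hG, Matrix.sum_apply, vecMulVec_apply, mul_apply]] at h
    have hle : Gm.det ≤ (p : ℤ) := Int.le_of_dvd (by exact_mod_cast hp.pos) hdvd
    refine le_of_mul_le_mul_left ?_ (show (0 : ℤ) < (p : ℤ) by exact_mod_cast hp.pos)
    rw [← hGdet]
    exact mul_le_mul_of_nonneg_right hle hqnn.le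
  -- the columns
  have hG'col : G' = colGram Finset.univ (fun i => Sum.elim (fun a => N a i) (fun _ : Unit => f i)) := by
    ext a c
    rcases a with a | a <;> rcases c with c | c <;>
      simp [hG', hG, hcv, colGram, Matrix.sum_apply, vecMulVec_apply, mul_apply, mulVec, dotProduct,
        mul_comm]
  have hcol : ∀ i, (fun a => Sum.elim (fun a => N a i) (fun _ : Unit => f i) a) ≠ 0 := by
    intro i h
    have hz : ∀ a, N a i = 0 := fun a => congrFun h (Sum.inl a)
    have hBii : B i i = 0 := by
      rw [hBform, Matrix.mul_assoc, Matrix.mul_apply]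
      exact Finset.sum_eq_zero fun a _ => by rw [transpose_apply, hz, zero_mul]
    apply hdiag i
    rw [hB, Matrix.sub_apply, Matrix.smul_apply, Matrix.one_apply_eq, smul_eq_mul, mul_one] at hBii
    linarith
  have hmain := card_le_det_colGram (fun i => Sum.elim (fun a => N a i) (fun _ : Unit => f i))
    (Fintype.card ι) Finset.univ Finset.card_univ (fun i _ => hcol i) (hG'col ▸ hG'0)
  rw [← hG'col, Fintype.card_sum, Fintype.card_fin, Fintype.card_unit] at hmain
  push_cast at hmain
  linarith

end Cfsg.Agent.Lib.Blocks
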