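import Cfsg.Agent.Lib.Blocks.Defect

/-!
# Values on `p`-sections and height zero characters
-/

set_option autoImplicit false
set_option linter.unusedSectionVars false
set_option linter.style.haveILetI false

namespace Cfsg.Agent.Lib.Blocks

open Cfsg Cfsg.Agent.Lib.Characters

universe u

variable {G : Type u} [Group G] [Fintype G] {M : Ideal AlgInt} [hMp : M.IsPrime] {p : ℕ}

/-- The `p'`-part is a power of the element. -/
theorem exists_pow_eq_regular_part (hp : p.Prime) {g x y : G} (hxy : x * y = g) (hc : Commute x y)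
    (hx : ∃ k : ℕ, orderOf x = p ^ k) (hy : ¬ p ∣ orderOf y) :
    ∃ n : ℕ, g ^ n = y := by
  obtain ⟨k, hk⟩ := hx
  have hcop : Nat.Coprime (p ^ k) (orderOf y) := ((hp.coprime_iff_not_dvd).2 hy).pow_left k
  obtain ⟨n, hn1, hn2⟩ := Nat.chineseRemainder hcop 0 1
  refine ⟨n, ?_⟩
  have hx0 : x ^ n = 1 := by
    rw [← pow_mod_orderOf, hk, hn1, Nat.zero_mod, pow_zero]
  have hy1 : y ^ n = y := by
    rw [← pow_mod_orderOf, hn2, pow_mod_orderOf, pow_one]
  rw [← hxy, hc.mul_pow, hx0, hy1, one_mul]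

/-- A character is congruent at `g` to its value at the `p'`-part of `g`. -/
theorem memLocalIdeal_char_sub_char_regular (hM : IsPModular p M) {χ : G → ℂ}
    (hχ : IsCharacter G χ) {g x y : G} (hxy : x * y = g) (hc : Commute x y)
    (hx : ∃ k : ℕ, orderOf x = p ^ k) (hy : ¬ p ∣ orderOf y) :
    MemLocalIdeal M (χ g - χ y) := by
  haveI := Fact.mk hM.1
  haveI := resField_charP (M := M) hM
  obtain ⟨n, hn⟩ := exists_pow_eq_regular_part hM.1 hxy hc hx hy
  obtain ⟨k, hk⟩ := hx
  have hpow : g ^ (p ^ k) = y ^ (p ^ k) := by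
    rw [← hxy, hc.mul_pow, ← hk, pow_orderOf_eq_one, one_mul]
  obtain ⟨d, ρ, rfl⟩ := hχ
  obtain ⟨ι, _, b, μ, hb, hμ⟩ :=
    exists_eigenbasis (ρ g) Nat.card_pos.ne' (rep_pow_card ρ g)
  have h1 : ρ.character g = ∑ i, μ i := trace_eq_sum_eigen b (ρ g) μ hb
  have h2 : ρ.character y = ∑ i, μ i ^ n := by
    rw [← hn]
    show LinearMap.trace ℂ _ (ρ (g ^ n)) = _
    rw [map_pow]
    exact trace_pow_eq_sum_eigen b (ρ g) μ hb n
  rw [h1, h2, ← Finset.sum_sub_distrib]
  refine memLocalIdeal_sum _ fun i _ => ?_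
  have hμR : MemLocalRing M (μ i) :=
    memLocalRing_of_isIntegral' (isIntegral_of_pow_eq_one Nat.card_pos.ne' (hμ i))
  have hq : μ i ^ (p ^ k) = (μ i ^ n) ^ (p ^ k) := by
    have hgn : g ^ (p ^ k) = g ^ (n * p ^ k) := by rw [pow_mul, hn, hpow]
    have h := congrArg (fun t => (ρ t) (b i)) hgn
    simp only [map_pow, pow_apply_eigen b (ρ g) μ hb] at h
    rw [← pow_mul]
    have h0 : (μ i ^ p ^ k - μ i ^ (n * p ^ k)) • b i = 0 := by rw [sub_smul, h, sub_self]
    exact sub_eq_zero.1 ((smul_eq_zero.1 h0).resolve_right (b.ne_zero i))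
  have hzero : red M (⟨μ i, hμR⟩ - ⟨μ i, hμR⟩ ^ n) = 0 := by
    have h' : red M ((⟨μ i, hμR⟩ : locSubring M)) ^ (p ^ k) =
        (red M ((⟨μ i, hμR⟩ : locSubring M) ^ n)) ^ (p ^ k) := by
      rw [← map_pow, ← map_pow]
      exact congrArg _ (Subtype.ext (by simpa using hq))
    rw [map_sub]
    apply (pow_eq_zero_iff (pow_ne_zero k hM.1.ne_zero)).1
    rw [sub_pow_char_pow, h', sub_self]
  simpa using (red_eq_zero_iff).1 hzero

/-- Equal `p`-parts of class size and degree and a unit value give a unit central character. -/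
theorem not_memLocalIdeal_centralChar (hM : IsPModular p M) (χ : IrrCharacter G) {g : G}
    (hv : (Subgroup.centralizer ({g} : Set G)).index.factorization p =
      (charDegree (χ : G → ℂ)).factorization p)
    (hχg : ¬ MemLocalIdeal M ((χ : G → ℂ) g)) :
    ¬ MemLocalIdeal M (centralChar (χ : G → ℂ) g) := by
  obtain ⟨k, hk, hkp⟩ :=
    exists_eq_pow_mul hM.1 (Subgroup.centralizer ({g} : Set G)).index_ne_zero_of_finite
  obtain ⟨u, hu, hup⟩ := exists_eq_pow_mul hM.1 (charDegree_pos χ).ne'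
  rw [hv] at hk
  have hp0 : (p : ℂ) ≠ 0 := Nat.cast_ne_zero.2 hM.1.ne_zero
  have hu0 : (u : ℂ) ≠ 0 := Nat.cast_ne_zero.2 (fun h => hup (h ▸ dvd_zero p))
  have h1 : centralChar (χ : G → ℂ) g = (k : ℂ) * (u : ℂ)⁻¹ * (χ : G → ℂ) g := by
    set v := (charDegree (χ : G → ℂ)).factorization p
    rw [centralChar, ← charDegree_eq χ, hk, hu]
    push_cast
    field_simp
  rw [h1]
  have hkR : MemLocalRing M ((k : ℕ) : ℂ) := memLocalRing_natCast k
  have huR : MemLocalRing M (u : ℂ)⁻¹ := memLocalRing_inv_natCast hM hup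
  refine not_memLocalIdeal_mul (memLocalRing_mul hkR huR)
    (memLocalRing_of_isIntegral' (isIntegral_char χ g)) (not_memLocalIdeal_mul hkR huR
      (fun h => hkp ((memLocalIdeal_natCast_iff hM k).1 h)) (fun h => ?_)) hχg
  have := memLocalIdeal_mul_left (memLocalRing_natCast u) h
  rw [mul_inv_cancel₀ hu0] at this
  exact not_memLocalIdeal_one this

/-- An element of a defect class is `p`-regular. -/
theorem IsDefectClass.regular (hM : IsPModular p M) {B : Set (IrrCharacter G)}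
    (hB : IsPBlock M B) {g : G} (hg : IsDefectClass M B g) : ¬ p ∣ orderOf g := fun h =>
  hg.2.1 (by rw [blockCoeff_eq_zero_of_dvd hM hB h]; exact memLocalIdeal_zero)

/-- Height zero characters are nonzero modulo `M` at `x * y` for `y` in a defect class and `x` a
`p`-element commuting with it. -/
theorem not_memLocalIdeal_height_zero_mul (hM : IsPModular p M) {B : Set (IrrCharacter G)}
    (hB : IsPBlock M B) {y x : G} (hy : IsDefectClass M B y)
    (hx : ∃ k : ℕ, orderOf x = p ^ k) (hc : Commute x y) {χ : IrrCharacter G} (hχ : χ ∈ B)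
    (h0 : blockHeight p B (χ : G → ℂ) = 0) : ¬ MemLocalIdeal M ((χ : G → ℂ) (x * y)) :=
  not_memLocalIdeal_of_sub (not_memLocalIdeal_apply_of_height_zero hM hB hy hχ h0)
    (memLocalIdeal_char_sub_char_regular hM (irr_isCharacter χ) rfl hc hx
      (IsDefectClass.regular hM hB hy))

/-- If the `p`-part of `g` lies in no defect group then the characters of `B` vanish at `g`. -/
theorem char_eq_zero_of_forall_notMem (hM : IsPModular p M) {B : Set (IrrCharacter G)}
    (hB : IsPBlock M B) {g x : G} (hx : IsPPart p g x)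
    (hD : ∀ D : Subgroup G, IsDefectGroup p M B D → x ∉ D) {χ : IrrCharacter G} (hχ : χ ∈ B) :
    (χ : G → ℂ) g = 0 := by
  haveI := Fact.mk hM.1
  refine char_eq_zero_of_trunc_zero hM hB hx (fun c hc => ?_) hχ
  by_contra hcoef
  obtain ⟨y, hy⟩ := exists_isDefectClass hM hB
  obtain ⟨P⟩ : Nonempty (Sylow p (Subgroup.centralizer ({y} : Set G))) := inferInstance
  obtain ⟨z, -, -, ⟨k, hk⟩, -⟩ := hx
  have hxg : IsPGroup p (Subgroup.zpowers x) :=
    IsPGroup.of_card (n := k) (by rw [Nat.card_zpowers, hk])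
  have hcx : c ∈ Subgroup.centralizer (Subgroup.zpowers x : Set G) := by
    rw [Subgroup.mem_centralizer_iff]
    intro a ha
    obtain ⟨n, rfl⟩ := Subgroup.mem_zpowers_iff.1 ha
    exact (hc.zpow_right n).eq.symm
  obtain ⟨a, ha⟩ := isConjLE_of_coeff hM hB hy P hxg hcx hcoef
  refine hD _ (IsDefectGroup.map_conj ⟨y, hy, P, rfl⟩ a⁻¹) ?_
  exact ⟨a * x * a⁻¹, ha ⟨x, Subgroup.mem_zpowers x, rfl⟩, by simp [mul_assoc]⟩

end Cfsg.Agent.Lib.Blocks
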