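import Mathlib

/-!
Norm three integral vectors meeting in two.
-/

set_option autoImplicit false

namespace Cfsg.Agent.Lib.Blocks

/-- Integer vectors of squared length 3 with inner product 2 between inequivalent ones, many of
them, share two coordinates. -/
theorem exists_shared_pair {ι X : Type*} [Fintype ι] [Fintype X] [DecidableEq X]
    (R : ι → ι → Prop) [DecidableRel R] (hR : ∀ i, (Finset.univ.filter (R i)).card ≤ 3)
    (hrefl : ∀ i, R i i) (hι : 15 ≤ Fintype.card ι) (c : ι → X → ℤ)
    (hc : ∀ i j, ∑ z, c i z * c j z = if R i j then 3 else 2) :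
    ∃ a b : X, ∃ εa εb : ℤ, a ≠ b ∧ (εa = 1 ∨ εa = -1) ∧ (εb = 1 ∨ εb = -1) ∧
      (∀ i, c i a = εa ∧ c i b = εb) ∧
      (∀ i, ∃ f : X, f ≠ a ∧ f ≠ b ∧ (c i f = 1 ∨ c i f = -1) ∧
        ∀ z, z ≠ a → z ≠ b → z ≠ f → c i z = 0) ∧
      (∀ i j z, z ≠ a → z ≠ b → c i z ≠ 0 → c j z ≠ 0 → R i j) := by
  classical
  have hsq : ∀ i, ∑ z, c i z * c i z = 3 := fun i => by rw [hc, if_pos (hrefl i)]
  have hunit : ∀ i z, c i z = 0 ∨ c i z = 1 ∨ c i z = -1 := by
    intro i z
    have h := Finset.single_le_sum (f := fun z => c i z * c i z) (fun z _ => mul_self_nonneg _)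
      (Finset.mem_univ z)
    simp only [hsq] at h
    have h1 : -1 ≤ c i z := by nlinarith
    have h2 : c i z ≤ 1 := by nlinarith
    omega
  let S : ι → Finset X := fun i => Finset.univ.filter fun z => c i z ≠ 0
  have hmemS : ∀ i z, z ∈ S i ↔ c i z ≠ 0 := fun i z => by simp [S]
  have hcardS : ∀ i, (S i).card = 3 := by
    intro i
    have h1 : ∀ z, c i z * c i z = if c i z ≠ 0 then 1 else 0 := fun z => by
      rcases hunit i z with h | h | h <;> simp [h]
    have h2 := hsq i
    simp only [h1, Finset.sum_boole] at h2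
    exact_mod_cast h2
  have hsame : ∀ i j, R i j → c i = c j := by
    intro i j h
    have h0 : ∑ z, (c i z - c j z) * (c i z - c j z) = 0 := by
      have e : ∀ z, (c i z - c j z) * (c i z - c j z) =
          c i z * c i z + c j z * c j z - 2 * (c i z * c j z) := fun z => by ring
      simp only [e, Finset.sum_sub_distrib, Finset.sum_add_distrib, ← Finset.mul_sum, hsq, hc i j,
        if_pos h]
      norm_num
    funext z
    have := (Finset.sum_eq_zero_iff_of_nonneg fun z _ => mul_self_nonneg _).1 h0 z (Finset.mem_univ z)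
    have := mul_self_eq_zero.1 this
    omega
  -- two inequivalent vectors share two coordinates, with equal signs
  have hpair : ∀ i j, ¬ R i j → (S i ∩ S j).card = 2 ∧ ∀ z ∈ S i ∩ S j, c i z = c j z := by
    intro i j h
    have e : ∑ z, (c i z - c j z) * (c i z - c j z) = 2 := by
      have e : ∀ z, (c i z - c j z) * (c i z - c j z) =
          c i z * c i z + c j z * c j z - 2 * (c i z * c j z) := fun z => by ring
      simp only [e, Finset.sum_sub_distrib, Finset.sum_add_distrib, ← Finset.mul_sum, hsq, hc i j,
        if_neg h]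
      norm_num
    have hsgn : ∀ z ∈ S i ∩ S j, c i z = c j z := by
      intro z hz
      rw [Finset.mem_inter, hmemS, hmemS] at hz
      have h' := Finset.single_le_sum (f := fun z => (c i z - c j z) * (c i z - c j z))
        (fun z _ => mul_self_nonneg _) (Finset.mem_univ z)
      simp only [e] at h'
      rcases hunit i z with hi | hi | hi <;> rcases hunit j z with hj | hj | hj <;>
        simp [hi, hj] at hz h' ⊢
    refine ⟨?_, hsgn⟩
    have h1 : ∑ z, c i z * c j z = ((S i ∩ S j).card : ℤ) := by
      rw [Finset.card_eq_sum_ones, Nat.cast_sum, ← Finset.sum_subset (Finset.subset_univ (S i ∩ S j))]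
      · refine Finset.sum_congr rfl fun z hz => ?_
        rw [← hsgn z hz]
        have hz' := (hmemS i z).1 (Finset.mem_inter.1 hz).1
        rcases hunit i z with h' | h' | h' <;> simp_all
      · intro z _ hz
        simp only [Finset.mem_inter, hmemS, not_and_or, not_not] at hz
        rcases hz with h' | h' <;> simp [h']
    rw [hc, if_neg h] at h1
    exact_mod_cast h1.symm
  have hdiff : ∀ i, ∃ j, ¬ R i j := by
    intro i
    by_contra hcon
    push Not at hcon
    have h1 := hR i
    rw [Finset.filter_true_of_mem fun j _ => hcon j, Finset.card_univ] at h1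
    omega
  obtain ⟨i₀⟩ : Nonempty ι := Fintype.card_pos_iff.1 (by omega)
  obtain ⟨j₀, hij⟩ := hdiff i₀
  obtain ⟨hcab, -⟩ := hpair i₀ j₀ hij
  obtain ⟨a, b, hab, hI⟩ := Finset.card_eq_two.1 hcab
  -- every vector contains the pair
  have hall : ∀ i, a ∈ S i ∧ b ∈ S i := by
    by_contra hcon
    push Not at hcon
    obtain ⟨k, hk⟩ := hcon
    have hSij : ∀ {i j}, R i j → S i = S j := fun {i j} h => by
      ext z; rw [hmemS, hmemS, hsame i j h]
    set U := S i₀ ∪ S j₀ with hU
    have hUcard : U.card = 4 := by
      have := Finset.card_union_add_card_inter (S i₀) (S j₀)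
      rw [hcab, hcardS, hcardS] at this
      rw [hU]; omega
    have hsub : ∀ i, ¬ (a ∈ S i ∧ b ∈ S i) → S i ⊆ U := by
      intro i hi
      by_cases h1 : R i i₀
      · rw [hSij h1]; exact Finset.subset_union_left
      by_cases h2 : R i j₀
      · rw [hSij h2]; exact Finset.subset_union_right
      have e := Finset.card_union_add_card_inter (S i ∩ S i₀) (S i ∩ S j₀)
      rw [← Finset.inter_union_distrib_left, (hpair i i₀ h1).1, (hpair i j₀ h2).1] at e
      have e2 : ((S i ∩ S i₀) ∩ (S i ∩ S j₀)).card ≤ 1 := by
        have hsubab : (S i ∩ S i₀) ∩ (S i ∩ S j₀) ⊆ S i ∩ {a, b} := by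
          intro z hz
          simp only [Finset.mem_inter] at hz
          exact Finset.mem_inter.2 ⟨hz.1.1, hI ▸ Finset.mem_inter.2 ⟨hz.1.2, hz.2.2⟩⟩
        refine (Finset.card_le_card hsubab).trans ?_
        rw [Finset.card_le_one]
        intro z hz w hw
        simp only [Finset.mem_inter, Finset.mem_insert, Finset.mem_singleton] at hz hw
        rcases hz.2 with h | h <;> rcases hw.2 with h' | h'
        · exact h.trans h'.symm
        · exact absurd ⟨h ▸ hz.1, h' ▸ hw.1⟩ hi
        · exact absurd ⟨h' ▸ hw.1, h ▸ hz.1⟩ hi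
        · exact h.trans h'.symm
      have h3 : (S i ∩ U).card = (S i).card := by
        refine le_antisymm (Finset.card_le_card Finset.inter_subset_left) ?_
        have e4 : (S i).card = 3 := hcardS i
        rw [← hU] at e; omega
      intro z hz
      have := Finset.eq_of_subset_of_card_le Finset.inter_subset_left h3.ge
      rw [← this] at hz
      exact (Finset.mem_inter.1 hz).2
    have hkU := hsub k fun h => hk h.1 h.2
    have hallU : ∀ i, S i ⊆ U := by
      intro i
      by_cases hi : a ∈ S i ∧ b ∈ S i
      swap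
      · exact hsub i hi
      by_cases hik : R i k
      · rw [hSij hik]; exact hkU
      obtain ⟨e, he⟩ : ∃ e, S i = {a, b, e} := by
        have hs : ({a, b} : Finset X) ⊆ S i := by
          intro z hz; simp only [Finset.mem_insert, Finset.mem_singleton] at hz
          rcases hz with rfl | rfl; exacts [hi.1, hi.2]
        obtain ⟨e, he⟩ := Finset.card_eq_one.1 (show (S i \ {a, b}).card = 1 by
          rw [Finset.card_sdiff_of_subset hs, hcardS, Finset.card_pair hab])
        refine ⟨e, ?_⟩
        ext z
        have := Finset.ext_iff.1 he z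
        simp only [Finset.mem_sdiff, Finset.mem_insert, Finset.mem_singleton] at this ⊢
        by_cases hz : z = a ∨ z = b
        · rcases hz with rfl | rfl <;> simp [hi.1, hi.2]
        · push Not at hz
          simp only [hz.1, hz.2, or_self, not_false_iff, and_true, false_or] at this ⊢
          exact this
      have heU : e ∈ U := by
        by_contra heU
        have h2 := (hpair i k hik).1
        have hle : S i ∩ S k ⊆ S k ∩ {a, b} := by
          intro z hz
          rw [Finset.mem_inter] at hz
          refine Finset.mem_inter.2 ⟨hz.2, ?_⟩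
          rw [he] at hz
          simp only [Finset.mem_insert, Finset.mem_singleton] at hz ⊢
          rcases hz.1 with rfl | rfl | rfl
          exacts [Or.inl rfl, Or.inr rfl, absurd (hkU hz.2) heU]
        have h3 : (S k ∩ {a, b}).card ≤ 1 := by
          rw [Finset.card_le_one]
          intro z hz w hw
          simp only [Finset.mem_inter, Finset.mem_insert, Finset.mem_singleton] at hz hw
          rcases hz.2 with h | h <;> rcases hw.2 with h' | h'
          · exact h.trans h'.symm
          · exact absurd (h' ▸ hw.1) (hk (h ▸ hz.1))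
          · exact absurd (h ▸ hz.1) (hk (h' ▸ hw.1))
          · exact h.trans h'.symm
        have := Finset.card_le_card hle
        omega
      rw [he]
      intro z hz
      simp only [Finset.mem_insert, Finset.mem_singleton] at hz
      have hIU : ∀ w ∈ S i₀ ∩ S j₀, w ∈ U := fun w hw =>
        Finset.mem_union_left _ (Finset.mem_inter.1 hw).1
      rcases hz with rfl | rfl | rfl
      exacts [hIU _ (by rw [hI]; simp), hIU _ (by rw [hI]; simp), heU]
    have hfib : ∀ T ∈ (Finset.univ.image S), (Finset.univ.filter fun i => S i = T).card ≤ 3 := by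
      intro T hT
      obtain ⟨i, -, rfl⟩ := Finset.mem_image.1 hT
      refine (Finset.card_le_card fun j hj => ?_).trans (hR i)
      refine Finset.mem_filter.2 ⟨Finset.mem_univ _, ?_⟩
      by_contra hnR
      have h := (hpair i j hnR).1
      rw [(Finset.mem_filter.1 hj).2, Finset.inter_self, hcardS] at h
      omega
    have h1 := Finset.card_le_mul_card_image Finset.univ 3 hfib
    have h2 : (Finset.univ.image S).card ≤ 4 := by
      refine (Finset.card_le_card (t := U.powersetCard 3) fun T hT => ?_).trans ?_
      · obtain ⟨i, -, rfl⟩ := Finset.mem_image.1 hT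
        exact Finset.mem_powersetCard.2 ⟨hallU i, hcardS i⟩
      · rw [Finset.card_powersetCard, hUcard]; decide
    rw [Finset.card_univ] at h1
    omega
  have hconst : ∀ i, c i a = c i₀ a ∧ c i b = c i₀ b := by
    intro i
    by_cases h : R i i₀
    · rw [hsame i i₀ h]; exact ⟨rfl, rfl⟩
    · exact ⟨(hpair i i₀ h).2 a (Finset.mem_inter.2 ⟨(hall i).1, (hall i₀).1⟩),
        (hpair i i₀ h).2 b (Finset.mem_inter.2 ⟨(hall i).2, (hall i₀).2⟩)⟩
  refine ⟨a, b, c i₀ a, c i₀ b, hab, (hunit i₀ a).resolve_left ((hmemS _ _).1 (hall i₀).1),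
    (hunit i₀ b).resolve_left ((hmemS _ _).1 (hall i₀).2), hconst, fun i => ?_, ?_⟩
  · have hs : ({a, b} : Finset X) ⊆ S i := by
      intro z hz; simp only [Finset.mem_insert, Finset.mem_singleton] at hz
      rcases hz with rfl | rfl; exacts [(hall i).1, (hall i).2]
    obtain ⟨f, hf⟩ := Finset.card_eq_one.1 (show (S i \ {a, b}).card = 1 by
      rw [Finset.card_sdiff_of_subset hs, hcardS, Finset.card_pair hab])
    have hf' : f ∈ S i \ {a, b} := by rw [hf]; simp
    simp only [Finset.mem_sdiff, Finset.mem_insert, Finset.mem_singleton, not_or] at hf'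
    refine ⟨f, hf'.2.1, hf'.2.2, (hunit i f).resolve_left ((hmemS i f).1 hf'.1), fun z hza hzb hzf => ?_⟩
    by_contra h0
    have : z ∈ S i \ {a, b} := by simp [hmemS, h0, hza, hzb]
    rw [hf, Finset.mem_singleton] at this
    exact hzf this
  · intro i j z hza hzb hi hj
    by_contra h
    have h2 := (hpair i j h).1
    have hsub : ({a, b, z} : Finset X) ⊆ S i ∩ S j := by
      intro w hw
      simp only [Finset.mem_insert, Finset.mem_singleton] at hw
      rcases hw with rfl | rfl | rfl
      exacts [Finset.mem_inter.2 ⟨(hall i).1, (hall j).1⟩, Finset.mem_inter.2 ⟨(hall i).2, (hall j).2⟩,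
        Finset.mem_inter.2 ⟨(hmemS _ _).2 hi, (hmemS _ _).2 hj⟩]
    have h3 := Finset.card_le_card hsub
    have h4 : ({a, b, z} : Finset X).card = 3 := Finset.card_eq_three.2 ⟨a, b, z, hab, Ne.symm hza, Ne.symm hzb, rfl⟩
    omega

/-- The Diophantine step. -/
theorem eq_one_of_reciprocal {n A B : ℤ} (hn : 16 ≤ n) (hA : n ∣ A - 1) (hB : n ∣ B - 1)
    (h : (1 + A + B) * (A * B + A + B) = 9 * (A * B)) : A = 1 ∧ B = 1 := by
  by_cases hA1 : A = 1
  · subst hA1
    have : (B - 1) * (B - 1) = 0 := by nlinarith
    have := mul_self_eq_zero.1 this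
    exact ⟨rfl, by omega⟩
  by_cases hB1 : B = 1
  · subst hB1
    have : (A - 1) * (A - 1) = 0 := by nlinarith
    have := mul_self_eq_zero.1 this
    omega
  exfalso
  obtain ⟨a, ha⟩ := hA
  obtain ⟨b, hb⟩ := hB
  have hbig : ∀ x y : ℤ, x - 1 = n * y → x ≠ 1 → 15 ≤ |x| := by
    intro x y hxy hx
    have hy : y ≠ 0 := fun h => hx (by rw [h, mul_zero] at hxy; omega)
    rcases lt_or_gt_of_ne hy with hy | hy
    · have : n * y ≤ -n := by nlinarith
      rw [abs_of_neg (by omega)]; omega
    · have : n ≤ n * y := by nlinarith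
      rw [abs_of_pos (by omega)]; omega
  have hA15 := hbig A a ha hA1
  have hB15 := hbig B b hb hB1
  set S := 1 + A + B with hS
  have hS3 : n * (a + b) = S - 3 := by rw [hS]; linarith
  have key : (S - 9) * (A * B) = -S * (A + B) := by nlinarith
  have habs : 15 * |A + B| ≤ 2 * |A * B| := by
    calc 15 * |A + B| ≤ 15 * (|A| + |B|) := by have := abs_add_le A B; linarith
      _ ≤ 2 * |A * B| := by rw [abs_mul]; nlinarith
  have h3 : 15 * |S - 9| ≤ 2 * |S| := by
    have hpos : 0 < |A * B| := by rw [abs_mul]; positivity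
    have e : |S - 9| * |A * B| = |S| * |A + B| := by
      rw [← abs_mul, key, abs_mul, abs_neg]
    refine le_of_mul_le_mul_right ?_ hpos
    nlinarith [abs_nonneg S]
  have h4 : 7 ≤ S ∧ S ≤ 11 := by
    rcases le_or_gt 0 S with hS0 | hS0
    · rw [abs_of_nonneg hS0] at h3
      constructor
      · have := le_abs_self (S - 9); have := neg_abs_le (S - 9); omega
      · have := le_abs_self (S - 9); omega
    · rw [abs_of_neg hS0, abs_of_neg (by omega)] at h3; omega
  rcases le_or_gt (a + b) 0 with hab | hab
  · have : n * (a + b) ≤ 0 := by nlinarith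
    omega
  · have : n ≤ n * (a + b) := by nlinarith
    omega

end Cfsg.Agent.Lib.Blocks
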