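import Mathlib

/-!
Permutations of odd order of three points, and automisers of abelian 2-groups with three involutions.
-/

set_option autoImplicit false

namespace Cfsg.Agent.Lib.Blocks

lemma perm_fin_three_cube : ∀ φ : Equiv.Perm (Fin 3), φ ^ 3 = 1 →
    φ = 1 ∨ ∀ x y : Fin 3, φ x ≠ x ∧ (φ x = y ∨ φ (φ x) = y ∨ x = y) := by
  decide

/-- A permutation of three points killed by an odd exponent is trivial or a three-cycle. -/
theorem perm_three_odd {T : Type*} (f : T ≃ Fin 3) (φ : Equiv.Perm T) {r : ℕ} (hr : Odd r)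
    (hφ : φ ^ r = 1) :
    φ = 1 ∨ ∀ x y : T, φ x ≠ x ∧ (φ x = y ∨ φ (φ x) = y ∨ x = y) := by
  have h6 : orderOf (f.permCongrHom φ) ∣ 6 := by
    have := orderOf_dvd_card (x := f.permCongrHom φ)
    simpa [Fintype.card_perm, Nat.factorial] using this
  have ho : orderOf (f.permCongrHom φ) ∣ r := by
    apply orderOf_dvd_of_pow_eq_one
    rw [← map_pow, hφ, map_one]
  have h3 : orderOf (f.permCongrHom φ) ∣ 3 := by
    have hodd : Nat.Coprime (orderOf (f.permCongrHom φ)) 2 :=
      Nat.coprime_two_right.2 (hr.of_dvd_nat ho)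
    exact hodd.dvd_of_dvd_mul_left (show orderOf (f.permCongrHom φ) ∣ 2 * 3 from h6)
  rcases perm_fin_three_cube _ (orderOf_dvd_iff_pow_eq_one.1 h3) with h | h
  · left
    exact f.permCongrHom.injective (h.trans (map_one _).symm)
  · right
    intro x y
    obtain ⟨h1, h2⟩ := h (f x) (f y)
    have hval : ∀ z : T, f.permCongrHom φ (f z) = f (φ z) := by
      intro z; simp [Equiv.permCongrHom, Equiv.permCongr_apply]
    rw [hval] at h1 h2
    refine ⟨fun he => h1 (by rw [he]), ?_⟩
    rw [hval] at h2
    rcases h2 with h2 | h2 | h2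
    · exact Or.inl (f.injective h2)
    · exact Or.inr (Or.inl (f.injective h2))
    · exact Or.inr (Or.inr (f.injective h2))

/-- An endomorphism of an abelian 2-group of odd period fixing all involutions is trivial. -/
theorem eq_self_of_fix_involutions {A : Type*} [Group A] (hcomm : ∀ x y : A, x * y = y * x)
    (hA : IsPGroup 2 A) (σ : A →* A) {r : ℕ} (hr : Odd r) (hσ : ∀ x, σ^[r] x = x)
    (hfix : ∀ x : A, x ^ 2 = 1 → σ x = x) (x : A) : σ x = x := by
  obtain ⟨k, hk⟩ := hA x
  induction k generalizing x with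
  | zero => simp at hk; subst hk; exact map_one σ
  | succ k ih =>
    have h2 : σ (x ^ 2) = x ^ 2 := ih (x ^ 2) (by rw [← pow_mul, ← pow_succ']; exact hk)
    set u := σ x * x⁻¹ with hu
    have hu2 : u ^ 2 = 1 := by
      rw [hu, Commute.mul_pow (hcomm _ _), ← map_pow, h2, inv_pow, mul_inv_cancel]
    have hσu : σ u = u := hfix u hu2
    have hσx : σ x = u * x := by rw [hu, inv_mul_cancel_right]
    have hit : ∀ i : ℕ, σ^[i] x = u ^ i * x := by
      intro i
      induction i with
      | zero => simp
      | succ i ih' =>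
        rw [Function.iterate_succ_apply', ih', map_mul, map_pow, hσu, hσx, ← mul_assoc, ← pow_succ]
    have hur : u ^ r = 1 := by
      have := (hit r).symm.trans (hσ x)
      simpa using this
    obtain ⟨j, rfl⟩ := hr
    rw [pow_succ, pow_mul, hu2, one_pow, one_mul] at hur
    rw [hσx, hur, one_mul]

end Cfsg.Agent.Lib.Blocks
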