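import Cfsg.Agent.S0942
import Cfsg.Agent.S0945
import Cfsg.Agent.Lib.Blocks.Principal
import Cfsg.Agent.Lib.Blocks.Covering
import Cfsg.Agent.Lib.Blocks.Transport
import Cfsg.Agent.Lib.Blocks.Exists
import Cfsg.Agent.Lib.Blocks.TwoSharing
import Cfsg.Agent.Lib.Characters.Kernel
import Cfsg.Agent.Lib.Cores.PCore

/-!
Brauer's argument for homocyclic Sylow 2-subgroups of rank two.
-/

set_option autoImplicit false
set_option linter.style.haveILetI false
set_option linter.unusedSectionVars false

namespace Cfsg.Agent.Lib.Blocks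

open Cfsg Cfsg.Agent.Lib.Characters Cfsg.Agent.Lib.Cores
open scoped ComplexConjugate

universe u

/-- Burnside: the `p'`-core is a complement. -/
theorem index_pPrimeCore_of_normalizer_le {K : Type u} [Group K] [Finite K] {p : ℕ} [Fact p.Prime]
    (Q : Sylow p K) (hle : Subgroup.normalizer ((Q : Subgroup K) : Set K) ≤
      Subgroup.centralizer ((Q : Subgroup K) : Set K)) :
    (pPrimeCore p K).index = Nat.card (Q : Subgroup K) := by
  have hp : p.Prime := Fact.out
  have hcomp := MonoidHom.ker_transferSylow_isComplement' Q hle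
  have hL := MonoidHom.not_dvd_card_ker_transferSylow Q hle
  set L := (MonoidHom.transferSylow Q hle).ker
  have hLle : L ≤ pPrimeCore p K :=
    le_pPrimeCore (MonoidHom.normal_ker _) ((hp.coprime_iff_not_dvd.2 hL).symm)
  have hidx : L.index = Nat.card (Q : Subgroup K) := hcomp.symm.index_eq_card
  have hd : (pPrimeCore p K).index ∣ Nat.card (Q : Subgroup K) := hidx ▸ Subgroup.index_dvd_of_le hLle
  refine Nat.dvd_antisymm hd ?_
  have h1 : Nat.card (Q : Subgroup K) ∣ Nat.card (pPrimeCore p K) * (pPrimeCore p K).index := by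
    rw [Subgroup.card_mul_index]; exact Subgroup.card_subgroup_dvd_card _
  refine Nat.Coprime.dvd_of_dvd_mul_left ?_ h1
  obtain ⟨k, hk⟩ := Q.2.exists_card_eq
  rw [hk]
  exact (hp.coprime_iff_not_dvd.2 not_dvd_card_pPrimeCore).pow_left k

section Sections

variable {G : Type u} [Group G] [Fintype G] {M : Ideal AlgInt} [hMp : M.IsPrime] {p : ℕ} [Fact p.Prime]

/-- The principal idempotent of a group with normal `p`-complement `O`. -/
theorem blockCoeff_principal_of_index {K : Type u} [Group K] [Fintype K] (hM : IsPModular p M)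
    (O : Subgroup K) [O.Normal] [Fintype O] [DecidablePred (· ∈ O)] {k : ℕ} (hk : O.index = p ^ k)
    (hO : ¬ p ∣ Nat.card O) :
    blockCoeff (principalBlock M K) = fun c => if c ∈ O then (Nat.card O : ℂ)⁻¹ else 0 := by
  classical
  have hO0 : (Nat.card O : ℂ) ≠ 0 := Nat.cast_ne_zero.2 Nat.card_pos.ne'
  refine ext_omega (isClassFunction_blockCoeff _) (fun a c => ?_) fun η => ?_
  · have hiff : c * a * c⁻¹ ∈ O ↔ a ∈ O :=
      ⟨fun h => by simpa [mul_assoc] using (inferInstance : O.Normal).conj_mem _ h c⁻¹,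
        fun h => (inferInstance : O.Normal).conj_mem _ h c⟩
    simp only [hiff]
  rw [omega_blockCoeff, omega]
  simp only [ite_mul, zero_mul]
  rw [← Finset.sum_filter, ← Finset.mul_sum,
    Finset.sum_subtype (p := fun c => c ∈ O) (Finset.univ.filter fun c => c ∈ O) (fun c => by simp)
      (η : K → ℂ)]
  have hsum : ∑ o : O, (η : K → ℂ) (o : K) = (Nat.card O : ℂ) *
      classInner (fun o : O => (η : K → ℂ) o) (trivIrr O : O → ℂ) := by
    rw [classInner, ← mul_assoc, mul_inv_cancel₀ hO0, one_mul]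
    simp
  rw [hsum, ← mul_assoc, inv_mul_cancel₀ hO0, one_mul]
  have htriv : classInner (fun o : O => (trivIrr K : K → ℂ) o) (trivIrr O : O → ℂ) ≠ 0 :=
    (classInner_trivIrr_ne_zero_iff O (trivIrr K)).2 fun n _ => rfl
  split_ifs with hη
  · have h1 := trivial_on_of_sameBlock O hM hO (χ := trivIrr K) hη (fun n _ => rfl)
    have h2 : ∀ o : O, (η : K → ℂ) (o : K) * conj ((trivIrr O : O → ℂ) o) = (η : K → ℂ) 1 := fun o => by
      rw [h1 (o : K) o.2, trivIrr_apply, map_one, mul_one]
    rw [classInner, Finset.sum_congr rfl fun o _ => h2 o, Finset.sum_const, Finset.card_univ,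
      nsmul_eq_mul, ← Nat.card_eq_fintype_card, ← mul_assoc, inv_mul_cancel₀ hO0, one_mul,
      div_self (IsIrrCharacter.apply_one_ne_zero η.2)]
  · rw [show classInner (fun o : O => (η : K → ℂ) o) (trivIrr O : O → ℂ) = 0 from by
      by_contra h
      exact hη (show SameBlock M (trivIrr K : K → ℂ) (η : K → ℂ) from
        sameBlock_of_constituents O hM hk (θ := trivIrr O) (θ' := trivIrr O) (χ := trivIrr K) (χ' := η)
          (sameBlock_refl _) htriv h), zero_div]

/-- Summing a character over the `p'`-core of a `p`-nilpotent section. -/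
theorem sum_section_pPrimeCore (hM : IsPModular p M) {x : G} (hx : ∃ k : ℕ, orderOf x = p ^ k)
    [Fintype (pPrimeCore p (Subgroup.centralizer ({x} : Set G)))]
    {k : ℕ} (hk : (pPrimeCore p (Subgroup.centralizer ({x} : Set G))).index = p ^ k)
    (χ : IrrCharacter G) [Decidable (χ ∈ principalBlock M G)] :
    ∑ y : pPrimeCore p (Subgroup.centralizer ({x} : Set G)),
      (χ : G → ℂ) (x * ((y : Subgroup.centralizer ({x} : Set G)) : G)) =
      if χ ∈ principalBlock M G then
        (Nat.card (pPrimeCore p (Subgroup.centralizer ({x} : Set G))) : ℂ) * (χ : G → ℂ) x else 0 := by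
  classical
  haveI := Fintype.ofFinite (Subgroup.centralizer ({x} : Set G))
  haveI : (pPrimeCore p (Subgroup.centralizer ({x} : Set G))).Normal := (pPrimeCore_mem p _).1
  split_ifs with hχ
  · rw [Finset.sum_congr rfl fun (y : (pPrimeCore p (Subgroup.centralizer ({x} : Set G)))) _ => Cfsg.Agent.S0942.result p M hM x hx
      ((y : Subgroup.centralizer ({x} : Set G)) : G) ⟨y, y.2, rfl⟩ χ hχ, Finset.sum_const,
      Finset.card_univ, nsmul_eq_mul, ← Nat.card_eq_fintype_card]
  · have h0 := blockPart_principal_eq_zero hM hx hχ (y := (1 : Subgroup.centralizer ({x} : Set G)))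
      (by rw [orderOf_one, Nat.dvd_one]; exact hM.1.ne_one)
    rw [← sum_blockCoeff_mul_eq_blockPart _ (isClassFunction_sectionFun (irr_isClassFunction χ))] at h0
    have hO0 : (Nat.card (pPrimeCore p (Subgroup.centralizer ({x} : Set G))) : ℂ) ≠ 0 := Nat.cast_ne_zero.2 Nat.card_pos.ne'
    have hf := blockCoeff_principal_of_index hM
      (pPrimeCore p (Subgroup.centralizer ({x} : Set G))) hk not_dvd_card_pPrimeCore
    rw [hf] at h0
    simp only [ite_mul, zero_mul, mul_one, sectionFun] at h0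
    rw [← Finset.sum_filter, ← Finset.mul_sum, mul_eq_zero] at h0
    have h1 := h0.resolve_left (inv_ne_zero hO0)
    rw [← h1]
    exact (Finset.sum_subtype _ (fun c => by simp)
      (fun c : Subgroup.centralizer ({x} : Set G) => (χ : G → ℂ) (x * c))).symm

/-- Column orthogonality between `p`-elements in the principal block. -/
theorem sum_principal_mul_conj [Fintype (IrrCharacter G)] [DecidablePred (· ∈ principalBlock M G)]
    (hM : IsPModular p M) {x x' : G} (hx : ∃ k : ℕ, orderOf x = p ^ k)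
    (hx' : ∃ k : ℕ, orderOf x' = p ^ k) {k : ℕ}
    (hk : (pPrimeCore p (Subgroup.centralizer ({x} : Set G))).index = p ^ k) [Decidable (IsConj x' x)] :
    ∑ χ : IrrCharacter G, (if χ ∈ principalBlock M G then (χ : G → ℂ) x' * conj ((χ : G → ℂ) x) else 0) =
      if IsConj x' x then ((p ^ k : ℕ) : ℂ) else 0 := by
  classical
  haveI := Fintype.ofFinite (pPrimeCore p (Subgroup.centralizer ({x} : Set G)))
  have hO0 : (Nat.card (pPrimeCore p (Subgroup.centralizer ({x} : Set G))) : ℂ) ≠ 0 := Nat.cast_ne_zero.2 Nat.card_pos.ne'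
  have hfull : ∑ y : (pPrimeCore p (Subgroup.centralizer ({x} : Set G))), ∑ χ : IrrCharacter G, (χ : G → ℂ) x' *
      conj ((χ : G → ℂ) (x * ((y : Subgroup.centralizer ({x} : Set G)) : G))) =
      if IsConj x' x then (Nat.card (Subgroup.centralizer ({x'} : Set G)) : ℂ) else 0 := by
    simp only [sum_irr_mul_conj]
    rw [Finset.sum_eq_single (1 : (pPrimeCore p (Subgroup.centralizer ({x} : Set G))))]
    · simp only [OneMemClass.coe_one, mul_one]
    · intro y _ hy
      rw [if_neg]
      intro hc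
      apply hy
      have hyreg : ¬ p ∣ orderOf (((y : Subgroup.centralizer ({x} : Set G)) : G)) := by
        rw [Subgroup.orderOf_coe, Subgroup.orderOf_coe]
        exact fun h => not_dvd_card_pPrimeCore (p := p) (h.trans (orderOf_dvd_natCard y))
      have h2 : IsPPart p (x * ((y : Subgroup.centralizer ({x} : Set G)) : G)) x :=
        ⟨_, rfl, (commute_of_mem_centralizer (y : Subgroup.centralizer ({x} : Set G))).symm, hx, hyreg⟩
      have h3 : IsPPart p x' x' := ⟨1, mul_one _, Commute.one_right _, hx',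
        by rw [orderOf_one, Nat.dvd_one]; exact hM.1.ne_one⟩
      obtain ⟨c, hc⟩ := isConj_iff.1 hc
      have h4 := IsPPart.conjugate h3 c
      rw [hc] at h4
      have h5 := isPPart_unique hM.1 h4 h2
      exact Subtype.ext (Subtype.ext (mul_left_cancel (h5.trans (mul_one x).symm)))
    · simp
  rw [Finset.sum_comm, Finset.sum_congr rfl fun χ _ => by
    rw [← Finset.mul_sum, ← map_sum, sum_section_pPrimeCore hM hx hk χ]] at hfull
  apply mul_left_cancel₀ hO0
  rw [Finset.mul_sum]
  have hmain : ∑ χ : IrrCharacter G, (Nat.card (pPrimeCore p (Subgroup.centralizer ({x} : Set G))) : ℂ) *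
      (if χ ∈ principalBlock M G then (χ : G → ℂ) x' * conj ((χ : G → ℂ) x) else 0) =
      if IsConj x' x then (Nat.card (Subgroup.centralizer ({x'} : Set G)) : ℂ) else 0 := by
    rw [← hfull]
    refine Finset.sum_congr rfl fun χ _ => ?_
    split_ifs
    · rw [map_mul, map_natCast]; ring
    · simp
  rw [hmain]
  split_ifs with hc
  · rw [← hk, ← Nat.cast_mul, Subgroup.card_mul_index]
    have hi := card_conj_eq_index x'
    have hi' := card_conj_eq_index x
    have e1 := Subgroup.card_mul_index (Subgroup.centralizer ({x'} : Set G))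
    have e2 := Subgroup.card_mul_index (Subgroup.centralizer ({x} : Set G))
    rw [← hi, show Nat.card {z : G // IsConj x' z} = Nat.card {z : G // IsConj x z} from
      Nat.card_congr (Equiv.subtypeEquivRight fun z => ⟨hc.symm.trans, hc.trans⟩), hi'] at e1
    rw [Nat.eq_of_mul_eq_mul_right (Nat.pos_of_ne_zero Subgroup.index_ne_zero_of_finite)
      (e1.trans e2.symm)]
  · simp

/-- The class-algebra constant relation restricted to the principal block. -/
theorem sum_principal_sq_div [Fintype (IrrCharacter G)] [DecidablePred (· ∈ principalBlock M G)]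
    (hM : IsPModular p M) {x u : G} (hx : ∃ k : ℕ, orderOf x = p ^ k) {k : ℕ}
    (hk : (pPrimeCore p (Subgroup.centralizer ({x} : Set G))).index = p ^ k)
    (hno : ∀ y ∈ pPrimeCore p (Subgroup.centralizer ({x} : Set G)), ∀ s t : G,
      IsConj u s → IsConj u t → s * t ≠ x * (y : G)) :
    ∑ χ : IrrCharacter G, (if χ ∈ principalBlock M G then
      (χ : G → ℂ) u ^ 2 * conj ((χ : G → ℂ) x) / (χ : G → ℂ) 1 else 0) = 0 := by
  classical
  haveI := Fintype.ofFinite (pPrimeCore p (Subgroup.centralizer ({x} : Set G)))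
  have hG0 : (Nat.card G : ℂ) ≠ 0 := natCard_ne_zero_complex
  have hidx : ((Subgroup.centralizer ({u} : Set G)).index : ℂ) ≠ 0 :=
    Nat.cast_ne_zero.2 Subgroup.index_ne_zero_of_finite
  have hpt : ∀ y : pPrimeCore p (Subgroup.centralizer ({x} : Set G)),
      ∑ χ : IrrCharacter G, (χ : G → ℂ) u ^ 2 *
        conj ((χ : G → ℂ) (x * ((y : Subgroup.centralizer ({x} : Set G)) : G))) / (χ : G → ℂ) 1 = 0 := by
    intro y
    set g := x * ((y : Subgroup.centralizer ({x} : Set G)) : G) with hg
    have hcl : IsClassFunction G (classIndicator u) := isClassFunction_classIndicator u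
    have h := eq_sum_omega (isClassFunction_conv hcl hcl) g
    have h0 : conv (classIndicator u) (classIndicator u) g = 0 := by
      refine Finset.sum_eq_zero fun s _ => ?_
      unfold classIndicator
      split_ifs with h1 h2
      · exact absurd (mul_inv_cancel_left s g) (hno y y.2 s (s⁻¹ * g) h1 h2)
      all_goals simp
    rw [h0, eq_comm, mul_eq_zero] at h
    have h' := h.resolve_left (inv_ne_zero hG0)
    have hterm : ∀ χ : IrrCharacter G, omega (χ : G → ℂ) (conv (classIndicator u) (classIndicator u)) *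
        (χ : G → ℂ) 1 * conj ((χ : G → ℂ) g) =
        ((Subgroup.centralizer ({u} : Set G)).index : ℂ) ^ 2 *
          ((χ : G → ℂ) u ^ 2 * conj ((χ : G → ℂ) g) / (χ : G → ℂ) 1) := by
      intro χ
      rw [omega_conv χ.2 hcl, omega_classIndicator (irr_isClassFunction χ), centralChar]
      have := IsIrrCharacter.apply_one_ne_zero χ.2
      field_simp
    rw [Finset.sum_congr rfl fun χ _ => hterm χ, ← Finset.mul_sum, mul_eq_zero] at h'
    exact h'.resolve_left (pow_ne_zero _ hidx)
  have hall := Finset.sum_eq_zero (s := (Finset.univ :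
    Finset (pPrimeCore p (Subgroup.centralizer ({x} : Set G))))) fun y _ => hpt y
  rw [Finset.sum_comm, Finset.sum_congr rfl fun χ _ => by
    rw [← Finset.sum_div, ← Finset.mul_sum, ← map_sum, sum_section_pPrimeCore hM hx hk χ]] at hall
  refine (mul_eq_zero.1 ?_).resolve_left (Nat.cast_ne_zero.2 (Nat.card_pos
    (α := pPrimeCore p (Subgroup.centralizer ({x} : Set G)))).ne')
  rw [Finset.mul_sum]
  refine (Finset.sum_congr rfl fun χ _ => ?_).trans hall
  split_ifs
  · rw [map_mul, map_natCast]; ring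
  · simp

end Sections

section Homocyclic

variable {G : Type u} [Group G] [Finite G]

/-- **Brauer**: with a homocyclic Sylow 2-subgroup `Z/2^m × Z/2^m`, `m ≥ 2`, and no normal
2-complement coming from Burnside, there is a proper normal subgroup containing the Sylow group. -/
theorem exists_proper_normal_ge (P : Sylow 2 G) (m : ℕ) (hm : 2 ≤ m)
    (e : (P : Subgroup G) ≃* Multiplicative (ZMod (2 ^ m) × ZMod (2 ^ m)))
    (hN : ¬ Subgroup.normalizer ((P : Subgroup G) : Set G) ≤
      Subgroup.centralizer ((P : Subgroup G) : Set G)) :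
    ∃ K : Subgroup G, K.Normal ∧ K ≠ ⊤ ∧ (P : Subgroup G) ≤ K := by
  classical
  haveI := Fintype.ofFinite G
  haveI := Fintype.ofFinite (P : Subgroup G)
  haveI := Fintype.ofFinite (IrrCharacter G)
  haveI := Fintype.ofFinite (IrrCharacter (P : Subgroup G))
  haveI : Fact (Nat.Prime 2) := ⟨Nat.prime_two⟩
  obtain ⟨M, hM⟩ := exists_isPModular Nat.prime_two
  haveI := isPrime_of_isPModular hM
  obtain ⟨n, hnN, hnC⟩ := SetLike.not_le_iff_exists.1 hN
  obtain ⟨hidx, hfix⟩ := Cfsg.Agent.S0945.result P m (by omega) e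
  have hne1 : (Subgroup.centralizer ((P : Subgroup G) : Set G)).relIndex
      (Subgroup.normalizer ((P : Subgroup G) : Set G)) ≠ 1 := fun h => hN (Subgroup.relIndex_eq_one.1 h)
  have h3 : (Subgroup.centralizer ((P : Subgroup G) : Set G)).relIndex
      (Subgroup.normalizer ((P : Subgroup G) : Set G)) = 3 := hidx.resolve_left hne1
  replace hfix : ∀ z ∈ (P : Subgroup G), z ≠ 1 → Subgroup.centralizer ({z} : Set G) ⊓
      Subgroup.normalizer ((P : Subgroup G) : Set G) = Subgroup.centralizer ((P : Subgroup G) : Set G) :=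
    hfix hne1
  have hcomm : ∀ a b : (P : Subgroup G), a * b = b * a := fun a b =>
    e.injective (by rw [map_mul, map_mul, mul_comm])
  haveI : IsMulCommutative (P : Subgroup G) := ⟨⟨hcomm⟩⟩
  have hPC : (P : Subgroup G) ≤ Subgroup.centralizer ((P : Subgroup G) : Set G) :=
    (P : Subgroup G).le_centralizer
  have hpow : ∀ x : (P : Subgroup G), ∃ k : ℕ, orderOf (x : G) = 2 ^ k := fun x => by
    obtain ⟨i, hi⟩ := P.2 x
    obtain ⟨j, -, hj⟩ := (Nat.dvd_prime_pow Nat.prime_two).1 (orderOf_dvd_of_pow_eq_one hi)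
    exact ⟨j, by rw [Subgroup.orderOf_coe, hj]⟩
  have hsing : ∀ x : (P : Subgroup G), x ≠ 1 → 2 ∣ orderOf (x : G) := fun x hx => by
    obtain ⟨k, hk⟩ := hpow x
    rw [hk]
    exact dvd_pow_self 2 fun h0 => hx (Subtype.ext (orderOf_eq_one_iff.1 (by rw [hk, h0, pow_zero])))
  -- the cardinality
  have hcardP : Nat.card (P : Subgroup G) = 2 ^ (2 * m) := by
    rw [Nat.card_congr e.toEquiv, Nat.card_congr Multiplicative.toAdd, Nat.card_prod, Nat.card_zmod,
      ← pow_add, two_mul]
  have hidxO : ∀ x : (P : Subgroup G), x ≠ 1 →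
      (pPrimeCore 2 (Subgroup.centralizer ({(x : G)} : Set G))).index = 2 ^ (2 * m) := by
    intro x hx
    have hle : (P : Subgroup G) ≤ Subgroup.centralizer ({(x : G)} : Set G) := fun a ha =>
      Subgroup.mem_centralizer_singleton_iff.2 (congrArg Subtype.val (hcomm ⟨a, ha⟩ x))
    rw [index_pPrimeCore_of_normalizer_le (P.subtype hle), Sylow.coe_subtype,
      Nat.card_congr (Subgroup.subgroupOfEquivOfLe hle).toEquiv, hcardP]
    intro c hc
    have hc' : (c : G) ∈ Subgroup.centralizer ({(x : G)} : Set G) ⊓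
        Subgroup.normalizer ((P : Subgroup G) : Set G) := by
      refine ⟨c.2, ?_⟩
      rw [Sylow.coe_subtype] at hc
      show (c : G) ∈ Subgroup.normalizer ((P : Subgroup G) : Set G)
      rw [Subgroup.mem_normalizer_iff] at hc ⊢
      intro a
      constructor
      · intro ha
        exact (hc ⟨a, hle ha⟩).1 ha
      · intro ha
        have hac : a ∈ Subgroup.centralizer ({(x : G)} : Set G) := by
          have := mul_mem (mul_mem (inv_mem c.2) (hle ha)) c.2
          simpa [mul_assoc] using this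
        exact (hc ⟨a, hac⟩).2 ha
    rw [hfix x x.2 fun h => hx (Subtype.ext h)] at hc'
    intro a ha
    exact Subtype.ext (hc' (a : G) (Subgroup.mem_subgroupOf.1 ha))
  -- the action of `n`
  let σ : MulAut (P : Subgroup G) := Subgroup.normalizerMonoidHom (P : Subgroup G) ⟨n, hnN⟩
  have hσ : ∀ x : (P : Subgroup G), ((σ x : (P : Subgroup G)) : G) = n * x * n⁻¹ := fun x => rfl
  haveI hCn : ((Subgroup.centralizer ((P : Subgroup G) : Set G)).subgroupOf
      (Subgroup.normalizer ((P : Subgroup G) : Set G))).Normal :=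
    Subgroup.normal_subgroupOf_centralizer_normalizer _
  have hn3 : n ^ 3 ∈ Subgroup.centralizer ((P : Subgroup G) : Set G) := by
    have h := Subgroup.pow_index_mem ((Subgroup.centralizer ((P : Subgroup G) : Set G)).subgroupOf
      (Subgroup.normalizer ((P : Subgroup G) : Set G))) ⟨n, hnN⟩
    rw [← Subgroup.relIndex, h3, Subgroup.mem_subgroupOf] at h
    exact h
  have hσ3 : ∀ x, σ (σ (σ x)) = x := fun x => Subtype.ext (by
    simp only [hσ]
    have h : (x : G) * n ^ 3 = n ^ 3 * x := hn3 x x.2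
    calc n * (n * (n * (x : G) * n⁻¹) * n⁻¹) * n⁻¹ = n ^ 3 * x * (n ^ 3)⁻¹ := by
          simp only [pow_succ, pow_zero, one_mul]; group
      _ = x := by rw [← h, mul_inv_cancel_right])
  have hσfix : ∀ x, σ x = x → x = 1 := by
    intro x hx
    by_contra h1
    have hc : n ∈ Subgroup.centralizer ({(x : G)} : Set G) ⊓
        Subgroup.normalizer ((P : Subgroup G) : Set G) :=
      ⟨Subgroup.mem_centralizer_singleton_iff.2 (mul_inv_eq_iff_eq_mul.1 (congrArg Subtype.val hx)), hnN⟩
    rw [hfix x x.2 fun h => h1 (Subtype.ext h)] at hc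
    exact hnC hc
  have hσ2fix : ∀ x, σ (σ x) = x → x = 1 := fun x hx => hσfix x (by
    conv_lhs => rw [← hx, hσ3])
  have hconjiff : ∀ x y : (P : Subgroup G), IsConj (x : G) (y : G) ↔ y = x ∨ y = σ x ∨ y = σ (σ x) := by
    intro x y
    constructor
    · intro h
      obtain ⟨g, hg⟩ := isConj_iff.1 h
      obtain ⟨a, ha, hxy⟩ := P.conj_eq_normalizer_conj_of_mem (x : G) g⁻¹ x.2 (by
        rw [inv_inv, hg]; exact y.2)
      rw [inv_inv, hg] at hxy
      have hb : a⁻¹ ∈ Subgroup.normalizer ((P : Subgroup G) : Set G) := inv_mem ha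
      -- the cosets of the centraliser
      let q := QuotientGroup.mk' ((Subgroup.centralizer ((P : Subgroup G) : Set G)).subgroupOf
        (Subgroup.normalizer ((P : Subgroup G) : Set G)))
      have hcard : Nat.card (Subgroup.normalizer ((P : Subgroup G) : Set G) ⧸
          (Subgroup.centralizer ((P : Subgroup G) : Set G)).subgroupOf
            (Subgroup.normalizer ((P : Subgroup G) : Set G))) = 3 := h3
      have hq1 : q ⟨n, hnN⟩ ≠ 1 := by
        rw [QuotientGroup.mk'_apply, Ne, QuotientGroup.eq_one_iff, Subgroup.mem_subgroupOf]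
        exact hnC
      haveI : Fact (Nat.Prime 3) := ⟨Nat.prime_three⟩
      have hqo : orderOf (q ⟨n, hnN⟩) = 3 := orderOf_eq_card_of_forall_mem_zpowers (fun z =>
        mem_zpowers_of_prime_card hcard hq1) |>.trans hcard
      obtain ⟨i, hi, hiq⟩ : ∃ i < 3, q ⟨n, hnN⟩ ^ i = q ⟨a⁻¹, hb⟩ := by
        obtain ⟨i, hi⟩ := mem_powers_iff_mem_zpowers.2
          (mem_zpowers_of_prime_card hcard hq1 (g' := q ⟨a⁻¹, hb⟩))
        refine ⟨i % 3, Nat.mod_lt _ (by norm_num), ?_⟩
        simp only at hi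
        rw [← hi, ← hqo, pow_mod_orderOf]
      rw [← map_pow, QuotientGroup.mk'_eq_mk'] at hiq
      obtain ⟨c, hc, hnc⟩ := hiq
      have hnc' : n ^ i * (c : G) = a⁻¹ := congrArg Subtype.val hnc
      have hy : (y : G) = n ^ i * x * (n ^ i)⁻¹ := by
        rw [hxy, show a = (a⁻¹)⁻¹ from (inv_inv a).symm, ← hnc', inv_inv, mul_inv_rev]
        have hcx : (x : G) * c = (c : G) * x := (Subgroup.mem_subgroupOf.1 hc) x x.2
        rw [mul_assoc (n ^ i), mul_assoc (n ^ i), ← mul_assoc ((c : G) * x), ← hcx, mul_inv_cancel_right,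
          mul_assoc]
      interval_cases i
      · exact Or.inl (Subtype.ext (by simpa using hy))
      · exact Or.inr (Or.inl (Subtype.ext (by rw [hσ, hy, pow_one])))
      · refine Or.inr (Or.inr (Subtype.ext ?_))
        rw [hσ, hσ, hy]
        simp only [pow_succ, pow_zero, one_mul]
        group
    · rintro (rfl | rfl | rfl)
      · exact IsConj.refl _
      · exact isConj_iff.2 ⟨n, rfl⟩
      · exact isConj_iff.2 ⟨n * n, by rw [hσ, hσ]; group⟩
  -- characters of `P`
  set N : ℕ := Nat.card (P : Subgroup G) with hNdef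
  have hN0 : (N : ℂ) ≠ 0 := Nat.cast_ne_zero.2 Nat.card_pos.ne'
  have hN16 : 16 ≤ N := by
    rw [hcardP]
    calc 16 = 2 ^ 4 := by norm_num
      _ ≤ 2 ^ (2 * m) := Nat.pow_le_pow_right two_pos (by omega)
  have hdeg1 : ∀ l : IrrCharacter (P : Subgroup G), (l : ↥(P : Subgroup G) → ℂ) 1 = 1 := fun l =>
    IsIrrCharacter.apply_one_of_comm hcomm l.2
  have hlmul : ∀ (l : IrrCharacter (P : Subgroup G)) a b,
      (l : ↥(P : Subgroup G) → ℂ) (a * b) = (l : ↥(P : Subgroup G) → ℂ) a * (l : ↥(P : Subgroup G) → ℂ) b := by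
    intro l a b
    obtain ⟨lam, hlam⟩ := IsCharacter.exists_hom_of_apply_one (irr_isCharacter l) (hdeg1 l)
    simp [hlam]
  have hlconj : ∀ (l : IrrCharacter (P : Subgroup G)) a,
      conj ((l : ↥(P : Subgroup G) → ℂ) a) = (l : ↥(P : Subgroup G) → ℂ) a⁻¹ := fun l a =>
    (IsCharacter.apply_inv (irr_isCharacter l) a).symm
  have hsumchar : ∀ w : (P : Subgroup G),
      ∑ l : IrrCharacter (P : Subgroup G), (l : ↥(P : Subgroup G) → ℂ) w = if w = 1 then (N : ℂ) else 0 := by
    intro w
    have h := sum_degree_mul w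
    simpa [hdeg1, hNdef, Nat.card_eq_fintype_card] using h
  have hcardI : Fintype.card (IrrCharacter (P : Subgroup G)) = N := by
    have h := hsumchar 1
    simp only [hdeg1, Finset.sum_const, Finset.card_univ, nsmul_eq_mul, mul_one, if_true] at h
    exact_mod_cast h
  have hsuml : ∀ l : IrrCharacter (P : Subgroup G), ∑ w, (l : ↥(P : Subgroup G) → ℂ) w =
      if l = trivIrr _ then (N : ℂ) else 0 := by
    intro l
    have h : classInner (l : ↥(P : Subgroup G) → ℂ) (trivIrr (P : Subgroup G) : ↥(P : Subgroup G) → ℂ) =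
        if l = trivIrr _ then 1 else 0 := by
      split_ifs with h
      · rw [h]; exact IsIrrCharacter.classInner_self (trivIrr _).2
      · exact IsIrrCharacter.classInner_ne l.2 (trivIrr _).2 fun he => h (Subtype.ext he)
    rw [classInner] at h
    simp only [trivIrr_apply, map_one, mul_one] at h
    rw [inv_mul_eq_iff_eq_mul₀ hN0] at h
    rw [h]
    split_ifs <;> simp [hNdef]
  let s : IrrCharacter (P : Subgroup G) → IrrCharacter (P : Subgroup G) := compEquivIrr σ
  have hs : ∀ l w, (s l : ↥(P : Subgroup G) → ℂ) w = (l : ↥(P : Subgroup G) → ℂ) (σ w) := fun l w => rfl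
  have hs3 : ∀ l, s (s (s l)) = l := fun l => Subtype.ext (funext fun w => by simp only [hs, hσ3])
  have hsinj : ∀ l, s l = trivIrr _ → l = trivIrr _ := fun l h => by
    rw [← hs3 l, h]; exact Subtype.ext (funext fun w => rfl)
  have hsfix : ∀ l, s l = l → l = trivIrr _ := by
    intro l h
    refine Subtype.ext (funext fun v => ?_)
    have hbij : Function.Bijective (fun w : (P : Subgroup G) => w⁻¹ * σ w) := by
      refine Finite.injective_iff_bijective.1 fun a b hab => ?_
      have h1 : σ (a * b⁻¹) = a * b⁻¹ := by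
        change a⁻¹ * σ a = b⁻¹ * σ b at hab
        rw [inv_mul_eq_iff_eq_mul] at hab
        rw [map_mul, map_inv, hab, mul_assoc, mul_inv_cancel_right]
      exact mul_inv_eq_one.1 (hσfix _ h1)
    obtain ⟨w, rfl⟩ := hbij.2 v
    show (l : ↥(P : Subgroup G) → ℂ) (w⁻¹ * σ w) = 1
    rw [hlmul, ← hs l w, h, ← hlmul, inv_mul_cancel, hdeg1]
  let R : IrrCharacter (P : Subgroup G) → IrrCharacter (P : Subgroup G) → Prop :=
    fun l μ => μ = l ∨ μ = s l ∨ μ = s (s l)
  -- the Fourier coefficients
  have hm : ∀ (χ : IrrCharacter G) (l : IrrCharacter (P : Subgroup G)), ∃ k : ℕ,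
      classInner (fun w : (P : Subgroup G) => (χ : G → ℂ) w) (l : ↥(P : Subgroup G) → ℂ) = k := fun χ l =>
    IsCharacter.exists_classInner_nat (IsCharacter.restrict (irr_isCharacter χ) _) (irr_isCharacter l)
  choose mult hmult using hm
  let c : IrrCharacter G → IrrCharacter (P : Subgroup G) → ℤ := fun χ l =>
    (mult χ (trivIrr _) : ℤ) - (mult χ l : ℤ)
  have hcN : ∀ (χ : IrrCharacter G) l, (c χ l : ℂ) * N =
      ∑ w : (P : Subgroup G), (χ : G → ℂ) w * (1 - conj ((l : ↥(P : Subgroup G) → ℂ) w)) := by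
    intro χ l
    simp only [c, Int.cast_sub, Int.cast_natCast, ← hmult, classInner, mul_sub, mul_one,
      Finset.sum_sub_distrib, trivIrr_apply, map_one]
    rw [show (Nat.card (P : Subgroup G) : ℂ) = (N : ℂ) from rfl]
    field_simp
  have hcN' : ∀ (χ : IrrCharacter G) l, (c χ l : ℂ) * N =
      ∑ w : (P : Subgroup G), conj ((χ : G → ℂ) w) * (1 - (l : ↥(P : Subgroup G) → ℂ) w) := by
    intro χ l
    have h := congrArg conj (hcN χ l)
    simpa [map_sum, map_mul, map_sub] using h
  have hcinv : ∀ (χ : IrrCharacter G) l, c χ (s l) = c χ l := by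
    intro χ l
    have h : classInner (fun w : (P : Subgroup G) => (χ : G → ℂ) w) (s l : ↥(P : Subgroup G) → ℂ) =
        classInner (fun w : (P : Subgroup G) => (χ : G → ℂ) w) (l : ↥(P : Subgroup G) → ℂ) := by
      rw [classInner, classInner]
      congr 1
      refine Fintype.sum_equiv σ.toEquiv _ _ fun w => ?_
      show _ = (χ : G → ℂ) ((σ w : (P : Subgroup G)) : G) * _
      rw [hσ, irr_isClassFunction χ]
      rfl
    rw [hmult, hmult, Nat.cast_inj] at h
    simp only [c, h]
  have hct : ∀ l, l ≠ trivIrr _ → c (trivIrr G) l = 1 := by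
    intro l hl
    have h1 := hmult (trivIrr G) (trivIrr _)
    have h2 := hmult (trivIrr G) l
    have e : (fun w : (P : Subgroup G) => (trivIrr G : G → ℂ) w) = (trivIrr (P : Subgroup G) : ↥(P : Subgroup G) → ℂ) := rfl
    rw [e, IsIrrCharacter.classInner_self (trivIrr _).2] at h1
    rw [e, IsIrrCharacter.classInner_ne (trivIrr _).2 l.2 fun he => hl (Subtype.ext he).symm] at h2
    norm_cast at h1 h2
    simp only [c, ← h1, ← h2]
    norm_num
  have hval : ∀ (χ : IrrCharacter G) (w : (P : Subgroup G)), w ≠ 1 →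
      (χ : G → ℂ) w = -∑ l, (c χ l : ℂ) * (l : ↥(P : Subgroup G) → ℂ) w := by
    intro χ w hw
    have hd := congrFun (eq_sum_classInner (IsCharacter.isClassFunction
      (IsCharacter.restrict (irr_isCharacter χ) (P : Subgroup G)))) w
    simp only [Finset.sum_apply, Pi.smul_apply, smul_eq_mul, hmult] at hd
    rw [hd]
    simp only [c, Int.cast_sub, Int.cast_natCast, sub_mul, Finset.sum_sub_distrib, ← Finset.mul_sum,
      hsumchar, if_neg hw, mul_zero, zero_sub, neg_neg]
  have hval1 : ∀ χ : IrrCharacter G, (χ : G → ℂ) 1 =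
      (N : ℂ) * (mult χ (trivIrr _) : ℂ) - ∑ l, (c χ l : ℂ) := by
    intro χ
    have hd := congrFun (eq_sum_classInner (IsCharacter.isClassFunction
      (IsCharacter.restrict (irr_isCharacter χ) (P : Subgroup G)))) 1
    simp only [Finset.sum_apply, Pi.smul_apply, smul_eq_mul, hmult, hdeg1, mul_one,
      OneMemClass.coe_one] at hd
    rw [hd]
    simp only [c, Int.cast_sub, Int.cast_natCast, Finset.sum_sub_distrib, Finset.sum_const,
      Finset.card_univ, hcardI, nsmul_eq_mul]
    ring
  -- inner products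
  have hip : ∀ l μ, l ≠ trivIrr _ → μ ≠ trivIrr _ →
      ∑ χ : IrrCharacter G, (if χ ∈ principalBlock M G then (c χ l : ℂ) * (c χ μ : ℂ) else 0) =
        3 + if R l μ then 1 else 0 := by
    intro l μ hl hμ
    apply mul_right_cancel₀ (mul_ne_zero hN0 hN0)
    rw [Finset.sum_mul]
    have hstep : ∀ χ : IrrCharacter G,
        (if χ ∈ principalBlock M G then (c χ l : ℂ) * (c χ μ : ℂ) else 0) * (N * N) =
        ∑ w : (P : Subgroup G), ∑ v : (P : Subgroup G), (1 - conj ((l : ↥(P : Subgroup G) → ℂ) w)) * (1 - (μ : ↥(P : Subgroup G) → ℂ) v) *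
          (if χ ∈ principalBlock M G then (χ : G → ℂ) w * conj ((χ : G → ℂ) v) else 0) := by
      intro χ
      split_ifs
      · rw [show (c χ l : ℂ) * (c χ μ : ℂ) * (N * N) = ((c χ l : ℂ) * N) * ((c χ μ : ℂ) * N) by ring,
          hcN, hcN', Finset.sum_mul_sum]
        exact Finset.sum_congr rfl fun w _ => Finset.sum_congr rfl fun v _ => by ring
      · simp
    rw [Finset.sum_congr rfl fun χ _ => hstep χ, Finset.sum_comm]
    have hwv : ∀ w : (P : Subgroup G), ∑ χ : IrrCharacter G, ∑ v : (P : Subgroup G),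
        (1 - conj ((l : ↥(P : Subgroup G) → ℂ) w)) * (1 - (μ : ↥(P : Subgroup G) → ℂ) v) *
          (if χ ∈ principalBlock M G then (χ : G → ℂ) w * conj ((χ : G → ℂ) v) else 0) =
        (N : ℂ) * ((1 - (l : ↥(P : Subgroup G) → ℂ) w⁻¹) * (1 - (μ : ↥(P : Subgroup G) → ℂ) w) +
          (1 - (l : ↥(P : Subgroup G) → ℂ) w⁻¹) * (1 - (s μ : ↥(P : Subgroup G) → ℂ) w) +
          (1 - (l : ↥(P : Subgroup G) → ℂ) w⁻¹) * (1 - (s (s μ) : ↥(P : Subgroup G) → ℂ) w)) := by
      intro w
      rw [Finset.sum_comm]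
      simp only [← Finset.mul_sum, hlconj]
      by_cases hw : w = 1
      · subst hw; simp [hdeg1, hs]
      have hcol : ∀ v : (P : Subgroup G), (1 - (l : ↥(P : Subgroup G) → ℂ) w⁻¹) * (1 - (μ : ↥(P : Subgroup G) → ℂ) v) *
          ∑ χ : IrrCharacter G, (if χ ∈ principalBlock M G then (χ : G → ℂ) w * conj ((χ : G → ℂ) v) else 0) =
          if v = w ∨ v = σ w ∨ v = σ (σ w) then (N : ℂ) * ((1 - (l : ↥(P : Subgroup G) → ℂ) w⁻¹) * (1 - (μ : ↥(P : Subgroup G) → ℂ) v)) else 0 := by
        intro v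
        by_cases hv : v = 1
        · subst hv; simp [hdeg1]
        rw [sum_principal_mul_conj hM (hpow v) (hpow w) (hidxO v hv)]
        simp only [hconjiff]
        rw [← hcardP]
        split_ifs <;> ring
      rw [Finset.sum_congr rfl fun v _ => hcol v, ← Finset.sum_filter]
      have hset : Finset.univ.filter (fun v => v = w ∨ v = σ w ∨ v = σ (σ w)) = {w, σ w, σ (σ w)} := by
        ext v; simp
      have d1 : w ≠ σ w := fun h => hw (hσfix w h.symm)
      have d2 : w ≠ σ (σ w) := fun h => hw (hσ2fix w h.symm)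
      have d3 : σ w ≠ σ (σ w) := fun h => d1 (σ.injective h)
      rw [hset, Finset.sum_insert (by simp [d1, d2]), Finset.sum_pair d3]
      simp only [hs]
      ring
    rw [Finset.sum_congr rfl fun w _ => hwv w, ← Finset.mul_sum, Finset.sum_add_distrib,
      Finset.sum_add_distrib]
    have hone : ∀ ν : IrrCharacter (P : Subgroup G), ν ≠ trivIrr _ →
        ∑ w : (P : Subgroup G), (1 - (l : ↥(P : Subgroup G) → ℂ) w⁻¹) * (1 - (ν : ↥(P : Subgroup G) → ℂ) w) =
          (N : ℂ) * (1 + if ν = l then 1 else 0) := by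
      intro ν hν
      have h1 : ∑ w : (P : Subgroup G), (l : ↥(P : Subgroup G) → ℂ) w⁻¹ = 0 := by
        rw [show ∑ w : (P : Subgroup G), (l : ↥(P : Subgroup G) → ℂ) w⁻¹ = ∑ w, (l : ↥(P : Subgroup G) → ℂ) w from
          Fintype.sum_equiv (Equiv.inv _) _ _ fun w => rfl, hsuml, if_neg hl]
      have h2 : ∑ w : (P : Subgroup G), (l : ↥(P : Subgroup G) → ℂ) w⁻¹ * (ν : ↥(P : Subgroup G) → ℂ) w = if ν = l then (N : ℂ) else 0 := by
        have h : classInner (ν : ↥(P : Subgroup G) → ℂ) (l : ↥(P : Subgroup G) → ℂ) = if ν = l then 1 else 0 := by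
          split_ifs with h
          · rw [h]; exact IsIrrCharacter.classInner_self l.2
          · exact IsIrrCharacter.classInner_ne ν.2 l.2 fun he => h (Subtype.ext he)
        rw [classInner, inv_mul_eq_iff_eq_mul₀ hN0] at h
        simp only [hlconj] at h
        rw [show ∑ w : (P : Subgroup G), (l : ↥(P : Subgroup G) → ℂ) w⁻¹ * (ν : ↥(P : Subgroup G) → ℂ) w =
          ∑ w, (ν : ↥(P : Subgroup G) → ℂ) w * (l : ↥(P : Subgroup G) → ℂ) w⁻¹ from Finset.sum_congr rfl fun w _ => mul_comm _ _, h]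
        split_ifs <;> simp [hNdef]
      simp only [sub_mul, mul_sub, mul_one, one_mul, Finset.sum_sub_distrib, h1, h2, hsuml, if_neg hν,
        Finset.sum_const, Finset.card_univ, nsmul_eq_mul]
      rw [← Nat.card_eq_fintype_card, ← hNdef]
      split_ifs <;> ring
    have hμ1 : s μ ≠ trivIrr _ := fun h => hμ (hsinj μ h)
    have hμ2 : s (s μ) ≠ trivIrr _ := fun h => hμ1 (hsinj _ h)
    rw [hone μ hμ, hone (s μ) hμ1, hone (s (s μ)) hμ2]
    have hR : R l μ ↔ μ = l ∨ s μ = l ∨ s (s μ) = l := by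
      constructor
      · rintro (h | h | h)
        · exact Or.inl h
        · exact Or.inr (Or.inr (by rw [h, hs3]))
        · exact Or.inr (Or.inl (by rw [h, hs3]))
      · rintro (h | h | h)
        · exact Or.inl h
        · exact Or.inr (Or.inr (by rw [← h, hs3]))
        · exact Or.inr (Or.inl (by rw [← h, hs3]))
    have e1 : ¬ (μ = l ∧ s μ = l) := fun h => hμ (hsfix μ (h.2.trans h.1.symm))
    have e2 : ¬ (μ = l ∧ s (s μ) = l) := fun h => hμ (hsfix μ (by
      conv_lhs => rw [← h.2.trans h.1.symm, hs3]))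
    have e3 : ¬ (s μ = l ∧ s (s μ) = l) := fun h => hμ1 (hsfix _ (h.2.trans h.1.symm))
    simp only [hR]
    by_cases a1 : μ = l
    · rw [if_pos a1, if_neg fun h => e1 ⟨a1, h⟩, if_neg fun h => e2 ⟨a1, h⟩, if_pos (Or.inl a1)]; ring
    by_cases a2 : s μ = l
    · rw [if_neg a1, if_pos a2, if_neg fun h => e3 ⟨a2, h⟩, if_pos (Or.inr (Or.inl a2))]; ring
    by_cases a3 : s (s μ) = l
    · rw [if_neg a1, if_neg a2, if_pos a3, if_pos (Or.inr (Or.inr a3))]; ring
    · rw [if_neg a1, if_neg a2, if_neg a3, if_neg (fun h => by rcases h with h | h | h <;> contradiction)]; ring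
  -- the combinatorics
  let I := {l : IrrCharacter (P : Subgroup G) // l ≠ trivIrr _}
  let X := {χ : IrrCharacter G // χ ∈ principalBlock M G ∧ χ ≠ trivIrr G}
  have htriv : trivIrr G ∈ principalBlock M G := self_mem_blockOf (trivIrr G)
  have hsplit : ∀ F : IrrCharacter G → ℂ, ∑ χ : IrrCharacter G, (if χ ∈ principalBlock M G then F χ else 0) =
      F (trivIrr G) + ∑ z : X, F z.1 := by
    intro F
    rw [← Finset.sum_filter, ← Finset.add_sum_erase _ _ (Finset.mem_filter.2 ⟨Finset.mem_univ _, htriv⟩)]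
    congr 1
    exact Finset.sum_subtype _ (fun χ => by simp [and_comm]) _
  have hI : 15 ≤ Fintype.card I := by
    have h : Fintype.card I = N - 1 := by
      simp only [I, Fintype.card_subtype_compl, Fintype.card_subtype_eq, hcardI]
    omega
  have hcX : ∀ i j : I, ∑ z : X, c z.1 i.1 * c z.1 j.1 = if R i.1 j.1 then 3 else 2 := by
    intro i j
    have h := hip i.1 j.1 i.2 j.2
    rw [hsplit] at h
    simp only [hct _ i.2, hct _ j.2, Int.cast_one, mul_one] at h
    have h' : ((∑ z : X, c z.1 i.1 * c z.1 j.1 : ℤ) : ℂ) = ((if R i.1 j.1 then 3 else 2 : ℤ) : ℂ) := by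
      push_cast
      split_ifs at h ⊢ <;> linear_combination h
    exact_mod_cast h'
  obtain ⟨a, b, εa, εb, hab, hεa, hεb, hconst, hthird, horb⟩ :=
    exists_shared_pair (fun i j : I => R i.1 j.1) (fun i => by
      rw [← Finset.card_map (⟨Subtype.val, Subtype.val_injective⟩ : I ↪ IrrCharacter (P : Subgroup G))]
      refine le_trans (Finset.card_le_card (t := {i.1, s i.1, s (s i.1)}) ?_) Finset.card_le_three
      intro l hl
      obtain ⟨j, hj, rfl⟩ := Finset.mem_map.1 hl
      simpa [R] using (Finset.mem_filter.1 hj).2) (fun i => Or.inl rfl) hI (fun (i : I) (z : X) => c z.1 i.1) hcX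
  have hctriv : ∀ χ : IrrCharacter G, c χ (trivIrr _) = 0 := fun χ => sub_self _
  have hsumI : ∀ F : IrrCharacter (P : Subgroup G) → ℂ,
      ∑ l, F l = F (trivIrr _) + ∑ i : I, F i.1 := by
    intro F
    rw [← Finset.add_sum_erase _ _ (Finset.mem_univ (trivIrr (P : Subgroup G)))]
    congr 1
    exact Finset.sum_subtype _ (fun l => by simp) _
  -- the shared characters
  have hshared : ∀ (z : X) (ε : ℤ), (∀ i : I, c z.1 i.1 = ε) →
      (∀ w : (P : Subgroup G), w ≠ 1 → (z.1 : G → ℂ) w = (ε : ℂ)) ∧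
        (z.1 : G → ℂ) 1 = (N : ℂ) * (mult z.1 (trivIrr _) : ℂ) - ((N : ℂ) - 1) * ε := by
    intro z ε hε
    refine ⟨fun w hw => ?_, ?_⟩
    · rw [hval z.1 w hw, hsumI]
      simp only [hctriv, hε, Int.cast_zero, zero_mul, zero_add, ← Finset.mul_sum]
      have h := hsumchar w
      rw [hsumI, if_neg hw] at h
      rw [eq_neg_of_add_eq_zero_right h, trivIrr_apply]
      ring
    · rw [hval1, hsumI]
      simp only [hctriv, hε, Int.cast_zero, zero_add, Finset.sum_const, Finset.card_univ, nsmul_eq_mul]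
      have : Fintype.card I = N - 1 := by
        simp only [I, Fintype.card_subtype_compl, Fintype.card_subtype_eq, hcardI]
      rw [this, Nat.cast_sub (by omega), Nat.cast_one]
  obtain ⟨ha_val, ha1⟩ := hshared a εa fun i => (hconst i).1
  obtain ⟨hb_val, hb1⟩ := hshared b εb fun i => (hconst i).2
  set A : ℤ := εa * charDegree (a.1 : G → ℂ) with hA
  set B : ℤ := εb * charDegree (b.1 : G → ℂ) with hB
  have hAc : (A : ℂ) = (εa : ℂ) * (a.1 : G → ℂ) 1 := by rw [hA, ← charDegree_eq]; push_cast; rfl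
  have hBc : (B : ℂ) = (εb : ℂ) * (b.1 : G → ℂ) 1 := by rw [hB, ← charDegree_eq]; push_cast; rfl
  have hmod : ∀ (z : X) (ε : ℤ), (ε = 1 ∨ ε = -1) →
      (z.1 : G → ℂ) 1 = (N : ℂ) * (mult z.1 (trivIrr _) : ℂ) - ((N : ℂ) - 1) * ε →
      (N : ℤ) ∣ ε * charDegree (z.1 : G → ℂ) - 1 := by
    intro z ε hε h
    refine ⟨ε * (mult z.1 (trivIrr _) : ℤ) - 1, ?_⟩
    have h' : ((ε * charDegree (z.1 : G → ℂ) - 1 : ℤ) : ℂ) =
        (((N : ℤ) * (ε * (mult z.1 (trivIrr _) : ℤ) - 1) : ℤ) : ℂ) := by
      push_cast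
      rw [charDegree_eq, h]
      rcases hε with rfl | rfl <;> push_cast <;> ring
    exact_mod_cast h'
  -- first relation
  have hrel1 : ∀ i : I, ∀ z : X, z ≠ a → z ≠ b → c z.1 i.1 ≠ 0 →
      (1 + A + B : ℂ) + (c z.1 i.1 : ℂ) * (z.1 : G → ℂ) 1 = 0 := by
    intro i z hza hzb hz
    have h0 : ∑ χ : IrrCharacter G,
        (if χ ∈ principalBlock M G then (χ : G → ℂ) 1 * ((c χ i.1 : ℂ) * N) else 0) = 0 := by
      have e : ∀ χ : IrrCharacter G,
          (if χ ∈ principalBlock M G then (χ : G → ℂ) 1 * ((c χ i.1 : ℂ) * N) else 0) =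
          ∑ w : (P : Subgroup G), (1 - conj ((i.1 : ↥(P : Subgroup G) → ℂ) w)) *
            (if χ ∈ principalBlock M G then (χ : G → ℂ) 1 * conj ((χ : G → ℂ) ((w : G)⁻¹)) else 0) := by
        intro χ
        split_ifs
        · rw [hcN, Finset.mul_sum]
          exact Finset.sum_congr rfl fun w _ => by
            rw [IsCharacter.apply_inv (irr_isCharacter χ), Complex.conj_conj]; ring
        · simp
      rw [Finset.sum_congr rfl fun χ _ => e χ, Finset.sum_comm]
      refine Finset.sum_eq_zero fun w _ => ?_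
      rw [← Finset.mul_sum]
      by_cases hw : w = 1
      · subst hw; simp [hdeg1]
      rw [← finsum_irr_eq_sum_ite (principalBlock M G),
        finsum_regular_singular_eq_zero hM isPBlock_principalBlock (g := (1 : G))
          (by rw [orderOf_one]; norm_num) (by rw [orderOf_inv]; exact hsing w hw), mul_zero]
    rw [hsplit] at h0
    simp only [hct _ i.2, trivIrr_apply, Int.cast_one, one_mul] at h0
    obtain ⟨f, hfa, hfb, hf1, hf0⟩ := hthird i
    have hfz : z = f := by_contra fun h => hz (hf0 z hza hzb h)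
    subst hfz
    rw [← Finset.sum_subset (Finset.subset_univ {a, b, z}) (fun w _ hw => by
      simp only [Finset.mem_insert, Finset.mem_singleton, not_or] at hw
      rw [hf0 w hw.1 hw.2.1 hw.2.2]; simp), Finset.sum_insert (by simp [hab, Ne.symm hza]),
      Finset.sum_pair (Ne.symm hzb), (hconst i).1, (hconst i).2] at h0
    have h1 : ((1 : ℂ) + A + B + (c z.1 i.1 : ℂ) * (z.1 : G → ℂ) 1) * N = 0 := by
      rw [hAc, hBc]; linear_combination h0
    exact (mul_eq_zero.1 h1).resolve_right hN0
  have hS0 : (1 + A + B : ℂ) ≠ 0 := by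
    obtain ⟨i⟩ : Nonempty I := Fintype.card_pos_iff.1 (by omega)
    obtain ⟨f, hfa, hfb, hf1, -⟩ := hthird i
    have hfne : c f.1 i.1 ≠ 0 := by rcases hf1 with h | h <;> rw [h] <;> norm_num
    intro hS
    have h := hrel1 i f hfa hfb hfne
    rw [hS, zero_add, mul_eq_zero, Int.cast_eq_zero] at h
    exact h.elim hfne (IsIrrCharacter.apply_one_ne_zero f.1.2)
  -- test elements
  obtain ⟨x, hx⟩ : ∃ x : (P : Subgroup G), x ^ 2 ≠ 1 := by
    refine ⟨e.symm (Multiplicative.ofAdd ((1, 0) : ZMod (2 ^ m) × ZMod (2 ^ m))), ?_⟩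
    rw [← map_pow, Ne, MulEquiv.map_eq_one_iff, ← ofAdd_nsmul, ofAdd_eq_one]
    intro h
    have h1 : ((2 : ℕ) : ZMod (2 ^ m)) = 0 := by simpa [nsmul_eq_mul] using congrArg Prod.fst h
    rw [ZMod.natCast_eq_zero_iff] at h1
    have h4 : 2 ^ 2 ≤ 2 ^ m := Nat.pow_le_pow_right two_pos hm
    have := Nat.le_of_dvd two_pos h1
    omega
  obtain ⟨u, hu⟩ := exists_prime_orderOf_dvd_card' (G := (P : Subgroup G)) 2
    (by rw [← hNdef, hcardP]; exact dvd_pow_self 2 (by omega))
  have hu1 : u ≠ 1 := fun h => by rw [h, orderOf_one] at hu; norm_num at hu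
  have hu2 : u ^ 2 = 1 := orderOf_dvd_iff_pow_eq_one.1 hu.dvd
  have hx1 : x ≠ 1 := fun h => hx (by rw [h, one_pow])
  -- second relation
  have hrel2 : ∑ χ : IrrCharacter G, (if χ ∈ principalBlock M G then
      (χ : G → ℂ) u ^ 2 * conj ((χ : G → ℂ) x) / (χ : G → ℂ) 1 else 0) = 0 := by
    refine sum_principal_sq_div hM (hpow x) (hidxO x hx1) fun y hy s' t hs' ht hst => ?_
    have hinv : ∀ w : G, IsConj (u : G) w → w * w = 1 := by
      intro w hw
      obtain ⟨g, rfl⟩ := isConj_iff.1 hw
      rw [conj_mul, ← pow_two, show (u : G) ^ 2 = 1 from congrArg Subtype.val hu2, mul_one, mul_inv_cancel]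
    have hyreg : ¬ 2 ∣ orderOf (y : G) := by
      rw [Subgroup.orderOf_coe]
      intro h
      exact not_dvd_card_pPrimeCore (p := 2) (h.trans (Subgroup.orderOf_mk y hy ▸ orderOf_dvd_natCard (⟨y, hy⟩ : pPrimeCore 2 (Subgroup.centralizer ({(x : G)} : Set G)))))
    have hc : Commute (x : G) (y : G) := (commute_of_mem_centralizer y).symm
    have h1 : IsPPart 2 ((x : G) * (y : G)) x := ⟨y, rfl, hc, hpow x, hyreg⟩
    have h2 : IsPPart 2 ((x : G) * (y : G))⁻¹ ((x : G)⁻¹) := by
      refine ⟨(y : G)⁻¹, ?_, hc.inv_inv, by rw [orderOf_inv]; exact hpow x, by rwa [orderOf_inv]⟩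
      rw [mul_inv_rev, hc.inv_inv.eq]
    have hsg : s' * ((x : G) * (y : G)) * s'⁻¹ = ((x : G) * (y : G))⁻¹ := by
      have e1 : s'⁻¹ = s' := inv_eq_of_mul_eq_one_right (hinv s' hs')
      have e2 : t⁻¹ = t := inv_eq_of_mul_eq_one_right (hinv t ht)
      rw [← hst, mul_inv_rev, e2, e1, ← mul_assoc, hinv s' hs', one_mul]
    have h3' := IsPPart.conjugate h1 s'
    rw [hsg] at h3'
    have h4 := isPPart_unique Nat.prime_two h3' h2
    have hconj : IsConj ((x : (P : Subgroup G)) : G) ((x⁻¹ : (P : Subgroup G)) : G) :=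
      isConj_iff.2 ⟨s', h4⟩
    rcases (hconjiff x x⁻¹).1 hconj with h | h | h
    · exact hx (by rw [pow_two, ← inv_eq_iff_mul_eq_one]; exact h)
    · refine hx1 (hσ2fix x ?_)
      rw [← h, map_inv, ← h, inv_inv]
    · have h' : σ x⁻¹ = x := by rw [h, hσ3]
      rw [map_inv, inv_eq_iff_eq_inv] at h'
      exact hx1 (hσ2fix x (by rw [h', map_inv, h', inv_inv]))
  rw [hsplit, ← Finset.add_sum_erase _ _ (Finset.mem_univ a),
    ← Finset.add_sum_erase _ _ (Finset.mem_erase.2 ⟨hab.symm, Finset.mem_univ b⟩)] at hrel2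
  let θ : IrrCharacter ↥(P : Subgroup G) → ↥(P : Subgroup G) → ℂ := fun l w =>
    (l : ↥(P : Subgroup G) → ℂ) w + (l : ↥(P : Subgroup G) → ℂ) (σ w) + (l : ↥(P : Subgroup G) → ℂ) (σ (σ w))
  let F : X → ℂ := fun z => (z.1 : G → ℂ) u ^ 2 * conj ((z.1 : G → ℂ) x) / (z.1 : G → ℂ) 1
  have hothers : 3 * ∑ z ∈ (Finset.univ.erase a).erase b, F z =
      (∑ i : I, θ i.1 u ^ 2 * conj (θ i.1 x)) / (1 + A + B : ℂ) := by
    have hz : ∀ z ∈ (Finset.univ.erase a).erase b, 3 * F z = ∑ i : I,
        (if c z.1 i.1 = 0 then 0 else θ i.1 u ^ 2 * conj (θ i.1 x) / (1 + A + B : ℂ)) := by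
      intro z hz
      simp only [Finset.mem_erase, Finset.mem_univ, and_true] at hz
      by_cases h0 : ∀ i : I, c z.1 i.1 = 0
      · have hx0 : (z.1 : G → ℂ) x = 0 := by
          rw [hval z.1 x hx1, hsumI]
          simp [hctriv, h0]
        simp [F, hx0, h0]
      push Not at h0
      obtain ⟨i, hi⟩ := h0
      have hsi : s i.1 ≠ trivIrr _ := fun h => i.2 (hsinj _ h)
      have hssi : s (s i.1) ≠ trivIrr _ := fun h => hsi (hsinj _ h)
      let i1 : I := ⟨s i.1, hsi⟩
      let i2 : I := ⟨s (s i.1), hssi⟩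
      have hsupp : ∀ j : I, c z.1 j.1 ≠ 0 ↔ j ∈ ({i, i1, i2} : Finset I) := by
        intro j
        constructor
        · intro hj
          rcases horb i j z hz.2 hz.1 hi hj with h | h | h
          · simp [Subtype.ext h]
          · simp [show j = i1 from Subtype.ext h]
          · simp [show j = i2 from Subtype.ext h]
        · intro hj
          simp only [Finset.mem_insert, Finset.mem_singleton] at hj
          rcases hj with rfl | rfl | rfl
          · exact hi
          · exact (hcinv z.1 i.1).symm ▸ hi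
          · show c z.1 (s (s i.1)) ≠ 0
            rw [hcinv, hcinv]; exact hi
      have d1 : i ≠ i1 := fun h => i.2 (hsfix _ (congrArg Subtype.val h).symm)
      have d2 : i ≠ i2 := fun h => i.2 (hsfix _ (by
        conv_lhs => rw [show i.1 = s (s i.1) from congrArg Subtype.val h, hs3]))
      have d3 : i1 ≠ i2 := fun h => hsi (hsfix _ (congrArg Subtype.val h).symm)
      have hzw : ∀ w : (P : Subgroup G), w ≠ 1 → (z.1 : G → ℂ) w = -(c z.1 i.1 : ℂ) * θ i.1 w := by
        intro w hw
        rw [hval z.1 w hw, hsumI, hctriv, Int.cast_zero, zero_mul, zero_add,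
          ← Finset.sum_subset (Finset.subset_univ ({i, i1, i2} : Finset I)) (fun j _ hj => by
            rw [not_not.1 (fun h => hj ((hsupp j).1 h))]; simp),
          Finset.sum_insert (by simp [d1, d2]), Finset.sum_pair d3]
        simp only [i1, i2, hcinv, hs, θ]
        ring
      have hrot : ∀ j ∈ ({i, i1, i2} : Finset I), ∀ w, θ j.1 w = θ i.1 w := by
        intro j hj w
        simp only [Finset.mem_insert, Finset.mem_singleton] at hj
        rcases hj with rfl | rfl | rfl
        · rfl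
        · simp only [θ, i1, hs, hσ3]; ring
        · simp only [θ, i2, hs, hσ3]; ring
      rw [← Finset.sum_subset (Finset.subset_univ ({i, i1, i2} : Finset I)) (fun j _ hj => by
        rw [if_pos (not_not.1 (fun h => hj ((hsupp j).1 h)))]),
        Finset.sum_congr rfl fun j hj => by rw [if_neg ((hsupp j).2 hj), hrot j hj, hrot j hj],
        Finset.sum_const, Finset.card_eq_three.2 ⟨i, i1, i2, d1, d2, d3, rfl⟩]
      have hη : (c z.1 i.1 : ℂ) = 1 ∨ (c z.1 i.1 : ℂ) = -1 := by
        obtain ⟨f, hfa, hfb, hf1, hf0⟩ := hthird i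
        have : z = f := by_contra fun h => hi (hf0 z hz.2 hz.1 h)
        subst this
        rcases hf1 with h | h <;> simp [h]
      have hS := hrel1 i z hz.2 hz.1 hi
      have hz1 := IsIrrCharacter.apply_one_ne_zero z.1.2
      simp only [F, hzw u hu1, hzw x hx1, map_mul, map_neg, nsmul_eq_mul, Nat.cast_ofNat]
      rcases hη with h | h
      · rw [h] at hS ⊢
        rw [show (1 + A + B : ℂ) = -(z.1 : G → ℂ) 1 by linear_combination hS]
        simp only [map_one]; field_simp
      · rw [h] at hS ⊢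
        rw [show (1 + A + B : ℂ) = (z.1 : G → ℂ) 1 by linear_combination hS]
        simp only [map_neg, map_one]; field_simp
    rw [Finset.mul_sum, Finset.sum_congr rfl hz, Finset.sum_comm, Finset.sum_div]
    refine Finset.sum_congr rfl fun i _ => ?_
    obtain ⟨f, hfa, hfb, hf1, hf0⟩ := hthird i
    rw [Finset.sum_eq_single f]
    · rw [if_neg]
      rcases hf1 with h | h <;> rw [h] <;> norm_num
    · intro z hz hzf
      simp only [Finset.mem_erase, Finset.mem_univ, and_true] at hz
      rw [if_pos (hf0 z hz.2 hz.1 hzf)]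
    · intro h; exact absurd (by simp [hfa, hfb]) h
  have hT : ∑ i : I, θ i.1 u ^ 2 * conj (θ i.1 x) = -27 := by
    have hall : ∑ l : IrrCharacter (P : Subgroup G), θ l u ^ 2 * conj (θ l x) = 0 := by
      let o : Fin 3 → ↥(P : Subgroup G) → ↥(P : Subgroup G) := ![id, fun w => σ w, fun w => σ (σ w)]
      have e : ∀ l : IrrCharacter (P : Subgroup G), θ l u ^ 2 * conj (θ l x) =
          ∑ i : Fin 3, ∑ j : Fin 3, ∑ k : Fin 3, (l : ↥(P : Subgroup G) → ℂ) (o i u * o j u * (o k x)⁻¹) := by
        intro l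
        simp only [θ, o, Fin.sum_univ_three, map_add, hlconj, hlmul, Matrix.cons_val_zero,
          Matrix.cons_val_one, Matrix.cons_val_two, Matrix.head_cons, Matrix.tail_cons, id]
        ring
      rw [Finset.sum_congr rfl fun l _ => e l, Finset.sum_comm]
      refine Finset.sum_eq_zero fun i _ => ?_
      rw [Finset.sum_comm]
      refine Finset.sum_eq_zero fun j _ => ?_
      rw [Finset.sum_comm]
      refine Finset.sum_eq_zero fun k _ => ?_
      rw [hsumchar, if_neg]
      intro h
      rw [mul_inv_eq_one] at h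
      have hou : ∀ i : Fin 3, o i u ^ 2 = 1 := fun i => by
        fin_cases i <;> simp [o, ← map_pow, hu2]
      have hox : o k x ^ 2 ≠ 1 := by
        fin_cases k <;> simp [o, ← map_pow, hx]
      apply hox
      rw [← h, (show Commute (o i u) (o j u) from hcomm _ _).mul_pow, hou, hou, one_mul]
    rw [hsumI] at hall
    simp only [θ, trivIrr_apply, map_add, map_one] at hall
    simp only [θ, map_add]
    linear_combination hall
  have hεsq : ∀ ε : ℤ, (ε = 1 ∨ ε = -1) → (ε : ℂ) ^ 2 = 1 ∧ conj (ε : ℂ) = (ε : ℂ) := by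
    rintro ε (rfl | rfl) <;> simp
  have hA0 : A ≠ 0 := by
    intro h; rw [hA, mul_eq_zero] at h
    rcases h with h | h
    · rcases hεa with h' | h' <;> omega
    · exact (charDegree_pos a.1).ne' (by exact_mod_cast h)
  have hB0 : B ≠ 0 := by
    intro h; rw [hB, mul_eq_zero] at h
    rcases h with h | h
    · rcases hεb with h' | h' <;> omega
    · exact (charDegree_pos b.1).ne' (by exact_mod_cast h)
  have heq : (1 + A + B) * (A * B + A + B) = 9 * (A * B) := by
    have h := hrel2
    rw [ha_val u hu1, ha_val x hx1, hb_val u hu1, hb_val x hx1] at h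
    simp only [trivIrr_apply, map_one, one_pow, one_mul, div_one, (hεsq εa hεa).1, (hεsq εa hεa).2,
      (hεsq εb hεb).1, (hεsq εb hεb).2] at h
    change (1 : ℂ) + ((εa : ℂ) / (a.1 : G → ℂ) 1 + ((εb : ℂ) / (b.1 : G → ℂ) 1 +
      ∑ z ∈ (Finset.univ.erase a).erase b, F z)) = 0 at h
    rw [hT] at hothers
    have e1 : (εa : ℂ) / (a.1 : G → ℂ) 1 = 1 / (A : ℂ) := by
      rw [hAc]
      have := IsIrrCharacter.apply_one_ne_zero a.1.2
      rcases hεa with h' | h' <;> rw [h'] <;> push_cast <;> field_simp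
    have e2 : (εb : ℂ) / (b.1 : G → ℂ) 1 = 1 / (B : ℂ) := by
      rw [hBc]
      have := IsIrrCharacter.apply_one_ne_zero b.1.2
      rcases hεb with h' | h' <;> rw [h'] <;> push_cast <;> field_simp
    have hA' : (A : ℂ) ≠ 0 := Int.cast_ne_zero.2 hA0
    have hB' : (B : ℂ) ≠ 0 := Int.cast_ne_zero.2 hB0
    rw [e1, e2, show ∑ z ∈ (Finset.univ.erase a).erase b, F z = -9 / (1 + A + B : ℂ) from by
      linear_combination (1 / 3 : ℂ) * hothers] at h
    field_simp at h
    have h' : (((1 + A + B) * (A * B + A + B) : ℤ) : ℂ) = ((9 * (A * B) : ℤ) : ℂ) := by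
      push_cast; linear_combination h
    exact_mod_cast h'
  obtain ⟨hA1, -⟩ := eq_one_of_reciprocal (n := (N : ℤ)) (by exact_mod_cast hN16)
    (hmod a εa hεa ha1) (hmod b εb hεb hb1) heq
  have hdega : charDegree (a.1 : G → ℂ) = 1 ∧ εa = 1 := by
    have := charDegree_pos a.1
    rcases hεa with rfl | rfl <;> constructor <;> omega
  have ha11 : (a.1 : G → ℂ) 1 = 1 := by rw [← charDegree_eq, hdega.1, Nat.cast_one]
  obtain ⟨lam, hlam⟩ := IsCharacter.exists_hom_of_apply_one (irr_isCharacter a.1) ha11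
  refine ⟨lam.ker, inferInstance, fun htop => a.2.2 (Subtype.ext (funext fun g => ?_)), fun w hw => ?_⟩
  · rw [hlam]
    have : lam g = 1 := MonoidHom.mem_ker.1 (htop ▸ Subgroup.mem_top g)
    simp [this]
  · rw [MonoidHom.mem_ker]
    refine Units.ext ?_
    have : (a.1 : G → ℂ) w = 1 := by
      by_cases h1 : (⟨w, hw⟩ : (P : Subgroup G)) = 1
      · rw [show w = 1 from congrArg Subtype.val h1, ha11]
      · rw [ha_val ⟨w, hw⟩ h1, hdega.2, Int.cast_one]
    rw [hlam] at this
    simpa using this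

end Homocyclic

end Cfsg.Agent.Lib.Blocks
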