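import Cfsg.Agent.Lib.Blocks.FrobeniusNormalizer
import Cfsg.Agent.Lib.Characters.Kernel

/-!
# Automisers of order three: the degrees in the principal block
-/

set_option autoImplicit false
set_option linter.unusedSectionVars false
set_option linter.unusedVariables false
set_option maxHeartbeats 800000

namespace Cfsg.Agent.Lib.Blocks

open Cfsg Cfsg.Agent.Lib.Characters Cfsg.Agent.Lib.Cores
open scoped ComplexConjugate

universe u

theorem isSquare_mul_of_three {X₁ X₂ X₃ W₁ W₂ W₃ : ℤ} (hX : X₁ + X₂ + X₃ = -1)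
    (hW : W₁ + W₂ + W₃ = 0) (hW3 : W₃ ≠ 0)
    (hE : W₁ ^ 2 * (X₂ * X₃) + W₂ ^ 2 * (X₁ * X₃) + W₃ ^ 2 * (X₁ * X₂) = 0) :
    IsSquare (X₁ * X₂ * X₃) := by
  set k : ℤ := X₃ * (X₁ + X₂) * W₂ + X₂ * X₃ * W₃ with hk
  have hsq : k ^ 2 = W₃ ^ 2 * (X₁ * X₂ * X₃) := by
    have h1 : W₁ = -(W₂ + W₃) := by linarith
    have h3 : X₁ + X₂ + X₃ + 1 = 0 := by linarith
    rw [hk]
    subst h1
    linear_combination (X₃ * (X₁ + X₂)) * hE - (X₁ * X₂ * X₃ * W₃ ^ 2) * h3
  obtain ⟨c, hc⟩ := (Int.pow_dvd_pow_iff two_ne_zero).1 (Dvd.intro _ hsq.symm)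
  refine ⟨c, mul_left_cancel₀ (pow_ne_zero 2 hW3) ?_⟩
  rw [← hsq, hc]; ring

variable {G : Type u} [Group G] [Fintype G]

theorem exists_int_apply_involution {t : G} (ht : t * t = 1) (χ : IrrCharacter G) :
    ∃ u : ℤ, (u : ℂ) = (χ : G → ℂ) t := by
  obtain ⟨n, ρ, -, hρ⟩ := χ.2
  let Q : Module.End ℂ (Fin n → ℂ) := (2 : ℂ)⁻¹ • (1 + ρ t)
  have hQ : Q * Q = Q := by
    have h2 : ρ t * ρ t = 1 := by rw [← map_mul, ht, map_one]
    simp only [Q, smul_mul_smul_comm, mul_add, add_mul, one_mul, mul_one, h2]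
    rw [show (1 : Module.End ℂ (Fin n → ℂ)) + ρ t + (ρ t + 1) = (2 : ℂ) • (1 + ρ t) by
      rw [two_smul]; abel, smul_smul]
    norm_num
  have hproj : LinearMap.IsProj (LinearMap.range Q) Q :=
    ⟨fun x => ⟨x, rfl⟩, by rintro _ ⟨y, rfl⟩; rw [← Module.End.mul_apply, hQ]⟩
  refine ⟨2 * (Module.finrank ℂ (LinearMap.range Q) : ℤ) - n, ?_⟩
  have h := hproj.trace
  simp only [Q, map_smul, map_add, smul_eq_mul, LinearMap.trace_one, Module.finrank_fin_fun] at h
  push_cast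
  rw [← hρ]
  simp only [Representation.character]
  linear_combination -2 * h

theorem apply_ne_degree_of_not_mem_proper (η : IrrCharacter G) (hη : η ≠ trivIrr G) {t : G}
    (ht : ∀ K : Subgroup G, K.Normal → t ∈ K → K = ⊤) : (η : G → ℂ) t ≠ (η : G → ℂ) 1 := by
  intro h
  obtain ⟨g, hg⟩ := IsIrrCharacter.exists_ne_apply_one η.2 fun h' => hη (Subtype.ext h')
  have htop := ht (charKernel (irr_isCharacter η)) inferInstance h
  exact hg (show g ∈ charKernel (irr_isCharacter η) by rw [htop]; exact Subgroup.mem_top g)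

theorem exists_hom_ne_one_of_lt {A : Type*} [CommGroup A] [Finite A] {H : Subgroup A} (hH : H ≠ ⊤) :
    ∃ (ψ : A →* ℂˣ), ψ ≠ 1 ∧ ∀ x ∈ H, ψ x = 1 := by
  haveI : NeZero (Monoid.exponent (A ⧸ H)) := ⟨Monoid.exponent_ne_zero_of_finite⟩
  obtain ⟨y, -, hy⟩ := SetLike.exists_of_lt (lt_top_iff_ne_top.2 hH)
  have hy' : (y : A ⧸ H) ≠ 1 := fun h => hy ((QuotientGroup.eq_one_iff y).1 h)
  obtain ⟨φ, hφ⟩ := CommGroup.exists_apply_ne_one_of_hasEnoughRootsOfUnity (A ⧸ H) ℂ hy'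
  refine ⟨φ.comp (QuotientGroup.mk' H), fun h => hφ ?_, fun x hx => ?_⟩
  · exact DFunLike.congr_fun h y
  · show φ (x : A ⧸ H) = 1
    rw [(QuotientGroup.eq_one_iff x).2 hx, map_one]

variable {M : Ideal AlgInt} [hMp : M.IsPrime] {p : ℕ} [hp : Fact p.Prime]

open scoped IsMulCommutative in
/-- The principal block for an automiser of order three, with the degree condition. -/
theorem index_three_block (hM : IsPModular p M) (P : Sylow p G) [IsMulCommutative P]
    (hm2 : 4 < Nat.card P)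
    (hCN : (Subgroup.centralizer ((P : Subgroup G) : Set G)).relIndex
      (Subgroup.normalizer ((P : Subgroup G) : Set G)) = 3)
    (hfrob : ∀ y : G, y ∈ (P : Subgroup G) → y ≠ 1 →
      Subgroup.centralizer ({y} : Set G) ⊓ Subgroup.normalizer ((P : Subgroup G) : Set G) =
        Subgroup.centralizer ((P : Subgroup G) : Set G)) :
    ∃ (χ₂ χ₃ : IrrCharacter G) (Y : Finset (IrrCharacter G))
      (ζ : (↥(P : Subgroup G) →* ℂˣ) → IrrCharacter G) (a : IrrCharacter G → ℤ) (δ : ℤ),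
      χ₂ ≠ χ₃ ∧ χ₂ ≠ trivIrr G ∧ χ₃ ≠ trivIrr G ∧
      principalBlock M G = ({trivIrr G, χ₂, χ₃} : Set (IrrCharacter G)) ∪ ↑Y ∧
      trivIrr G ∉ Y ∧ χ₂ ∉ Y ∧ χ₃ ∉ Y ∧
      Y.card * 3 = Nat.card P - 1 ∧ (δ = 1 ∨ δ = -1) ∧ a (trivIrr G) = 1 ∧
      (∀ χ ∈ ({trivIrr G, χ₂, χ₃} : Set (IrrCharacter G)), (a χ = 1 ∨ a χ = -1) ∧
        ∀ z y : G, IsPPart p z y → y ∈ (P : Subgroup G) → y ≠ 1 → (χ : G → ℂ) z = (a χ : ℂ)) ∧
      (∀ ψ, ψ ≠ 1 → ζ ψ ∈ Y) ∧ (∀ η ∈ Y, ∃ ψ, ψ ≠ 1 ∧ ζ ψ = η) ∧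
      (∀ ψ ψ' : ↥(P : Subgroup G) →* ℂˣ, ψ ≠ 1 →
        (∃ n : G, n ∈ Subgroup.normalizer ((P : Subgroup G) : Set G) ∧
          ∀ w w' : ↥(P : Subgroup G), (w' : G) = n * w * n⁻¹ → ψ' w' = ψ w) → ζ ψ' = ζ ψ) ∧
      (∀ ψ, ψ ≠ 1 → ∀ (z : G) (y : ↥(P : Subgroup G)), IsPPart p z (y : G) → (y : G) ≠ 1 →
        (ζ ψ : G → ℂ) z = (δ : ℂ) *
          ∑ᶠ ψ' ∈ {ψ' : ↥(P : Subgroup G) →* ℂˣ |
            ∃ n : G, n ∈ Subgroup.normalizer ((P : Subgroup G) : Set G) ∧
              ∀ w w' : ↥(P : Subgroup G), (w' : G) = n * w * n⁻¹ → ψ' w' = ψ w},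
            ((ψ' y : ℂˣ) : ℂ)) ∧
      ((∃ t : G, orderOf t = 2 ∧ ∀ K : Subgroup G, K.Normal → t ∈ K → K = ⊤) →
        ∀ η ∈ Y,
        IsSquare ((a χ₂ * (charDegree (χ₂ : G → ℂ) : ℤ)) * (a χ₃ * (charDegree (χ₃ : G → ℂ) : ℤ)) *
            (-δ * (charDegree (η : G → ℂ) : ℤ))) ∧
        a χ₂ * (charDegree (χ₂ : G → ℂ) : ℤ) + a χ₃ * (charDegree (χ₃ : G → ℂ) : ℤ) +
            -δ * (charDegree (η : G → ℂ) : ℤ) = -1) := by
  classical
  haveI := Fintype.ofFinite (IrrCharacter G)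
  obtain ⟨X, Y, ζ₁, a, d, δ₁, hB, hXY, htX, hat, hY, hδ₁, hX, hζ₁, hsurj₁, hcl₁, hval₁, hnorm, hagree,
    hrel₁, hidx, A, hA1, hAcard, hAmul, hsemi, hconj, hζy₁⟩ :=
    frobenius_normalizer_block hM P 3 (by norm_num) (by omega) hCN hfrob
  simp only [Nat.cast_ofNat] at hnorm
  set r := Y.card with hr
  have hppow : ∀ y : ↥(P : Subgroup G), ∃ k : ℕ, orderOf (y : G) = p ^ k := fun y => by
    obtain ⟨k, hk⟩ := IsPGroup.iff_orderOf.1 P.2 y
    exact ⟨k, by rw [Subgroup.orderOf_coe]; exact hk⟩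
  have hone : ¬ p ∣ orderOf (1 : G) := by rw [orderOf_one, Nat.dvd_one]; exact hp.out.ne_one
  have hself : ∀ y : ↥(P : Subgroup G), IsPPart p (y : G) (y : G) := fun y =>
    ⟨1, mul_one _, Commute.one_right _, hppow y, hone⟩
  have hXpos : ∀ χ ∈ X, 1 ≤ a χ ^ 2 := fun χ hχ =>
    Int.add_one_le_of_lt (lt_of_le_of_ne (sq_nonneg _) (Ne.symm (pow_ne_zero 2 (hX χ hχ).1)))
  have hXc : (X.card : ℤ) ≤ ∑ χ ∈ X, a χ ^ 2 := by
    rw [Finset.cast_card]; exact Finset.sum_le_sum hXpos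
  obtain ⟨a0, ha0⟩ := P.2.exists_card_eq
  have hr2 : 2 ≤ r := by omega
  have hr4 : r ≠ 3 := by
    intro h3
    have h10 : p ^ a0 = 10 := by rw [← ha0]; omega
    have hd2 : 2 ∣ p ^ a0 := by rw [h10]; norm_num
    have hd5 : 5 ∣ p ^ a0 := by rw [h10]; norm_num
    have e2 := (Nat.prime_dvd_prime_iff_eq Nat.prime_two hp.out).1 (Nat.prime_two.dvd_of_dvd_pow hd2)
    have e5 := (Nat.prime_dvd_prime_iff_eq Nat.prime_five hp.out).1 (Nat.prime_five.dvd_of_dvd_pow hd5)
    omega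
  have hdd : (d = 0 ∨ (d = δ₁ ∧ r = 2)) ∧ ∑ χ ∈ X, a χ ^ 2 = 3 := by
    have hX1 : 1 ≤ ∑ χ ∈ X, a χ ^ 2 := by
      refine le_trans ?_ hXc
      exact_mod_cast Finset.card_pos.2 ⟨_, htX⟩
    have hr2' : (2 : ℤ) ≤ (r : ℤ) := by exact_mod_cast hr2
    by_cases hd0 : d = 0
    · subst hd0
      refine ⟨Or.inl rfl, ?_⟩
      rcases hδ₁ with rfl | rfl <;> linarith
    have hd1 : 1 ≤ d ^ 2 := Int.add_one_le_of_lt (lt_of_le_of_ne (sq_nonneg _) (Ne.symm (pow_ne_zero 2 hd0)))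
    have hdδ : d = δ₁ := by
      by_contra hne
      have h1 : 1 ≤ (d - δ₁) ^ 2 :=
        Int.add_one_le_of_lt (lt_of_le_of_ne (sq_nonneg _) (Ne.symm (pow_ne_zero 2 (sub_ne_zero.2 hne))))
      have hd3 : d ^ 2 ≤ 2 := by nlinarith
      have hd5 : -1 ≤ d ∧ d ≤ 1 := ⟨by nlinarith, by nlinarith⟩
      rcases hδ₁ with rfl | rfl
      · have : d = -1 := by omega
        subst this; nlinarith
      · have : d = 1 := by omega
        subst this; nlinarith
    subst hdδ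
    have hd2 : d ^ 2 = 1 := by rcases hδ₁ with rfl | rfl <;> norm_num
    rw [sub_self, hd2] at hnorm
    have hr5 : r = 2 ∨ r = 4 := by
      have : (r : ℤ) ≤ 4 := by linarith
      omega
    rcases hr5 with h2 | h4
    · refine ⟨Or.inr ⟨rfl, h2⟩, ?_⟩
      rw [h2] at hnorm; push_cast at hnorm; linarith
    · exfalso
      rw [h4] at hnorm; push_cast at hnorm
      have hX' : X = {trivIrr G} := by
        refine (Finset.eq_singleton_iff_unique_mem.2 ⟨htX, fun χ hχ => ?_⟩)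
        by_contra hne
        have h1 : ({trivIrr G, χ} : Finset (IrrCharacter G)) ⊆ X := by
          intro x hx
          rcases Finset.mem_insert.1 hx with rfl | hx
          · exact htX
          · rw [Finset.mem_singleton.1 hx]; exact hχ
        have h2 := Finset.sum_le_sum_of_subset_of_nonneg h1 (fun i _ _ => sq_nonneg (a i))
        rw [Finset.sum_pair (Ne.symm hne), hat] at h2
        linarith [hXpos χ hχ]
      obtain ⟨η, hη⟩ := Finset.card_pos.1 (show 0 < Y.card by omega)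
      have h := hrel₁ η hη 1 hone
      rw [hX', Finset.sum_singleton, hat, trivIrr_apply, ← charDegree_eq, h4] at h
      have h' : ((4 : ℤ) * d - d) * (charDegree (η : G → ℂ) : ℤ) + 1 * 1 = 0 := by exact_mod_cast h
      have : (3 : ℤ) ∣ 1 := ⟨-(d * (charDegree (η : G → ℂ) : ℤ)), by linarith⟩
      norm_num at this
  obtain ⟨hd, hXsum⟩ := hdd
  have ha : ∀ χ ∈ X, a χ = 1 ∨ a χ = -1 := by
    intro χ hχ
    by_contra hne
    have h0 := (hX χ hχ).1
    have h4 : 4 ≤ a χ ^ 2 := by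
      rcases (show a χ ≤ -2 ∨ 2 ≤ a χ by omega) with h | h <;> nlinarith
    linarith [Finset.single_le_sum (fun i _ => sq_nonneg (a i)) hχ]
  have hX3 : X.card = 3 := by
    have : ∑ χ ∈ X, a χ ^ 2 = (X.card : ℤ) := by
      rw [Finset.cast_card]
      exact Finset.sum_congr rfl fun χ hχ => by rcases ha χ hχ with h | h <;> rw [h] <;> norm_num
    omega
  obtain ⟨χ₂, χ₃, h23, herase⟩ := Finset.card_eq_two.1
    (show (X.erase (trivIrr G)).card = 2 by rw [Finset.card_erase_of_mem htX]; omega)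
  have h2m : χ₂ ∈ X.erase (trivIrr G) := by rw [herase]; simp
  have h3m : χ₃ ∈ X.erase (trivIrr G) := by rw [herase]; simp
  have h2X := (Finset.mem_erase.1 h2m).2
  have h3X := (Finset.mem_erase.1 h3m).2
  have hXeq : X = {trivIrr G, χ₂, χ₃} := by rw [← Finset.insert_erase htX, herase]
  have hXsum' : ∀ F : IrrCharacter G → ℂ, ∑ χ ∈ X, F χ = F (trivIrr G) + F χ₂ + F χ₃ := by
    intro F
    rw [← Finset.add_sum_erase _ _ htX, herase, Finset.sum_pair h23, add_assoc]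
  -- normalise the shift
  obtain ⟨ζ, δ, hδ, hζ, hsurj, hcl, hval, hζy, hsumY, hrel⟩ :
      ∃ (ζ : (↥(P : Subgroup G) →* ℂˣ) → IrrCharacter G) (δ : ℤ), (δ = 1 ∨ δ = -1) ∧
      (∀ ψ, ψ ≠ 1 → ζ ψ ∈ Y) ∧ (∀ η ∈ Y, ∃ ψ, ψ ≠ 1 ∧ ζ ψ = η) ∧
      (∀ ψ ψ' : ↥(P : Subgroup G) →* ℂˣ, ψ ≠ 1 →
        (∃ n : G, n ∈ Subgroup.normalizer ((P : Subgroup G) : Set G) ∧
          ∀ w w' : ↥(P : Subgroup G), (w' : G) = n * w * n⁻¹ → ψ' w' = ψ w) → ζ ψ' = ζ ψ) ∧
      (∀ ψ, ψ ≠ 1 → ∀ (z : G) (y : ↥(P : Subgroup G)), IsPPart p z (y : G) → (y : G) ≠ 1 →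
        (ζ ψ : G → ℂ) z = (δ : ℂ) *
          ∑ᶠ ψ' ∈ {ψ' : ↥(P : Subgroup G) →* ℂˣ |
            ∃ n : G, n ∈ Subgroup.normalizer ((P : Subgroup G) : Set G) ∧
              ∀ w w' : ↥(P : Subgroup G), (w' : G) = n * w * n⁻¹ → ψ' w' = ψ w},
            ((ψ' y : ℂˣ) : ℂ)) ∧
      (∀ ψ, ψ ≠ 1 → ∀ y : ↥(P : Subgroup G), y ≠ 1 →
        (ζ ψ : G → ℂ) y = (δ : ℂ) * ∑ α ∈ A, ((ψ (α y) : ℂˣ) : ℂ)) ∧
      (∀ y : ↥(P : Subgroup G), y ≠ 1 → ∑ η ∈ Y, (η : G → ℂ) y = -(δ : ℂ)) ∧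
      (∀ η ∈ Y, ∀ g : G, ¬ p ∣ orderOf g →
        -(δ : ℂ) * (η : G → ℂ) g + ∑ χ ∈ X, (a χ : ℂ) * (χ : G → ℂ) g = 0) := by
    rcases hd with rfl | ⟨rfl, h2⟩
    · refine ⟨ζ₁, δ₁, hδ₁, hζ₁, hsurj₁, hcl₁, fun ψ hψ z y hzy hy => ?_, fun ψ hψ y hy => ?_,
        fun y hy => ?_, fun η hη g hg => ?_⟩
      · rw [hval₁ ψ hψ z y hzy hy, Int.cast_zero, zero_add]
      · rw [hζy₁ ψ hψ y hy, Int.cast_zero, zero_add]
      · rw [(hidx y hy).2]; push_cast; ring
      · have := hrel₁ η hη g hg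
        push_cast at this
        linear_combination this
    · obtain ⟨η₁, η₂, h12, hY12⟩ := Finset.card_eq_two.1 (hr.symm.trans h2)
      let sw : IrrCharacter G → IrrCharacter G := fun η => if η = η₁ then η₂ else η₁
      have hsw : ∀ η ∈ Y, sw η ∈ Y ∧ sw η ≠ η ∧ sw (sw η) = η := by
        intro η hη
        rw [hY12] at hη ⊢
        rcases Finset.mem_insert.1 hη with rfl | hη
        · simp [sw, h12, Ne.symm h12]
        · rw [Finset.mem_singleton.1 hη]
          simp [sw, h12, Ne.symm h12]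
      have hsum2 : ∀ η ∈ Y, ∀ F : IrrCharacter G → ℂ, ∑ χ ∈ Y, F χ = F η + F (sw η) := by
        intro η hη F
        rw [hY12] at hη ⊢
        rw [Finset.sum_pair h12]
        rcases Finset.mem_insert.1 hη with rfl | hη
        · simp [sw]
        · rw [Finset.mem_singleton.1 hη]
          simp [sw, Ne.symm h12, add_comm]
      have hflip : ∀ ψ, ψ ≠ 1 → ∀ (z : G) (y : ↥(P : Subgroup G)), IsPPart p z (y : G) → y ≠ 1 →
          (sw (ζ₁ ψ) : G → ℂ) z = (d : ℂ) - (ζ₁ ψ : G → ℂ) y := by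
        intro ψ hψ z y hzy hy
        have hy' : (y : G) ≠ 1 := fun h => hy (Subtype.ext h)
        obtain ⟨ψ', hψ', he⟩ := hsurj₁ _ (hsw _ (hζ₁ ψ hψ)).1
        have h := (hidx y hy).2
        rw [hsum2 _ (hζ₁ ψ hψ) fun χ => (χ : G → ℂ) y] at h
        rw [← he, hval₁ ψ' hψ' z y hzy hy', ← hval₁ ψ' hψ' (y : G) y (hself y) hy', he]
        rw [h2] at h
        push_cast at h
        linear_combination h
      refine ⟨fun ψ => sw (ζ₁ ψ), -d, by omega, fun ψ hψ => (hsw _ (hζ₁ ψ hψ)).1,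
        fun η hη => ?_, fun ψ ψ' hψ h => congrArg sw (hcl₁ ψ ψ' hψ h),
        fun ψ hψ z y hzy hy => ?_, fun ψ hψ y hy => ?_, fun y hy => ?_, fun η hη g hg => ?_⟩
      · obtain ⟨ψ, hψ, he⟩ := hsurj₁ _ (hsw η hη).1
        exact ⟨ψ, hψ, by show sw (ζ₁ ψ) = η; rw [he]; exact (hsw η hη).2.2⟩
      · show (sw (ζ₁ ψ) : G → ℂ) z = _
        rw [hflip ψ hψ z y hzy fun h => hy (by rw [h]; rfl), hval₁ ψ hψ (y : G) y (hself y) hy]
        push_cast; ring
      · show (sw (ζ₁ ψ) : G → ℂ) y = _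
        rw [hflip ψ hψ y y (hself y) hy, hζy₁ ψ hψ y hy]
        push_cast; ring
      · rw [(hidx y hy).2, h2]; push_cast; ring
      · have := hrel₁ η hη g hg
        rw [h2] at this
        push_cast at this ⊢
        linear_combination this
  refine ⟨χ₂, χ₃, Y, ζ, a, δ, h23, (Finset.mem_erase.1 h2m).1, (Finset.mem_erase.1 h3m).1, ?_,
    Finset.disjoint_left.1 hXY htX, Finset.disjoint_left.1 hXY h2X, Finset.disjoint_left.1 hXY h3X,
    hY, hδ, hat, ?_, hζ, hsurj, hcl, hval, ?_⟩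
  · rw [hB, hXeq]; push_cast; rfl
  · intro χ hχ
    have hχX : χ ∈ X := by rw [hXeq]; simpa using hχ
    exact ⟨ha χ hχX, (hX χ hχX).2⟩
  rintro ⟨t₁, ht₁, hprop₁⟩
  have hα3 : ∃ α ∈ A, α ≠ 1 ∧ α * α ≠ 1 ∧ A = {1, α, α * α} ∧ α * α * α = 1 := by
    obtain ⟨α, hα, hα1⟩ := Finset.exists_mem_ne (show 1 < A.card by omega) 1
    have hαα : α * α ≠ 1 := by
      intro h
      obtain ⟨β, hβ, hβ'⟩ : ∃ β ∈ A, β ∉ ({1, α} : Finset _) := by
        refine Finset.exists_mem_notMem_of_card_lt_card ?_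
        have := Finset.card_le_two (a := (1 : MulAut ↥(P : Subgroup G))) (b := α)
        omega
      simp only [Finset.mem_insert, Finset.mem_singleton, not_or] at hβ'
      have hs : ({1, α, β, α * β} : Finset _) ⊆ A := by
        intro x hx
        simp only [Finset.mem_insert, Finset.mem_singleton] at hx
        rcases hx with rfl | rfl | rfl | rfl
        exacts [hA1, hα, hβ, hAmul _ hα _ hβ]
      have h4 := Finset.card_le_card hs
      have e1 : α * β ≠ 1 := fun e => hβ'.2 ((mul_left_cancel (e.trans h.symm)))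
      have e2 : α * β ≠ α := fun e => hβ'.1 (mul_eq_left.1 e)
      have e3 : α * β ≠ β := fun e => hα1 (mul_eq_right.1 e)
      rw [Finset.card_insert_of_notMem (by simp [Ne.symm hα1, Ne.symm hβ'.1, Ne.symm e1]),
        Finset.card_insert_of_notMem (by simp [Ne.symm hβ'.2, Ne.symm e2]),
        Finset.card_pair (Ne.symm e3)] at h4
      omega
    have he : α * α ≠ α := fun e => hα1 (mul_eq_left.1 e)
    have hAeq : A = {1, α, α * α} := by
      refine (Finset.eq_of_subset_of_card_le ?_ ?_).symm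
      · intro x hx
        simp only [Finset.mem_insert, Finset.mem_singleton] at hx
        rcases hx with rfl | rfl | rfl
        exacts [hA1, hα, hAmul _ hα _ hα]
      · rw [Finset.card_insert_of_notMem (by simp [Ne.symm hα1, Ne.symm hαα]),
          Finset.card_pair (Ne.symm he)]
        omega
    refine ⟨α, hα, hα1, hαα, hAeq, ?_⟩
    have hm := hAmul _ (hAmul _ hα _ hα) _ hα
    rw [hAeq] at hm
    simp only [Finset.mem_insert, Finset.mem_singleton] at hm
    rcases hm with h | h | h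
    · exact h
    · exact absurd (mul_eq_right.1 h) hαα
    · exact absurd (mul_eq_left.1 h) hα1
  obtain ⟨α, hαA, hα1, hαα, hAeq, hαc⟩ := hα3
  have hAsum : ∀ F : MulAut ↥(P : Subgroup G) → ℂ, ∑ β ∈ A, F β = F 1 + F α + F (α * α) := by
    intro F
    have h1 : (1 : MulAut ↥(P : Subgroup G)) ∉ ({α, α * α} : Finset _) := by
      simp [Ne.symm hα1, Ne.symm hαα]
    rw [hAeq, Finset.sum_insert h1, Finset.sum_pair fun e => hα1 (mul_eq_left.1 e.symm), add_assoc]
  -- involutions in `P` after conjugation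
  obtain ⟨t, ht, hprop, hloc⟩ : ∃ t : G, orderOf t = 2 ∧
      (∀ K : Subgroup G, K.Normal → t ∈ K → K = ⊤) ∧
      (p ≠ 2 ∨ (p = 2 ∧ t ∈ (P : Subgroup G))) := by
    by_cases hp2 : p = 2
    · obtain ⟨S, hS⟩ := (show IsPGroup p (Subgroup.zpowers t₁) from
        isPGroup_zpowers_of_orderOf ⟨1, by rw [ht₁, pow_one, hp2]⟩).exists_le_sylow
      obtain ⟨g, hg⟩ := MulAction.exists_smul_eq G S P
      refine ⟨g * t₁ * g⁻¹, ?_, fun K hK hm => hprop₁ K hK ?_, Or.inr ⟨hp2, ?_⟩⟩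
      · rw [show g * t₁ * g⁻¹ = MulAut.conj g t₁ by simp, MulEquiv.orderOf_eq]; exact ht₁
      · have := hK.conj_mem _ hm g⁻¹
        simpa [mul_assoc] using this
      · show g * t₁ * g⁻¹ ∈ (P : Subgroup G)
        rw [← hg, Sylow.coe_subgroup_smul]
        exact Subgroup.smul_mem_pointwise_smul t₁ (MulAut.conj g) _ (hS (Subgroup.mem_zpowers t₁))
    · exact ⟨t₁, ht₁, hprop₁, Or.inl hp2⟩
  have htt : t * t = 1 := by
    rw [← sq]; exact ht ▸ pow_orderOf_eq_one t
  have hsplit : ∀ F : IrrCharacter G → ℂ,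
      ∑ χ : IrrCharacter G, (if χ ∈ principalBlock M G then F χ else 0) =
        F (trivIrr G) + F χ₂ + F χ₃ + ∑ η ∈ Y, F η := by
    intro F
    rw [← Finset.sum_filter, show Finset.univ.filter (fun χ => χ ∈ principalBlock M G) = X ∪ Y by
      ext χ; simp [hB], Finset.sum_union hXY, hXsum']
  have hinv : ∀ y : ↥(P : Subgroup G), y ≠ 1 → ∀ s t' o : G, IsConj t s → IsConj t t' →
      Commute (y : G) o → ¬ p ∣ orderOf o → s * t' = y * o →
      s * (y : G) * s⁻¹ = (y : G)⁻¹ ∧ y * y = 1 := by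
    intro y hy s t' o hs ht' hcy ho he
    have hinvol : ∀ u, IsConj t u → u * u = 1 := by
      intro u hu
      obtain ⟨c, rfl⟩ := isConj_iff.1 hu
      rw [show c * t * c⁻¹ * (c * t * c⁻¹) = c * (t * t) * c⁻¹ by group, htt, mul_one, mul_inv_cancel]
    have hz : IsPPart p ((y : G) * o) (y : G) := ⟨o, rfl, hcy, hppow y, ho⟩
    have h1 := IsPPart.conjugate hz s
    have hzi : s * ((y : G) * o) * s⁻¹ = ((y : G) * o)⁻¹ := by
      rw [← he, _root_.mul_inv_rev, inv_eq_of_mul_eq_one_right (hinvol s hs),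
        inv_eq_of_mul_eq_one_right (hinvol t' ht'),
        show s * (s * t') * s = s * s * t' * s by group, hinvol s hs, one_mul]
    have hz' : IsPPart p ((y : G) * o)⁻¹ (y : G)⁻¹ := by
      refine ⟨o⁻¹, ?_, hcy.inv_inv, ?_, ?_⟩
      · rw [← _root_.mul_inv_rev, hcy.eq]
      · obtain ⟨k, hk⟩ := hppow y
        exact ⟨k, by rw [orderOf_inv]; exact hk⟩
      · rw [orderOf_inv]; exact ho
    rw [hzi] at h1
    have hsy := isPPart_unique hp.out h1 hz'
    refine ⟨hsy, ?_⟩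
    obtain ⟨β, hβ, hβy⟩ := (hconj y y⁻¹).1 (isConj_iff.2 ⟨s, by rw [Subgroup.coe_inv]; exact hsy⟩)
    have hββ : β * β = 1 := hsemi _ (hAmul _ hβ _ hβ) y hy (by
      rw [MulAut.mul_apply, hβy, map_inv, hβy, inv_inv])
    rw [hAeq] at hβ
    simp only [Finset.mem_insert, Finset.mem_singleton] at hβ
    rcases hβ with rfl | rfl | rfl
    · rw [MulAut.one_apply] at hβy
      exact mul_eq_one_iff_eq_inv.2 hβy
    · exact absurd hββ hαα
    · rw [show α * α * (α * α) = α * α * α * α by group, hαc, one_mul] at hββ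
      exact absurd hββ hα1
  obtain ⟨η₀, hη₀, u₂, u₃, u₄, hu₄, hi, hii⟩ : ∃ η₀ ∈ Y, ∃ u₂ u₃ u₄ : ℤ,
      (u₄ : ℂ) = (η₀ : G → ℂ) t ∧
      (1 : ℂ) + a χ₂ * u₂ + a χ₃ * u₃ - δ * u₄ = 0 ∧
      (1 : ℂ) + a χ₂ * u₂ ^ 2 / (χ₂ : G → ℂ) 1 + a χ₃ * u₃ ^ 2 / (χ₃ : G → ℂ) 1
        - δ * u₄ ^ 2 / (η₀ : G → ℂ) 1 = 0 := by
    rcases hloc with hp2 | ⟨hp2, htP⟩
    · have htreg : ¬ p ∣ orderOf t := by
        rw [ht]
        exact fun h => hp2 ((Nat.prime_dvd_prime_iff_eq hp.out Nat.prime_two).1 h)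
      obtain ⟨y, hy⟩ : ∃ y : ↥(P : Subgroup G), y ≠ 1 := by
        haveI : Nontrivial ↥(P : Subgroup G) := Finite.one_lt_card_iff_nontrivial.1 (by omega)
        exact exists_ne 1
      obtain ⟨η₀, hη₀⟩ := Finset.card_pos.1 (show 0 < Y.card by omega)
      obtain ⟨u₂, hu₂⟩ := exists_int_apply_involution htt χ₂
      obtain ⟨u₃, hu₃⟩ := exists_int_apply_involution htt χ₃
      obtain ⟨u₄, hu₄⟩ := exists_int_apply_involution htt η₀
      refine ⟨η₀, hη₀, u₂, u₃, u₄, hu₄, ?_, ?_⟩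
      · have h := hrel η₀ hη₀ t htreg
        rw [hXsum', hat, trivIrr_apply] at h
        rw [hu₂, hu₃, hu₄]
        push_cast at h
        linear_combination h
      · have hk := (hidx y hy).1.trans ha0
        have hno : ∀ o ∈ pPrimeCore p (Subgroup.centralizer ({(y : G)} : Set G)), ∀ s t' : G,
            IsConj t s → IsConj t t' → s * t' ≠ (y : G) * (o : G) := by
          intro o ho s t' hs ht' he
          have hcy := (commute_of_mem_centralizer o).symm
          have hoo : ¬ p ∣ orderOf (o : G) := by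
            rw [Subgroup.orderOf_coe]
            exact fun h => not_dvd_card_pPrimeCore (p := p)
              (h.trans (Subgroup.orderOf_dvd_natCard _ ho))
          have h2 := (hinv y hy s t' o hs ht' hcy hoo he).2
          have : orderOf y ∣ 2 := orderOf_dvd_of_pow_eq_one (by rw [sq]; exact h2)
          obtain ⟨k, hk'⟩ := hppow y
          rw [Subgroup.orderOf_coe] at hk'
          rw [hk'] at this
          rcases Nat.eq_zero_or_pos k with rfl | hk0
          · rw [pow_zero, orderOf_eq_one_iff] at hk'; exact hy hk'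
          · exact hp2 ((Nat.prime_dvd_prime_iff_eq hp.out Nat.prime_two).1
              ((dvd_pow_self p hk0.ne').trans this))
        have h := sum_principal_sq_div hM (hppow y) (u := t) hk hno
        have hyG : (y : G) ≠ 1 := fun e => hy (Subtype.ext e)
        rw [hsplit, (hX _ htX).2 y y (hself y) y.2 hyG, (hX _ h2X).2 y y (hself y) y.2 hyG,
          (hX _ h3X).2 y y (hself y) y.2 hyG,
          Finset.sum_congr rfl fun (η : IrrCharacter G) (hη : η ∈ Y) => show (η : G → ℂ) t ^ 2 * conj ((η : G → ℂ) y) / (η : G → ℂ) 1 =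
            (η₀ : G → ℂ) t ^ 2 / (η₀ : G → ℂ) 1 * conj ((η : G → ℂ) y) by
            rw [hagree η hη η₀ hη₀ t htreg, hagree η hη η₀ hη₀ 1 hone]; ring,
          ← Finset.mul_sum, ← map_sum, hsumY y hy, hat] at h
        simp only [map_intCast, map_neg, trivIrr_apply, Int.cast_one, one_pow, one_mul, div_one,
          map_one, ← hu₂, ← hu₃, ← hu₄] at h
        linear_combination h
    · subst hp2
      set t' : ↥(P : Subgroup G) := ⟨t, htP⟩ with ht'
      have ht'1 : t' ≠ 1 := by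
        intro h
        have : t = 1 := congrArg Subtype.val h
        rw [this, orderOf_one] at ht; omega
      have hsq : t' * t' = 1 := Subtype.ext htt
      set t₂ : ↥(P : Subgroup G) := α t' with ht₂
      have hsq₂ : t₂ * t₂ = 1 := by rw [ht₂, ← map_mul, hsq, map_one]
      have hw : t' * t₂ * (α * α) t' = 1 := by
        by_contra hne
        refine hα1 (hsemi α hαA _ hne ?_)
        rw [map_mul, map_mul, ← MulAut.mul_apply, ← MulAut.mul_apply, show α * (α * α) = 1 by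
          rw [← mul_assoc, hαc], MulAut.one_apply, mul_comm, ← mul_assoc]
      have he₁ : ∀ z, t' * (t' * z) = z := fun z => by rw [← mul_assoc, hsq, one_mul]
      have he₂ : ∀ z, t₂ * (t₂ * z) = z := fun z => by rw [← mul_assoc, hsq₂, one_mul]
      let H : Subgroup ↥(P : Subgroup G) :=
        { carrier := {x | x = 1 ∨ x = t' ∨ x = t₂ ∨ x = t' * t₂}
          one_mem' := Or.inl rfl
          mul_mem' := by
            rintro x y (rfl | rfl | rfl | rfl) (rfl | rfl | rfl | rfl) <;>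
              simp [hsq, hsq₂, he₁, he₂, mul_comm, mul_left_comm]
          inv_mem' := by
            rintro x (rfl | rfl | rfl | rfl)
            · exact Or.inl inv_one
            · exact Or.inr (Or.inl (inv_eq_of_mul_eq_one_right hsq))
            · exact Or.inr (Or.inr (Or.inl (inv_eq_of_mul_eq_one_right hsq₂)))
            · refine Or.inr (Or.inr (Or.inr (inv_eq_of_mul_eq_one_right ?_)))
              rw [mul_mul_mul_comm, hsq, hsq₂, mul_one] }
      have hHA : ∀ β ∈ A, β t' ∈ H := by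
        intro β hβ
        rw [hAeq] at hβ
        simp only [Finset.mem_insert, Finset.mem_singleton] at hβ
        rcases hβ with rfl | rfl | rfl
        · exact Or.inr (Or.inl rfl)
        · exact Or.inr (Or.inr (Or.inl rfl))
        · refine Or.inr (Or.inr (Or.inr ?_))
          rw [eq_inv_of_mul_eq_one_right hw]
          exact inv_eq_of_mul_eq_one_right (by rw [mul_mul_mul_comm, hsq, hsq₂, mul_one])
      have hHtop : H ≠ ⊤ := by
        intro h
        have hsub : (Finset.univ : Finset ↥(P : Subgroup G)) ⊆ {1, t', t₂, t' * t₂} := by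
          intro x _
          have : x ∈ H := by rw [h]; exact Subgroup.mem_top x
          rcases this with e | e | e | e <;> simp [e]
        have h5 := (Finset.card_le_card hsub).trans Finset.card_le_four
        rw [Finset.card_univ, ← Nat.card_eq_fintype_card] at h5
        omega
      obtain ⟨ψ₀, hψ₀, hψH⟩ := exists_hom_ne_one_of_lt hHtop
      obtain ⟨y, -, hyH⟩ := SetLike.exists_of_lt (lt_top_iff_ne_top.2 hHtop)
      have hy : y ≠ 1 := fun e => hyH (e ▸ H.one_mem)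
      have hyG : (y : G) ≠ 1 := fun e => hy (Subtype.ext e)
      have htG : (t' : G) ≠ 1 := fun e => ht'1 (Subtype.ext e)
      have hquad : ∀ η ∈ Y, (η : G → ℂ) t ^ 2 = 2 * (δ : ℂ) * (η : G → ℂ) t + 3 := by
        intro η hη
        obtain ⟨ψ, hψ, rfl⟩ := hsurj η hη
        rw [show (ζ ψ : G → ℂ) t = _ from hζy ψ hψ t' ht'1, hAsum, MulAut.one_apply]
        have e : ∀ x : ↥(P : Subgroup G), x * x = 1 →
            ((ψ x : ℂˣ) : ℂ) = 1 ∨ ((ψ x : ℂˣ) : ℂ) = -1 := fun x hx =>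
          mul_self_eq_one_iff.1 (by rw [← Units.val_mul, ← map_mul, hx, map_one, Units.val_one])
        have e1 := e t' hsq
        have e2 := e t₂ hsq₂
        have e3 : ((ψ t' : ℂˣ) : ℂ) * ((ψ t₂ : ℂˣ) : ℂ) * ((ψ ((α * α) t') : ℂˣ) : ℂ) = 1 := by
          rw [← Units.val_mul, ← Units.val_mul, ← map_mul, ← map_mul, hw, map_one, Units.val_one]
        have hd2 : (δ : ℂ) ^ 2 = 1 := by rcases hδ with rfl | rfl <;> norm_num
        rcases e1 with e1 | e1 <;> rcases e2 with e2 | e2 <;> rw [e1, e2] at e3 <;>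
          rw [show α t' = t₂ from rfl, e1, e2] <;>
          [rw [show ((ψ ((α * α) t') : ℂˣ) : ℂ) = 1 by linear_combination e3];
           rw [show ((ψ ((α * α) t') : ℂˣ) : ℂ) = -1 by linear_combination -e3];
           rw [show ((ψ ((α * α) t') : ℂˣ) : ℂ) = -1 by linear_combination -e3];
           rw [show ((ψ ((α * α) t') : ℂˣ) : ℂ) = 1 by linear_combination e3]] <;>
          linear_combination (3 : ℂ) * hd2
      have hη₀t : (ζ ψ₀ : G → ℂ) t = ((3 * δ : ℤ) : ℂ) := by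
        rw [show (ζ ψ₀ : G → ℂ) t = _ from hζy ψ₀ hψ₀ t' ht'1]
        rw [Finset.sum_congr rfl fun β hβ => show ((ψ₀ (β t') : ℂˣ) : ℂ) = 1 by
          rw [hψH _ (hHA β hβ), Units.val_one], Finset.sum_const, hAcard]
        push_cast; ring
      refine ⟨ζ ψ₀, hζ ψ₀ hψ₀, a χ₂, a χ₃, 3 * δ, hη₀t.symm, ?_, ?_⟩
      · have e2 := ha χ₂ h2X
        have e3 := ha χ₃ h3X
        rcases e2 with e2 | e2 <;> rcases e3 with e3 | e3 <;> rcases hδ with rfl | rfl <;>
          rw [e2, e3] <;> push_cast <;> ring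
      · have hk := (hidx y hy).1.trans ha0
        have hQD : (P : Subgroup G) ≤ Subgroup.centralizer ({(y : G)} : Set G) := fun w hw =>
          Subgroup.mem_centralizer_singleton_iff.2
            (Subgroup.mul_comm_of_mem_isMulCommutative (H := (P : Subgroup G)) hw y.2)
        haveI hON : (pPrimeCore 2 (Subgroup.centralizer ({(y : G)} : Set G))).Normal :=
          (pPrimeCore_mem 2 _).1
        let π := QuotientGroup.mk' (pPrimeCore 2 (Subgroup.centralizer ({(y : G)} : Set G)))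
        let ι : ↥(P : Subgroup G) →* _ := π.comp (Subgroup.inclusion hQD)
        have hιinj : Function.Injective ι := by
          rw [injective_iff_map_eq_one]
          intro w hw
          have hmem : Subgroup.inclusion hQD w ∈ pPrimeCore 2 (Subgroup.centralizer ({(y : G)} : Set G)) :=
            (QuotientGroup.eq_one_iff _).1 hw
          obtain ⟨k, hk'⟩ := hppow w
          rw [Subgroup.orderOf_coe] at hk'
          rcases Nat.eq_zero_or_pos k with rfl | hk0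
          · rwa [pow_zero, orderOf_eq_one_iff] at hk'
          · exfalso
            have hd := Subgroup.orderOf_dvd_natCard _ hmem
            rw [orderOf_injective _ (Subgroup.inclusion_injective hQD), hk'] at hd
            exact not_dvd_card_pPrimeCore ((dvd_pow_self 2 hk0.ne').trans hd)
        have hιsurj : Function.Surjective ι := by
          refine (Nat.bijective_iff_injective_and_card ι).2 ⟨hιinj, ?_⟩ |>.2
          rw [← Subgroup.index, (hidx y hy).1]
        have hinP : ∀ u : Subgroup.centralizer ({(y : G)} : Set G), IsConj t (u : G) →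
            ∃ w ∈ H, ι w = π u := by
          intro u hu
          have hu2 : orderOf u = 2 := by
            obtain ⟨c, hc⟩ := isConj_iff.1 hu
            rw [← Subgroup.orderOf_coe, ← hc, show c * t * c⁻¹ = MulAut.conj c t by simp,
              MulEquiv.orderOf_eq]
            exact ht
          obtain ⟨S, hS⟩ := (show IsPGroup 2 (Subgroup.zpowers u) from
            isPGroup_zpowers_of_orderOf ⟨1, by rw [hu2, pow_one]⟩).exists_le_sylow
          obtain ⟨c, hc⟩ := MulAction.exists_smul_eq (Subgroup.centralizer ({(y : G)} : Set G)) S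
            (P.subtype hQD)
          have hm : c * u * c⁻¹ ∈ (P.subtype hQD : Subgroup (Subgroup.centralizer ({(y : G)} : Set G))) := by
            rw [← hc, Sylow.coe_subgroup_smul]
            exact Subgroup.smul_mem_pointwise_smul u (MulAut.conj c) _ (hS (Subgroup.mem_zpowers u))
          have hm' : ((c * u * c⁻¹ : Subgroup.centralizer ({(y : G)} : Set G)) : G) ∈ (P : Subgroup G) := hm
          set w : ↥(P : Subgroup G) := ⟨_, hm'⟩
          obtain ⟨β, hβ, hβw⟩ := (hconj t' w).1 (hu.trans (isConj_iff.2 ⟨(c : G), rfl⟩))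
          refine ⟨w, hβw ▸ hHA β hβ, ?_⟩
          show π (c * u * c⁻¹) = π u
          obtain ⟨cw, hcw⟩ := hιsurj (π c)
          obtain ⟨uw, huw⟩ := hιsurj (π u)
          rw [map_mul, map_mul, map_inv, ← hcw, ← huw, ← map_mul, ← map_inv, ← map_mul, mul_comm cw,
            mul_inv_cancel_right]
        have hno : ∀ o ∈ pPrimeCore 2 (Subgroup.centralizer ({(y : G)} : Set G)), ∀ s t'' : G,
            IsConj t s → IsConj t t'' → s * t'' ≠ (y : G) * (o : G) := by
          intro o ho s t'' hs ht'' he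
          have hcy := (commute_of_mem_centralizer o).symm
          have hoo : ¬ 2 ∣ orderOf (o : G) := by
            rw [Subgroup.orderOf_coe]
            exact fun h => not_dvd_card_pPrimeCore (p := 2)
              (h.trans (Subgroup.orderOf_dvd_natCard _ ho))
          obtain ⟨hsy, hyy⟩ := hinv y hy s t'' o hs ht'' hcy hoo he
          have hsC : s ∈ Subgroup.centralizer ({(y : G)} : Set G) := by
            rw [Subgroup.mem_centralizer_singleton_iff]
            refine mul_inv_eq_iff_eq_mul.1 (hsy.trans ?_)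
            rw [← Subgroup.coe_inv, inv_eq_of_mul_eq_one_right hyy]
          have htC : t'' ∈ Subgroup.centralizer ({(y : G)} : Set G) := by
            rw [show t'' = s⁻¹ * ((y : G) * (o : G)) by rw [← he, inv_mul_cancel_left]]
            exact mul_mem (inv_mem hsC) (mul_mem (Subgroup.mem_centralizer_singleton_iff.2 rfl) o.2)
          obtain ⟨w₁, hw₁, e₁⟩ := hinP ⟨s, hsC⟩ hs
          obtain ⟨w₂, hw₂, e₂⟩ := hinP ⟨t'', htC⟩ ht''
          refine hyH ?_
          have : ι (w₁ * w₂) = ι y := by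
            rw [map_mul, e₁, e₂, ← map_mul,
              show (⟨s, hsC⟩ * ⟨t'', htC⟩ : Subgroup.centralizer ({(y : G)} : Set G)) =
                Subgroup.inclusion hQD y * o from Subtype.ext he, map_mul,
              show π o = 1 from (QuotientGroup.eq_one_iff _).2 ho, mul_one]
            rfl
          exact hιinj this ▸ H.mul_mem hw₁ hw₂
        have hnc : ¬ IsConj t (y : G) := by
          intro h
          obtain ⟨β, hβ, hβy⟩ := (hconj t' y).1 h
          exact hyH (hβy ▸ hHA β hβ)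
        have h := sum_principal_sq_div hM (hppow y) (u := t) hk hno
        have horth := sum_principal_mul_conj hM (hppow y) (x' := t) ⟨1, by rw [ht, pow_one]⟩ hk
        have hXv : ∀ χ ∈ X, (χ : G → ℂ) y = (a χ : ℂ) ∧ (χ : G → ℂ) t = (a χ : ℂ) := fun χ hχ =>
          ⟨(hX χ hχ).2 y y (hself y) y.2 hyG, (hX χ hχ).2 t t (hself t') htP htG⟩
        rw [if_neg hnc, hsplit, (hXv _ htX).1, (hXv _ htX).2, (hXv _ h2X).1, (hXv _ h2X).2,
          (hXv _ h3X).1, (hXv _ h3X).2, hat] at horth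
        rw [hsplit, (hXv _ htX).1, (hXv _ htX).2, (hXv _ h2X).1, (hXv _ h2X).2,
          (hXv _ h3X).1, (hXv _ h3X).2, hat, trivIrr_apply,
          Finset.sum_congr rfl fun (η : IrrCharacter G) (hη : η ∈ Y) => show (η : G → ℂ) t ^ 2 * conj ((η : G → ℂ) y) / (η : G → ℂ) 1 =
            ((ζ ψ₀ : G → ℂ) 1)⁻¹ * (2 * (δ : ℂ) * ((η : G → ℂ) t * conj ((η : G → ℂ) y)) +
              3 * conj ((η : G → ℂ) y)) by
            rw [hquad η hη, hagree η hη _ (hζ ψ₀ hψ₀) 1 hone]; ring,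
          ← Finset.mul_sum, Finset.sum_add_distrib, ← Finset.mul_sum, ← Finset.mul_sum, ← map_sum,
          hsumY y hy] at h
        have hs2 : (a χ₂ : ℂ) * (a χ₂ : ℂ) = 1 := by rcases ha χ₂ h2X with e | e <;> rw [e] <;> norm_num
        have hs3 : (a χ₃ : ℂ) * (a χ₃ : ℂ) = 1 := by rcases ha χ₃ h3X with e | e <;> rw [e] <;> norm_num
        have hd2 : (δ : ℂ) ^ 2 = 1 := by rcases hδ with rfl | rfl <;> norm_num
        simp only [map_intCast, map_neg, Int.cast_one, one_mul, map_one, div_one, one_pow, hs2, hs3] at h horth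
        rw [show ∑ η ∈ Y, (η : G → ℂ) t * conj ((η : G → ℂ) y) = -3 by linear_combination horth] at h
        push_cast
        linear_combination h - (9 * (δ : ℂ) * ((ζ ψ₀ : G → ℂ) 1)⁻¹) * hd2
  intro η hη
  have hdeg : charDegree (η : G → ℂ) = charDegree (η₀ : G → ℂ) := by
    have := hagree η hη η₀ hη₀ 1 hone
    rw [← charDegree_eq, ← charDegree_eq] at this
    exact_mod_cast this
  rw [hdeg]
  have hne : η₀ ≠ trivIrr G := fun e => Finset.disjoint_left.1 hXY htX (e ▸ hη₀)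
  have hu4 : u₄ ≠ (charDegree (η₀ : G → ℂ) : ℤ) := by
    intro e
    refine apply_ne_degree_of_not_mem_proper η₀ hne hprop ?_
    rw [← hu₄, e, ← charDegree_eq]
    norm_cast
  have hx₂ : (charDegree (χ₂ : G → ℂ) : ℤ) ≠ 0 := by exact_mod_cast (charDegree_pos χ₂).ne'
  have hx₃ : (charDegree (χ₃ : G → ℂ) : ℤ) ≠ 0 := by exact_mod_cast (charDegree_pos χ₃).ne'
  have hx₄ : (charDegree (η₀ : G → ℂ) : ℤ) ≠ 0 := by exact_mod_cast (charDegree_pos η₀).ne'
  set x₂ : ℤ := (charDegree (χ₂ : G → ℂ) : ℤ) with hx₂def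
  set x₃ : ℤ := (charDegree (χ₃ : G → ℂ) : ℤ) with hx₃def
  set x₄ : ℤ := (charDegree (η₀ : G → ℂ) : ℤ) with hx₄def
  have hd1 : (χ₂ : G → ℂ) 1 = (x₂ : ℂ) := by rw [← charDegree_eq, hx₂def]; norm_cast
  have hd3 : (χ₃ : G → ℂ) 1 = (x₃ : ℂ) := by rw [← charDegree_eq, hx₃def]; norm_cast
  have hd4 : (η₀ : G → ℂ) 1 = (x₄ : ℂ) := by rw [← charDegree_eq, hx₄def]; norm_cast
  have hXd : a χ₂ * x₂ + a χ₃ * x₃ + -δ * x₄ = -1 := by
    have h := hrel η₀ hη₀ 1 hone
    rw [hXsum', hat, trivIrr_apply, hd1, hd3, hd4] at h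
    have : (((a χ₂ * x₂ + a χ₃ * x₃ + -δ * x₄ : ℤ)) : ℂ) = ((-1 : ℤ) : ℂ) := by
      push_cast at h ⊢
      linear_combination h
    exact_mod_cast this
  refine ⟨?_, hXd⟩
  have hU : 1 + a χ₂ * u₂ + a χ₃ * u₃ - δ * u₄ = 0 := by exact_mod_cast hi
  have hP : x₂ * x₃ * x₄ + a χ₂ * u₂ ^ 2 * (x₃ * x₄) + a χ₃ * u₃ ^ 2 * (x₂ * x₄)
      - δ * u₄ ^ 2 * (x₂ * x₃) = 0 := by
    have c2 : (x₂ : ℂ) ≠ 0 := Int.cast_ne_zero.2 hx₂
    have c3 : (x₃ : ℂ) ≠ 0 := Int.cast_ne_zero.2 hx₃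
    have c4 : (x₄ : ℂ) ≠ 0 := Int.cast_ne_zero.2 hx₄
    rw [hd1, hd3, hd4] at hii
    field_simp at hii
    have : (((x₂ * x₃ * x₄ + a χ₂ * u₂ ^ 2 * (x₃ * x₄) + a χ₃ * u₃ ^ 2 * (x₂ * x₄)
      - δ * u₄ ^ 2 * (x₂ * x₃) : ℤ)) : ℂ) = ((0 : ℤ) : ℂ) := by
      push_cast
      linear_combination hii
    exact_mod_cast this
  refine isSquare_mul_of_three (W₁ := a χ₂ * u₂ - a χ₂ * x₂) (W₂ := a χ₃ * u₃ - a χ₃ * x₃)
    (W₃ := -δ * u₄ - -δ * x₄) hXd ?_ ?_ ?_
  · linarith
  · rw [← mul_sub]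
    refine mul_ne_zero ?_ (sub_ne_zero.2 hu4)
    rcases hδ with rfl | rfl <;> norm_num
  · linear_combination (a χ₂ * a χ₃ * -δ) * hP
      - 2 * (a χ₂ * x₂ * (a χ₃ * x₃) * (-δ * x₄)) * hU
      + (a χ₂ * x₂ * (a χ₃ * x₃) * (-δ * x₄)) * hXd

end Cfsg.Agent.Lib.Blocks
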