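import Cfsg.Agent.S0970
import Cfsg.Agent.S4436
import Cfsg.Agent.Lib.Blocks.MainTheorems

/-!
# Defect groups of blocks induced from `P C(P)`
-/

set_option autoImplicit false
set_option linter.unusedSectionVars false
set_option linter.style.haveILetI false

namespace Cfsg.Agent.Lib.Blocks

open Cfsg Cfsg.Agent.Lib.Characters

universe u

variable {K : Type u} [Group K] [Fintype K] {M : Ideal AlgInt} [hMp : M.IsPrime] {p : ℕ}

theorem exists_covering_defect_iff (hM : IsPModular p M) (P : Subgroup K) [P.Normal]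
    (hP : IsPGroup p P) (H : Subgroup K) [H.Normal] [Fintype H] (hPH : P ≤ H)
    {c : Set (IrrCharacter H)} (hc : IsPBlock M c)
    (hcP : Nat.card P = p ^ blockDefect p c) (T : Subgroup K) [Fintype T]
    (hT : ∀ g : K, g ∈ T ↔ ∀ θ ∈ c, conjIrrN H g θ ∈ c) (hHT : H ≤ T) :
    ∃ b : Set (IrrCharacter K), IsPBlock M b ∧
      (∃ χ ∈ b, ∃ θ ∈ c, classInner (fun n : H => (χ : K → ℂ) n) (θ : H → ℂ) ≠ 0) ∧
      (IsDefectGroup p M b P ↔ ¬ p ∣ H.relIndex T) := by
  classical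
  haveI := Fact.mk hM.1
  haveI := Fintype.ofFinite (H.subgroupOf T)
  haveI := Fintype.ofFinite (IrrCharacter T)
  set c' := liftN H hHT '' c with hc'def
  obtain ⟨θ₀, hθ₀⟩ := IsPBlock.nonempty hc
  have hc' : IsPBlock M c' := by
    refine ⟨liftN H hHT θ₀, ?_⟩
    ext η
    constructor
    · rintro ⟨θ, hθ, rfl⟩
      exact sameBlock_compEquivIrr (Subgroup.subgroupOfEquivOfLe hHT) (IsPBlock.sameBlock hc hθ₀ hθ)
    · intro hη
      refine ⟨compEquivIrr (Subgroup.subgroupOfEquivOfLe hHT).symm η, ?_, ?_⟩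
      · have h := sameBlock_compEquivIrr (Subgroup.subgroupOfEquivOfLe hHT).symm
          (χ := liftN H hHT θ₀) (ψ := η) hη
        rw [show compEquivIrr (Subgroup.subgroupOfEquivOfLe hHT).symm (liftN H hHT θ₀) = θ₀ from
          Subtype.ext (funext fun n => congrArg (θ₀ : H → ℂ)
            ((Subgroup.subgroupOfEquivOfLe hHT).apply_symm_apply n))] at h
        exact (IsPBlock.mem_iff hc hθ₀).2 h
      · exact Subtype.ext (funext fun x => congrArg (η : H.subgroupOf T → ℂ)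
          ((Subgroup.subgroupOfEquivOfLe hHT).symm_apply_apply x))
  have hdc : blockDefect p c' = blockDefect p c := by
    rw [blockDefect, blockDefect, hc'def, Set.image_image,
      Nat.card_congr (Subgroup.subgroupOfEquivOfLe hHT).toEquiv]
    congr 3
  have hinv : ∀ g : T, ∀ θ ∈ c', ∀ θ' : IrrCharacter (H.subgroupOf T),
      (∀ n : H.subgroupOf T, (θ' : H.subgroupOf T → ℂ) n = (θ : H.subgroupOf T → ℂ)
        ⟨g * n * g⁻¹, (Subgroup.Normal.subgroupOf inferInstance T).conj_mem n n.2 g⟩) → θ' ∈ c' := by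
    rintro g _ ⟨θ, hθ, rfl⟩ θ' hθ'
    refine ⟨conjIrrN H (g : K) θ, (hT _).1 g.2 θ hθ, ?_⟩
    apply Subtype.ext
    funext n
    rw [hθ']
    exact (congrFun (conjFun_liftN H hHT g θ) n).symm
  -- a covering block of `T` of largest defect
  let S : Finset (IrrCharacter T) := Finset.univ.filter fun ψ =>
    ∃ θ ∈ c', classInner (fun n : H.subgroupOf T => (ψ : T → ℂ) n) (θ : H.subgroupOf T → ℂ) ≠ 0
  have hS : S.Nonempty := by
    obtain ⟨ψ, hψ⟩ := exists_over (H.subgroupOf T) (liftN H hHT θ₀)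
    exact ⟨ψ, Finset.mem_filter.2 ⟨Finset.mem_univ _, _, Set.mem_image_of_mem _ hθ₀, hψ⟩⟩
  obtain ⟨ψ₀, hψ₀, hmax⟩ :=
    S.exists_max_image (fun ψ : IrrCharacter T => blockDefect p (blockOf M (ψ : T → ℂ))) hS
  obtain ⟨θc, hθc, hψθ⟩ := (Finset.mem_filter.1 hψ₀).2
  have hB' := isPBlock_blockOf (M := M) ψ₀
  obtain ⟨PT, hPT⟩ := exists_isDefectGroup hM hB'
  obtain ⟨-, -, hdef⟩ := Cfsg.Agent.S0970.result p M hM (H.subgroupOf T) c' hc' hinv
    (blockOf M (ψ₀ : T → ℂ)) hB' ⟨ψ₀, self_mem_blockOf ψ₀, θc, hθc, hψθ⟩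
    (fun B'' hB'' ⟨ψ, hψ, θ, hθ, hne⟩ => by
      rw [IsPBlock.eq_blockOf hB'' hψ]
      exact hmax ψ (Finset.mem_filter.2 ⟨Finset.mem_univ _, θ, hθ, hne⟩)) PT hPT
  rw [hdc] at hdef
  obtain ⟨θ₁, hθ₁, rfl⟩ := hθc
  rw [classInner_liftN] at hψθ
  have hcov : ∃ ψ ∈ blockOf M (ψ₀ : T → ℂ), ∃ θ ∈ c,
      classInner (resN H hHT (ψ : T → ℂ)) (θ : H → ℂ) ≠ 0 :=
    ⟨ψ₀, self_mem_blockOf ψ₀, θ₁, hθ₁, hψθ⟩
  have hind := isInducedBlock_indImage hHT hc hT hM hB' hcov
  obtain ⟨χ, hχ, hχψ⟩ := isIrrCharacter_indFun hHT hc hT hθ₁ hψθ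
  refine ⟨_, hind.2.1, ⟨χ, ⟨ψ₀, self_mem_blockOf ψ₀, hχ⟩, θ₁, hθ₁,
    over_of_constituent hHT hc hT hθ₁ hψθ hχψ⟩, ?_⟩
  have hmap : IsDefectGroup p M (indImage (blockOf M (ψ₀ : T → ℂ))) (PT.map T.subtype) :=
    (Cfsg.Agent.S4436.result p M hM H c hc T (fun g => (hT g).trans
      ⟨fun h θ hθ θ' he => by
          rw [show θ' = conjIrrN H g θ from Subtype.ext (funext he)]; exact h θ hθ,
        fun h θ hθ => h θ hθ _ fun _ => rfl⟩) hHT _ hB' hcov _ hind).1 PT hPT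
  have hPle : P ≤ PT.map T.subtype := by
    have h := le_of_isDefectGroup hM ((hP.of_equiv
      (Subgroup.subgroupOfEquivOfLe (hPH.trans hHT)).symm)) (Q := P.subgroupOf T) hB' hPT
    intro x hx
    exact ⟨⟨x, hHT (hPH hx)⟩, h (Subgroup.mem_subgroupOf.2 hx), rfl⟩
  have hcardP : Nat.card P = p ^ blockDefect p c := hcP
  have hcardT : Nat.card (PT.map T.subtype) =
      p ^ (blockDefect p c + (H.relIndex T).factorization p) := by
    rw [Subgroup.card_map_of_injective T.subtype_injective, IsDefectGroup.card_eq hM hB' hPT, hdef]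
    rfl
  constructor
  · intro hd hdvd
    obtain ⟨a, ha⟩ := IsDefectGroup.exists_map_conj_eq hM hind.2.1 hd hmap
    have h1 : Nat.card P = Nat.card (PT.map T.subtype) := by rw [← ha, card_map_conj]
    rw [hcardP, hcardT] at h1
    have h2 := Nat.pow_right_injective hM.1.two_le h1
    have h3 : 0 < (H.relIndex T).factorization p :=
      hM.1.factorization_pos_of_dvd Subgroup.index_ne_zero_of_finite hdvd
    omega
  · intro hnd
    rw [Nat.factorization_eq_zero_of_not_dvd hnd, add_zero, ← hcardP] at hcardT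
    rwa [Subgroup.eq_of_le_of_card_ge hPle hcardT.le]

end Cfsg.Agent.Lib.Blocks
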