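import Cfsg.Agent.Lib.Blocks.Principal
import Cfsg.Agent.Lib.Blocks.DefectZero
import Cfsg.Agent.Lib.Cores.PCore
import Mathlib.GroupTheory.Transfer
import Mathlib.GroupTheory.SpecificGroups.KleinFour

/-!
# The principal 2-block with a Klein four Sylow subgroup and one class of involutions
-/

set_option autoImplicit false
set_option linter.unusedSectionVars false
set_option linter.style.haveILetI false

namespace Cfsg.Agent.Lib.Blocks

open Cfsg Cfsg.Agent.Lib.Characters Cfsg.Agent.Lib.Cores
open scoped ComplexConjugate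

universe u

variable {G : Type u} [Group G] [Fintype G]

/-- A Klein four Sylow subgroup with an involution central in the group has a normal complement. -/
theorem exists_pow_index_pPrimeCore_of_klein {K : Type u} [Group K] [Fintype K] (Q : Sylow 2 K)
    (hQ : IsKleinFour (Q : Subgroup K)) {z : K} (hzQ : z ∈ (Q : Subgroup K)) (hz1 : z ≠ 1)
    (hzc : ∀ g : K, g * z = z * g) : ∃ k : ℕ, (pPrimeCore 2 K).index = 2 ^ k := by
  classical
  haveI : Fact (Nat.Prime 2) := ⟨Nat.prime_two⟩
  have hle : Subgroup.normalizer ((Q : Subgroup K) : Set K) ≤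
      Subgroup.centralizer ((Q : Subgroup K) : Set K) := by
    intro n hn
    have hconj : ∀ a ∈ (Q : Subgroup K), n * a * n⁻¹ ∈ (Q : Subgroup K) := fun a ha =>
      (Subgroup.mem_normalizer_iff.1 hn a).1 ha
    have hz : n * z * n⁻¹ = z := by rw [hzc n, mul_inv_cancel_right]
    -- n squared centralises Q
    have hsq : ∀ a ∈ (Q : Subgroup K), n * (n * a * n⁻¹) * n⁻¹ = a := by
      intro a ha
      by_cases ha1 : a = 1
      · simp [ha1]
      by_cases haz : a = z
      · rw [haz, hz, hz]
      have hinj : ∀ b c : K, n * b * n⁻¹ = n * c * n⁻¹ → b = c := fun b c h => by simpa using h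
      set b := n * a * n⁻¹
      have hb : b ∈ (Q : Subgroup K) := hconj a ha
      have hb1 : b ≠ 1 := fun h => ha1 (hinj a 1 (by rw [mul_one, mul_inv_cancel]; exact h))
      have hbz : b ≠ z := fun h => haz (hinj a z (by rw [hz]; exact h))
      by_cases hba : b = a
      · rw [hba]; exact hba
      · set c := n * b * n⁻¹
        have hc : c ∈ (Q : Subgroup K) := hconj b hb
        have hc1 : c ≠ 1 := fun h => hb1 (hinj b 1 (by rw [mul_one, mul_inv_cancel]; exact h))
        have hcz : c ≠ z := fun h => hbz (hinj b z (by rw [hz]; exact h))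
        have hcb : c ≠ b := fun h => hba (hinj b a h)
        have key : ∀ w : (Q : Subgroup K), w ≠ 1 → w ≠ ⟨z, hzQ⟩ → w ≠ ⟨b, hb⟩ →
            w = ⟨z, hzQ⟩ * ⟨b, hb⟩ := fun w h1 h2 h3 =>
          IsKleinFour.eq_mul_of_ne_all (x := (⟨z, hzQ⟩ : (Q : Subgroup K))) (y := ⟨b, hb⟩)
            (fun h => hz1 (congrArg Subtype.val h)) (fun h => hb1 (congrArg Subtype.val h))
            (fun h => hbz (congrArg Subtype.val h).symm) h1 h2 h3
        have e1 := key ⟨c, hc⟩ (fun h => hc1 (congrArg Subtype.val h))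
          (fun h => hcz (congrArg Subtype.val h)) (fun h => hcb (congrArg Subtype.val h))
        have e2 := key ⟨a, ha⟩ (fun h => ha1 (congrArg Subtype.val h))
          (fun h => haz (congrArg Subtype.val h)) (fun h => hba (congrArg Subtype.val h).symm)
        exact (congrArg Subtype.val e1).trans (congrArg Subtype.val e2).symm
    have hn2 : n ^ 2 ∈ Subgroup.centralizer ((Q : Subgroup K) : Set K) := by
      rw [mem_centralizer_subgroup_iff]
      intro a ha
      have h := hsq a ha
      have h' : n ^ 2 * a = a * n ^ 2 := by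
        conv_rhs => rw [← h]
        rw [pow_two]; group
      exact h'.symm
    obtain ⟨i, j, hj, hord⟩ := Nat.exists_eq_pow_mul_and_not_dvd (orderOf_pos n).ne' 2 (by decide)
    have hnjQ : n ^ j ∈ (Q : Subgroup K) := by
      have hjN : n ^ j ∈ Subgroup.normalizer ((Q : Subgroup K) : Set K) := pow_mem hn j
      have hp2 : IsPGroup 2 (Subgroup.zpowers (n ^ j)) :=
        isPGroup_zpowers_of_orderOf ((Nat.dvd_prime_pow Nat.prime_two).1
          (orderOf_dvd_of_pow_eq_one (n := 2 ^ i) (by
            rw [← pow_mul, mul_comm j, ← hord, pow_orderOf_eq_one])) |>.imp fun k h => h.2)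
      have hs := Q.3 (Q.2.to_sup_of_normal_left' hp2 (Subgroup.zpowers_le.2 hjN)) le_sup_left
      exact hs.le ((le_sup_right : Subgroup.zpowers (n ^ j) ≤ _) (Subgroup.mem_zpowers _))
    have hnjC : n ^ j ∈ Subgroup.centralizer ((Q : Subgroup K) : Set K) := by
      rw [mem_centralizer_subgroup_iff]
      intro a ha
      exact congrArg Subtype.val (IsKleinFour.isMulCommutative.is_comm.comm
        (⟨a, ha⟩ : (Q : Subgroup K)) ⟨n ^ j, hnjQ⟩)
    obtain ⟨l, hl⟩ := (Nat.odd_iff.2 (Nat.two_dvd_ne_zero.1 hj) : Odd j)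
    have : n = n ^ j * ((n ^ 2) ^ l)⁻¹ := by
      rw [hl, ← pow_mul, pow_succ, (Commute.pow_self n (2 * l)).eq, mul_inv_cancel_right]
    rw [this]
    exact mul_mem hnjC (inv_mem (pow_mem hn2 l))
  have hcomp := MonoidHom.ker_transferSylow_isComplement' Q hle
  set L := (MonoidHom.transferSylow Q hle).ker
  have hL : ¬ 2 ∣ Nat.card L := MonoidHom.not_dvd_card_ker_transferSylow Q hle
  have hLle : L ≤ pPrimeCore 2 K :=
    le_pPrimeCore (MonoidHom.normal_ker _) ((Nat.prime_two.coprime_iff_not_dvd.2 hL).symm)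
  have hidx : L.index = Nat.card (Q : Subgroup K) := hcomp.symm.index_eq_card
  obtain ⟨k, -, hk⟩ := (Nat.dvd_prime_pow Nat.prime_two (m := 2)).1
    ((Subgroup.index_dvd_of_le hLle).trans (by rw [hidx, IsKleinFour.card_four]; norm_num))
  exact ⟨k, hk⟩

/-- The sum of a character over a Klein four subgroup. -/
theorem four_dvd_degree_add (χ : IrrCharacter G) (P : Subgroup G) (hP : IsKleinFour P) {d v : ℤ}
    (hd : (χ : G → ℂ) 1 = (d : ℂ))
    (hv : ∀ x : G, orderOf x = 2 → (χ : G → ℂ) x = (v : ℂ)) : (4 : ℤ) ∣ d + 3 * v := by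
  classical
  haveI := Fintype.ofFinite P
  obtain ⟨k, hk⟩ := IsCharacter.exists_classInner_nat
    (IsCharacter.restrict (irr_isCharacter χ) P) (irr_isCharacter (trivIrr ↥P))
  refine ⟨k, ?_⟩
  have h4 : Fintype.card P = 4 := IsKleinFour.card_four' 
  have hsum : ∑ x : P, (χ : G → ℂ) (x : G) = (d : ℂ) + 3 * (v : ℂ) := by
    rw [← Finset.add_sum_erase _ _ (Finset.mem_univ (1 : P)), OneMemClass.coe_one, hd]
    congr 1
    rw [Finset.sum_congr (g := fun _ : P => (v : ℂ)) rfl fun (x : P) hx => hv (x : G) (by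
      rw [Subgroup.orderOf_coe]
      exact orderOf_eq_prime (by rw [pow_two]; exact IsKleinFour.mul_self x)
        (Finset.ne_of_mem_erase hx)), Finset.sum_const, Finset.card_erase_of_mem (Finset.mem_univ _),
      Finset.card_univ, h4]
    simp
  have h : (4 : ℂ) * (k : ℂ) = (d : ℂ) + 3 * (v : ℂ) := by
    rw [← hk, classInner]
    simp only [trivIrr_apply, map_one, mul_one]
    rw [hsum, Nat.card_eq_fintype_card, h4]
    ring
  exact_mod_cast h.symm

end Cfsg.Agent.Lib.Blocks
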