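import Cfsg.Agent.Lib.Blocks.RegFun

/-!
# Sums of coefficients over the `p`-elements

In characteristic `p` the sum of the coefficients of a group algebra element on the elements with
`x ^ q = 1`, raised to the power `q`, is the coefficient at `1` of the `q`-th power.
-/

set_option autoImplicit false
set_option linter.unusedSectionVars false
set_option linter.style.haveILetI false

namespace Cfsg.Agent.Lib.Blocks

open Cfsg Cfsg.Agent.Lib.Characters

universe u

variable {G : Type u} [Group G] [Fintype G] {M : Ideal AlgInt} [hMp : M.IsPrime] {p : ℕ}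

/-- Powers of convolution as sums over tuples. -/
theorem red_convPow (f : G → ℂ) (hf : ∀ x, MemLocalRing M (f x)) [DecidableEq G] :
    ∀ (n : ℕ) (y : G) (h : MemLocalRing M (convPow f n y)), red M ⟨convPow f n y, h⟩ =
      ∑ t : Fin n → G, if (List.ofFn t).prod = y then ∏ i, red M ⟨f (t i), hf _⟩ else 0 := by
  intro n
  induction n with
  | zero =>
    intro y h
    rw [Fintype.sum_unique]
    simp only [List.ofFn_zero, List.prod_nil, Finset.univ_eq_empty, Finset.prod_empty]
    split_ifs with hy
    · rw [← map_one (red M)]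
      refine congrArg (red M) (Subtype.ext ?_)
      show convPow f 0 y = 1
      rw [convPow, deltaOne_apply, if_pos hy.symm]
    · rw [← map_zero (red M)]
      refine congrArg (red M) (Subtype.ext ?_)
      show convPow f 0 y = 0
      rw [convPow, deltaOne_apply, if_neg fun hh => hy hh.symm]
  | succ n ih =>
    intro y h
    have hn : ∀ z, MemLocalRing M (convPow f n z) := by
      have : ∀ m z, MemLocalRing M (convPow f m z) := by
        intro m
        induction m with
        | zero =>
          intro z
          rw [convPow, deltaOne_apply]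
          split_ifs
          exacts [memLocalRing_one, memLocalRing_zero]
        | succ m ihm =>
          intro z
          rw [convPow]
          exact memLocalRing_sum _ fun x _ => memLocalRing_mul (hf x) (ihm _)
      exact this n
    have hsum : (⟨convPow f (n + 1) y, h⟩ : locSubring M) =
        ∑ x : G, ⟨f x, hf x⟩ * ⟨convPow f n (x⁻¹ * y), hn _⟩ := by
      refine Subtype.ext ?_
      rw [AddSubmonoidClass.coe_finsetSum]
      rfl
    rw [hsum, map_sum, ← (Fin.consEquiv fun _ => G).sum_comp, Fintype.sum_prod_type]
    refine Finset.sum_congr rfl fun x _ => ?_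
    rw [map_mul, ih, Finset.mul_sum]
    refine Finset.sum_congr rfl fun t _ => ?_
    have e : (List.ofFn ((Fin.consEquiv fun _ : Fin (n + 1) => G) (x, t))).prod =
        x * (List.ofFn t).prod := by
      simp [Fin.consEquiv, List.ofFn_succ]
    simp only [e]
    simp only [Fin.consEquiv_apply, Fin.prod_univ_succ, Fin.cons_zero, Fin.cons_succ,
      eq_inv_mul_iff_mul_eq, mul_ite, mul_zero]

open Fin.NatCast in
/-- The coefficient at `1` of a `q`-th power in characteristic `p`. -/
theorem red_convPow_prime_pow (hM : IsPModular p M) (f : G → ℂ) (hf : ∀ x, MemLocalRing M (f x))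
    (m : ℕ) (h : MemLocalRing M (convPow f (p ^ m) 1)) [DecidableEq G] :
    red M ⟨convPow f (p ^ m) 1, h⟩ =
      (∑ x : G, if x ^ (p ^ m) = 1 then red M ⟨f x, hf x⟩ else 0) ^ (p ^ m) := by
  classical
  haveI := Fact.mk hM.1
  haveI := resField_charP (M := M) hM
  obtain ⟨q, hq⟩ : ∃ q, p ^ m = q + 1 :=
    ⟨p ^ m - 1, (Nat.sub_add_cancel (Nat.one_le_pow _ _ hM.1.pos)).symm⟩
  let F : (Fin (p ^ m) → G) → ResField M := fun t =>
    if (List.ofFn t).prod = 1 then ∏ i, red M ⟨f (t i), hf _⟩ else 0
  let c : G → Fin (p ^ m) → G := fun x _ => x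
  have hNZ : NeZero (p ^ m) := ⟨(pow_pos hM.1.pos m).ne'⟩
  let v : Equiv.Perm (Fin (p ^ m) → G) :=
    Equiv.arrowCongr (Equiv.addRight (1 : Fin (p ^ m))).symm (Equiv.refl G)
  have hv : ∀ t i, v t i = t (i + 1) := fun t i => rfl
  have hvpow : ∀ (k : ℕ) t i, (v ^ k) t i = t (i + (k : Fin (p ^ m))) := by
    intro k
    induction k with
    | zero => intro t i; simp
    | succ k ih =>
      intro t i
      rw [pow_succ', Equiv.Perm.mul_apply, hv, ih, Nat.cast_succ, add_assoc, add_comm (1 : Fin _)]
  have hvone : v ^ p ^ m = 1 := by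
    refine Equiv.ext fun t => funext fun i => ?_
    rw [hvpow, Fin.natCast_self, add_zero]
    rfl
  have hFv : ∀ t, F (v t) = F t := by
    have key : ∀ (N : ℕ) (t : Fin (N + 1) → G),
        ((List.ofFn fun i => t (i + 1)).prod = 1 ↔ (List.ofFn t).prod = 1) := by
      intro N t
      rw [List.ofFn_succ', List.concat_eq_append, List.prod_append, List.prod_singleton,
        List.ofFn_succ, List.prod_cons]
      simp only [Fin.coeSucc_eq_succ, Fin.last_add_one]
      exact mul_eq_one_iff_eq_inv.trans
        (by rw [mul_eq_one_iff_inv_eq]; exact ⟨fun h => h.symm, fun h => h.symm⟩)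
    intro t
    have h1 : (List.ofFn (v t)).prod = 1 ↔ (List.ofFn t).prod = 1 := by
      have : ∀ (n N : ℕ) (hn : n = N + 1) [NeZero n] (t : Fin n → G),
          ((List.ofFn fun i => t (i + 1)).prod = 1 ↔ (List.ofFn t).prod = 1) := by
        intro n N hn _ t
        subst hn
        exact key N t
      exact this _ q hq t
    have h2 : ∏ i, red M (⟨f (v t i), hf _⟩ : locSubring M) = ∏ i, red M ⟨f (t i), hf _⟩ :=
      Equiv.prod_comp (Equiv.addRight (1 : Fin (p ^ m))) fun i => red M ⟨f (t i), hf _⟩
    simp only [F, h1, h2]
  let F' : (Fin (p ^ m) → G) → ResField M := fun t => if v t = t then 0 else F t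
  have hF' : ∑ t, F' t = 0 := by
    refine sum_eq_zero_of_perm_invariant p v m hvone F' (fun t => ?_) (fun t ht => if_pos ht)
    by_cases ht : v t = t
    · rw [ht]
    · simp only [F', if_neg ht, if_neg fun hh => ht (v.injective hh), hFv]
  have hconst : ∀ t, v t = t ↔ ∃ x, t = c x := by
    intro t
    refine ⟨fun ht => ⟨t 0, funext fun i => ?_⟩, ?_⟩
    · have := congrFun (show (v ^ (i : ℕ)) t = t by
        induction (i : ℕ) with
        | zero => rfl
        | succ k ih => rw [pow_succ, Equiv.Perm.mul_apply, ht, ih]) 0
      rw [hvpow, zero_add, Fin.cast_val_eq_self] at this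
      exact this
    · rintro ⟨x, rfl⟩
      exact funext fun i => hv _ i
  have hcinj : Function.Injective c := fun x y hxy => congrFun hxy 0
  have hsplit : ∑ t, F t = ∑ t, F' t + ∑ t ∈ Finset.univ.image c, F t := by
    rw [show Finset.univ.image c = Finset.univ.filter fun t => v t = t by
      ext t; simp [hconst, eq_comm], Finset.sum_filter, ← Finset.sum_add_distrib]
    refine Finset.sum_congr rfl fun t _ => ?_
    simp only [F']
    split_ifs <;> simp
  rw [red_convPow f hf (p ^ m) 1 h, show (∑ t, if (List.ofFn t).prod = 1 then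
    ∏ i, red M (⟨f (t i), hf _⟩ : locSubring M) else 0) = ∑ t, F t from rfl, hsplit, hF', zero_add,
    Finset.sum_image (fun x _ y _ => fun h => hcinj h), sum_pow_char_pow]
  refine Finset.sum_congr rfl fun x _ => ?_
  have hp0 : ((List.ofFn (c x)).prod : G) = x ^ (p ^ m) := by simp [c, List.ofFn_const]
  simp only [F, hp0, c, Finset.prod_const, Finset.card_univ, Fintype.card_fin]
  split_ifs
  · rfl
  · rw [zero_pow (pow_pos hM.1.pos m).ne']

/-- Powers of a translated central function. -/
theorem convPow_translate {z : G → ℂ} (hz : IsClassFunction G z) (g : G) :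
    ∀ (n : ℕ) (x : G), convPow (fun w => z (w * g)) n x = convPow z n (x * g ^ n) := by
  intro n
  induction n with
  | zero => intro x; rw [pow_zero, mul_one]; rfl
  | succ n ih =>
    intro x
    have hzn : IsClassFunction G (convPow z n) := by
      clear ih
      induction n with
      | zero => exact isClassFunction_deltaOne
      | succ n ihn => exact isClassFunction_conv hz ihn
    rw [convPow, convPow]
    simp only [conv, ih]
    refine Fintype.sum_equiv (Equiv.mulRight g) _ _ fun y => ?_
    simp only [Equiv.coe_mulRight]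
    congr 1
    rw [pow_succ, mul_inv_rev, mul_assoc g⁻¹, classFunction_mul_comm hzn g⁻¹]
    simp [mul_assoc]

end Cfsg.Agent.Lib.Blocks
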