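import Cfsg.Agent.Lib.Blocks.Valuation
import Cfsg.Agent.Lib.Characters.Realizable
import Mathlib.LinearAlgebra.Matrix.ToLinearEquiv
import Mathlib.LinearAlgebra.Matrix.Charpoly.Eigs
import Mathlib.RingTheory.Artinian.Module

/-!
# A local model of an irreducible character with an indecomposable reduction
-/

set_option autoImplicit false
set_option linter.unusedSectionVars false
set_option linter.style.haveILetI false

namespace Cfsg.Agent.Lib.Blocks

open Cfsg Cfsg.Agent.Lib.Characters Matrix Polynomial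

universe u

variable {G : Type u} [Group G] {M : Ideal AlgInt} [hMp : M.IsPrime] {p : ℕ}

/-- Every commuting endomorphism is invertible or nilpotent. -/
def LocalEnd {k : Type*} [Field k] {V : Type*} [AddCommGroup V] [Module k V]
    (ρ : G →* Module.End k V) : Prop :=
  ∀ Φ : Module.End k V, (∀ g, Commute Φ (ρ g)) → IsUnit Φ ∨ IsNilpotent Φ

/-- The reduction of a local matrix representation. -/
noncomputable def redModel {n : ℕ} (σ : G →* Matrix (Fin n) (Fin n) (locSubring M)) :
    G →* Module.End (ResField M) (Fin n → ResField M) :=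
  (Matrix.toLinAlgEquiv' (R := ResField M) (n := Fin n)).toMonoidHom.comp
    ((red M).mapMatrix.toMonoidHom.comp σ)

theorem redModel_apply {n : ℕ} (σ : G →* Matrix (Fin n) (Fin n) (locSubring M)) (g : G)
    (x : Fin n → ResField M) : redModel σ g x = (σ g).map (red M) *ᵥ x := rfl

theorem isAlgebraic_of_memLocalRing {z : ℂ} (h : MemLocalRing M z) : IsAlgebraic ℤ z := by
  obtain ⟨a, b, -, rfl⟩ := h
  exact (a.2.isAlgebraic).mul (b.2.isAlgebraic.inv)

theorem isAlgebraic_sum' {ι : Type*} (s : Finset ι) {f : ι → ℂ}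
    (hf : ∀ i ∈ s, IsAlgebraic ℤ (f i)) : IsAlgebraic ℤ (∑ i ∈ s, f i) :=
  Finset.sum_induction f (fun z => IsAlgebraic ℤ z) (fun _ _ ha hb => ha.add hb) isAlgebraic_zero hf

theorem isAlgebraic_det {n : ℕ} {A : Matrix (Fin n) (Fin n) ℂ}
    (hA : ∀ i j, IsAlgebraic ℤ (A i j)) : IsAlgebraic ℤ A.det := by
  rw [Matrix.det_apply']
  refine isAlgebraic_sum' _ fun e _ => IsAlgebraic.mul ?_ ?_
  · exact (isAlgebraic_int (R := ℤ) (A := ℂ) _)
  · exact Finset.prod_induction _ (fun z => IsAlgebraic ℤ z) (fun _ _ ha hb => ha.mul hb)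
      isAlgebraic_one fun i _ => hA _ _

/-- A stable finite spanning family of algebraic vectors gives a model over the local ring. -/
theorem exists_lattice (hM : IsPModular p M) {n : ℕ} (ρ : G →* Matrix (Fin n) (Fin n) ℂ)
    {ι : Type*} [Fintype ι] (v : ι → Fin n → ℂ) (hv : ∀ i a, IsAlgebraic ℤ (v i a))
    (hstab : ∀ g i, ∃ j, ρ g *ᵥ v i = v j)
    (hspan : ∃ s : Fin n → ι, (Matrix.of fun a b => v (s b) a).det ≠ 0) :
    ∃ (s : Fin n → ι) (σ : G →* Matrix (Fin n) (Fin n) (locSubring M)),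
      (Matrix.of fun a b => v (s b) a).det ≠ 0 ∧
      (∀ g, (Matrix.of fun a b => v (s b) a) * (σ g).map (locSubring M).subtype =
        ρ g * Matrix.of fun a b => v (s b) a) ∧
      ∀ i, ∃ c : Fin n → locSubring M,
        (Matrix.of fun a b => v (s b) a) *ᵥ (fun b => (c b : ℂ)) = v i := by
  classical
  let f : (Fin n → ι) → ℂ := fun s => (Matrix.of fun a b => v (s b) a).det
  obtain ⟨s, hs, hloc⟩ := exists_scaling hM f (fun s => isAlgebraic_det fun a b => hv _ _) hspan
  set B : Matrix (Fin n) (Fin n) ℂ := Matrix.of fun a b => v (s b) a with hB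
  have hdet : B.det = f s := rfl
  have hc : ∀ i, ∃ c : Fin n → locSubring M, B *ᵥ (fun b => (c b : ℂ)) = v i := by
    intro i
    refine ⟨fun b => ⟨(f s)⁻¹ * f (Function.update s b i), hloc _⟩, ?_⟩
    have he : (fun b => (f s)⁻¹ * f (Function.update s b i)) = (f s)⁻¹ • B.cramer (v i) := by
      funext b
      rw [Pi.smul_apply, smul_eq_mul, Matrix.cramer_apply]
      refine congrArg _ (congrArg Matrix.det ?_)
      ext a b'
      rw [Matrix.updateCol_apply]
      by_cases h : b' = b
      · subst h; simp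
      · simp [h, hB]
    show B *ᵥ (fun b => (f s)⁻¹ * f (Function.update s b i)) = v i
    rw [he, Matrix.mulVec_smul, Matrix.mulVec_cramer, hdet, smul_smul, inv_mul_cancel₀ hs, one_smul]
  refine ⟨s, ?_⟩
  choose J hJ using hstab
  choose C hC using hc
  let S : G → Matrix (Fin n) (Fin n) (locSubring M) := fun g => Matrix.of fun a b => C (J g (s b)) a
  have hS : ∀ g, B * (S g).map (locSubring M).subtype = ρ g * B := by
    intro g
    ext a b
    have h := congrFun (hC (J g (s b))) a
    rw [← hJ g (s b)] at h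
    simp only [Matrix.mulVec, dotProduct, Matrix.mul_apply, Matrix.map_apply] at h ⊢
    exact h
  have hinj : ∀ A A' : Matrix (Fin n) (Fin n) (locSubring M),
      B * A.map (locSubring M).subtype = B * A'.map (locSubring M).subtype → A = A' := by
    intro A A' h
    have h2 := congrArg (B⁻¹ * ·) h
    simp only [← mul_assoc, Matrix.nonsing_inv_mul B (isUnit_iff_ne_zero.2 hs), one_mul] at h2
    ext a b
    exact congrFun (congrFun h2 a) b
  refine ⟨{ toFun := S
            map_one' := hinj _ _ ?_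
            map_mul' := fun g h => hinj _ _ ?_ }, hs, hS, fun i => ⟨C i, hC i⟩⟩
  · rw [hS, map_one, one_mul, Matrix.map_one _ (map_zero _) (map_one _), mul_one]
  · rw [hS, Matrix.map_mul, ← mul_assoc, hS, mul_assoc, hS, map_mul, mul_assoc]

theorem trace_of_conjugate {n : ℕ} {A A' B : Matrix (Fin n) (Fin n) ℂ} (hB : B.det ≠ 0)
    (h : B * A' = A * B) : A'.trace = A.trace := by
  calc A'.trace = (B⁻¹ * (B * A')).trace := by
        rw [← mul_assoc, Matrix.nonsing_inv_mul B (isUnit_iff_ne_zero.2 hB), one_mul]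
    _ = (B * A' * B⁻¹).trace := Matrix.trace_mul_comm _ _
    _ = A.trace := by rw [h, mul_assoc, Matrix.mul_nonsing_inv B (isUnit_iff_ne_zero.2 hB), mul_one]

/-- An irreducible character has a matrix model over the local ring. -/
theorem exists_model [Finite G] (hM : IsPModular p M) {χ : G → ℂ} (hχ : IsIrrCharacter G χ) :
    ∃ (n : ℕ) (σ : G →* Matrix (Fin n) (Fin n) (locSubring M)),
      ∀ g, ((σ g).map (locSubring M).subtype).trace = χ g := by
  classical
  haveI := Fintype.ofFinite G
  obtain ⟨n, ρ₀, -, rfl⟩ := hχ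
  obtain ⟨ρ, ⟨φ⟩, hent⟩ := exists_realization ρ₀
  have hm : 0 < Monoid.exponent G := Nat.pos_of_ne_zero Monoid.exponent_ne_zero_of_finite
  have halg : ∀ g i j, IsAlgebraic ℤ (LinearMap.toMatrix' (ρ g) i j) := by
    intro g i j
    have hζ : IsIntegral ℚ (Complex.exp (2 * Real.pi * Complex.I / (Monoid.exponent G : ℂ))) :=
      IsIntegral.of_pow hm
        (by rw [(Complex.isPrimitiveRoot_exp _ hm.ne').pow_eq_one]; exact isIntegral_one)
    have h : IsIntegral ℚ (LinearMap.toMatrix' (ρ g) i j) := by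
      refine (Algebra.adjoin_le ?_ : _ ≤ integralClosure ℚ ℂ) (hent g i j)
      exact Set.singleton_subset_iff.2 hζ
    exact (IsFractionRing.isAlgebraic_iff ℤ ℚ ℂ).2 h.isAlgebraic
  let R : G →* Matrix (Fin n) (Fin n) ℂ :=
    (LinearMap.toMatrixAlgEquiv' (R := ℂ) (n := Fin n)).toMonoidHom.comp ρ
  obtain ⟨s, σ, hs, hσ, -⟩ := exists_lattice hM R (fun gj : G × Fin n => fun a => R gj.1 a gj.2)
    (fun gj a => halg gj.1 a gj.2) (fun g gj => ⟨(g * gj.1, gj.2), by
      funext a
      rw [map_mul, Matrix.mul_apply]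
      rfl⟩)
    ⟨fun b => (1, b), by
      rw [show (Matrix.of fun a b => R (1, b).1 a (1, b).2) = (1 : Matrix (Fin n) (Fin n) ℂ) by
        ext a b; simp only [map_one]; rfl, Matrix.det_one]
      exact one_ne_zero⟩
  refine ⟨n, σ, fun g => ?_⟩
  rw [trace_of_conjugate hs (hσ g)]
  have h : ρ₀.character = ρ.character := Representation.char_iso φ
  rw [h]
  exact (LinearMap.trace_eq_matrix_trace ℂ (Pi.basisFun ℂ (Fin n)) (ρ g)).symm

theorem exists_corner_idempotent {k A : Type*} [Field k] [Ring A] [Algebra k A]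
    [FiniteDimensional k A] {B : Type*} [Ring B] [Nontrivial B] (π : A →+* B) :
    ∃ f : A, f * f = f ∧ π f ≠ 0 ∧
      ∀ b : A, f * b = b → b * f = b →
        (∃ c, c * b = f ∧ b * c = f) ∨ ∃ N : ℕ, b ^ N * f = 0 := by
  classical
  let cor : A → Submodule k A := fun f =>
    LinearMap.range (LinearMap.mulLeftRight k (f, f))
  have hex : ∃ d : ℕ, ∃ f : A, f * f = f ∧ π f ≠ 0 ∧ Module.finrank k (cor f) = d :=
    ⟨_, 1, one_mul 1, by rw [map_one]; exact one_ne_zero, rfl⟩
  obtain ⟨f, hff, hf0, hfd⟩ := Nat.find_spec hex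
  have hmin : ∀ g : A, g * g = g → f * g = g → g * f = g → π g ≠ 0 → g = f := by
    intro g hgg hfg hgf hg0
    have hle : cor g ≤ cor f := by
      rintro _ ⟨a, rfl⟩
      refine ⟨g * a * g, ?_⟩
      simp only [LinearMap.mulLeftRight_apply]
      rw [← mul_assoc, ← mul_assoc, hfg, mul_assoc (g * a) g f, hgf]
    have heq : cor g = cor f := Submodule.eq_of_le_of_finrank_le hle
      (hfd ▸ Nat.find_min' hex ⟨g, hgg, hg0, rfl⟩)
    obtain ⟨a, ha⟩ : f ∈ cor g := heq ▸ ⟨f, by
      simp only [LinearMap.mulLeftRight_apply]; rw [hff, hff]⟩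
    simp only [LinearMap.mulLeftRight_apply] at ha
    have h1 : g * f = f := by rw [← ha, ← mul_assoc, ← mul_assoc, hgg]
    rw [← hgf, h1]
  refine ⟨f, hff, hf0, fun b hfb hbf => ?_⟩
  set b' := b + (1 - f) with hb'
  have hb'f : b' * f = b := by rw [hb', add_mul, hbf, sub_mul, one_mul, hff, sub_self, add_zero]
  have hfb' : f * b' = b := by rw [hb', mul_add, hfb, mul_sub, mul_one, hff, sub_self, add_zero]
  let L : Module.End k A := LinearMap.mulLeft k b'
  by_cases hinj : Function.Injective L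
  · obtain ⟨d, hd⟩ := (LinearMap.injective_iff_surjective.1 hinj) (1 : A)
    have hd2 : d * b' = 1 := hinj (show b' * (d * b') = b' * 1 by
      rw [← mul_assoc, show b' * d = 1 from hd, one_mul, mul_one])
    refine Or.inl ⟨f * d * f, ?_, ?_⟩
    · calc f * d * f * b = f * d * b := by rw [mul_assoc (f * d), hfb]
        _ = f * d * (b' * f) := by rw [hb'f]
        _ = f * (d * b') * f := by noncomm_ring
        _ = f := by rw [hd2, mul_one, hff]
    · calc b * (f * d * f) = b * d * f := by rw [← mul_assoc, ← mul_assoc, hbf]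
        _ = f * (b' * d) * f := by rw [← hfb']; noncomm_ring
        _ = f := by rw [show b' * d = 1 from hd, mul_one, hff]
  right
  obtain ⟨N₀, hN₀⟩ := Filter.eventually_atTop.1 L.eventually_isCompl_ker_pow_range_pow
  obtain ⟨N, hN, hN1⟩ : ∃ N, N₀ ≤ N ∧ 1 ≤ N := ⟨N₀ + 1, by omega, by omega⟩
  have hc := hN₀ N hN
  have hLN : ∀ a, (L ^ N) a = b' ^ N * a := fun a => by
    rw [LinearMap.pow_mulLeft]; rfl
  obtain ⟨g0, hg0, g1, hg1, hsum⟩ := Submodule.mem_sup.1
    (hc.sup_eq_top ▸ Submodule.mem_top (x := (1 : A)))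
  have huniq : ∀ x x' y y' : A, x ∈ LinearMap.ker (L ^ N) → x' ∈ LinearMap.ker (L ^ N) →
      y ∈ LinearMap.range (L ^ N) → y' ∈ LinearMap.range (L ^ N) → x + y = x' + y' →
      x = x' ∧ y = y' := by
    intro x x' y y' hx hx' hy hy' h
    have h1 : x - x' = y' - y := sub_eq_sub_iff_add_eq_add.2 (h.trans (add_comm _ _))
    have h2 := Submodule.disjoint_def.1 hc.disjoint (x - x') (sub_mem hx hx')
      (h1 ▸ sub_mem hy' hy)
    rw [h2] at h1
    exact ⟨sub_eq_zero.1 h2, (sub_eq_zero.1 h1.symm).symm⟩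
  have hkr : ∀ x ∈ LinearMap.ker (L ^ N), ∀ a, x * a ∈ LinearMap.ker (L ^ N) := by
    intro x hx a
    rw [LinearMap.mem_ker, hLN] at hx ⊢
    rw [← mul_assoc, hx, zero_mul]
  have hrr : ∀ x ∈ LinearMap.range (L ^ N), ∀ a, x * a ∈ LinearMap.range (L ^ N) := by
    rintro _ ⟨y, rfl⟩ a
    exact ⟨y * a, by rw [hLN, hLN, mul_assoc]⟩
  have hcomm : Commute f (b' ^ N) := Commute.pow_right (hfb'.trans hb'f.symm) N
  have hkl : ∀ x ∈ LinearMap.ker (L ^ N), f * x ∈ LinearMap.ker (L ^ N) := by
    intro x hx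
    rw [LinearMap.mem_ker, hLN] at hx ⊢
    rw [← mul_assoc, ← hcomm.eq, mul_assoc, hx, mul_zero]
  have hrl : ∀ x ∈ LinearMap.range (L ^ N), f * x ∈ LinearMap.range (L ^ N) := by
    rintro _ ⟨y, rfl⟩
    exact ⟨f * y, by rw [hLN, hLN, ← mul_assoc, ← hcomm.eq, mul_assoc]⟩
  obtain ⟨hfg0, hfg1⟩ := huniq _ _ _ _ (hkl g0 hg0) (hkr g0 hg0 f) (hrl g1 hg1) (hrr g1 hg1 f)
    (by rw [← mul_add, ← add_mul, hsum, mul_one, one_mul])
  obtain ⟨-, h11⟩ := huniq 0 (g0 * g1) g1 (g1 * g1) (zero_mem _) (hkr g0 hg0 g1) hg1 (hrr g1 hg1 g1)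
    (by rw [← add_mul, hsum, one_mul, zero_add])
  obtain ⟨h00, -⟩ := huniq g0 (g0 * g0) 0 (g1 * g0) hg0 (hkr g0 hg0 g0) (zero_mem _) (hrr g1 hg1 g0)
    (by rw [← add_mul, hsum, one_mul, add_zero])
  have key : ∀ g : A, g * g = g → f * g = g * f →
      (f * g) * (f * g) = f * g ∧ f * (f * g) = f * g ∧ (f * g) * f = f * g := by
    intro g hg hfg
    have e1 : f * (f * g) = f * g := by rw [← mul_assoc, hff]
    have e2 : (f * g) * f = f * g := by rw [mul_assoc, ← hfg, e1]
    exact ⟨by rw [← mul_assoc (f * g) f g, e2, mul_assoc, hg], e1, e2⟩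
  have hg1z : π (f * g1) = 0 := by
    by_contra h
    obtain ⟨a1, a2, a3⟩ := key g1 h11.symm hfg1
    have hf1 := hmin _ a1 a2 a3 h
    apply hinj
    have h1r : (1 : A) ∈ LinearMap.range (L ^ N) := by
      have hfr : f ∈ LinearMap.range (L ^ N) := hf1 ▸ hrl g1 hg1
      have hpow : ∀ m : ℕ, b' ^ m * (1 - f) = 1 - f := by
        intro m
        induction m with
        | zero => rw [pow_zero, one_mul]
        | succ m ih =>
          rw [pow_succ, mul_assoc, show b' * (1 - f) = 1 - f by
            rw [mul_sub, mul_one, hb'f, hb', add_sub_cancel_left], ih]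
      have h1f : 1 - f ∈ LinearMap.range (L ^ N) := ⟨1 - f, by rw [hLN]; exact hpow N⟩
      simpa using add_mem hfr h1f
    obtain ⟨y, hy⟩ := h1r
    rw [hLN] at hy
    refine LinearMap.injective_iff_surjective.2 fun a => ⟨b' ^ (N - 1) * y * a, ?_⟩
    show b' * (b' ^ (N - 1) * y * a) = a
    rw [← mul_assoc, ← mul_assoc, ← pow_succ', Nat.sub_add_cancel hN1, hy, one_mul]
  have hg0f : f * g0 = f := by
    obtain ⟨a1, a2, a3⟩ := key g0 h00.symm hfg0
    refine hmin _ a1 a2 a3 fun h => hf0 ?_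
    rw [← mul_one f, ← hsum, mul_add, map_add, h, hg1z, add_zero]
  refine ⟨N, ?_⟩
  have hz : b' ^ N * f = 0 := by
    have h := LinearMap.mem_ker.1 (hkl g0 hg0)
    rwa [hg0f, hLN] at h
  have hbN : ∀ m : ℕ, b ^ m * f = b' ^ m * f := by
    intro m
    induction m with
    | zero => simp
    | succ m ih =>
      rw [pow_succ, pow_succ, mul_assoc, mul_assoc, hbf, hb'f]
      calc b ^ m * b = b ^ m * f * b := by rw [mul_assoc, hfb]
        _ = b' ^ m * b := by rw [ih, mul_assoc, hfb]
  rw [hbN, hz]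

/-- An irreducible character has a local model whose reduction has local endomorphism ring. -/
theorem exists_localEnd_model [Finite G] (hM : IsPModular p M) {χ : G → ℂ}
    (hχ : IsIrrCharacter G χ) :
    ∃ (n : ℕ) (σ : G →* Matrix (Fin n) (Fin n) (locSubring M)),
      (∀ g, ((σ g).map (locSubring M).subtype).trace = χ g) ∧ LocalEnd (redModel σ) := by
  classical
  haveI := Fintype.ofFinite G
  obtain ⟨n, σ₀, hσ₀⟩ := exists_model (M := M) hM hχ
  let ι := (locSubring M).subtype
  let R : G →* Matrix (Fin n) (Fin n) ℂ := ι.mapMatrix.toMonoidHom.comp σ₀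
  let r : Representation ℂ G (Fin n → ℂ) :=
    (Matrix.toLinAlgEquiv' (R := ℂ) (n := Fin n)).toMonoidHom.comp R
  have hirr : r.IsIrreducible := by
    obtain ⟨m, ρ, hρ, hρχ⟩ := hχ
    have : ρ.character = r.character := by
      rw [hρχ]; funext g
      rw [← hσ₀ g]
      exact (Matrix.trace_toLin'_eq _).symm
    obtain ⟨φ⟩ := nonempty_equiv_of_character_eq ρ r this
    exact isIrreducible_of_equiv φ
  have hn : 0 < n := by simpa using finrank_pos_of_isIrreducible r
  let k := ResField M
  haveI : Nonempty (Fin n) := ⟨⟨0, hn⟩⟩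
  let Λ := MonoidAlgebra.lift k (Matrix (Fin n) (Fin n) k) G ((red M).mapMatrix.toMonoidHom.comp σ₀)
  obtain ⟨f, hff, hf0, hcorner⟩ := exists_corner_idempotent (k := k) (A := MonoidAlgebra k G) Λ.toRingHom
  choose a ha using fun g : G => red_surjective (M := M) (f.coeff g)
  let T : Matrix (Fin n) (Fin n) (locSubring M) := ∑ g : G, a g • σ₀ g
  have hTred : T.map (red M) = Λ f := by
    have h1 : Λ f = ∑ g : G, (f.coeff g) • ((σ₀ g).map (red M)) := by
      rw [MonoidAlgebra.lift_apply, Finsupp.sum_fintype _ _ (fun i => by simp)]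
      rfl
    rw [h1]
    ext i j
    simp only [T, Matrix.map_apply, Matrix.sum_apply, Matrix.smul_apply, map_sum, smul_eq_mul,
      map_mul, ha]
  -- a root of the characteristic polynomial congruent to one
  have hroot : ∃ z : locSubring M, red M z = 1 ∧ (T.map ι - (z : ℂ) • 1).det = 0 := by
    obtain ⟨w, hw, hw1⟩ : ∃ w : Fin n → k, w ≠ 0 ∧ Λ f *ᵥ w = w := by
      obtain ⟨j, hj⟩ : ∃ j, (fun i => Λ f i j) ≠ 0 := by
        by_contra h
        push Not at h
        exact hf0 (by ext i j; exact congrFun (h j) i)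
      refine ⟨_, hj, funext fun i => ?_⟩
      have h := congrFun (congrFun (by rw [← map_mul, hff] : Λ f * Λ f = Λ f) i) j
      exact h
    have hev : (Λ f).charpoly.IsRoot 1 := by
      rw [← hTred, IsRoot, Matrix.eval_charpoly]
      rw [← Matrix.exists_mulVec_eq_zero_iff]
      refine ⟨w, hw, ?_⟩
      rw [Matrix.sub_mulVec, hTred, hw1]
      simp
    set P := (T.map ι).charpoly with hP
    have hsplit : P = (P.roots.map fun z => X - C z).prod :=
      (IsAlgClosed.splits P).eq_prod_roots_of_monic (Matrix.charpoly_monic _)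
    have hmem : ∀ z ∈ P.roots, MemLocalRing M z := by
      intro z hz
      refine memLocalRing_of_isIntegral_locSubring ⟨T.charpoly, Matrix.charpoly_monic _, ?_⟩
      rw [eval₂_eq_eval_map, ← Matrix.charpoly_map]
      exact (mem_roots'.1 hz).2
    obtain ⟨m, hm⟩ : ∃ m : Multiset (locSubring M), P.roots = m.map ι := by
      refine ⟨P.roots.pmap (fun z hz => (⟨z, hz⟩ : locSubring M)) hmem, ?_⟩
      refine ((Multiset.map_pmap (fun x : locSubring M => ι x)
        (fun z (hz : MemLocalRing M z) => (⟨z, hz⟩ : locSubring M)) P.roots hmem).trans ?_).symm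
      exact (Multiset.pmap_eq_map _ _ _ _).trans (Multiset.map_id' _)
    have hTc : T.charpoly = (m.map fun z => X - C z).prod := by
      apply Polynomial.map_injective ι (fun x y h => Subtype.ext h)
      rw [← Matrix.charpoly_map, ← hP, hsplit, hm, Polynomial.map_multiset_prod, Multiset.map_map,
        Multiset.map_map]
      simp
    rw [← hTred, Matrix.charpoly_map, hTc, Polynomial.map_multiset_prod, IsRoot, eval_multiset_prod,
      Multiset.map_map, Multiset.map_map, Multiset.prod_eq_zero_iff, Multiset.mem_map] at hev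
    obtain ⟨z, hz, hz1⟩ := hev
    simp only [Function.comp_apply, Polynomial.map_sub, map_X, map_C, eval_sub, eval_X, eval_C,
      sub_eq_zero] at hz1
    refine ⟨z, hz1.symm, ?_⟩
    have hzr : (z : ℂ) ∈ P.roots := hm ▸ Multiset.mem_map_of_mem _ hz
    have h := (mem_roots'.1 hzr).2
    rw [IsRoot, hP, Matrix.eval_charpoly] at h
    rw [show T.map ι - (z : ℂ) • (1 : Matrix (Fin n) (Fin n) ℂ) =
      -(Matrix.scalar (Fin n) (z : ℂ) - T.map ι) by
        rw [neg_sub, Matrix.scalar_apply, ← Matrix.smul_one_eq_diagonal], Matrix.det_neg, h, mul_zero]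
  obtain ⟨z, hz1, hz0⟩ := hroot
  obtain ⟨x₀, hx₀, hx₀z⟩ : ∃ x₀ : Fin n → locSubring M, x₀ ≠ 0 ∧
      (T - Matrix.scalar (Fin n) z) *ᵥ x₀ = 0 := by
    rw [Matrix.exists_mulVec_eq_zero_iff]
    apply Subtype.ext
    refine (RingHom.map_det ι _).trans (Eq.trans ?_ hz0)
    congr 1
    ext i j
    by_cases hij : i = j <;> simp [Matrix.scalar_apply, hij, ι]
  let y : Fin n → ℂ := fun i => (x₀ i : ℂ)
  let v : G → Fin n → ℂ := fun g => R g *ᵥ y
  have hy : y ≠ 0 := fun h => hx₀ (funext fun i => Subtype.ext (congrFun h i))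
  have hvalg : ∀ g i, IsAlgebraic ℤ (v g i) := fun g i =>
    show IsAlgebraic ℤ (∑ j, (((σ₀ g) i j : locSubring M) : ℂ) * ((x₀ j : locSubring M) : ℂ)) from
    isAlgebraic_sum' _ fun j _ =>
      (isAlgebraic_of_memLocalRing (M := M) ((σ₀ g) i j).2).mul (isAlgebraic_of_memLocalRing (M := M) (x₀ j).2)
  have hspan : ∃ s : Fin n → G, (Matrix.of fun a b => v (s b) a).det ≠ 0 := by
    have htop : Submodule.span ℂ (Set.range v) = ⊤ := by
      refine (((isIrreducible_iff_forall r).1 hirr).2 _ fun g x hx => ?_).resolve_left fun h => ?_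
      · induction hx using Submodule.span_induction with
        | mem x hx =>
          obtain ⟨g', rfl⟩ := hx
          refine Submodule.subset_span ⟨g * g', ?_⟩
          show R (g * g') *ᵥ y = R g *ᵥ (R g' *ᵥ y)
          rw [Matrix.mulVec_mulVec, map_mul]
        | zero => simp
        | add x x' _ _ hx hx' => rw [map_add]; exact add_mem hx hx'
        | smul c x _ hx => rw [map_smul]; exact Submodule.smul_mem _ c hx
      · refine hy ?_
        have : v 1 ∈ Submodule.span ℂ (Set.range v) := Submodule.subset_span ⟨1, rfl⟩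
        rw [h, Submodule.mem_bot] at this
        simpa [v] using this
    obtain ⟨b, hb, hbspan, hbli⟩ := exists_linearIndependent ℂ (Set.range v)
    let β : Module.Basis b ℂ (Fin n → ℂ) :=
      Module.Basis.mk hbli (by rw [Subtype.range_coe, hbspan, htop])
    haveI : Fintype b := FiniteDimensional.fintypeBasisIndex β
    let e : Fin n ≃ b := ((Pi.basisFun ℂ (Fin n)).indexEquiv β)
    choose s hs using fun i => hb (e i).2
    refine ⟨s, ?_⟩
    have hli : LinearIndependent ℂ (fun i => v (s i)) := by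
      simp only [hs]
      exact hbli.comp e e.injective
    refine isUnit_iff_ne_zero.1 ((Matrix.isUnit_iff_isUnit_det _).1 ?_)
    rw [← Matrix.linearIndependent_cols_iff_isUnit]
    exact hli
  obtain ⟨s, σ, hs, hσ, hgen⟩ := exists_lattice hM R v hvalg
    (fun g g' => ⟨g * g', by simp only [v, Matrix.mulVec_mulVec, map_mul]⟩) hspan
  set B : Matrix (Fin n) (Fin n) ℂ := Matrix.of fun a b => v (s b) a with hB
  obtain ⟨x, hx⟩ := hgen 1
  refine ⟨n, σ, fun g => (trace_of_conjugate hs (hσ g)).trans (hσ₀ g), ?_⟩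
  have hBinj : ∀ w w' : Fin n → ℂ, B *ᵥ w = B *ᵥ w' → w = w' :=
    fun w w' h => (Matrix.mulVec_injective_iff_isUnit.2
      ((Matrix.isUnit_iff_isUnit_det _).2 (isUnit_iff_ne_zero.2 hs))) h
  have hcol : ∀ b, (σ (s b)) *ᵥ x = Pi.single b 1 := by
    intro b
    suffices h : (fun i => (((σ (s b)) *ᵥ x) i : ℂ)) = Pi.single b (1 : ℂ) by
      funext i
      apply Subtype.ext
      rw [congrFun h i]
      by_cases hib : i = b
      · subst hib; simp
      · simp [hib]
    apply hBinj
    rw [show (fun i => (((σ (s b)) *ᵥ x) i : ℂ)) = (σ (s b)).map ι *ᵥ fun i => (x i : ℂ) from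
      funext fun i => (RingHom.map_mulVec ι _ _ i), Matrix.mulVec_mulVec, hσ, ← Matrix.mulVec_mulVec,
      hx, Matrix.mulVec_single_one]
    funext i
    simp [v, hB, Matrix.mulVec_mulVec]
  let Tσ : Matrix (Fin n) (Fin n) (locSubring M) := ∑ g : G, a g • σ g
  have hfix : Tσ *ᵥ x = z • x := by
    suffices h : (fun i => ((Tσ *ᵥ x) i : ℂ)) = fun i => ((z • x) i : ℂ) from
      funext fun i => Subtype.ext (congrFun h i)
    apply hBinj
    rw [show (fun i => ((Tσ *ᵥ x) i : ℂ)) = Tσ.map ι *ᵥ fun i => (x i : ℂ) from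
      funext fun i => (RingHom.map_mulVec ι _ _ i), Matrix.mulVec_mulVec]
    have hsum : B * Tσ.map ι = T.map ι * B := by
      have e1 : ∀ τ : G →* Matrix (Fin n) (Fin n) (locSubring M),
          (∑ g : G, a g • τ g).map ι = ∑ g : G, (a g : ℂ) • (τ g).map ι := by
        intro τ; ext i j
        simp [Matrix.sum_apply, ι]
      rw [show Tσ.map ι = _ from e1 σ, show T.map ι = _ from e1 σ₀, Finset.mul_sum, Finset.sum_mul]
      refine Finset.sum_congr rfl fun g _ => ?_
      rw [Matrix.mul_smul, Matrix.smul_mul, hσ]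
      rfl
    rw [hsum, ← Matrix.mulVec_mulVec, hx,
      show (fun i => ((z • x) i : ℂ)) = (z : ℂ) • fun i => (x i : ℂ) from rfl, Matrix.mulVec_smul, hx]
    have hv1 : v 1 = y := by simp [v]
    rw [hv1]
    funext i
    have h := congrArg Subtype.val (congrFun hx₀z i)
    rw [Matrix.sub_mulVec, Pi.sub_apply, Matrix.scalar_apply, Matrix.mulVec_diagonal] at h
    have h2 : (T.map ι *ᵥ y) i = ((T *ᵥ x₀) i : ℂ) := (RingHom.map_mulVec ι _ _ i).symm
    rw [h2, Pi.smul_apply]
    simpa [sub_eq_zero, y] using h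
  -- the reduction
  let x' : Fin n → k := fun i => red M (x i)
  let Lk := MonoidAlgebra.lift k (Module.End k (Fin n → k)) G (redModel σ)
  have hLf : Lk f x' = x' := by
    have h1 : Lk f = ∑ g : G, f.coeff g • redModel σ g := by
      rw [MonoidAlgebra.lift_apply, Finsupp.sum_fintype _ _ (fun i => by simp)]
    rw [h1]
    funext i
    have h := congrArg (red M) (congrFun hfix i)
    rw [Pi.smul_apply, smul_eq_mul, map_mul, hz1, one_mul, RingHom.map_mulVec] at h
    refine Eq.trans ?_ h
    simp only [LinearMap.sum_apply, LinearMap.smul_apply, Finset.sum_apply, Pi.smul_apply,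
      redModel_apply, smul_eq_mul, Tσ, Matrix.mulVec, dotProduct, Matrix.map_apply,
      Matrix.sum_apply, Matrix.smul_apply, map_sum, map_mul, Finset.mul_sum, Finset.sum_mul,
      Function.comp_apply, ha, mul_assoc, x']
    rw [Finset.sum_comm]
  have hgenk : ∀ w : Fin n → k, ∃ c : MonoidAlgebra k G, Lk c x' = w := by
    intro w
    refine ⟨∑ b, MonoidAlgebra.single (s b) (w b), ?_⟩
    rw [map_sum, LinearMap.sum_apply]
    conv_rhs => rw [pi_eq_sum_univ' w]
    refine Finset.sum_congr rfl fun b _ => ?_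
    rw [MonoidAlgebra.lift_single, LinearMap.smul_apply]
    congr 1
    funext i
    rw [redModel_apply]
    refine ((RingHom.map_mulVec (red M) (σ (s b)) x i).symm.trans ?_)
    rw [hcol b]
    by_cases hib : i = b
    · subst hib; simp
    · simp [hib]
  intro Φ hΦ
  have hΦc : ∀ c, Commute Φ (Lk c) := by
    intro c
    induction c using MonoidAlgebra.induction_on with
    | of g => simpa [Lk] using hΦ g
    | add c d hc hd => rw [map_add]; exact hc.add_right hd
    | smul r c hc => rw [map_smul]; exact hc.smul_right r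
  obtain ⟨c, hc⟩ := hgenk (Φ x')
  have hb : Lk (f * c * f) x' = Φ x' := by
    rw [map_mul, map_mul]
    show Lk f (Lk c (Lk f x')) = _
    rw [hLf, hc, ← LinearMap.congr_fun (hΦc f) x' |> fun e => (e : Φ (Lk f x') = Lk f (Φ x')), hLf]
  rcases hcorner (f * c * f) (by rw [← mul_assoc, ← mul_assoc, hff])
      (by rw [mul_assoc _ f f, hff]) with ⟨d, hd1, hd2⟩ | ⟨N, hN⟩
  · left
    have hsurj : Function.Surjective Φ := by
      intro w
      obtain ⟨c', hc'⟩ := hgenk w
      refine ⟨Lk (c' * d) x', ?_⟩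
      have h := LinearMap.congr_fun (hΦc (c' * d)) x'
      rw [Module.End.mul_apply, Module.End.mul_apply] at h
      rw [h, ← hb, ← Module.End.mul_apply, ← map_mul, mul_assoc, hd1, map_mul, Module.End.mul_apply,
        hLf, hc']
    exact (Module.End.isUnit_iff _).2 ⟨LinearMap.injective_iff_surjective.2 hsurj, hsurj⟩
  · right
    have hpow : ∀ m : ℕ, (Φ ^ m) x' = Lk ((f * c * f) ^ m * f) x' := by
      intro m
      induction m with
      | zero => simp [hLf]
      | succ m ih =>
        rw [pow_succ, Module.End.mul_apply, ← hb]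
        have h := LinearMap.congr_fun ((hΦc (f * c * f)).pow_left m) x'
        rw [Module.End.mul_apply, Module.End.mul_apply] at h
        rw [h, ih, ← Module.End.mul_apply, ← map_mul, ← mul_assoc, ← pow_succ']
    refine ⟨N + 0, LinearMap.ext fun w => ?_⟩
    obtain ⟨c', rfl⟩ := hgenk w
    have h := LinearMap.congr_fun ((hΦc c').pow_left N) x'
    rw [Module.End.mul_apply, Module.End.mul_apply] at h
    rw [add_zero, h, hpow]
    rw [hN, map_zero, LinearMap.zero_apply, map_zero]
    rfl

end Cfsg.Agent.Lib.Blocks
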