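import Cfsg.Prelude.Def_Blocks
import Mathlib.RingTheory.Ideal.GoingUp
import Mathlib.RingTheory.LocalRing.ResidueField.Basic
import Mathlib.RingTheory.IntegralClosure.IsIntegralClosure.Basic
import Mathlib.Tactic

/-!
# The local ring of the algebraic integers at a maximal ideal over `p`

Arithmetic lemmas for `Cfsg.MemLocalRing` and `Cfsg.MemLocalIdeal`, the bundled subring
`locSubring`, and the key fact that high powers of the local ideal are divisible by powers of `p`.
-/

set_option autoImplicit false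
set_option linter.unusedSectionVars false
set_option linter.style.haveILetI false

namespace Cfsg.Agent.Lib.Blocks

open Cfsg

variable {M : Ideal AlgInt}

theorem algInt_coe_ne_zero {b : AlgInt} (hb : b ∉ M) : (b : ℂ) ≠ 0 := by
  intro h
  apply hb
  have : b = 0 := Subtype.ext h
  simp [this]

theorem memLocalIdeal_mem_ring {z : ℂ} (h : MemLocalIdeal M z) : MemLocalRing M z := by
  obtain ⟨a, b, -, hb, he⟩ := h
  exact ⟨a, b, hb, he⟩

theorem memLocalRing_of_isIntegral (hM : M ≠ ⊤) {z : ℂ} (hz : IsIntegral ℤ z) :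
    MemLocalRing M z :=
  ⟨⟨z, hz⟩, 1, fun h => hM ((Ideal.eq_top_iff_one M).2 h), by simp⟩

variable [hMp : M.IsPrime]

theorem memLocalRing_coe (a : AlgInt) : MemLocalRing M (a : ℂ) :=
  ⟨a, 1, fun h => hMp.ne_top ((Ideal.eq_top_iff_one M).2 h), by simp⟩

theorem memLocalRing_zero : MemLocalRing M 0 := by
  simpa using memLocalRing_coe (M := M) 0

theorem memLocalRing_one : MemLocalRing M 1 := by
  simpa using memLocalRing_coe (M := M) 1

theorem memLocalRing_add {x y : ℂ} (hx : MemLocalRing M x) (hy : MemLocalRing M y) :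
    MemLocalRing M (x + y) := by
  obtain ⟨a, b, hb, rfl⟩ := hx
  obtain ⟨c, d, hd, rfl⟩ := hy
  refine ⟨a * d + b * c, b * d, fun h => (hMp.mem_or_mem h).elim hb hd, ?_⟩
  push_cast
  rw [div_add_div _ _ (algInt_coe_ne_zero hb) (algInt_coe_ne_zero hd)]

theorem memLocalRing_mul {x y : ℂ} (hx : MemLocalRing M x) (hy : MemLocalRing M y) :
    MemLocalRing M (x * y) := by
  obtain ⟨a, b, hb, rfl⟩ := hx
  obtain ⟨c, d, hd, rfl⟩ := hy
  refine ⟨a * c, b * d, fun h => (hMp.mem_or_mem h).elim hb hd, ?_⟩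
  push_cast
  rw [div_mul_div_comm]

theorem memLocalRing_neg {x : ℂ} (hx : MemLocalRing M x) : MemLocalRing M (-x) := by
  obtain ⟨a, b, hb, rfl⟩ := hx
  exact ⟨-a, b, hb, by push_cast; ring⟩

variable (M) in
/-- The local ring at `M`, as a subring of `ℂ`. -/
def locSubring : Subring ℂ where
  carrier := {z | MemLocalRing M z}
  zero_mem' := memLocalRing_zero
  one_mem' := memLocalRing_one
  add_mem' := memLocalRing_add
  mul_mem' := memLocalRing_mul
  neg_mem' := memLocalRing_neg

@[simp] theorem mem_locSubring {z : ℂ} : z ∈ locSubring M ↔ MemLocalRing M z := Iff.rfl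

theorem memLocalRing_sub {x y : ℂ} (hx : MemLocalRing M x) (hy : MemLocalRing M y) :
    MemLocalRing M (x - y) := (locSubring M).sub_mem hx hy

theorem memLocalRing_pow {x : ℂ} (hx : MemLocalRing M x) (n : ℕ) : MemLocalRing M (x ^ n) :=
  (locSubring M).pow_mem hx n

theorem memLocalRing_sum {ι : Type*} (s : Finset ι) {f : ι → ℂ}
    (h : ∀ i ∈ s, MemLocalRing M (f i)) : MemLocalRing M (∑ i ∈ s, f i) :=
  (locSubring M).sum_mem h

theorem memLocalRing_finsum {ι : Type*} {f : ι → ℂ}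
    (h : ∀ i, MemLocalRing M (f i)) : MemLocalRing M (∑ᶠ i, f i) :=
  finsum_induction _ memLocalRing_zero (fun _ _ => memLocalRing_add) h

theorem memLocalRing_prod {ι : Type*} (s : Finset ι) {f : ι → ℂ}
    (h : ∀ i ∈ s, MemLocalRing M (f i)) : MemLocalRing M (∏ i ∈ s, f i) :=
  (locSubring M).prod_mem h

theorem memLocalRing_natCast (n : ℕ) : MemLocalRing M (n : ℂ) :=
  natCast_mem (locSubring M) n

theorem memLocalRing_intCast (n : ℤ) : MemLocalRing M (n : ℂ) :=
  intCast_mem (locSubring M) n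

theorem memLocalRing_of_isIntegral' {z : ℂ} (hz : IsIntegral ℤ z) : MemLocalRing M z :=
  memLocalRing_of_isIntegral hMp.ne_top hz

/-! ### The local ideal -/

theorem memLocalIdeal_coe {a : AlgInt} (ha : a ∈ M) : MemLocalIdeal M (a : ℂ) :=
  ⟨a, 1, ha, fun h => hMp.ne_top ((Ideal.eq_top_iff_one M).2 h), by simp⟩

theorem memLocalIdeal_zero : MemLocalIdeal M 0 := by
  simpa using memLocalIdeal_coe (M := M) M.zero_mem

theorem memLocalIdeal_coe_iff {a : AlgInt} : MemLocalIdeal M (a : ℂ) ↔ a ∈ M := by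
  refine ⟨?_, memLocalIdeal_coe⟩
  rintro ⟨c, b, hc, hb, he⟩
  have h : c = a * b := by
    apply Subtype.ext
    push_cast
    rw [← he, div_mul_cancel₀ _ (algInt_coe_ne_zero hb)]
  rw [h] at hc
  exact (hMp.mem_or_mem hc).resolve_right hb

theorem memLocalIdeal_iff_of_isIntegral {z : ℂ} (hz : IsIntegral ℤ z) :
    MemLocalIdeal M z ↔ (⟨z, hz⟩ : AlgInt) ∈ M :=
  memLocalIdeal_coe_iff (a := ⟨z, hz⟩)

theorem memLocalIdeal_add {x y : ℂ} (hx : MemLocalIdeal M x) (hy : MemLocalIdeal M y) :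
    MemLocalIdeal M (x + y) := by
  obtain ⟨a, b, ha, hb, rfl⟩ := hx
  obtain ⟨c, d, hc, hd, rfl⟩ := hy
  refine ⟨a * d + b * c, b * d, M.add_mem (M.mul_mem_right _ ha) (M.mul_mem_left _ hc),
    fun h => (hMp.mem_or_mem h).elim hb hd, ?_⟩
  push_cast
  rw [div_add_div _ _ (algInt_coe_ne_zero hb) (algInt_coe_ne_zero hd)]

theorem memLocalIdeal_mul_left {x y : ℂ} (hx : MemLocalRing M x) (hy : MemLocalIdeal M y) :
    MemLocalIdeal M (x * y) := by
  obtain ⟨a, b, hb, rfl⟩ := hx
  obtain ⟨c, d, hc, hd, rfl⟩ := hy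
  refine ⟨a * c, b * d, M.mul_mem_left _ hc, fun h => (hMp.mem_or_mem h).elim hb hd, ?_⟩
  push_cast
  rw [div_mul_div_comm]

theorem memLocalIdeal_mul_right {x y : ℂ} (hx : MemLocalIdeal M x) (hy : MemLocalRing M y) :
    MemLocalIdeal M (x * y) := by
  rw [mul_comm]; exact memLocalIdeal_mul_left hy hx

theorem memLocalIdeal_neg {x : ℂ} (hx : MemLocalIdeal M x) : MemLocalIdeal M (-x) := by
  obtain ⟨a, b, ha, hb, rfl⟩ := hx
  exact ⟨-a, b, M.neg_mem ha, hb, by push_cast; ring⟩

theorem memLocalIdeal_sub {x y : ℂ} (hx : MemLocalIdeal M x) (hy : MemLocalIdeal M y) :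
    MemLocalIdeal M (x - y) := by
  simpa [sub_eq_add_neg] using memLocalIdeal_add hx (memLocalIdeal_neg hy)

theorem memLocalIdeal_sum {ι : Type*} (s : Finset ι) {f : ι → ℂ}
    (h : ∀ i ∈ s, MemLocalIdeal M (f i)) : MemLocalIdeal M (∑ i ∈ s, f i) :=
  Finset.sum_induction f _ (fun _ _ => memLocalIdeal_add) memLocalIdeal_zero h

theorem memLocalIdeal_finsum {ι : Type*} {f : ι → ℂ}
    (h : ∀ i, MemLocalIdeal M (f i)) : MemLocalIdeal M (∑ᶠ i, f i) :=
  finsum_induction _ memLocalIdeal_zero (fun _ _ => memLocalIdeal_add) h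

theorem not_memLocalIdeal_one : ¬ MemLocalIdeal M (1 : ℂ) := by
  have h := (memLocalIdeal_coe_iff (M := M) (a := 1)).not.2
    (fun h => hMp.ne_top ((Ideal.eq_top_iff_one M).2 h))
  simpa using h

/-- A local integer outside the local ideal is invertible in the local ring. -/
theorem memLocalRing_inv {x : ℂ} (hx : MemLocalRing M x) (hx' : ¬ MemLocalIdeal M x) :
    MemLocalRing M x⁻¹ := by
  obtain ⟨a, b, hb, rfl⟩ := hx
  have ha : a ∉ M := fun ha => hx' ⟨a, b, ha, hb, rfl⟩
  exact ⟨b, a, ha, by rw [inv_div]⟩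

theorem ne_zero_of_not_memLocalIdeal {x : ℂ} (hx : ¬ MemLocalIdeal M x) : x ≠ 0 :=
  fun h => hx (h ▸ memLocalIdeal_zero)

theorem memLocalIdeal_mul_iff {x y : ℂ} (hx : MemLocalRing M x) (hy : MemLocalRing M y) :
    MemLocalIdeal M (x * y) ↔ MemLocalIdeal M x ∨ MemLocalIdeal M y := by
  refine ⟨fun h => ?_, fun h => h.elim (fun h => memLocalIdeal_mul_right h hy)
    (fun h => memLocalIdeal_mul_left hx h)⟩
  by_contra hc
  simp only [not_or] at hc
  have := memLocalIdeal_mul_left (memLocalRing_inv hx hc.1) h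
  rw [← mul_assoc, inv_mul_cancel₀ (ne_zero_of_not_memLocalIdeal hc.1), one_mul] at this
  exact hc.2 this

theorem not_memLocalIdeal_mul {x y : ℂ} (hx : MemLocalRing M x) (hy : MemLocalRing M y)
    (hx' : ¬ MemLocalIdeal M x) (hy' : ¬ MemLocalIdeal M y) : ¬ MemLocalIdeal M (x * y) :=
  fun h => ((memLocalIdeal_mul_iff hx hy).1 h).elim hx' hy'

theorem memLocalIdeal_pow_iff {x : ℂ} (hx : MemLocalRing M x) {n : ℕ} (hn : n ≠ 0) :
    MemLocalIdeal M (x ^ n) ↔ MemLocalIdeal M x := by
  induction n with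
  | zero => exact absurd rfl hn
  | succ m ih =>
    rw [pow_succ, memLocalIdeal_mul_iff (memLocalRing_pow hx m) hx]
    rcases Nat.eq_zero_or_pos m with rfl | hm
    · simp [not_memLocalIdeal_one]
    · rw [ih hm.ne', or_self]

/-- A local integer congruent to one outside the ideal lies outside the ideal. -/
theorem not_memLocalIdeal_of_sub {x y : ℂ} (hy : ¬ MemLocalIdeal M y)
    (h : MemLocalIdeal M (x - y)) : ¬ MemLocalIdeal M x := by
  intro hx
  apply hy
  simpa using memLocalIdeal_sub hx h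

theorem memLocalIdeal_iff_of_sub {x y : ℂ} (h : MemLocalIdeal M (x - y)) :
    MemLocalIdeal M x ↔ MemLocalIdeal M y := by
  constructor
  · intro hx; simpa using memLocalIdeal_sub hx h
  · intro hy; simpa using memLocalIdeal_add h hy

variable (M) in
/-- The local ideal, as an ideal of the local ring. -/
def locIdeal : Ideal (locSubring M) where
  carrier := {z | MemLocalIdeal M (z : ℂ)}
  zero_mem' := memLocalIdeal_zero
  add_mem' := fun hx hy => memLocalIdeal_add hx hy
  smul_mem' := fun c _ hx => memLocalIdeal_mul_left c.2 hx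

@[simp] theorem mem_locIdeal {z : locSubring M} : z ∈ locIdeal M ↔ MemLocalIdeal M (z : ℂ) :=
  Iff.rfl

theorem isUnit_locSubring_iff {z : locSubring M} :
    IsUnit z ↔ ¬ MemLocalIdeal M (z : ℂ) := by
  constructor
  · rintro ⟨u, rfl⟩ h
    have := memLocalIdeal_mul_right h ((↑u⁻¹ : locSubring M)).2
    rw [← Subring.coe_mul, Units.mul_inv, Subring.coe_one] at this
    exact not_memLocalIdeal_one this
  · intro h
    refine IsUnit.of_mul_eq_one ⟨(z : ℂ)⁻¹, memLocalRing_inv z.2 h⟩ ?_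
    apply Subtype.ext
    simp [mul_inv_cancel₀ (ne_zero_of_not_memLocalIdeal h)]

instance locSubring_isLocalRing : IsLocalRing (locSubring M) := by
  refine IsLocalRing.of_nonunits_add ?_
  intro a b ha hb
  simp only [mem_nonunits_iff, isUnit_locSubring_iff, not_not] at ha hb ⊢
  exact memLocalIdeal_add ha hb

theorem maximalIdeal_locSubring :
    IsLocalRing.maximalIdeal (locSubring M) = locIdeal M := by
  ext z
  simp [IsLocalRing.mem_maximalIdeal, isUnit_locSubring_iff]

omit hMp in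
/-- The modular ideal is prime. -/
theorem isPrime_of_isPModular {p : ℕ} (hM : IsPModular p M) : M.IsPrime := hM.2.1.isPrime

/-! ### Facts about `p` -/

variable {p : ℕ}

omit hMp in
theorem natCast_mem_iff (hM : IsPModular p M) (n : ℕ) : (n : AlgInt) ∈ M ↔ p ∣ n := by
  constructor
  · intro h
    by_contra hn
    have hc : Nat.Coprime p n := (hM.1.coprime_iff_not_dvd).2 hn
    obtain ⟨u, v, huv⟩ : IsCoprime (p : ℤ) (n : ℤ) := Nat.isCoprime_iff_coprime.2 hc
    have h1 : (1 : AlgInt) = (u : AlgInt) * (p : AlgInt) + (v : AlgInt) * (n : AlgInt) := by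
      have := congrArg (Int.cast : ℤ → AlgInt) huv
      push_cast at this
      exact this.symm
    have : (1 : AlgInt) ∈ M := h1 ▸ M.add_mem (M.mul_mem_left _ hM.2.2) (M.mul_mem_left _ h)
    exact hM.2.1.ne_top ((Ideal.eq_top_iff_one M).2 this)
  · rintro ⟨k, rfl⟩
    rw [Nat.cast_mul]
    exact M.mul_mem_right _ hM.2.2

theorem memLocalIdeal_natCast_iff (hM : IsPModular p M) (n : ℕ) :
    MemLocalIdeal M (n : ℂ) ↔ p ∣ n := by
  rw [← natCast_mem_iff hM n, ← memLocalIdeal_coe_iff]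
  simp

theorem memLocalIdeal_intCast_iff (hM : IsPModular p M) (n : ℤ) :
    MemLocalIdeal M (n : ℂ) ↔ (p : ℤ) ∣ n := by
  rcases n.eq_nat_or_neg with ⟨k, rfl | rfl⟩
  · simpa [Int.natCast_dvd_natCast] using memLocalIdeal_natCast_iff hM k
  · have : MemLocalIdeal M (-(k : ℂ)) ↔ MemLocalIdeal M (k : ℂ) :=
      ⟨fun h => by simpa using memLocalIdeal_neg h, memLocalIdeal_neg⟩
    simpa [Int.natCast_dvd_natCast, this] using memLocalIdeal_natCast_iff hM k

theorem memLocalRing_inv_natCast (hM : IsPModular p M) {n : ℕ} (hn : ¬ p ∣ n) :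
    MemLocalRing M (n : ℂ)⁻¹ :=
  memLocalRing_inv (memLocalRing_natCast n) (fun h => hn ((memLocalIdeal_natCast_iff hM n).1 h))

theorem memLocalIdeal_of_p_mul (hM : IsPModular p M) {x : ℂ} (hx : MemLocalRing M x) :
    MemLocalIdeal M ((p : ℂ) * x) :=
  memLocalIdeal_mul_right ((memLocalIdeal_natCast_iff hM p).2 dvd_rfl) hx

omit hMp in
/-- Some power of an element of `M`, times an element outside `M`, is divisible by `p`. -/
theorem exists_pow_mul_mem_span (hM : IsPModular p M) {x : AlgInt} (hx : x ∈ M) :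
    ∃ (N : ℕ) (s : AlgInt), s ∉ M ∧ s * x ^ N ∈ Ideal.span {(p : AlgInt)} := by
  haveI := isPrime_of_isPModular hM
  by_contra hcon
  simp only [not_exists, not_and] at hcon
  let S : Submonoid AlgInt := M.primeCompl ⊔ Submonoid.powers x
  have hmem : ∀ z ∈ S, ∃ (N : ℕ) (s : AlgInt), s ∉ M ∧ z = s * x ^ N := by
    intro z hz
    obtain ⟨s, hs, t, ⟨N, rfl⟩, rfl⟩ := Submonoid.mem_sup.1 hz
    exact ⟨N, s, hs, rfl⟩
  have hdisj : Disjoint ((Ideal.span {(p : AlgInt)} : Ideal AlgInt) : Set AlgInt) S := by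
    rw [Set.disjoint_left]
    intro z hz hzS
    obtain ⟨N, s, hs, rfl⟩ := hmem z hzS
    exact hcon N s hs hz
  obtain ⟨P, hP, hpP, hPS⟩ := Ideal.exists_le_prime_disjoint _ S hdisj
  have hPM : P ≤ M := by
    intro z hz
    by_contra hzM
    exact Set.disjoint_left.1 hPS hz (Submonoid.mem_sup_left hzM)
  have hxP : x ∉ P := fun h =>
    Set.disjoint_left.1 hPS h (Submonoid.mem_sup_right (Submonoid.mem_powers x))
  have hpmem : (p : AlgInt) ∈ P := hpP (Ideal.subset_span rfl)
  haveI : (P.comap (algebraMap ℤ AlgInt)).IsPrime := Ideal.comap_isPrime _ _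
  have hne : P.comap (algebraMap ℤ AlgInt) ≠ ⊥ := by
    intro h
    have hpc : ((p : ℕ) : ℤ) ∈ P.comap (algebraMap ℤ AlgInt) := by simpa using hpmem
    rw [h, Ideal.mem_bot] at hpc
    exact hM.1.ne_zero (by exact_mod_cast hpc)
  haveI : Algebra.IsIntegral ℤ AlgInt := inferInstance
  have hPmax : P.IsMaximal := Ideal.isMaximal_of_isIntegral_of_isMaximal_comap P
    (Ideal.IsPrime.isMaximal inferInstance hne)
  exact hxP (hPmax.eq_of_le hM.2.1.ne_top hPM ▸ hx)

/-- High powers of an element of the local ideal are divisible by any given power of `p`. -/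
theorem exists_pow_div_p_pow (hM : IsPModular p M) {z : ℂ} (hz : MemLocalIdeal M z) (a : ℕ) :
    ∃ N : ℕ, ∀ n, N ≤ n → MemLocalRing M (z ^ n / (p : ℂ) ^ a) := by
  obtain ⟨x, b, hx, hb, rfl⟩ := hz
  obtain ⟨N, s, hs, hmem⟩ := exists_pow_mul_mem_span hM hx
  obtain ⟨c, hc⟩ := Ideal.mem_span_singleton'.1 hmem
  have hp0 : (p : ℂ) ≠ 0 := Nat.cast_ne_zero.2 hM.1.ne_zero
  have h1 : MemLocalRing M (((x : ℂ) / b) ^ N / p) := by
    have hsc : (c : ℂ) * (p : ℂ) = (s : ℂ) * (x : ℂ) ^ N := by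
      have := congrArg (fun t : AlgInt => (t : ℂ)) hc
      push_cast at this
      exact this
    have hden : s * b ^ N ∉ M := fun h =>
      (hMp.mem_or_mem h).elim hs fun h => hb (hMp.mem_of_pow_mem _ h)
    refine ⟨c, s * b ^ N, hden, ?_⟩
    have hs0 := algInt_coe_ne_zero hs
    have hb0 := algInt_coe_ne_zero hb
    push_cast
    rw [div_pow]
    field_simp
    linear_combination hsc
  refine ⟨N * a, fun n hn => ?_⟩
  obtain ⟨k, rfl⟩ := Nat.exists_eq_add_of_le hn
  have : ((x : ℂ) / b) ^ (N * a + k) / (p : ℂ) ^ a =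
      (((x : ℂ) / b) ^ N / p) ^ a * ((x : ℂ) / b) ^ k := by
    rw [pow_add, pow_mul, div_pow _ (p : ℂ)]
    ring
  rw [this]
  exact memLocalRing_mul (memLocalRing_pow h1 a) (memLocalRing_pow ⟨x, b, hb, rfl⟩ k)

/-! ### The residue field -/

variable (M) in
/-- The residue field of the local ring at `M`. -/
abbrev ResField : Type := IsLocalRing.ResidueField (locSubring M)

variable (M) in
/-- Reduction from the local ring to its residue field. -/
noncomputable abbrev red : locSubring M →+* ResField M := IsLocalRing.residue (locSubring M)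

theorem red_eq_zero_iff {z : locSubring M} : red M z = 0 ↔ MemLocalIdeal M (z : ℂ) := by
  rw [IsLocalRing.residue_eq_zero_iff, maximalIdeal_locSubring, mem_locIdeal]

theorem red_surjective : Function.Surjective (red M) := IsLocalRing.residue_surjective

theorem resField_charP (hM : IsPModular p M) : CharP (ResField M) p := by
  haveI := Fact.mk hM.1
  refine CharP.charP_iff_prime_eq_zero hM.1 |>.2 ?_
  have h : red M ((p : ℕ) : locSubring M) = 0 := by
    rw [red_eq_zero_iff]
    simpa using (memLocalIdeal_natCast_iff hM p).2 dvd_rfl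
  rwa [map_natCast] at h

end Cfsg.Agent.Lib.Blocks
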