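import Cfsg.Agent.Lib.Blocks.SmallCentralizerArith
import Cfsg.Agent.Lib.BlockHeights.SectionValues

/-!
# Counting the rows of a subsection of rank at most two

Arithmetic of sums of roots of unity of `p`-power order, and the count of the rows of a column
matrix with values in `ℤ[ζ]` carrying a positive binary form.
-/

set_option autoImplicit false
set_option linter.unusedSectionVars false
set_option linter.style.haveILetI false
set_option maxHeartbeats 800000

namespace Cfsg.Agent.Lib.Blocks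

open Cfsg
open scoped ComplexConjugate

/-- The value of an integral combination of powers of `ζ` at the exponent `u`. -/
noncomputable def evalPow {N : ℕ} (ζ : ℂ) (c : Fin N → ℤ) (u : ℕ) : ℂ :=
  ∑ j, (c j : ℂ) * ζ ^ (u * (j : ℕ))

theorem evalPow_add {N : ℕ} (ζ : ℂ) (c d : Fin N → ℤ) (u : ℕ) :
    evalPow ζ (c + d) u = evalPow ζ c u + evalPow ζ d u := by
  simp [evalPow, Finset.sum_add_distrib, add_mul]

theorem evalPow_smul {N : ℕ} (ζ : ℂ) (t : ℤ) (c : Fin N → ℤ) (u : ℕ) :
    evalPow ζ (t • c) u = (t : ℂ) * evalPow ζ c u := by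
  simp [evalPow, Finset.mul_sum, mul_assoc]

theorem evalPow_neg {N : ℕ} (ζ : ℂ) (c : Fin N → ℤ) (u : ℕ) :
    evalPow ζ (-c) u = -evalPow ζ c u := by
  simp [evalPow]

/-- The exponents prime to `N`. -/
def unitExps (N : ℕ) : Finset ℕ := (Finset.range N).filter fun i => Nat.Coprime i N

theorem unitExps_one : unitExps 1 = {0} := by decide

theorem card_unitExps (p a : ℕ) (hp : p.Prime) :
    (unitExps (p ^ (a + 1))).card = p ^ a * (p - 1) := by
  rw [unitExps, ← Nat.totient_prime_pow_succ hp a, Nat.totient_eq_card_coprime]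
  congr 1
  exact Finset.filter_congr fun i _ => Nat.coprime_comm

theorem unitExps_eq (p a : ℕ) (hp : p.Prime) :
    unitExps (p ^ (a + 1)) = (Finset.range (p ^ (a + 1))).filter fun i => ¬ p ∣ i :=
  Finset.filter_congr fun i _ => by
    rw [Nat.coprime_comm, Nat.coprime_pow_left_iff a.succ_pos, hp.coprime_iff_not_dvd]

/-- The squared values on the primitive exponents, fibre by fibre. -/
theorem sum_unitExps_normSq {p : ℕ} (hp : p.Prime) {a : ℕ} {ζ : ℂ}
    (hζ : IsPrimitiveRoot ζ (p ^ (a + 1))) (c : Fin (p ^ (a + 1)) → ℤ)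
    (e : Fin p × Fin (p ^ a) ≃ Fin (p ^ (a + 1)))
    (he : ∀ s r, ((e (s, r) : Fin (p ^ (a + 1))) : ℕ) = (r : ℕ) + p ^ a * (s : ℕ)) :
    ∑ i ∈ unitExps (p ^ (a + 1)), Complex.normSq (evalPow ζ c i) =
      (((p ^ a : ℕ) : ℤ) * ∑ r, ((p : ℤ) * ∑ s, c (e (s, r)) ^ 2 - (∑ s, c (e (s, r))) ^ 2) : ℤ) := by
  classical
  have hN : p ^ (a + 1) = p ^ a * p := pow_succ _ _
  have hζp : IsPrimitiveRoot (ζ ^ p) (p ^ a) :=
    hζ.pow (pow_pos hp.pos _) (by rw [hN, mul_comm])
  let d : Fin (p ^ a) → ℤ := fun r => ∑ s, c (e (s, r))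
  have hfp : ∀ i : ℕ, evalPow ζ c (p * i) = ∑ r, (d r : ℂ) * (ζ ^ p) ^ (i * (r : ℕ)) := by
    intro i
    rw [evalPow, ← e.sum_comp, Fintype.sum_prod_type, Finset.sum_comm]
    refine Finset.sum_congr rfl fun r _ => ?_
    simp only [d, Int.cast_sum, Finset.sum_mul]
    refine Finset.sum_congr rfl fun s _ => ?_
    rw [he, ← pow_mul, show p * i * ((r : ℕ) + p ^ a * (s : ℕ)) =
      p * (i * r) + p ^ a * p * (i * s) by ring, pow_add ζ, pow_mul ζ (p ^ a * p),
      show ζ ^ (p ^ a * p) = 1 by rw [← hN]; exact hζ.pow_eq_one, one_pow, mul_one]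
  have h1 := sum_range_mul_conj_pow hζ (fun j => (c j : ℂ))
  have h2 := sum_range_mul_conj_pow hζp (fun r => (d r : ℂ))
  simp only [map_intCast] at h1 h2
  rw [unitExps_eq p a hp]
  have hsplit : ∑ i ∈ Finset.range (p ^ (a + 1)), Complex.normSq (evalPow ζ c i) =
      (∑ i ∈ Finset.range (p ^ a), Complex.normSq (evalPow ζ c (p * i))) +
      ∑ i ∈ (Finset.range (p ^ (a + 1))).filter (fun i => ¬ p ∣ i),
        Complex.normSq (evalPow ζ c i) := by
    rw [← Finset.sum_filter_add_sum_filter_not (Finset.range (p ^ (a + 1))) (fun i => p ∣ i)]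
    congr 1
    symm
    refine Finset.sum_bij (fun i _ => p * i) (fun i hi => ?_)
      (fun i _ j _ h => Nat.eq_of_mul_eq_mul_left hp.pos h) (fun i hi => ?_) fun i _ => rfl
    · simp only [Finset.mem_filter, Finset.mem_range] at hi ⊢
      exact ⟨by rw [hN, mul_comm (p ^ a)]; exact Nat.mul_lt_mul_of_pos_left hi hp.pos,
        dvd_mul_right _ _⟩
    · obtain ⟨hi, i', rfl⟩ := Finset.mem_filter.1 hi
      refine ⟨i', Finset.mem_range.2 ?_, rfl⟩
      rw [Finset.mem_range, hN, mul_comm (p ^ a)] at hi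
      exact Nat.lt_of_mul_lt_mul_left hi
  have hA : ∑ i ∈ Finset.range (p ^ (a + 1)), Complex.normSq (evalPow ζ c i) =
      (p ^ (a + 1) : ℕ) * ∑ j, (c j : ℝ) * c j := by
    apply Complex.ofReal_injective
    simp only [Complex.ofReal_sum, ← Complex.mul_conj, evalPow, Complex.ofReal_mul,
      Complex.ofReal_natCast, Complex.ofReal_intCast]
    exact h1
  have hB : ∑ i ∈ Finset.range (p ^ a), Complex.normSq (evalPow ζ c (p * i)) =
      (p ^ a : ℕ) * ∑ r, (d r : ℝ) * d r := by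
    apply Complex.ofReal_injective
    simp only [Complex.ofReal_sum, ← Complex.mul_conj, hfp, Complex.ofReal_mul,
      Complex.ofReal_natCast, Complex.ofReal_intCast]
    exact h2
  have hcsum : ∑ j, (c j : ℝ) * c j = ∑ r, ∑ s, (c (e (s, r)) : ℝ) * c (e (s, r)) := by
    rw [← e.sum_comp, Fintype.sum_prod_type, Finset.sum_comm]
  rw [hA, hB, hcsum] at hsplit
  simp only [d] at hsplit
  push_cast at hsplit ⊢
  rw [Finset.sum_sub_distrib, ← Finset.mul_sum]
  simp only [sq]
  linear_combination (-1 : ℝ) * hsplit + (p : ℝ) ^ a * 0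

/-- A fibre that is not constant. -/
theorem fibre_lower {p : ℕ} (b : Fin p → ℤ) {s₀ s₁ : Fin p} (hs : b s₀ ≠ b s₁) :
    (p : ℤ) - 1 ≤ (p : ℤ) * ∑ s, b s ^ 2 - (∑ s, b s) ^ 2 := by
  have hb := sum_sq_diff b
  have h3 := two_mul_le_unequal_pairs b hs
  have h4 : (((∑ i, ∑ j, if b i ≠ b j then 1 else 0 : ℕ)) : ℤ) ≤ ∑ i, ∑ j, (b i - b j) ^ 2 := by
    push_cast
    refine Finset.sum_le_sum fun i _ => Finset.sum_le_sum fun j _ => ?_
    split_ifs with h
    · rcases lt_or_gt_of_ne h with h' | h' <;> nlinarith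
    · exact sq_nonneg _
  have hp1 : 1 ≤ p := Fin.pos s₀
  rw [Fintype.card_fin] at h3 hb
  have h5 : ((2 * (p - 1) : ℕ) : ℤ) ≤ ∑ i, ∑ j, (b i - b j) ^ 2 :=
    le_trans (by exact_mod_cast h3) h4
  push_cast [Nat.cast_sub hp1] at h5
  linarith

/-- A fibre that is not constant and has sum divisible by `p`. -/
theorem fibre_lower_two {p : ℕ} (b : Fin p → ℤ) {s₀ s₁ : Fin p} (hs : b s₀ ≠ b s₁)
    (hd : (p : ℤ) ∣ ∑ s, b s) :
    2 * ((p : ℤ) - 1) ≤ (p : ℤ) * ∑ s, b s ^ 2 - (∑ s, b s) ^ 2 := by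
  obtain ⟨m, hm⟩ := hd
  set b' : Fin p → ℤ := fun s => b s - m with hb'
  have h0 : ∑ s, b' s = 0 := by
    simp [hb', Finset.sum_sub_distrib, hm]
  have hsame : (p : ℤ) * ∑ s, b s ^ 2 - (∑ s, b s) ^ 2 = (p : ℤ) * ∑ s, b' s ^ 2 := by
    simp only [hb', sub_sq, Finset.sum_add_distrib, Finset.sum_sub_distrib, ← Finset.sum_mul,
      ← Finset.mul_sum, Finset.sum_const, Finset.card_univ, Fintype.card_fin, nsmul_eq_mul, hm]
    ring
  have hne : b' s₀ ≠ b' s₁ := fun h => hs (by simpa [hb'] using h)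
  have h2 : (2 : ℤ) ≤ ∑ s, b' s ^ 2 := by
    have hsq : ∀ n : ℤ, n ≠ 0 → 1 ≤ n ^ 2 := fun n hn => by
      rcases lt_or_gt_of_ne hn with h' | h' <;> nlinarith
    obtain ⟨s, hs0⟩ : ∃ s, b' s ≠ 0 := by
      by_contra h
      simp only [ne_eq, not_exists, not_not] at h
      exact hne (by rw [h, h])
    obtain ⟨t, hts, ht0⟩ : ∃ t, t ≠ s ∧ b' t ≠ 0 := by
      by_contra h
      simp only [not_exists, not_and, not_not] at h
      rw [Finset.sum_eq_single s (fun t _ ht => h t ht) (by simp)] at h0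
      exact hs0 h0
    have h1 := Finset.sum_le_sum_of_subset_of_nonneg (s := {s, t}) (t := Finset.univ)
      (f := fun s => b' s ^ 2) (Finset.subset_univ _) (fun _ _ _ => sq_nonneg _)
    rw [Finset.sum_pair hts.symm] at h1
    linarith [hsq _ hs0, hsq _ ht0]
  rw [hsame]
  have hp0 : (0 : ℤ) ≤ p := Int.natCast_nonneg p
  nlinarith

/-- **The weights of a nonzero integral combination of roots of unity.** -/
theorem weight_evalPow {p : ℕ} (hp : p.Prime) {M : Ideal AlgInt} [M.IsPrime]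
    (hM : IsPModular p M) {k : ℕ} {ζ : ℂ} (hζ : IsPrimitiveRoot ζ (p ^ k)) (c : Fin (p ^ k) → ℤ)
    (hne : evalPow ζ c 1 ≠ 0) :
    ((unitExps (p ^ k)).card : ℝ) ≤ ∑ u ∈ unitExps (p ^ k), Complex.normSq (evalPow ζ c u) ∧
    (MemLocalIdeal M (evalPow ζ c 1) →
      2 * ((unitExps (p ^ k)).card : ℝ) ≤
        ∑ u ∈ unitExps (p ^ k), Complex.normSq (evalPow ζ c u)) := by
  classical
  have hcong : MemLocalIdeal M (evalPow ζ c 1 - ((∑ j, c j : ℤ) : ℂ)) := by
    rw [evalPow, Int.cast_sum, ← Finset.sum_sub_distrib]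
    refine memLocalIdeal_sum _ fun j _ => ?_
    rw [← mul_sub_one]
    refine memLocalIdeal_mul_left (memLocalRing_intCast _)
      (BlockHeights.memLocalIdeal_root_sub_one hM (k := k) ?_)
    rw [← pow_mul, mul_comm, pow_mul, hζ.pow_eq_one, one_pow]
  have hdvd : MemLocalIdeal M (evalPow ζ c 1) → (p : ℤ) ∣ ∑ j, c j := fun h => by
    rw [← memLocalIdeal_intCast_iff hM]
    exact (memLocalIdeal_iff_of_sub hcong).1 h
  rcases k with _ | a
  · have h1 : ∀ u, evalPow ζ c u = ((c ⟨0, by simp⟩ : ℤ) : ℂ) := fun u => by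
      rw [evalPow, Finset.sum_eq_single ⟨0, by simp⟩]
      · simp
      · intro b _ hb
        haveI : Subsingleton (Fin (p ^ 0)) := by rw [pow_zero]; infer_instance
        exact absurd (Subsingleton.elim b _) hb
      · exact fun h => absurd (Finset.mem_univ _) h
    set n := c ⟨0, by simp⟩
    have hn : n ≠ 0 := fun h => hne (by rw [h1, h, Int.cast_zero])
    have hsum : ∑ u ∈ unitExps (p ^ 0), Complex.normSq (evalPow ζ c u) = ((n ^ 2 : ℤ) : ℝ) := by
      simp only [pow_zero, unitExps_one, Finset.sum_singleton, h1, Complex.normSq_intCast]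
      push_cast; ring
    rw [hsum, show (unitExps (p ^ 0)).card = 1 by rw [pow_zero, unitExps_one]; rfl]
    refine ⟨?_, fun hI => ?_⟩
    · have : (1 : ℤ) ≤ n ^ 2 := by rcases lt_or_gt_of_ne hn with h' | h' <;> nlinarith
      exact_mod_cast this
    · have hpn : (p : ℤ) ∣ n := by
        rw [← memLocalIdeal_intCast_iff hM]
        rw [h1] at hI
        exact hI
      obtain ⟨m, hm⟩ := hpn
      have hm0 : m ≠ 0 := fun h => hn (by rw [hm, h, mul_zero])
      have hp2 : (2 : ℤ) ≤ p := by exact_mod_cast hp.two_le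
      have hm1 : (1 : ℤ) ≤ m ^ 2 := by rcases lt_or_gt_of_ne hm0 with h' | h' <;> nlinarith
      have : (2 : ℤ) ≤ n ^ 2 := by rw [hm, mul_pow]; nlinarith
      simpa using (show ((2 : ℤ) : ℝ) ≤ ((n ^ 2 : ℤ) : ℝ) by exact_mod_cast this)
  · let e : Fin p × Fin (p ^ a) ≃ Fin (p ^ (a + 1)) :=
      finProdFinEquiv.trans (finCongr (by rw [pow_succ, mul_comm]))
    have he : ∀ s r, ((e (s, r) : Fin (p ^ (a + 1))) : ℕ) = (r : ℕ) + p ^ a * (s : ℕ) :=
      fun s r => rfl
    set g : Fin (p ^ a) → ℤ :=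
      fun r => (p : ℤ) * ∑ s, c (e (s, r)) ^ 2 - (∑ s, c (e (s, r))) ^ 2 with hg
    have hform := sum_unitExps_normSq hp hζ c e he
    have hg0 : ∀ r, 0 ≤ g r := fun r => by
      have h := sum_sq_diff fun s => c (e (s, r))
      rw [Fintype.card_fin] at h
      have h2 : (0 : ℤ) ≤ ∑ i, ∑ j, (c (e (i, r)) - c (e (j, r))) ^ 2 :=
        Finset.sum_nonneg fun _ _ => Finset.sum_nonneg fun _ _ => sq_nonneg _
      simp only [hg]
      linarith
    have hp1 : 1 ≤ p := hp.one_lt.le
    have hkey : ((unitExps (p ^ (a + 1))).card : ℤ) = ((p ^ a : ℕ) : ℤ) * ((p : ℤ) - 1) := by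
      rw [card_unitExps p a hp]; push_cast [Nat.cast_sub hp1]; ring
    have hpa : (0 : ℤ) ≤ ((p ^ a : ℕ) : ℤ) := Int.natCast_nonneg _
    obtain ⟨r, s₀, s₁, hr⟩ : ∃ r s₀ s₁, c (e (s₀, r)) ≠ c (e (s₁, r)) := by
      by_contra h
      simp only [ne_eq, not_exists, not_not] at h
      have hz : ∀ r, g r = 0 := fun r => by
        simp only [hg]
        rw [Finset.sum_congr rfl fun s _ => congrArg (· ^ 2) (h r s ⟨0, hp.pos⟩),
          Finset.sum_congr rfl fun s _ => h r s ⟨0, hp.pos⟩]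
        simp only [Finset.sum_const, Finset.card_univ, Fintype.card_fin, nsmul_eq_mul]
        ring
      have hS : ∑ i ∈ unitExps (p ^ (a + 1)), Complex.normSq (evalPow ζ c i) = 0 := by
        rw [hform]
        simp only [hg] at hz
        simp [hz]
      rw [Finset.sum_eq_zero_iff_of_nonneg fun _ _ => Complex.normSq_nonneg _] at hS
      refine hne (Complex.normSq_eq_zero.1 (hS 1 ?_))
      rw [unitExps, Finset.mem_filter, Finset.mem_range]
      exact ⟨Nat.one_lt_pow a.succ_ne_zero hp.one_lt, Nat.coprime_one_left _⟩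
    refine ⟨?_, fun hI => ?_⟩
    · have h1 : (p : ℤ) - 1 ≤ ∑ r, g r :=
        le_trans (fibre_lower (fun s => c (e (s, r))) hr)
          (Finset.single_le_sum (fun r _ => hg0 r) (Finset.mem_univ r))
      rw [hform]
      have h2 := mul_le_mul_of_nonneg_left h1 hpa
      rw [← hkey] at h2
      exact_mod_cast h2
    · have h1 : 2 * ((p : ℤ) - 1) ≤ ∑ r, g r := by
        by_cases hex : ∃ r', r' ≠ r ∧ ∃ t₀ t₁, c (e (t₀, r')) ≠ c (e (t₁, r'))
        · obtain ⟨r', hrr, t₀, t₁, ht⟩ := hex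
          have h2 := Finset.sum_le_sum_of_subset_of_nonneg (s := {r, r'}) (t := Finset.univ)
            (f := g) (Finset.subset_univ _) (fun i _ _ => hg0 i)
          rw [Finset.sum_pair hrr.symm] at h2
          have ha1 : (p : ℤ) - 1 ≤ g r := fibre_lower (fun s => c (e (s, r))) hr
          have ha2 : (p : ℤ) - 1 ≤ g r' := fibre_lower (fun s => c (e (s, r'))) ht
          linarith
        · simp only [ne_eq, not_exists, not_and, not_not] at hex
          refine le_trans (fibre_lower_two (fun s => c (e (s, r))) hr ?_)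
            (Finset.single_le_sum (fun r _ => hg0 r) (Finset.mem_univ r))
          have hall := hdvd hI
          rw [← e.sum_comp, Fintype.sum_prod_type, Finset.sum_comm,
            ← Finset.add_sum_erase _ _ (Finset.mem_univ r)] at hall
          refine (dvd_add_left (Finset.dvd_sum fun r' hr' => ?_)).1 hall
          rw [Finset.sum_congr rfl fun s _ => hex r' (Finset.ne_of_mem_erase hr') s ⟨0, hp.pos⟩,
            Finset.sum_const, Finset.card_univ, Fintype.card_fin, nsmul_eq_mul]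
          exact dvd_mul_right _ _
      rw [hform]
      have h2 : 2 * ((unitExps (p ^ (a + 1))).card : ℤ) ≤ ((p ^ a : ℕ) : ℤ) * ∑ r, g r := by
        rw [hkey, mul_left_comm]
        exact mul_le_mul_of_nonneg_left h1 hpa
      exact_mod_cast h2

/-- Sums of roots of unity of `p`-power order are local integers, with their conjugates. -/
theorem memLocalRing_evalPow {p : ℕ} (hp : p.Prime) {M : Ideal AlgInt} [M.IsPrime] {k : ℕ} {ζ : ℂ}
    (hζ : IsPrimitiveRoot ζ (p ^ k)) (c : Fin (p ^ k) → ℤ) (u : ℕ) :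
    MemLocalRing M (evalPow ζ c u) ∧ MemLocalRing M (conj (evalPow ζ c u)) := by
  have h : ∀ w : ℂ, w ^ (p ^ k) = 1 → MemLocalRing M w := fun w hw =>
    memLocalRing_of_isIntegral' (IsIntegral.of_pow (pow_pos hp.pos k) (by
      rw [hw]; exact isIntegral_one))
  refine ⟨memLocalRing_sum _ fun j _ => memLocalRing_mul (memLocalRing_intCast _) (h _ ?_), ?_⟩
  · rw [← pow_mul, mul_comm, pow_mul, hζ.pow_eq_one, one_pow]
  · rw [evalPow, map_sum]
    refine memLocalRing_sum _ fun j _ => ?_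
    rw [map_mul, map_intCast, map_pow]
    refine memLocalRing_mul (memLocalRing_intCast _) (h _ ?_)
    rw [← pow_mul, mul_comm, pow_mul, ← map_pow, hζ.pow_eq_one, map_one, one_pow]

/-! ### The count -/

/-- Columns of integral combinations of roots of unity carrying the positive form
`(α, β, γ)`, whose inverse is `(a₁₁, a₁₂, a₂₂) / p ^ d`. -/
structure PairForm {ι : Type*} [Fintype ι] (M : Ideal AlgInt) (H : Finset ι) (p d : ℕ) {N : ℕ}
    (ζ : ℂ) (α β γ : ℤ) where
  /-- first coordinates -/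
  cx : ι → Fin N → ℤ
  /-- second coordinates -/
  cy : ι → Fin N → ℤ
  /-- first norm -/
  a11 : ℤ
  /-- inner product -/
  a12 : ℤ
  /-- second norm -/
  a22 : ℤ
  hxx : ∀ u ∈ unitExps N, ∑ i, evalPow ζ (cx i) u * conj (evalPow ζ (cx i) u) = (a11 : ℂ)
  hxy : ∀ u ∈ unitExps N, ∑ i, evalPow ζ (cx i) u * conj (evalPow ζ (cy i) u) = (a12 : ℂ)
  hyy : ∀ u ∈ unitExps N, ∑ i, evalPow ζ (cy i) u * conj (evalPow ζ (cy i) u) = (a22 : ℂ)
  e11 : a11 * α + a12 * β = (p : ℤ) ^ d
  e12 : a11 * β + a12 * γ = 0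
  e21 : a12 * α + a22 * β = 0
  e22 : a12 * β + a22 * γ = (p : ℤ) ^ d
  apos : 0 < α
  detpos : 0 < α * γ - β ^ 2
  detdvd : (p : ℤ) ∣ α * γ - β ^ 2
  nonzero : ∀ i, ∀ j ∈ H,
    (α : ℂ) * (evalPow ζ (cx i) 1 * conj (evalPow ζ (cx j) 1)) +
      (β : ℂ) * (evalPow ζ (cx i) 1 * conj (evalPow ζ (cy j) 1) +
        evalPow ζ (cy i) 1 * conj (evalPow ζ (cx j) 1)) +
      (γ : ℂ) * (evalPow ζ (cy i) 1 * conj (evalPow ζ (cy j) 1)) ≠ 0
  small : ∀ i, i ∉ H → ∀ j ∈ H, MemLocalIdeal M
    ((α : ℂ) * (evalPow ζ (cx i) 1 * conj (evalPow ζ (cx j) 1)) +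
      (β : ℂ) * (evalPow ζ (cx i) 1 * conj (evalPow ζ (cy j) 1) +
        evalPow ζ (cy i) 1 * conj (evalPow ζ (cx j) 1)) +
      (γ : ℂ) * (evalPow ζ (cy i) 1 * conj (evalPow ζ (cy j) 1)))
  unit : ∀ j ∈ H, ¬ MemLocalIdeal M
    ((α : ℂ) * (evalPow ζ (cx j) 1 * conj (evalPow ζ (cx j) 1)) +
      (β : ℂ) * (evalPow ζ (cx j) 1 * conj (evalPow ζ (cy j) 1) +
        evalPow ζ (cy j) 1 * conj (evalPow ζ (cx j) 1)) +
      (γ : ℂ) * (evalPow ζ (cy j) 1 * conj (evalPow ζ (cy j) 1)))

namespace PairForm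

variable {ι : Type*} [Fintype ι] {M : Ideal AlgInt} {H : Finset ι} {p d : ℕ} {N : ℕ} {ζ : ℂ}
  {α β γ : ℤ}

theorem gpos (F : PairForm M H p d (N := N) ζ α β γ) : 0 < γ := by
  nlinarith [F.apos, F.detpos, sq_nonneg β]

/-- Exchange of the two coordinates. -/
def swap (F : PairForm M H p d (N := N) ζ α β γ) : PairForm M H p d (N := N) ζ γ β α where
  cx := F.cy
  cy := F.cx
  a11 := F.a22
  a12 := F.a12
  a22 := F.a11
  hxx := F.hyy
  hxy := fun u hu => by
    have h := congrArg conj (F.hxy u hu)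
    simp only [map_sum, map_mul, Complex.conj_conj, map_intCast] at h
    rw [← h]
    exact Finset.sum_congr rfl fun i _ => mul_comm _ _
  hyy := F.hxx
  e11 := by linear_combination F.e22
  e12 := by linear_combination F.e21
  e21 := by linear_combination F.e12
  e22 := by linear_combination F.e11
  apos := F.gpos
  detpos := by linarith [F.detpos, mul_comm α γ]
  detdvd := by rw [mul_comm]; exact F.detdvd
  nonzero := fun i j hj => fun h => F.nonzero i j hj (by linear_combination h)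
  small := fun i hi j hj => by
    convert F.small i hi j hj using 1; ring
  unit := fun j hj h => F.unit j hj (by convert h using 1; ring)

/-- The change of coordinates `(x, y) ↦ (x + t y, s y)` with `s = ±1`. -/
def shear (F : PairForm M H p d (N := N) ζ α β γ) (t s : ℤ) (hs : s * s = 1) :
    PairForm M H p d (N := N) ζ α (s * (β - t * α)) (γ - 2 * t * β + t ^ 2 * α) where
  cx := fun i => F.cx i + t • F.cy i
  cy := fun i => s • F.cy i
  a11 := F.a11 + 2 * t * F.a12 + t ^ 2 * F.a22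
  a12 := s * (F.a12 + t * F.a22)
  a22 := F.a22
  hxx := fun u hu => by
    have h := congrArg conj (F.hxy u hu)
    simp only [map_sum, map_mul, Complex.conj_conj, map_intCast] at h
    simp only [evalPow_add, evalPow_smul, map_add, map_mul, map_intCast, add_mul, mul_add,
      Finset.sum_add_distrib]
    push_cast
    rw [← F.hxx u hu, ← F.hyy u hu]
    simp only [Finset.mul_sum]
    rw [show (2 : ℂ) * (t : ℂ) * (F.a12 : ℂ) = (t : ℂ) * (F.a12 : ℂ) + (t : ℂ) * (F.a12 : ℂ) by ring]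
    conv_rhs => rw [show (t : ℂ) * (F.a12 : ℂ) + (t : ℂ) * (F.a12 : ℂ) =
      (t : ℂ) * (∑ i, evalPow ζ (F.cx i) u * conj (evalPow ζ (F.cy i) u)) +
      (t : ℂ) * (∑ i, conj (evalPow ζ (F.cx i) u) * evalPow ζ (F.cy i) u) by rw [F.hxy u hu, h]]
    simp only [Finset.mul_sum, ← Finset.sum_add_distrib]
    exact Finset.sum_congr rfl fun i _ => by ring
  hxy := fun u hu => by
    simp only [evalPow_add, evalPow_smul, map_mul, map_intCast, add_mul,
      Finset.sum_add_distrib]
    push_cast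
    rw [← F.hxy u hu, ← F.hyy u hu]
    simp only [Finset.mul_sum, ← Finset.sum_add_distrib]
    exact Finset.sum_congr rfl fun i _ => by ring
  hyy := fun u hu => by
    simp only [evalPow_smul, map_mul, map_intCast]
    rw [← F.hyy u hu]
    refine Finset.sum_congr rfl fun i _ => ?_
    have hs' : (s : ℂ) * s = 1 := by exact_mod_cast hs
    linear_combination (evalPow ζ (F.cy i) u * conj (evalPow ζ (F.cy i) u)) * hs'
  e11 := by
    linear_combination F.e11 + t * F.e21 + ((F.a12 + t * F.a22) * (β - t * α)) * hs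
  e12 := by
    linear_combination s * (F.e12 - t * F.e11 + t * F.e22 - t ^ 2 * F.e21)
  e21 := by
    linear_combination s * F.e21
  e22 := by
    linear_combination F.e22 - t * F.e21 + ((F.a12 + t * F.a22) * (β - t * α)) * hs
  apos := F.apos
  detpos := by
    have h : α * (γ - 2 * t * β + t ^ 2 * α) - (s * (β - t * α)) ^ 2 = α * γ - β ^ 2 := by
      linear_combination -(β - t * α) ^ 2 * hs
    rw [h]; exact F.detpos
  detdvd := by
    have h : α * (γ - 2 * t * β + t ^ 2 * α) - (s * (β - t * α)) ^ 2 = α * γ - β ^ 2 := by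
      linear_combination -(β - t * α) ^ 2 * hs
    rw [h]; exact F.detdvd
  nonzero := fun i j hj h => F.nonzero i j hj (by
    simp only [evalPow_add, evalPow_smul, map_add, map_mul, map_intCast, Int.cast_mul, Int.cast_sub,
      Int.cast_add, Int.cast_pow, Int.cast_ofNat] at h
    have hs' : (s : ℂ) * s = 1 := by exact_mod_cast hs
    linear_combination h - ((β - t * α : ℂ) * ((evalPow ζ (F.cx i) 1 + t * evalPow ζ (F.cy i) 1) * conj (evalPow ζ (F.cy j) 1) + evalPow ζ (F.cy i) 1 * (conj (evalPow ζ (F.cx j) 1) + t * conj (evalPow ζ (F.cy j) 1))) + (γ - 2 * t * β + t ^ 2 * α : ℂ) * (evalPow ζ (F.cy i) 1 * conj (evalPow ζ (F.cy j) 1))) * hs')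
  small := fun i hi j hj => by
    convert F.small i hi j hj using 1
    simp only [evalPow_add, evalPow_smul, map_add, map_mul, map_intCast]
    push_cast
    have hs' : (s : ℂ) * s = 1 := by exact_mod_cast hs
    linear_combination ((β - t * α : ℂ) * ((evalPow ζ (F.cx i) 1 + t * evalPow ζ (F.cy i) 1) * conj (evalPow ζ (F.cy j) 1) + evalPow ζ (F.cy i) 1 * (conj (evalPow ζ (F.cx j) 1) + t * conj (evalPow ζ (F.cy j) 1))) + (γ - 2 * t * β + t ^ 2 * α : ℂ) * (evalPow ζ (F.cy i) 1 * conj (evalPow ζ (F.cy j) 1))) * hs'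
  unit := fun j hj h => F.unit j hj (by
    convert h using 1
    simp only [evalPow_add, evalPow_smul, map_add, map_mul, map_intCast]
    push_cast
    have hs' : (s : ℂ) * s = 1 := by exact_mod_cast hs
    linear_combination -(((β - t * α : ℂ) * ((evalPow ζ (F.cx j) 1 + t * evalPow ζ (F.cy j) 1) * conj (evalPow ζ (F.cy j) 1) + evalPow ζ (F.cy j) 1 * (conj (evalPow ζ (F.cx j) 1) + t * conj (evalPow ζ (F.cy j) 1))) + (γ - 2 * t * β + t ^ 2 * α : ℂ) * (evalPow ζ (F.cy j) 1 * conj (evalPow ζ (F.cy j) 1))) * hs'))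

end PairForm

/-- The sum of the weights of a column. -/
theorem sum_weight_eq {ι : Type*} [Fintype ι] {N : ℕ} {ζ : ℂ} (cx : ι → Fin N → ℤ) (a : ℤ)
    (h : ∀ u ∈ unitExps N, ∑ i, evalPow ζ (cx i) u * conj (evalPow ζ (cx i) u) = (a : ℂ)) :
    ∑ i, ∑ u ∈ unitExps N, Complex.normSq (evalPow ζ (cx i) u) =
      ((unitExps N).card : ℝ) * (a : ℝ) := by
  rw [Finset.sum_comm, ← nsmul_eq_mul, ← Finset.sum_const]
  refine Finset.sum_congr rfl fun u hu => ?_
  apply Complex.ofReal_injective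
  rw [Complex.ofReal_sum, Complex.ofReal_intCast, ← h u hu]
  exact Finset.sum_congr rfl fun i _ => (Complex.mul_conj _).symm

/-- **The count for a reduced form.** -/
theorem card_le_of_reduced {p : ℕ} (hp : p.Prime) {M : Ideal AlgInt} [M.IsPrime]
    (hM : IsPModular p M) {k : ℕ} {ζ : ℂ} (hζ : IsPrimitiveRoot ζ (p ^ k))
    {ι : Type*} [Fintype ι] {H : Finset ι} (hH : H.Nonempty) {d : ℕ} {α β γ : ℤ}
    (F : PairForm M H p d (N := p ^ k) ζ α β γ) (hβ : 0 ≤ β) (hαγ : α ≤ γ) (hβα : 2 * β ≤ α) :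
    Fintype.card ι ≤ p ^ d := by
  classical
  set t : ℝ := ((unitExps (p ^ k)).card : ℝ) with ht
  have ht0 : 0 < t := by
    rw [ht]
    refine Nat.cast_pos.2 (Finset.card_pos.2 ?_)
    rcases k with _ | a
    · rw [pow_zero, unitExps_one]; exact Finset.singleton_nonempty 0
    · exact ⟨1, by rw [unitExps, Finset.mem_filter, Finset.mem_range]
                   exact ⟨Nat.one_lt_pow a.succ_ne_zero hp.one_lt, Nat.coprime_one_left _⟩⟩
  obtain ⟨j₀, hj₀⟩ := hH
  set Δ := α * γ - β ^ 2 with hΔ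
  have hΔ0 := F.detpos
  have ha11 : Δ * F.a11 = (p : ℤ) ^ d * γ := by
    linear_combination γ * F.e11 - β * F.e12
  have ha12 : Δ * F.a12 = -((p : ℤ) ^ d * β) := by
    linear_combination α * F.e12 - β * F.e11
  have ha22 : Δ * F.a22 = (p : ℤ) ^ d * α := by
    linear_combination α * F.e22 - β * F.e21
  have hP0 : (0 : ℤ) ≤ (p : ℤ) ^ d := by positivity
  by_cases hbad : α = 1
  · have hβ0 : β = 0 := by omega
    subst hbad
    subst hβ0
    have hΔγ : Δ = γ := by rw [hΔ]; ring
    have hpγ : (p : ℤ) ∣ γ := hΔγ ▸ F.detdvd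
    have hγ2 : 2 ≤ γ := le_trans (by exact_mod_cast hp.two_le) (Int.le_of_dvd F.gpos hpγ)
    have hγI : MemLocalIdeal M (γ : ℂ) := (memLocalIdeal_intCast_iff hM γ).2 hpγ
    have hA11 : F.a11 = (p : ℤ) ^ d := by have := F.e11; linarith
    have hA22 : 2 * F.a22 ≤ (p : ℤ) ^ d := by
      have h := F.e22
      have h22 : 0 ≤ F.a22 := by
        have : 0 ≤ Δ * F.a22 := by rw [ha22]; linarith
        exact nonneg_of_mul_nonneg_right this hΔ0
      nlinarith
    set x : ι → ℂ := fun i => evalPow ζ (F.cx i) 1 with hx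
    set y : ι → ℂ := fun i => evalPow ζ (F.cy i) 1 with hy
    have hR : ∀ i, MemLocalRing M (x i) ∧ MemLocalRing M (conj (x i)) := fun i =>
      memLocalRing_evalPow hp hζ _ 1
    have hRy : ∀ i, MemLocalRing M (y i) ∧ MemLocalRing M (conj (y i)) := fun i =>
      memLocalRing_evalPow hp hζ _ 1
    have hγy : ∀ i j, MemLocalIdeal M ((γ : ℂ) * (y i * conj (y j))) := fun i j =>
      memLocalIdeal_mul_right hγI (memLocalRing_mul (hRy i).1 (hRy j).2)
    have hxunit : ∀ j ∈ H, ¬ MemLocalIdeal M (x j) ∧ ¬ MemLocalIdeal M (conj (x j)) := by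
      intro j hj
      have hu := F.unit j hj
      refine ⟨fun h => hu ?_, fun h => hu ?_⟩ <;>
      · simp only [Int.cast_one, Int.cast_zero, one_mul, zero_mul, add_zero]
        refine memLocalIdeal_add ?_ (hγy j j)
        first
          | exact memLocalIdeal_mul_right h (hR j).2
          | exact memLocalIdeal_mul_left (hR j).1 h
    have hsmall : ∀ i, i ∉ H → MemLocalIdeal M (x i) := by
      intro i hi
      have h := F.small i hi j₀ hj₀
      simp only [Int.cast_one, Int.cast_zero, one_mul, zero_mul, add_zero] at h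
      have h2 := memLocalIdeal_sub h (hγy i j₀)
      rw [add_sub_cancel_right] at h2
      exact ((memLocalIdeal_mul_iff (hR i).1 (hR j₀).2).1 h2).resolve_right (hxunit j₀ hj₀).2
    have hzero : ∀ i, x i = 0 → y i ≠ 0 ∧ ∀ j ∈ H, y j ≠ 0 := by
      intro i hi
      refine ⟨fun h => F.nonzero i j₀ hj₀ ?_, fun j hj h => F.nonzero i j hj ?_⟩
      · simp only [Int.cast_one, Int.cast_zero, one_mul, zero_mul, add_zero]
        show x i * _ + (γ : ℂ) * (y i * _) = 0
        rw [hi, h]; ring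
      · simp only [Int.cast_one, Int.cast_zero, one_mul, zero_mul, add_zero]
        show x i * _ + (γ : ℂ) * (y i * conj (y j)) = 0
        rw [hi, h, map_zero]; ring
    set R : Finset ι := Finset.univ.filter fun i => x i = 0
    set O : Finset ι := Finset.univ.filter fun i => i ∉ H ∧ x i ≠ 0
    have hdisj : Disjoint R H := Finset.disjoint_left.2 fun i hi hiH =>
      (hxunit i hiH).1 (by rw [(Finset.mem_filter.1 hi).2]; exact memLocalIdeal_zero)
    have hdisj' : Disjoint H O := Finset.disjoint_left.2 fun i hiH hiO =>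
      (Finset.mem_filter.1 hiO).2.1 hiH
    have hcard : Fintype.card ι = R.card + H.card + O.card := by
      rw [← Finset.card_univ, ← Finset.card_union_of_disjoint hdisj,
        ← Finset.card_union_of_disjoint (Finset.disjoint_union_left.2 ⟨Finset.disjoint_left.2
          fun i hi hiO => (Finset.mem_filter.1 hiO).2.2 (Finset.mem_filter.1 hi).2, hdisj'⟩)]
      congr 1
      ext i
      by_cases h1 : x i = 0 <;> by_cases h2 : i ∈ H <;> simp [R, O, h1, h2]
    have hX := sum_weight_eq F.cx F.a11 F.hxx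
    have hY := sum_weight_eq F.cy F.a22 F.hyy
    have hXlow : (H.card : ℝ) * t + 2 * (O.card : ℝ) * t ≤ t * (F.a11 : ℝ) := by
      rw [← hX]
      refine le_trans ?_ (Finset.sum_le_sum_of_subset_of_nonneg (Finset.subset_univ (H ∪ O))
        fun i _ _ => Finset.sum_nonneg fun _ _ => Complex.normSq_nonneg _)
      rw [Finset.sum_union hdisj']
      refine add_le_add ?_ ?_
      · rw [← nsmul_eq_mul, ← Finset.sum_const]
        exact Finset.sum_le_sum fun i hi => (weight_evalPow hp hM hζ _ fun h =>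
          (hxunit i hi).1 (by show MemLocalIdeal M (evalPow ζ (F.cx i) 1)
                              rw [h]; exact memLocalIdeal_zero)).1
      · rw [mul_assoc, mul_comm (O.card : ℝ) t, ← mul_assoc, mul_comm _ (O.card : ℝ),
          ← nsmul_eq_mul, ← Finset.sum_const]
        refine Finset.sum_le_sum fun i hi => ?_
        obtain ⟨-, hiH, hi0⟩ := Finset.mem_filter.1 hi
        exact (weight_evalPow hp hM hζ _ hi0).2 (hsmall i hiH)
    have hYlow : R.Nonempty → ((R.card : ℝ) + H.card) * t ≤ t * (F.a22 : ℝ) := by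
      rintro ⟨i₀, hi₀⟩
      rw [← hY]
      refine le_trans ?_ (Finset.sum_le_sum_of_subset_of_nonneg (Finset.subset_univ (R ∪ H))
        fun i _ _ => Finset.sum_nonneg fun _ _ => Complex.normSq_nonneg _)
      rw [← Nat.cast_add, ← Finset.card_union_of_disjoint hdisj, ← nsmul_eq_mul,
        ← Finset.sum_const]
      refine Finset.sum_le_sum fun i hi => (weight_evalPow hp hM hζ _ ?_).1
      rcases Finset.mem_union.1 hi with h | h
      · exact (hzero i (Finset.mem_filter.1 h).2).1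
      · exact (hzero i₀ (Finset.mem_filter.1 hi₀).2).2 i h
    have hX' : (H.card : ℝ) + 2 * O.card ≤ (p : ℝ) ^ d := by
      have h : ((H.card : ℝ) + 2 * O.card) * t ≤ (F.a11 : ℝ) * t := by linarith
      have h' := le_of_mul_le_mul_right h ht0
      rw [hA11] at h'; push_cast at h'; exact h'
    have hA22' : 2 * (F.a22 : ℝ) ≤ (p : ℝ) ^ d := by exact_mod_cast hA22
    have hfin : ((Fintype.card ι : ℕ) : ℝ) ≤ ((p ^ d : ℕ) : ℝ) := by
      rw [hcard]; push_cast
      rcases R.eq_empty_or_nonempty with hR0 | hR0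
      · rw [hR0]; simp only [Finset.card_empty, Nat.cast_zero, zero_add]
        have : (0 : ℝ) ≤ (O.card : ℝ) := Nat.cast_nonneg _
        linarith
      · have h := le_of_mul_le_mul_right (b := (R.card : ℝ) + H.card) (c := (F.a22 : ℝ))
          (a := t) (by linarith [hYlow hR0]) ht0
        linarith [(Nat.cast_nonneg H.card : (0 : ℝ) ≤ H.card)]
    exact_mod_cast hfin
  · have hα2 : 2 ≤ α := by have := F.apos; omega
    have hsum : F.a11 + F.a22 + F.a12 ≤ (p : ℤ) ^ d := by
      refine le_of_mul_le_mul_left ?_ hΔ0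
      rw [mul_add, mul_add, ha11, ha22, ha12]
      have hkey : γ + α - β ≤ Δ := by
        rcases eq_or_lt_of_le hβ with h | h
        · subst h; rw [hΔ]; nlinarith
        · rw [hΔ]
          nlinarith [mul_nonneg (show (0 : ℤ) ≤ α - 2 * β by linarith) (show (0 : ℤ) ≤ γ - 1 by linarith),
            mul_nonneg (show (0 : ℤ) ≤ γ - 2 * β by linarith) (show (0 : ℤ) ≤ 2 * β - 1 by linarith)]
      have := mul_le_mul_of_nonneg_left hkey hP0
      linarith
    have hX := sum_weight_eq F.cx F.a11 F.hxx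
    have hY := sum_weight_eq F.cy F.a22 F.hyy
    have hxy' : ∀ u ∈ unitExps (p ^ k), ∑ i, evalPow ζ (F.cx i + F.cy i) u *
        conj (evalPow ζ (F.cx i + F.cy i) u) = ((F.a11 + F.a12 + F.a12 + F.a22 : ℤ) : ℂ) := by
      intro u hu
      have h := congrArg conj (F.hxy u hu)
      simp only [map_sum, map_mul, Complex.conj_conj, map_intCast] at h
      push_cast
      conv_rhs => rw [← F.hxx u hu, ← F.hyy u hu]
      conv_rhs => arg 1; arg 1; arg 2; rw [← F.hxy u hu]
      conv_rhs => arg 1; arg 2; rw [← h]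
      simp only [← Finset.sum_add_distrib]
      refine Finset.sum_congr rfl fun i _ => ?_
      rw [evalPow_add, map_add]
      ring
    have hS := sum_weight_eq (fun i => F.cx i + F.cy i) _ hxy'
    have hlow : (2 : ℝ) * ((Fintype.card ι : ℕ) : ℝ) * t ≤
        (∑ i, ∑ u ∈ unitExps (p ^ k), Complex.normSq (evalPow ζ (F.cx i) u)) +
        (∑ i, ∑ u ∈ unitExps (p ^ k), Complex.normSq (evalPow ζ (F.cy i) u)) +
        ∑ i, ∑ u ∈ unitExps (p ^ k), Complex.normSq (evalPow ζ (F.cx i + F.cy i) u) := by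
      rw [← Finset.sum_add_distrib, ← Finset.sum_add_distrib, mul_comm (2 : ℝ), mul_assoc,
        ← nsmul_eq_mul, ← Finset.card_univ, ← Finset.sum_const]
      refine Finset.sum_le_sum fun i _ => ?_
      have hw : ∀ c : Fin (p ^ k) → ℤ, evalPow ζ c 1 ≠ 0 →
          t ≤ ∑ u ∈ unitExps (p ^ k), Complex.normSq (evalPow ζ c u) :=
        fun c hc => (weight_evalPow hp hM hζ c hc).1
      have hn : ∀ c : Fin (p ^ k) → ℤ,
          0 ≤ ∑ u ∈ unitExps (p ^ k), Complex.normSq (evalPow ζ c u) :=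
        fun c => Finset.sum_nonneg fun _ _ => Complex.normSq_nonneg _
      by_cases h1 : evalPow ζ (F.cx i) 1 = 0
      · have h2 : evalPow ζ (F.cy i) 1 ≠ 0 := fun h2 => F.nonzero i j₀ hj₀ (by rw [h1, h2]; ring)
        have h3 : evalPow ζ (F.cx i + F.cy i) 1 ≠ 0 := by rw [evalPow_add, h1, zero_add]; exact h2
        linarith [hw _ h2, hw _ h3, hn (F.cx i)]
      · by_cases h2 : evalPow ζ (F.cy i) 1 = 0
        · have h3 : evalPow ζ (F.cx i + F.cy i) 1 ≠ 0 := by
            rw [evalPow_add, h2, add_zero]; exact h1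
          linarith [hw _ h1, hw _ h3, hn (F.cy i)]
        · linarith [hw _ h1, hw _ h2, hn (F.cx i + F.cy i)]
    rw [hX, hY, hS] at hlow
    have hsumR : (F.a11 : ℝ) + F.a22 + F.a12 ≤ (p : ℝ) ^ d := by exact_mod_cast hsum
    have h : (2 : ℝ) * ((Fintype.card ι : ℕ) : ℝ) * t ≤ 2 * (p : ℝ) ^ d * t := by
      refine hlow.trans ?_
      push_cast
      have := mul_le_mul_of_nonneg_left hsumR ht0.le
      linarith
    have h' := le_of_mul_le_mul_right h ht0
    have : ((Fintype.card ι : ℕ) : ℝ) ≤ ((p ^ d : ℕ) : ℝ) := by push_cast; linarith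
    exact_mod_cast this

/-- **The count for a pair of columns.** -/
theorem card_le_of_pairForm {p : ℕ} (hp : p.Prime) {M : Ideal AlgInt} [M.IsPrime]
    (hM : IsPModular p M) {k : ℕ} {ζ : ℂ} (hζ : IsPrimitiveRoot ζ (p ^ k))
    {ι : Type*} [Fintype ι] {H : Finset ι} (hH : H.Nonempty) {d : ℕ} :
    ∀ (n : ℕ) (α β γ : ℤ), PairForm M H p d (N := p ^ k) ζ α β γ → (α + γ).toNat = n →
      Fintype.card ι ≤ p ^ d := by
  intro n
  induction n using Nat.strong_induction_on with
  | _ n ih =>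
    intro α β γ F hn
    have ha := F.apos
    have hg := F.gpos
    obtain ⟨s, hs, hsb⟩ : ∃ s : ℤ, s * s = 1 ∧ 0 ≤ s * β := by
      rcases le_or_gt 0 β with h | h
      · exact ⟨1, rfl, by linarith⟩
      · exact ⟨-1, rfl, by linarith⟩
    have F' : PairForm M H p d (N := p ^ k) ζ α (s * β) γ := by
      simpa using F.shear 0 s hs
    rcases lt_or_ge α (2 * (s * β)) with h1 | h1
    · have F'' := F'.shear 1 1 rfl
      refine ih ((α + (γ - 2 * 1 * (s * β) + 1 ^ 2 * α)).toNat) ?_ _ _ _ F'' rfl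
      have := F''.gpos
      omega
    rcases lt_or_ge γ (2 * (s * β)) with h2 | h2
    · have F'' := F'.swap.shear 1 1 rfl
      refine ih ((γ + (α - 2 * 1 * (s * β) + 1 ^ 2 * γ)).toNat) ?_ _ _ _ F'' rfl
      have := F''.gpos
      omega
    rcases le_or_gt α γ with h3 | h3
    · exact card_le_of_reduced hp hM hζ hH F' hsb h3 h1
    · exact card_le_of_reduced hp hM hζ hH F'.swap hsb h3.le h2

/-- **The count for a single column.** -/
theorem card_le_of_singleForm {p : ℕ} (hp : p.Prime) {M : Ideal AlgInt} [M.IsPrime]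
    (hM : IsPModular p M) {k : ℕ} {ζ : ℂ} (hζ : IsPrimitiveRoot ζ (p ^ k))
    {ι : Type*} [Fintype ι] (c : ι → Fin (p ^ k) → ℤ) {α a : ℤ} {d : ℕ} (hα : 0 < α)
    (haα : a * α = (p : ℤ) ^ d)
    (hsum : ∀ u ∈ unitExps (p ^ k), ∑ i, evalPow ζ (c i) u * conj (evalPow ζ (c i) u) = (a : ℂ))
    (hne : ∀ i, evalPow ζ (c i) 1 ≠ 0) : Fintype.card ι ≤ p ^ d := by
  have hW := sum_weight_eq c a hsum
  have hlow : ((Fintype.card ι : ℕ) : ℝ) * (unitExps (p ^ k)).card ≤
      ((unitExps (p ^ k)).card : ℝ) * (a : ℝ) := by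
    rw [← hW, ← nsmul_eq_mul, ← Finset.card_univ, ← Finset.sum_const]
    exact Finset.sum_le_sum fun i _ => (weight_evalPow hp hM hζ _ (hne i)).1
  have ht0 : (0 : ℝ) < ((unitExps (p ^ k)).card : ℝ) := by
    refine Nat.cast_pos.2 (Finset.card_pos.2 ?_)
    rcases k with _ | b
    · rw [pow_zero, unitExps_one]; exact Finset.singleton_nonempty 0
    · exact ⟨1, by rw [unitExps, Finset.mem_filter, Finset.mem_range]
                   exact ⟨Nat.one_lt_pow b.succ_ne_zero hp.one_lt, Nat.coprime_one_left _⟩⟩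
  rw [mul_comm ((unitExps (p ^ k)).card : ℝ)] at hlow
  have h' : ((Fintype.card ι : ℕ) : ℝ) ≤ (a : ℝ) := le_of_mul_le_mul_right hlow ht0
  have h'' : ((Fintype.card ι : ℕ) : ℤ) ≤ a := by exact_mod_cast h'
  have hap : a ≤ (p : ℤ) ^ d := by nlinarith [Int.natCast_nonneg (Fintype.card ι)]
  exact_mod_cast h''.trans hap

end Cfsg.Agent.Lib.Blocks
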