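import Cfsg.Agent.Lib.Blocks.DefectTwoBound
import Cfsg.Agent.Lib.Blocks.SubsectionForm

/-!
# Counting characters through a major subsection with a lower bound for its form
-/

set_option autoImplicit false
set_option linter.unusedSectionVars false
set_option linter.style.haveILetI false
set_option maxHeartbeats 2000000

namespace Cfsg.Agent.Lib.Blocks

open Cfsg Cfsg.Agent.Lib.Characters Cfsg.Agent.Lib.BlockHeights Cfsg.Agent.Lib.BrauerPairs
open scoped ComplexConjugate

universe u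

/-- The squared values at the primitive exponents, fibre by fibre. -/
theorem sum_unitExps_normSq_complex {p : ℕ} (hp : p.Prime) {a : ℕ} {ζ : ℂ}
    (hζ : IsPrimitiveRoot ζ (p ^ (a + 1))) (z : Fin (p ^ (a + 1)) → ℂ)
    (e : Fin p × Fin (p ^ a) ≃ Fin (p ^ (a + 1)))
    (he : ∀ s r, ((e (s, r) : Fin (p ^ (a + 1))) : ℕ) = (r : ℕ) + p ^ a * (s : ℕ)) :
    ∑ i ∈ unitExps (p ^ (a + 1)), Complex.normSq (∑ j, z j * ζ ^ (i * (j : ℕ))) =
      (p : ℝ) ^ a * ∑ r, 2⁻¹ * ∑ s, ∑ t, Complex.normSq (z (e (s, r)) - z (e (t, r))) := by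
  classical
  have hN : p ^ (a + 1) = p ^ a * p := pow_succ _ _
  have hζp : IsPrimitiveRoot (ζ ^ p) (p ^ a) :=
    hζ.pow (pow_pos hp.pos _) (by rw [hN, mul_comm])
  let d : Fin (p ^ a) → ℂ := fun r => ∑ s, z (e (s, r))
  have hfp : ∀ i : ℕ, ∑ j : Fin (p ^ (a + 1)), z j * ζ ^ (p * i * (j : ℕ)) =
      ∑ r, d r * (ζ ^ p) ^ (i * (r : ℕ)) := by
    intro i
    rw [← e.sum_comp, Fintype.sum_prod_type, Finset.sum_comm]
    refine Finset.sum_congr rfl fun r _ => ?_
    simp only [d, Finset.sum_mul]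
    refine Finset.sum_congr rfl fun s _ => ?_
    rw [he, ← pow_mul, show p * i * ((r : ℕ) + p ^ a * (s : ℕ)) =
      p * (i * r) + p ^ a * p * (i * s) by ring, pow_add ζ, pow_mul ζ (p ^ a * p),
      show ζ ^ (p ^ a * p) = 1 by rw [← hN]; exact hζ.pow_eq_one, one_pow, mul_one]
  have h1 := sum_range_mul_conj_pow hζ z
  have h2 := sum_range_mul_conj_pow hζp d
  rw [unitExps_eq p a hp]
  set T : ℕ → ℝ := fun i => Complex.normSq (∑ j, z j * ζ ^ (i * (j : ℕ))) with hT
  have hsplit : ∑ i ∈ Finset.range (p ^ (a + 1)), T i =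
      (∑ i ∈ Finset.range (p ^ a), T (p * i)) +
      ∑ i ∈ (Finset.range (p ^ (a + 1))).filter (fun i => ¬ p ∣ i), T i := by
    rw [← Finset.sum_filter_add_sum_filter_not (Finset.range (p ^ (a + 1))) (fun i => p ∣ i)]
    congr 1
    symm
    refine Finset.sum_bij (fun i _ => p * i) (fun i hi => ?_)
      (fun i _ j _ h => Nat.eq_of_mul_eq_mul_left hp.pos h) (fun i hi => ?_) fun i _ => rfl
    · simp only [Finset.mem_filter, Finset.mem_range] at hi ⊢
      exact ⟨by rw [hN, mul_comm (p ^ a)]; exact Nat.mul_lt_mul_of_pos_left hi hp.pos,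
        dvd_mul_right _ _⟩
    · obtain ⟨hi, i', rfl⟩ := Finset.mem_filter.1 hi
      refine ⟨i', Finset.mem_range.2 ?_, rfl⟩
      rw [Finset.mem_range, hN, mul_comm (p ^ a)] at hi
      exact Nat.lt_of_mul_lt_mul_left hi
  have hA : ∑ i ∈ Finset.range (p ^ (a + 1)), T i =
      (p ^ (a + 1) : ℕ) * ∑ j, Complex.normSq (z j) := by
    apply Complex.ofReal_injective
    simp only [hT, Complex.ofReal_sum, ← Complex.mul_conj, Complex.ofReal_mul,
      Complex.ofReal_natCast]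
    exact h1
  have hB : ∑ i ∈ Finset.range (p ^ a), T (p * i) =
      (p ^ a : ℕ) * ∑ r, Complex.normSq (d r) := by
    apply Complex.ofReal_injective
    simp only [hT, Complex.ofReal_sum, ← Complex.mul_conj, hfp, Complex.ofReal_mul,
      Complex.ofReal_natCast]
    exact h2
  have hcsum : ∑ j, Complex.normSq (z j) = ∑ r, ∑ s, Complex.normSq (z (e (s, r))) := by
    rw [← e.sum_comp, Fintype.sum_prod_type, Finset.sum_comm]
  rw [hA, hB, hcsum] at hsplit
  push_cast at hsplit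
  simp only [sum_pairs_normSq, Fintype.card_fin]
  rw [Finset.sum_congr rfl fun r _ => (inv_mul_cancel_left₀ (two_ne_zero' ℝ) _),
    Finset.sum_sub_distrib, ← Finset.mul_sum]
  simp only [d] at hsplit
  linear_combination (-1 : ℝ) * hsplit + (p : ℝ) ^ a * 0

variable {G : Type u} [Group G] [Fintype G] {M : Ideal AlgInt} [hMp : M.IsPrime] {p : ℕ}

/-- **A major subsection with a lower bound `L` for its form.** -/
theorem card_block_mul_le_of_form (hM : IsPModular p M) {B : Set (IrrCharacter G)} {x : G} {a : ℕ}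
    (hxo : orderOf x = p ^ (a + 1)) {C : Subgroup G} [Fintype C]
    (hC : ∀ g, g ∈ C ↔ Commute x g) {e : Set (IrrCharacter C)} (hind : IsInducedBlock M C e B)
    (hde : blockDefect p e = blockDefect p B) [Fintype {η // η ∈ e}] {L : ℝ} (hL0 : 0 ≤ L)
    (hq : ∀ f : {η // η ∈ e} → ℤ, ∑ η, (f η : ℂ) • pRegularPart p (η.1 : C → ℂ) ≠ 0 →
      L ≤ (p : ℝ) ^ blockDefect p B * normAvg (∑ η, (f η : ℂ) • pRegularPart p (η.1 : C → ℂ))) :
    (Nat.card B : ℝ) * L ≤ (p : ℝ) ^ blockDefect p B * (blockRank p e : ℝ) := by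
  classical
  haveI := Fact.mk hM.1
  have hB : IsPBlock M B := hind.2.1
  set N := p ^ (a + 1) with hN
  have hN1 : 1 < N := Nat.one_lt_pow a.succ_ne_zero hM.1.one_lt
  haveI : NeZero N := ⟨(zero_lt_one.trans hN1).ne'⟩
  have hx : ∃ k : ℕ, orderOf x = p ^ k := ⟨a + 1, hxo⟩
  have hxC : x ∈ C := (hC x).2 (Commute.refl x)
  set d := blockDefect p B with hd
  haveI : Fintype (IrrCharacter G) := Fintype.ofFinite _
  haveI : Fintype (IrrCharacter C) := Fintype.ofFinite _
  haveI : Fintype {χ // χ ∈ B} := Fintype.ofFinite _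
  obtain ⟨ζ, hζ⟩ : ∃ ζ : ℂ, IsPrimitiveRoot ζ N :=
    ⟨_, Complex.isPrimitiveRoot_exp _ (zero_lt_one.trans hN1).ne'⟩
  have hxp : x ^ N = 1 := by rw [← hxo, pow_orderOf_eq_one]
  choose em hem1 hem2 using fun η : {η // η ∈ e} =>
    hζ.eq_pow_of_pow_eq_one (centralRoot_pow hC hxC η.1 hxp)
  choose mult hmult using fun (χ : {χ // χ ∈ B}) (η : {η // η ∈ e}) =>
    exists_resMult_nat (C := C) χ.1 η.1
  set cf : {χ // χ ∈ B} → Fin N → {η // η ∈ e} → ℤ := fun χ j η =>
    if (⟨em η, hem1 η⟩ : Fin N) = j then (mult χ η : ℤ) else 0 with hcf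
  set v : {χ // χ ∈ B} → Fin N → (C → ℂ) := fun χ j =>
    ∑ η, (cf χ j η : ℂ) • pRegularPart p (η.1 : C → ℂ) with hv
  have hsect : ∀ u : ℕ, (∀ g, g ∈ C ↔ Commute (x ^ u) g) → ∀ χ : {χ // χ ∈ B}, ∀ s,
      sect p (x ^ u) e (χ.1 : G → ℂ) s = ∑ j : Fin N, v χ j s * ζ ^ (u * (j : ℕ)) := by
    intro u hCu χ s
    rw [sect_expand hCu (pow_mem hxC u) e χ.1]
    simp only [ite_smul, zero_smul]
    rw [← Finset.sum_filter,
      Finset.sum_subtype (p := (· ∈ e)) _ (fun y => by simp) (fun η =>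
        (centralRoot (x ^ u) (pow_mem hxC u) η * resMult C χ.1 η) • pRegularPart p (η : C → ℂ))]
    simp only [hv, Finset.sum_apply, Pi.smul_apply, smul_eq_mul, Finset.sum_mul]
    rw [Finset.sum_comm]
    refine Finset.sum_congr rfl fun η _ => ?_
    simp only [hcf, Int.cast_ite, Int.cast_zero, ite_mul, zero_mul, Finset.sum_ite_eq,
      Finset.mem_univ, if_true, Int.cast_natCast]
    rw [centralRoot_apply_pow hC hxC η.1 u, hmult χ η, ← hem2 η, ← pow_mul, mul_comm (em η) u]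
    ring
  have hCu : ∀ u ∈ unitExps N, ∀ g, g ∈ C ↔ Commute (x ^ u) g := by
    intro u hu g
    have hcop : Nat.Coprime u (orderOf x) := by rw [hxo]; exact (Finset.mem_filter.1 hu).2
    obtain ⟨w, hw⟩ := exists_pow_eq_self_of_coprime hcop
    refine ⟨fun h => ((hC g).1 h).pow_left u, fun h => (hC g).2 ?_⟩
    have := h.pow_left w
    rwa [hw] at this
  have htot : ∀ u ∈ unitExps N,
      ∑ χ : {χ // χ ∈ B}, normAvg (sect p (x ^ u) e (χ.1 : G → ℂ)) = (blockRank p e : ℝ) := by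
    intro u hu
    have hpow : ∃ k' : ℕ, orderOf (x ^ u) = p ^ k' := by
      obtain ⟨m', -, hm'⟩ := (Nat.dvd_prime_pow hM.1).1
        (show orderOf (x ^ u) ∣ p ^ (a + 1) from (show orderOf x = p ^ (a + 1) from hxo) ▸ orderOf_pow_dvd u)
      exact ⟨m', hm'⟩
    have h := sum_sect_norm hM (hCu u hu) hpow hind
    rw [finsum_mem_eq_finite_toFinset_sum _ (Set.toFinite B),
      Finset.sum_subtype (p := (· ∈ B)) _ (fun y => Set.Finite.mem_toFinset _)
      (fun χ => ∑ s : C, sect p (x ^ u) e (χ : G → ℂ) s *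
        conj (sect p (x ^ u) e (χ : G → ℂ) s))] at h
    apply Complex.ofReal_injective
    rw [Complex.ofReal_sum]
    simp only [← classInner_self_eq_normAvg, classInner, ← Finset.mul_sum]
    rw [h, ← mul_assoc, inv_mul_cancel₀ natCard_ne_zero_complex, one_mul, Complex.ofReal_natCast]
  let eq : Fin p × Fin (p ^ a) ≃ Fin N :=
    finProdFinEquiv.trans (finCongr (by rw [hN, pow_succ, mul_comm]))
  have heq : ∀ s r, ((eq (s, r) : Fin N) : ℕ) = (r : ℕ) + p ^ a * (s : ℕ) := fun s r => rfl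
  have hlow : ∀ χ : {χ // χ ∈ B}, (p : ℝ) ^ a * ((p : ℝ) - 1) * L ≤
      (p : ℝ) ^ d * ∑ u ∈ unitExps N, normAvg (sect p (x ^ u) e (χ.1 : G → ℂ)) := by
    intro χ
    have hs : ∀ s, ∑ u ∈ unitExps N, Complex.normSq (sect p (x ^ u) e (χ.1 : G → ℂ) s) =
        (p : ℝ) ^ a * ∑ r, 2⁻¹ * ∑ i, ∑ j,
          Complex.normSq (v χ (eq (i, r)) s - v χ (eq (j, r)) s) := fun s => by
      rw [Finset.sum_congr rfl fun u hu => by rw [hsect u (hCu u hu) χ s]]
      exact sum_unitExps_normSq_complex hM.1 hζ (fun j => v χ j s) eq heq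
    have hsum : ∑ u ∈ unitExps N, normAvg (sect p (x ^ u) e (χ.1 : G → ℂ)) =
        (p : ℝ) ^ a * ∑ r, 2⁻¹ * ∑ i, ∑ j, normAvg (v χ (eq (i, r)) - v χ (eq (j, r))) := by
      simp only [normAvg, ← Finset.mul_sum, Pi.sub_apply]
      rw [Finset.sum_comm, Finset.sum_congr rfl fun s _ => hs s]
      simp only [Finset.mul_sum]
      rw [Finset.sum_comm]
      refine Finset.sum_congr rfl fun r _ => ?_
      rw [Finset.sum_comm]
      refine Finset.sum_congr rfl fun i _ => ?_
      rw [Finset.sum_comm]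
      exact Finset.sum_congr rfl fun j _ => Finset.sum_congr rfl fun s _ => by ring
    have hne : ∃ r i j, v χ (eq (i, r)) ≠ v χ (eq (j, r)) := by
      by_contra hall
      simp only [not_exists, ne_eq, not_not] at hall
      obtain ⟨ψ, hψ, hmin⟩ := exists_nu_eq_minExp (p := p) (IsPBlock.nonempty hB)
      have hψ0 : blockHeight p B (ψ : G → ℂ) = 0 := by
        have := minExp_add_blockHeight (p := p) hψ; omega
      refine (contrib_height hM hC hx hind hde χ.2 hψ hψ0).1 ?_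
      have hz : sect p x e (χ.1 : G → ℂ) = 0 := by
        funext s
        have h1 : 1 ∈ unitExps N :=
          Finset.mem_filter.2 ⟨Finset.mem_range.2 hN1, Nat.coprime_one_left _⟩
        have h0 : ∑ u ∈ unitExps N, Complex.normSq (sect p (x ^ u) e (χ.1 : G → ℂ) s) = 0 := by
          rw [hs s, Finset.sum_eq_zero fun r _ => by
            rw [Finset.sum_eq_zero fun i _ => Finset.sum_eq_zero fun j _ => by
              rw [hall r i j, sub_self, map_zero], mul_zero], mul_zero]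
        have := (Finset.sum_eq_zero_iff_of_nonneg fun _ _ => Complex.normSq_nonneg _).1 h0 1 h1
        rw [pow_one] at this
        exact Complex.normSq_eq_zero.1 this
      rw [contrib, hz]
      simp [classInner]
    obtain ⟨r₀, i₀, j₀, hij⟩ := hne
    have hpairs := two_mul_le_unequal_pairs (fun i => v χ (eq (i, r₀))) hij
    rw [Fintype.card_fin] at hpairs
    have hterm : ∀ i j, (if v χ (eq (i, r₀)) ≠ v χ (eq (j, r₀)) then L else 0) ≤
        (p : ℝ) ^ d * normAvg (v χ (eq (i, r₀)) - v χ (eq (j, r₀))) := by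
      intro i j
      split_ifs with h
      · have e1 : v χ (eq (i, r₀)) - v χ (eq (j, r₀)) =
            ∑ η, (((fun η => cf χ (eq (i, r₀)) η - cf χ (eq (j, r₀)) η) η : ℤ) : ℂ) •
              pRegularPart p (η.1 : C → ℂ) := by
          simp only [hv, Int.cast_sub, sub_smul, Finset.sum_sub_distrib]
        rw [e1]
        exact hq _ (e1 ▸ sub_ne_zero.2 h)
      · exact mul_nonneg (by positivity) (normAvg_nonneg _)
    have h2 : ((2 * (p - 1) : ℕ) : ℝ) * L ≤
        ∑ i, ∑ j, if v χ (eq (i, r₀)) ≠ v χ (eq (j, r₀)) then L else 0 := by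
      refine le_trans (mul_le_mul_of_nonneg_right (Nat.cast_le.2 hpairs) hL0) (le_of_eq ?_)
      push_cast
      simp only [Finset.sum_mul, ite_mul, one_mul, zero_mul]
    have h3 := le_trans h2 (Finset.sum_le_sum fun i _ => Finset.sum_le_sum fun j _ => hterm i j)
    simp only [← Finset.mul_sum] at h3
    have h4 := Finset.single_le_sum (f := fun r => 2⁻¹ * ∑ i, ∑ j,
      normAvg (v χ (eq (i, r)) - v χ (eq (j, r))))
      (fun r _ => mul_nonneg (by norm_num) (Finset.sum_nonneg fun i _ =>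
        Finset.sum_nonneg fun j _ => normAvg_nonneg _)) (Finset.mem_univ r₀)
    rw [hsum]
    push_cast [Nat.cast_sub hM.1.one_lt.le] at h3
    have hpd : (0 : ℝ) ≤ (p : ℝ) ^ d := by positivity
    calc (p : ℝ) ^ a * ((p : ℝ) - 1) * L
        = (p : ℝ) ^ a * (2⁻¹ * (2 * ((p : ℝ) - 1) * L)) := by ring
      _ ≤ (p : ℝ) ^ a * (2⁻¹ * ((p : ℝ) ^ d * ∑ i, ∑ j,
            normAvg (v χ (eq (i, r₀)) - v χ (eq (j, r₀))))) := by gcongr
      _ = (p : ℝ) ^ d * ((p : ℝ) ^ a * (2⁻¹ * ∑ i, ∑ j,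
            normAvg (v χ (eq (i, r₀)) - v χ (eq (j, r₀))))) := by ring
      _ ≤ _ := by gcongr
  have h := Finset.sum_le_sum fun χ (_ : χ ∈ (Finset.univ : Finset {χ // χ ∈ B})) => hlow χ
  rw [Finset.sum_const, ← Finset.mul_sum, Finset.sum_comm, Finset.sum_congr rfl htot,
    Finset.sum_const, hN, card_unitExps p a hM.1, Finset.card_univ, nsmul_eq_mul,
    nsmul_eq_mul] at h
  push_cast [Nat.cast_sub hM.1.one_lt.le] at h
  have hp1 : (0 : ℝ) < (p : ℝ) ^ a * ((p : ℝ) - 1) :=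
    mul_pos (pow_pos (Nat.cast_pos.2 hM.1.pos) _) (sub_pos.2 (Nat.one_lt_cast.2 hM.1.one_lt))
  rw [Nat.card_eq_fintype_card]
  refine le_of_mul_le_mul_right ?_ hp1
  nlinarith [h]

end Cfsg.Agent.Lib.Blocks
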