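import Cfsg.Agent.Lib.Blocks.TwoAdicHalf
import Cfsg.Agent.Lib.Blocks.MajorSubsection
import Cfsg.Agent.Lib.BlockHeights.TwoSubsection

/-!
# Major subsections of `2`-blocks

The contributions written in integral coordinates give the bound `k₀ + (2/3) Σ 2 ^ h ≤ 2 ^ d` for
regular rank at most three and Brauer's bound when `k(B) - l(b) ≤ 3`.
-/

set_option autoImplicit false
set_option linter.unusedSectionVars false
set_option linter.style.haveILetI false
set_option maxHeartbeats 1600000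

namespace Cfsg.Agent.Lib.Blocks

open Cfsg Cfsg.Agent.Lib.Characters Cfsg.Agent.Lib.BlockHeights
open scoped ComplexConjugate

universe u

variable {G : Type u} [Group G] [Fintype G] {M : Ideal AlgInt} [hMp : M.IsPrime]
  {C : Subgroup G} [Fintype C] {x : G}

/-- The contributions of a major subsection of a `2`-block in integral coordinates. -/
theorem exists_contrib_coords (hM : IsPModular 2 M) (hC : ∀ g, g ∈ C ↔ Commute x g)
    (hx : ∃ k : ℕ, orderOf x = 2 ^ k) {e : Set (IrrCharacter C)} {B : Set (IrrCharacter G)}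
    [Fintype {χ // χ ∈ B}]
    (hind : IsInducedBlock M C e B) (hd : blockDefect 2 e = blockDefect 2 B) :
    ∃ (a : ℕ) (f : {χ // χ ∈ B} → {χ // χ ∈ B} → ℕ → ℤ),
      (∀ χ, ∑ ψ, ∑ j ∈ Finset.range (2 ^ a), f χ ψ j ^ 2 = 2 ^ blockDefect 2 B * f χ χ 0) ∧
      (∑ χ, f χ χ 0 = 2 ^ blockDefect 2 B * (blockRank 2 e : ℤ)) ∧
      (∀ χ, blockHeight 2 B (χ.1 : G → ℂ) = 0 → Odd (f χ χ 0)) ∧
      (∀ χ, blockHeight 2 B (χ.1 : G → ℂ) ≠ 0 →
        (2 : ℤ) ^ (blockHeight 2 B (χ.1 : G → ℂ) + 1) ∣ f χ χ 0) ∧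
      (∀ χ ψ, blockHeight 2 B (χ.1 : G → ℂ) = 0 →
        (4 : ℤ) ^ blockHeight 2 B (ψ.1 : G → ℂ) ≤ ∑ j ∈ Finset.range (2 ^ a), f χ ψ j ^ 2) ∧
      (∀ χ, 0 < f χ χ 0) ∧
      (∀ χ ψ, blockHeight 2 B (ψ.1 : G → ℂ) = 0 → 1 ≤ ∑ j ∈ Finset.range (2 ^ a), f χ ψ j ^ 2) := by
  classical
  haveI := Fintype.ofFinite (IrrCharacter G)
  haveI := Fintype.ofFinite (IrrCharacter C)
  obtain ⟨a, hk⟩ := id hx
  have hxC : x ∈ C := (hC x).2 (Commute.refl x)
  have hN : 0 < 2 ^ (a + 1) := pow_pos two_pos _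
  haveI : NeZero (2 ^ (a + 1)) := ⟨hN.ne'⟩
  obtain ⟨ζ, hζ⟩ : ∃ ζ : ℂ, IsPrimitiveRoot ζ (2 ^ (a + 1)) :=
    ⟨_, Complex.isPrimitiveRoot_exp _ hN.ne'⟩
  have hxk : x ^ 2 ^ (a + 1) = 1 := by
    rw [pow_succ, pow_mul, ← hk, pow_orderOf_eq_one, one_pow]
  choose em hem1 hem2 using fun η : IrrCharacter C =>
    hζ.eq_pow_of_pow_eq_one (centralRoot_pow hC hxC η hxk)
  choose mult hmult using fun (χ : IrrCharacter G) (η : IrrCharacter C) =>
    exists_resMult_nat (C := C) χ η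
  have hconjζ : conj ζ * ζ = 1 := by
    rw [mul_comm, Complex.mul_conj', Complex.norm_eq_one_of_pow_eq_one hζ.pow_eq_one hN.ne']
    norm_num
  have hconj : ∀ m, m ≤ 2 ^ (a + 2) → conj (ζ ^ m) = ζ ^ (2 ^ (a + 2) - m) := by
    intro m hm
    have h1 : ζ ^ 2 ^ (a + 2) = 1 := by rw [pow_succ, pow_mul, hζ.pow_eq_one, one_pow]
    have h2 : conj (ζ ^ m) * ζ ^ m = 1 := by rw [map_pow, ← mul_pow, hconjζ, one_pow]
    calc conj (ζ ^ m) = conj (ζ ^ m) * (ζ ^ m * ζ ^ (2 ^ (a + 2) - m)) := by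
          rw [← pow_add, Nat.add_sub_cancel' hm, h1, mul_one]
      _ = _ := by rw [← mul_assoc, h2, one_mul]
  let n : IrrCharacter C × IrrCharacter C → ℕ := fun q => em q.1 + (2 ^ (a + 1) - em q.2)
  let w : IrrCharacter G → IrrCharacter G → IrrCharacter C × IrrCharacter C → ℤ := fun χ ψ q =>
    (mult χ q.1 : ℤ) * mult ψ q.2 * contribCoef 2 e q.1 q.2
  choose F hF1 hF2 using fun χ ψ : IrrCharacter G => exists_halfEval_of_sum hζ n (w χ ψ)
  have hCu : ∀ i : ℕ, ∀ g, g ∈ C ↔ Commute (x ^ (2 * i + 1)) g := by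
    intro i g
    have hcop : Nat.Coprime (2 * i + 1) (orderOf x) := by
      rw [hk]
      refine Nat.Coprime.pow_right a ?_
      rw [Nat.coprime_comm, Nat.prime_two.coprime_iff_not_dvd]; omega
    obtain ⟨v, hv⟩ := exists_pow_eq_self_of_coprime hcop
    refine ⟨fun h => ((hC g).1 h).pow_left _, fun h => (hC g).2 ?_⟩
    have := h.pow_left v
    rwa [hv] at this
  have hxu : ∀ i : ℕ, ∃ k' : ℕ, orderOf (x ^ (2 * i + 1)) = 2 ^ k' := fun i => by
    obtain ⟨m', -, hm'⟩ := (Nat.dvd_prime_pow Nat.prime_two).1 (hk ▸ orderOf_pow_dvd (2 * i + 1))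
    exact ⟨m', hm'⟩
  have heval : ∀ (i : ℕ) χ ψ, contrib 2 (x ^ (2 * i + 1)) e χ ψ =
      halfEval a ζ (F χ ψ) (2 * i + 1) := by
    intro i χ ψ
    rw [contrib_eq hM (hCu i) (pow_mem hxC _) hind.1, ← hF1 χ ψ i, Fintype.sum_prod_type]
    refine Finset.sum_congr rfl fun η _ => Finset.sum_congr rfl fun η' _ => ?_
    rw [centralRoot_apply_pow hC hxC η, centralRoot_apply_pow hC hxC η', map_pow, ← mul_pow,
      ← hem2 η, ← hem2 η', hmult χ η, hmult ψ η']
    have hroot : ζ ^ em η * conj (ζ ^ em η') = ζ ^ n (η, η') := by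
      have h2 : conj (ζ ^ em η') * ζ ^ em η' = 1 := by rw [map_pow, ← mul_pow, hconjζ, one_pow]
      have : conj (ζ ^ em η') = ζ ^ (2 ^ (a + 1) - em η') :=
        calc conj (ζ ^ em η') = conj (ζ ^ em η') * (ζ ^ em η' * ζ ^ (2 ^ (a + 1) - em η')) := by
              rw [← pow_add, Nat.add_sub_cancel' (hem1 η').le, hζ.pow_eq_one, mul_one]
          _ = _ := by rw [← mul_assoc, h2, one_mul]
      rw [this, ← pow_add]
    rw [hroot]
    simp only [w]
    push_cast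
    ring
  have hone : ∀ χ ψ, contrib 2 x e χ ψ = halfEval a ζ (F χ ψ) 1 := fun χ ψ => by
    simpa using heval 0 χ ψ
  have hswap : ∀ χ ψ : IrrCharacter G, ∑ j ∈ Finset.range (2 ^ a), F χ ψ j ^ 2 =
      ∑ j ∈ Finset.range (2 ^ a), F ψ χ j ^ 2 := by
    intro χ ψ
    have h : ∀ i, Complex.normSq (halfEval a ζ (F χ ψ) (2 * i + 1)) =
        Complex.normSq (halfEval a ζ (F ψ χ) (2 * i + 1)) := fun i => by
      rw [← heval, ← heval, ← Complex.normSq_conj (contrib 2 (x ^ (2 * i + 1)) e χ ψ)]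
      congr 1
      simp only [contrib, map_mul, map_pow, map_natCast, classInner_conj_symm]
    have h2 := Finset.sum_congr rfl fun i (_ : i ∈ Finset.range (2 ^ a)) => h i
    rw [sum_halfEval_normSq hζ, sum_halfEval_normSq hζ] at h2
    exact_mod_cast mul_left_cancel₀ (Nat.cast_ne_zero.2 (pow_ne_zero a two_ne_zero)) h2
  set d := blockDefect 2 B
  have hφ : ((2 ^ a : ℕ) : ℂ) ≠ 0 := Nat.cast_ne_zero.2 (pow_ne_zero a two_ne_zero)
  have hrow : ∀ χ : {χ // χ ∈ B},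
      ∑ ψ : {χ // χ ∈ B}, ∑ j ∈ Finset.range (2 ^ a), F χ.1 ψ.1 j ^ 2 = 2 ^ d * F χ.1 χ.1 0 := by
    intro χ
    have h : ∑ i ∈ Finset.range (2 ^ a), ∑ ψ : {χ // χ ∈ B},
        ((Complex.normSq (halfEval a ζ (F χ.1 ψ.1) (2 * i + 1)) : ℝ) : ℂ) =
        ∑ i ∈ Finset.range (2 ^ a), (2 : ℂ) ^ d * halfEval a ζ (F χ.1 χ.1) (2 * i + 1) := by
      refine Finset.sum_congr rfl fun i _ => ?_
      have h := sum_contrib_sq hM (hCu i) (hxu i) hind χ.1
      rw [hd, heval] at h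
      refine Eq.trans (Finset.sum_congr rfl fun ψ _ => ?_) (h.trans (by norm_num [d]))
      rw [← Complex.mul_conj, ← heval]
    rw [Finset.sum_comm, ← Finset.mul_sum, sum_halfEval hζ] at h
    rw [Finset.sum_congr rfl fun ψ _ => show ∑ i ∈ Finset.range (2 ^ a),
      ((Complex.normSq (halfEval a ζ (F χ.1 ψ.1) (2 * i + 1)) : ℝ) : ℂ) =
        ((2 ^ a : ℕ) : ℂ) * ((∑ j ∈ Finset.range (2 ^ a), F χ.1 ψ.1 j ^ 2 : ℤ) : ℂ) by
      rw [← Complex.ofReal_sum, sum_halfEval_normSq hζ]; push_cast; rfl,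
      ← Finset.mul_sum, mul_left_comm] at h
    have h' := mul_left_cancel₀ hφ h
    exact_mod_cast h'
  have hdiv : ∀ χ ψ : IrrCharacter G, χ ∈ B → ∃ g : ℕ → ℤ,
      (∀ j < 2 ^ a, F χ ψ j = 2 ^ blockHeight 2 B (χ : G → ℂ) * g j) ∧
      (2 : ℂ) ^ blockHeight 2 B (χ : G → ℂ) * halfEval a ζ g 1 = contrib 2 x e χ ψ := by
    intro χ ψ hχ
    obtain ⟨Φ, hΦ, hform⟩ := contrib_formula hM hC hx hind hd ψ
    obtain ⟨r, -, hr⟩ := hform χ hχ
    have hinv : MemLocalRing M ((ordPart 2 G : ℂ))⁻¹ :=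
      memLocalRing_inv_natCast hM (Nat.not_dvd_ordCompl hM.1 Nat.card_pos.ne')
    rw [Nat.cast_ofNat] at hr
    have hs := memLocalRing_mul (memLocalRing_mul (memLocalRing_natCast (M := M) r) hinv)
      (memLocalRing_omega hΦ χ)
    obtain ⟨g, hg, hgs⟩ := dvd_of_div_local hM hζ (blockHeight 2 B (χ : G → ℂ)) (F χ ψ) _ hs
      (by rw [← hone]; exact hr)
    exact ⟨g, hg, by rw [hgs, ← hr]⟩
  have hsymm : ∀ χ : IrrCharacter G, ∑ j ∈ Finset.range (2 ^ a), F χ χ j = F χ χ 0 := fun χ => by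
    refine hF2 χ χ (fun q => (q.2, q.1)) (fun q => rfl) (fun q => ?_) (fun q => ?_)
    · simp only [w]; rw [contribCoef_symm hM.1 e q.2 q.1]; ring
    · simp only [n]
      have h1 := hem1 q.1
      have h2 := hem1 q.2
      have h3 : 2 ^ (a + 2) = 2 * 2 ^ (a + 1) := by ring
      omega
  refine ⟨a, fun χ ψ => F χ.1 ψ.1, hrow, ?_, fun χ h0 => ?_, fun χ h0 => ?_, fun χ ψ h0 => ?_,
    fun χ => ?_, fun χ ψ h0 => ?_⟩
  · have h : ∑ χ : {χ // χ ∈ B}, ∑ i ∈ Finset.range (2 ^ a),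
        halfEval a ζ (F χ.1 χ.1) (2 * i + 1) =
        ((2 ^ a : ℕ) : ℂ) * ((2 : ℂ) ^ d * (blockRank 2 e : ℂ)) := by
      rw [Finset.sum_comm]
      have hi : ∀ i ∈ Finset.range (2 ^ a), ∑ χ : {χ // χ ∈ B},
          halfEval a ζ (F χ.1 χ.1) (2 * i + 1) = (2 : ℂ) ^ d * (blockRank 2 e : ℂ) := by
        intro i _
        simp only [← heval, contrib, classInner, ← Finset.mul_sum]
        have h2 := sum_sect_norm hM (hCu i) (hxu i) hind
        rw [finsum_mem_eq_finite_toFinset_sum _ (Set.toFinite B),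
          Finset.sum_subtype (p := (· ∈ B)) _ (fun y => Set.Finite.mem_toFinset _)
          (fun χ => ∑ s : C, sect 2 (x ^ (2 * i + 1)) e (χ : G → ℂ) s *
            conj (sect 2 (x ^ (2 * i + 1)) e (χ : G → ℂ) s))] at h2
        rw [h2, ← mul_assoc ((Nat.card C : ℂ)⁻¹), inv_mul_cancel₀ natCard_ne_zero_complex,
          one_mul, hd]
        norm_num [d]
      rw [Finset.sum_congr rfl hi, Finset.sum_const, Finset.card_range, nsmul_eq_mul]
    rw [Finset.sum_congr rfl fun χ _ => sum_halfEval hζ (F χ.1 χ.1), ← Finset.mul_sum] at h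
    have h' := mul_left_cancel₀ hφ h
    show ∑ χ : {χ // χ ∈ B}, F χ.1 χ.1 0 = _
    exact_mod_cast h'
  · have hu := contrib_unit hM hC hx hind χ.2 h0 χ.2 h0
    rw [hone, memLocalIdeal_halfEval_iff hM hζ, hsymm] at hu
    rw [← Int.not_even_iff_odd, even_iff_two_dvd]
    exact hu
  · obtain ⟨g, hg, hgs⟩ := hdiv χ.1 χ.1 χ.2
    obtain ⟨ψ₀, hψ₀, hmin⟩ := exists_nu_eq_minExp (p := 2) (IsPBlock.nonempty hind.2.1)
    have hψ0 : blockHeight 2 B (ψ₀ : G → ℂ) = 0 := by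
      have := minExp_add_blockHeight (p := 2) hψ₀; omega
    have hI : MemLocalIdeal M (halfEval a ζ g 1) := by
      obtain ⟨Φ, hΦ, hform⟩ := contrib_formula hM hC hx hind hd χ.1
      obtain ⟨r, -, hr⟩ := hform χ.1 χ.2
      obtain ⟨r₀, hr₀, hr₀'⟩ := hform ψ₀ hψ₀
      rw [Nat.cast_ofNat] at hr hr₀'
      rw [hψ0, pow_zero, one_mul] at hr₀'
      have hinv : MemLocalRing M ((ordPart 2 G : ℂ))⁻¹ :=
        memLocalRing_inv_natCast hM (Nat.not_dvd_ordCompl hM.1 Nat.card_pos.ne')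
      have h1 : MemLocalIdeal M (contrib 2 x e χ.1 ψ₀) :=
        (contrib_height hM hC hx hind hd χ.2 hψ₀ hψ0).2 h0
      have h2 : MemLocalIdeal M (contrib 2 x e ψ₀ χ.1) := by
        have e1 := contrib_congr_sum hM hC hxC hx hind.1 χ.1 ψ₀
        have e2 := contrib_congr_sum hM hC hxC hx hind.1 ψ₀ χ.1
        refine (memLocalIdeal_iff_of_sub e2).2 ?_
        have h3 := (memLocalIdeal_iff_of_sub e1).1 h1
        convert h3 using 1
        rw [Finset.sum_comm]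
        refine Finset.sum_congr rfl fun η _ => Finset.sum_congr rfl fun η' _ => ?_
        rw [contribCoef_symm hM.1 e η' η]
        ring
      rw [hr₀'] at h2
      have hr0 : ¬ MemLocalIdeal M (r₀ : ℂ) := fun h => hr₀ ((memLocalIdeal_natCast_iff hM r₀).1 h)
      have hinv' : ¬ MemLocalIdeal M ((ordPart 2 G : ℂ))⁻¹ := fun h => by
        have := memLocalIdeal_mul_right h (memLocalRing_natCast (M := M) (ordPart 2 G))
        rw [inv_mul_cancel₀ ordPart_ne_zero] at this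
        exact not_memLocalIdeal_one this
      have hω : MemLocalIdeal M (omega (ψ₀ : G → ℂ) Φ) :=
        ((memLocalIdeal_mul_iff (memLocalRing_mul (memLocalRing_natCast r₀) hinv)
          (memLocalRing_omega hΦ ψ₀)).1 h2).resolve_left
          (not_memLocalIdeal_mul (memLocalRing_natCast r₀) hinv hr0 hinv')
      have hω' := (memLocalIdeal_iff_of_sub
        (omega_congr_of_sameBlock (IsPBlock.sameBlock hind.2.1 χ.2 hψ₀) hΦ)).2 hω
      rw [hr] at hgs
      rw [mul_left_cancel₀ (pow_ne_zero _ (two_ne_zero (α := ℂ))) hgs]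
      exact memLocalIdeal_mul_left (memLocalRing_mul (memLocalRing_natCast r) hinv) hω'
    rw [memLocalIdeal_halfEval_iff hM hζ] at hI
    obtain ⟨m, hm⟩ := hI
    show _ ∣ F χ.1 χ.1 0
    refine ⟨m, ?_⟩
    rw [← hsymm, Finset.sum_congr rfl fun j hj => hg j (Finset.mem_range.1 hj), ← Finset.mul_sum, hm,
      pow_succ]
    ring
  · show _ ≤ ∑ j ∈ Finset.range (2 ^ a), F χ.1 ψ.1 j ^ 2
    rw [hswap]
    obtain ⟨g, hg, hgs⟩ := hdiv ψ.1 χ.1 ψ.2
    exact four_pow_le_sum_sq (ζ := ζ) _ g _ hg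
      (by rw [← hone]; exact (contrib_height hM hC hx hind hd ψ.2 χ.2 h0).1)
  · obtain ⟨ψ₀, hψ₀, hmin⟩ := exists_nu_eq_minExp (p := 2) (IsPBlock.nonempty hind.2.1)
    have hψ0 : blockHeight 2 B (ψ₀ : G → ℂ) = 0 := by
      have := minExp_add_blockHeight (p := 2) hψ₀; omega
    obtain ⟨g, hg, hgs⟩ := hdiv χ.1 ψ₀ χ.2
    have h1 := four_pow_le_sum_sq (ζ := ζ) (F χ.1 ψ₀) g _ hg
      (by rw [← hone]; exact (contrib_height hM hC hx hind hd χ.2 hψ₀ hψ0).1)
    have h2 := Finset.single_le_sum (f := fun ψ : {χ // χ ∈ B} =>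
      ∑ j ∈ Finset.range (2 ^ a), F χ.1 ψ.1 j ^ 2) (fun ψ _ => Finset.sum_nonneg fun j _ =>
      sq_nonneg _) (Finset.mem_univ (⟨ψ₀, hψ₀⟩ : {χ // χ ∈ B}))
    rw [hrow] at h2
    show 0 < F χ.1 χ.1 0
    have hpos : (0 : ℤ) < 2 ^ d * F χ.1 χ.1 0 := lt_of_lt_of_le (pow_pos (by norm_num) _) (h1.trans h2)
    exact pos_of_mul_pos_right hpos (by positivity)
  · obtain ⟨g, hg, hgs⟩ := hdiv χ.1 ψ.1 χ.2
    exact le_trans (one_le_pow₀ (by norm_num)) (four_pow_le_sum_sq (ζ := ζ) (F χ.1 ψ.1) g _ hg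
      (by rw [← hone]; exact (contrib_height hM hC hx hind hd χ.2 ψ.2 h0).1))

/-- **Sambale.** The bound for a major subsection of regular rank at most three. -/
theorem height_weight_bound (hM : IsPModular 2 M) (hC : ∀ g, g ∈ C ↔ Commute x g)
    (hx : ∃ k : ℕ, orderOf x = 2 ^ k) {e : Set (IrrCharacter C)} {B : Set (IrrCharacter G)}
    (hind : IsInducedBlock M C e B) (hd : blockDefect 2 e = blockDefect 2 B)
    (hl : blockRank 2 e ≤ 3) :
    3 * Nat.card B ≤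
        3 * Nat.card {χ : IrrCharacter G // χ ∈ B ∧ blockHeight 2 B (χ : G → ℂ) = 0} +
          2 * (∑ᶠ χ ∈ {χ : IrrCharacter G | χ ∈ B ∧ 1 ≤ blockHeight 2 B (χ : G → ℂ)},
            2 ^ blockHeight 2 B (χ : G → ℂ)) ∧
      3 * Nat.card {χ : IrrCharacter G // χ ∈ B ∧ blockHeight 2 B (χ : G → ℂ) = 0} +
          2 * (∑ᶠ χ ∈ {χ : IrrCharacter G | χ ∈ B ∧ 1 ≤ blockHeight 2 B (χ : G → ℂ)},
            2 ^ blockHeight 2 B (χ : G → ℂ)) ≤ 3 * 2 ^ blockDefect 2 B := by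
  classical
  haveI := Fintype.ofFinite (IrrCharacter G)
  haveI : Fintype {χ // χ ∈ B} := Fintype.ofFinite _
  obtain ⟨a, f, hrow, htr, hodd, heven, hlow, hpos, hone'⟩ := exists_contrib_coords hM hC hx hind hd
  set d := blockDefect 2 B
  set h : {χ // χ ∈ B} → ℕ := fun χ => blockHeight 2 B (χ.1 : G → ℂ) with hh
  set W : {χ // χ ∈ B} → ℕ := fun χ => if h χ = 0 then 3 else 2 * 2 ^ h χ with hW
  have hsum : 3 * Nat.card {χ : IrrCharacter G // χ ∈ B ∧ blockHeight 2 B (χ : G → ℂ) = 0} +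
      2 * (∑ᶠ χ ∈ {χ : IrrCharacter G | χ ∈ B ∧ 1 ≤ blockHeight 2 B (χ : G → ℂ)},
        2 ^ blockHeight 2 B (χ : G → ℂ)) = ∑ χ, W χ := by
    rw [← Finset.sum_filter_add_sum_filter_not Finset.univ (fun χ : {χ // χ ∈ B} => h χ = 0),
      Finset.sum_congr rfl (g := fun _ => 3) fun χ hχ => if_pos (Finset.mem_filter.1 hχ).2,
      Finset.sum_congr rfl (g := fun χ => 2 * 2 ^ h χ) fun χ hχ =>
        if_neg (Finset.mem_filter.1 hχ).2,
      Finset.sum_const, smul_eq_mul, mul_comm _ 3, ← Finset.mul_sum]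
    congr 2
    · rw [← Fintype.card_subtype, ← Nat.card_eq_fintype_card]
      exact Nat.card_congr (Equiv.subtypeSubtypeEquivSubtypeInter _ _).symm
    · rw [finsum_mem_eq_finite_toFinset_sum _ (Set.toFinite _)]
      refine Finset.sum_bij (fun χ hχ => (⟨χ, ((Set.Finite.mem_toFinset _).1 hχ).1⟩ : {χ // χ ∈ B}))
        (fun χ hχ => ?_) (fun χ _ ψ _ e => congrArg Subtype.val e) (fun χ hχ => ?_) fun χ hχ => rfl
      · refine Finset.mem_filter.2 ⟨Finset.mem_univ _, ?_⟩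
        have := ((Set.Finite.mem_toFinset _).1 hχ).2
        simp only [hh]; omega
      · refine ⟨χ.1, (Set.Finite.mem_toFinset _).2 ⟨χ.2, ?_⟩, rfl⟩
        have := (Finset.mem_filter.1 hχ).2
        simp only [hh] at this
        omega
  rw [hsum]
  refine ⟨?_, ?_⟩
  · rw [Nat.card_eq_fintype_card, ← Finset.card_univ, mul_comm, ← smul_eq_mul, ← Finset.sum_const]
    refine Finset.sum_le_sum fun χ _ => ?_
    simp only [hW]
    split_ifs with h0
    · rfl
    · have : 2 ^ 1 ≤ 2 ^ h χ := Nat.pow_le_pow_right two_pos (Nat.pos_of_ne_zero h0)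
      omega
  · suffices hZ : ∑ χ, (W χ : ℤ) ≤ 3 * 2 ^ d by exact_mod_cast hZ
    by_cases hA : ∃ χ, h χ = 0 ∧ f χ χ 0 = 1
    · obtain ⟨χ₀, h0, h1⟩ := hA
      have hr := hrow χ₀
      rw [h1, mul_one] at hr
      rw [← hr, Finset.mul_sum]
      refine Finset.sum_le_sum fun ψ _ => le_trans ?_ (mul_le_mul_of_nonneg_left (hlow χ₀ ψ h0) (by norm_num))
      simp only [hW]
      show ((if h ψ = 0 then 3 else 2 * 2 ^ h ψ : ℕ) : ℤ) ≤ 3 * 4 ^ h ψ
      split_ifs with h'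
      · rw [h']; norm_num
      · push_cast
        have e4 : (4 : ℤ) ^ h ψ = 2 ^ h ψ * 2 ^ h ψ := by rw [← mul_pow]; norm_num
        have e2 : (1 : ℤ) ≤ 2 ^ h ψ := one_le_pow₀ (by norm_num)
        rw [e4]
        nlinarith
    · simp only [not_exists, not_and] at hA
      refine le_trans (Finset.sum_le_sum fun χ _ => show (W χ : ℤ) ≤ f χ χ 0 from ?_) ?_
      · simp only [hW]
        split_ifs with h'
        · obtain ⟨m, hm⟩ := hodd χ h'
          have := hpos χ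
          have := hA χ h'
          push_cast
          omega
        · push_cast
          rw [← pow_succ']
          exact Int.le_of_dvd (hpos χ) (heven χ h')
      · rw [htr, mul_comm (3 : ℤ)]
        exact mul_le_mul_of_nonneg_left (by exact_mod_cast hl) (by positivity)

/-- **Brauer's bound when `k(B) - l(b) ≤ 3`.** -/
theorem card_block_le_of_coRank (hM : IsPModular 2 M) (hC : ∀ g, g ∈ C ↔ Commute x g)
    (hx : ∃ k : ℕ, orderOf x = 2 ^ k) {e : Set (IrrCharacter C)} {B : Set (IrrCharacter G)}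
    (hind : IsInducedBlock M C e B) (hd : blockDefect 2 e = blockDefect 2 B)
    (hl : Nat.card B ≤ blockRank 2 e + 3) : Nat.card B ≤ 2 ^ blockDefect 2 B := by
  classical
  haveI := Fintype.ofFinite (IrrCharacter G)
  haveI : Fintype {χ // χ ∈ B} := Fintype.ofFinite _
  by_cases hd0 : blockDefect 2 B = 0
  · rw [((blockRank_defect_zero hM hind.2.1).2.1.1 hd0).1, hd0, pow_zero]
  obtain ⟨a, f, hrow, htr, hodd, heven, hlow, hpos, hone'⟩ := exists_contrib_coords hM hC hx hind hd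
  set d := blockDefect 2 B
  set h : {χ // χ ∈ B} → ℕ := fun χ => blockHeight 2 B (χ.1 : G → ℂ) with hh
  have hzero : (0 : ℕ) ∈ Finset.range (2 ^ a) := Finset.mem_range.2 (pow_pos two_pos a)
  let t' : {χ // χ ∈ B} → ℤ := fun χ => 2 ^ d - f χ χ 0
  let f' : {χ // χ ∈ B} → {χ // χ ∈ B} → ℕ → ℤ := fun χ ψ j =>
    (if χ = ψ ∧ j = 0 then 2 ^ d else 0) - f χ ψ j
  have hrow' : ∀ χ, ∑ ψ, ∑ j ∈ Finset.range (2 ^ a), f' χ ψ j ^ 2 = 2 ^ d * t' χ := by
    intro χ
    have e1 : ∀ ψ j, f' χ ψ j ^ 2 = f χ ψ j ^ 2 +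
        (if χ = ψ then (if j = 0 then (2 : ℤ) ^ d * 2 ^ d - 2 * 2 ^ d * f χ ψ j else 0) else 0) := by
      intro ψ j
      simp only [f']
      by_cases h1 : χ = ψ <;> by_cases h2 : j = 0 <;> simp [h1, h2]
      ring
    simp only [e1, Finset.sum_add_distrib, hrow]
    rw [Finset.sum_eq_single χ (fun ψ _ hne => by simp [Ne.symm hne]) (by simp)]
    simp only [if_true]
    rw [Finset.sum_ite_eq' (Finset.range (2 ^ a)) 0, if_pos hzero]
    simp only [t']
    ring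
  have ht0 : ∀ χ, 0 ≤ t' χ := fun χ => by
    have h1 : (0 : ℤ) ≤ 2 ^ d * t' χ :=
      hrow' χ ▸ Finset.sum_nonneg fun _ _ => Finset.sum_nonneg fun _ _ => sq_nonneg _
    exact nonneg_of_mul_nonneg_right h1 (by positivity)
  have h2d : Even ((2 : ℤ) ^ d) := (even_two.pow_of_ne_zero hd0)
  have hsumt : ∑ χ, t' χ ≤ 3 * 2 ^ d := by
    simp only [t', Finset.sum_sub_distrib, Finset.sum_const, Finset.card_univ, nsmul_eq_mul, htr]
    rw [Nat.card_eq_fintype_card] at hl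
    have hl' : (Fintype.card {χ // χ ∈ B} : ℤ) ≤ (blockRank 2 e : ℤ) + 3 := by exact_mod_cast hl
    have := mul_le_mul_of_nonneg_left hl' (show (0 : ℤ) ≤ 2 ^ d by positivity)
    linarith
  suffices hZ : (Fintype.card {χ // χ ∈ B} : ℤ) ≤ 2 ^ d by
    rw [Nat.card_eq_fintype_card]; exact_mod_cast hZ
  by_cases hA : ∃ χ, h χ = 0 ∧ t' χ = 1
  · obtain ⟨χ₀, h0, h1⟩ := hA
    have hr := hrow' χ₀
    rw [h1, mul_one] at hr
    rw [← hr, ← Finset.card_univ, Finset.card_eq_sum_ones, Nat.cast_sum]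
    refine Finset.sum_le_sum fun ψ _ => ?_
    push_cast
    by_cases heq : χ₀ = ψ
    · subst heq
      refine le_trans ?_ (Finset.single_le_sum (fun j _ => sq_nonneg _) hzero)
      show (1 : ℤ) ≤ f' χ₀ χ₀ 0 ^ 2
      have : f' χ₀ χ₀ 0 = t' χ₀ := by simp [f', t']
      rw [this, h1, one_pow]
    · refine le_trans (le_trans ?_ (hlow χ₀ ψ h0)) (le_of_eq (Finset.sum_congr rfl fun j _ => ?_))
      · exact one_le_pow₀ (by norm_num)
      · simp [f', heq]
  · simp only [not_exists, not_and] at hA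
    have hlow3 : ∀ χ, 3 ≤ t' χ := by
      intro χ
      by_cases h0 : h χ = 0
      · have hodd' : Odd (t' χ) := h2d.sub_odd (hodd χ h0)
        obtain ⟨m, hm⟩ := hodd'
        have := ht0 χ
        have := hA χ h0
        omega
      · have hdvd := heven χ h0
        have hle : (2 : ℤ) ^ (h χ + 1) ≤ f χ χ 0 := Int.le_of_dvd (hpos χ) hdvd
        have hle2 : (2 : ℤ) ^ (h χ + 1) ≤ 2 ^ d := by
          have := ht0 χ; simp only [t'] at this; linarith
        have hhd : h χ + 1 ≤ d := by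
          by_contra hlt
          have h' : (2 : ℤ) ^ d < 2 ^ (h χ + 1) :=
            pow_lt_pow_right₀ (by norm_num) (by omega)
          linarith
        have hne : t' χ ≠ 0 := by
          intro ht
          obtain ⟨ψ₀, hψ₀, hmin⟩ := exists_nu_eq_minExp (p := 2) (IsPBlock.nonempty hind.2.1)
          have hψ0 : h ⟨ψ₀, hψ₀⟩ = 0 := by
            have := minExp_add_blockHeight (p := 2) hψ₀
            simp only [hh]; omega
          have hr := hrow' χ
          rw [ht, mul_zero, Finset.sum_eq_zero_iff_of_nonneg fun _ _ =>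
            Finset.sum_nonneg fun _ _ => sq_nonneg _] at hr
          have hr' := hr ⟨ψ₀, hψ₀⟩ (Finset.mem_univ _)
          rw [Finset.sum_eq_zero_iff_of_nonneg fun _ _ => sq_nonneg _] at hr'
          have hne' : χ ≠ ⟨ψ₀, hψ₀⟩ := fun e => h0 (e ▸ hψ0)
          have hr2 := hrow' ⟨ψ₀, hψ₀⟩
          have hl' := hlow ⟨ψ₀, hψ₀⟩ χ hψ0
          have hz : ∀ j ∈ Finset.range (2 ^ a), f χ ⟨ψ₀, hψ₀⟩ j = 0 := fun j hj => by
            have := pow_eq_zero_iff (n := 2) two_ne_zero |>.1 (hr' j hj)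
            simpa [f', hne'] using this
          have h1 := hone' χ ⟨ψ₀, hψ₀⟩ hψ0
          rw [Finset.sum_eq_zero fun j hj => by rw [hz j hj]; norm_num] at h1
          norm_num at h1
        have hdvd' : (2 : ℤ) ^ (h χ + 1) ∣ t' χ := dvd_sub (pow_dvd_pow 2 hhd) hdvd
        have h4 : (2 : ℤ) ^ 2 ≤ 2 ^ (h χ + 1) := pow_le_pow_right₀ (by norm_num) (by omega)
        have := Int.le_of_dvd (lt_of_le_of_ne (ht0 χ) (Ne.symm hne)) hdvd'
        linarith
    have h3 : 3 * (Fintype.card {χ // χ ∈ B} : ℤ) ≤ ∑ χ, t' χ := by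
      rw [mul_comm, ← nsmul_eq_mul, ← Finset.card_univ, ← Finset.sum_const]
      exact Finset.sum_le_sum fun χ _ => hlow3 χ
    linarith

end Cfsg.Agent.Lib.Blocks
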