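import Cfsg.Agent.Lib.Blocks.LocalModel
import Mathlib.LinearAlgebra.Trace

/-!
# Matrix units attached to an irreducible character of a group of order prime to `p`
-/

set_option autoImplicit false
set_option linter.unusedSectionVars false
set_option linter.unusedVariables false

namespace Cfsg.Agent.Lib.Blocks

open Cfsg Cfsg.Agent.Lib.Characters Matrix

universe u

variable {G : Type u} [Group G] [Fintype G]

theorem char_eq_trace {n : ℕ} (τ : G →* Matrix (Fin n) (Fin n) ℂ) :
    Representation.character ((Matrix.toLinAlgEquiv' (R := ℂ) (n := Fin n)).toMonoidHom.comp τ :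
      Representation ℂ G (Fin n → ℂ)) = fun g => (τ g).trace := by
  funext g
  exact Matrix.trace_toLin'_eq (τ g)

/-- Schur's lemma for a matrix representation with an irreducible character. -/
theorem matrix_schur {n : ℕ} (τ : G →* Matrix (Fin n) (Fin n) ℂ) (θ : IrrCharacter G)
    (hτ : ∀ g, (τ g).trace = (θ : G → ℂ) g) (X : Matrix (Fin n) (Fin n) ℂ)
    (hX : ∀ g, X * τ g = τ g * X) : X = ((n : ℂ)⁻¹ * X.trace) • 1 := by
  classical
  let ρ : Representation ℂ G (Fin n → ℂ) :=
    (Matrix.toLinAlgEquiv' (R := ℂ) (n := Fin n)).toMonoidHom.comp τ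
  have hchar : ρ.character = (θ : G → ℂ) := (char_eq_trace τ).trans (funext hτ)
  have h1 : Module.finrank ℂ (ρ.IntertwiningMap ρ) = 1 := by
    have h := classInner_char_eq_finrank ρ ρ
    rw [hchar, IsIrrCharacter.classInner_self θ.2] at h
    exact_mod_cast h.symm
  have hn : n ≠ 0 := by
    intro h0
    subst h0
    have := IsIrrCharacter.apply_one_ne_zero θ.2
    apply this
    rw [← hτ]
    simp [Matrix.trace]
  have happ : ∀ g v, ρ g v = τ g *ᵥ v := fun g v => rfl
  let fX : ρ.IntertwiningMap ρ := LinearMap.intertwiningMap_of_isIntertwiningMap (σ := ρ) (ρ := ρ)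
    (f := Matrix.toLinAlgEquiv' X) fun g v => by
      show X *ᵥ (τ g *ᵥ v) = τ g *ᵥ (X *ᵥ v)
      rw [Matrix.mulVec_mulVec, Matrix.mulVec_mulVec, hX]
  let f1 : ρ.IntertwiningMap ρ := LinearMap.intertwiningMap_of_isIntertwiningMap (σ := ρ) (ρ := ρ)
    (f := LinearMap.id) fun g v => rfl
  have hf1 : f1 ≠ 0 := by
    intro h
    have h' := congrArg (fun f : ρ.IntertwiningMap ρ => f.toLinearMap (Pi.single ⟨0, Nat.pos_of_ne_zero hn⟩ 1)
      ⟨0, Nat.pos_of_ne_zero hn⟩) h
    simp [f1, LinearMap.intertwiningMap_of_isIntertwiningMap] at h'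
  obtain ⟨c, hc⟩ := (finrank_eq_one_iff_of_nonzero' f1 hf1).1 h1 fX
  have hXc : X = c • 1 := by
    apply (Matrix.toLinAlgEquiv' (R := ℂ) (n := Fin n)).injective
    have h' := congrArg (fun f : ρ.IntertwiningMap ρ => f.toLinearMap) hc
    rw [map_smul, map_one]
    exact h'.symm
  have hn0 : (n : ℂ) ≠ 0 := Nat.cast_ne_zero.2 hn
  conv_lhs => rw [hXc]
  congr 1
  rw [hXc, Matrix.trace_smul, Matrix.trace_one, Fintype.card_fin, smul_eq_mul]
  field_simp

/-- The orthogonality relations for matrix entries. -/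
theorem matrix_orth {n : ℕ} (τ : G →* Matrix (Fin n) (Fin n) ℂ) (θ : IrrCharacter G)
    (hτ : ∀ g, (τ g).trace = (θ : G → ℂ) g) (a b c d : Fin n) :
    ∑ y : G, τ y⁻¹ b a * τ y c d = if a = c ∧ b = d then (Nat.card G : ℂ) / n else 0 := by
  classical
  set X : Matrix (Fin n) (Fin n) ℂ := ∑ y : G, τ y⁻¹ * Matrix.single a c 1 * τ y with hX
  have hcomm : ∀ g, X * τ g = τ g * X := by
    intro g
    simp only [hX, Finset.sum_mul, Finset.mul_sum]
    refine Fintype.sum_equiv (Equiv.mulRight g) _ _ fun y => ?_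
    rw [Equiv.coe_mulRight, _root_.mul_inv_rev, map_mul, map_mul, ← mul_assoc (τ g), ← mul_assoc (τ g),
      ← mul_assoc, ← mul_assoc (τ g), ← map_mul, mul_inv_cancel, map_one, one_mul, mul_assoc]
  have h := congrFun (congrFun (matrix_schur τ θ hτ X hcomm) b) d
  have htr : X.trace = if a = c then (Nat.card G : ℂ) else 0 := by
    rw [hX, Matrix.trace_sum, Finset.sum_congr rfl fun y _ => by
      rw [Matrix.trace_mul_comm, ← mul_assoc, ← map_mul, mul_inv_cancel, map_one, one_mul],
      Finset.sum_const, Finset.card_univ, ← Nat.card_eq_fintype_card, nsmul_eq_mul]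
    by_cases hac : a = c
    · subst hac; rw [if_pos rfl, Matrix.trace_single_eq_same, mul_one]
    · rw [if_neg hac, Matrix.trace_single_eq_of_ne _ _ _ hac, mul_zero]
  have hent : X b d = ∑ y : G, τ y⁻¹ b a * τ y c d := by
    rw [hX, Matrix.sum_apply]
    refine Finset.sum_congr rfl fun y _ => ?_
    simp only [Matrix.mul_apply, Matrix.single_apply, mul_ite, mul_one, mul_zero, ite_mul, zero_mul]
    rw [Finset.sum_eq_single c]
    · rw [Finset.sum_eq_single a] <;> simp +contextual [eq_comm]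
    · intro x _ hx
      simp [Ne.symm hx]
    · simp
  rw [← hent, h, Matrix.smul_apply, htr, smul_eq_mul, Matrix.one_apply]
  by_cases hac : a = c <;> by_cases hbd : b = d <;> simp [hac, hbd, div_eq_inv_mul]

/-- Entries are orthogonal to the other irreducible characters. -/
theorem matrix_orth_other {n : ℕ} (τ : G →* Matrix (Fin n) (Fin n) ℂ) (θ η : IrrCharacter G)
    (hτ : ∀ g, (τ g).trace = (θ : G → ℂ) g) (hne : η ≠ θ) (c d : Fin n) :
    ∑ y : G, (η : G → ℂ) y⁻¹ * τ y c d = 0 := by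
  classical
  set X : Matrix (Fin n) (Fin n) ℂ := ∑ y : G, (η : G → ℂ) y⁻¹ • τ y with hX
  have hcomm : ∀ g, X * τ g = τ g * X := by
    intro g
    simp only [hX, Finset.sum_mul, Finset.mul_sum, smul_mul_assoc, mul_smul_comm, ← map_mul]
    refine Fintype.sum_equiv (MulAut.conj g⁻¹).toEquiv _ _ fun y => ?_
    simp only [MulEquiv.toEquiv_eq_coe, EquivLike.coe_coe, MulAut.conj_apply, inv_inv,
      _root_.mul_inv_rev]
    rw [← mul_assoc g⁻¹, show (η : G → ℂ) (g⁻¹ * y⁻¹ * g) = (η : G → ℂ) y⁻¹ by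
      simpa using irr_isClassFunction η y⁻¹ g⁻¹, mul_assoc g⁻¹ y, mul_inv_cancel_left]
  have h := congrFun (congrFun (matrix_schur τ θ hτ X hcomm) c) d
  have htr : X.trace = 0 := by
    rw [hX, Matrix.trace_sum]
    simp only [Matrix.trace_smul, hτ, smul_eq_mul]
    have h0 := IsIrrCharacter.classInner_ne θ.2 η.2 fun e => hne (Subtype.ext e.symm)
    rw [classInner_eq_sum_inv (irr_isCharacter η), mul_eq_zero] at h0
    rw [← h0.resolve_left (inv_ne_zero natCard_ne_zero_complex)]
    exact Finset.sum_congr rfl fun y _ => mul_comm _ _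
  rw [htr, mul_zero, zero_smul, Matrix.zero_apply] at h
  rw [← h, hX, Matrix.sum_apply]
  rfl

variable {M : Ideal AlgInt} [hMp : M.IsPrime] {p : ℕ} [hp : Fact p.Prime]

/-- **Matrix units** inside a representation over the local ring. -/
theorem exists_matrixUnits {H : Type*} [Group H] (hM : IsPModular p M) (ι : G →* H)
    (hG : ¬ p ∣ Nat.card G) {n : ℕ} (σ : H →* Matrix (Fin n) (Fin n) (locSubring M))
    (θ : IrrCharacter G) :
    ∃ (d : ℕ) (E : Fin d → Fin d → Matrix (Fin n) (Fin n) (locSubring M))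
      (eθ : Matrix (Fin n) (Fin n) (locSubring M)),
      0 < d ∧ (d : ℂ) = (θ : G → ℂ) 1 ∧
      (∀ a b c c', E a b * E c c' = if b = c then E a c' else 0) ∧
      eθ = ∑ a, E a a ∧
      (eθ.map (locSubring M).subtype =
        ((θ : G → ℂ) 1 / (Nat.card G : ℂ)) • ∑ y : G, (θ : G → ℂ) y⁻¹ • (σ (ι y)).map (locSubring M).subtype) ∧
      (∀ y : G, ∀ b c, σ (ι y) * E b c ∈
        Submodule.span (locSubring M) (Set.range fun ab : Fin d × Fin d => E ab.1 ab.2)) ∧
      (∀ a b, ∃ f : G → locSubring M, E a b = ∑ y : G, f y • σ (ι y)) ∧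
      (∀ η : IrrCharacter G, η ≠ θ → ∀ a b,
        (∑ y : G, (η : G → ℂ) y⁻¹ • (σ (ι y)).map (locSubring M).subtype) *
          (E a b).map (locSubring M).subtype = 0) := by
  classical
  obtain ⟨d, τ, hτ⟩ := exists_model hM θ.2
  let τc : G →* Matrix (Fin d) (Fin d) ℂ := (locSubring M).subtype.mapMatrix.toMonoidHom.comp τ
  have hτc : ∀ g, (τc g).trace = (θ : G → ℂ) g := hτ
  have hd : (d : ℂ) = (θ : G → ℂ) 1 := by
    rw [← hτc, map_one, Matrix.trace_one, Fintype.card_fin]
  have hd0 : d ≠ 0 := fun h => IsIrrCharacter.apply_one_ne_zero θ.2 (by rw [← hd, h, Nat.cast_zero])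
  let cG : locSubring M := ⟨(Nat.card G : ℂ)⁻¹, memLocalRing_inv_natCast hM hG⟩
  let κ : locSubring M := (d : locSubring M) * cG
  let E : Fin d → Fin d → Matrix (Fin n) (Fin n) (locSubring M) := fun a b =>
    κ • ∑ y : G, τ y⁻¹ b a • σ (ι y)
  have horth : ∀ a b c c', κ * ∑ y : G, τ y⁻¹ b a * τ y c c' =
      if a = c ∧ b = c' then 1 else 0 := by
    intro a b c c'
    apply Subtype.ext
    have h := matrix_orth τc θ hτc a b c c'
    have hG0 : (Nat.card G : ℂ) ≠ 0 := natCard_ne_zero_complex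
    have hd' : (d : ℂ) ≠ 0 := Nat.cast_ne_zero.2 hd0
    show ((d : locSubring M) : ℂ) * (Nat.card G : ℂ)⁻¹ *
      ((∑ y : G, τ y⁻¹ b a * τ y c c' : locSubring M) : ℂ) = _
    rw [SubringClass.coe_natCast, AddSubmonoidClass.coe_finsetSum]
    rw [show ∑ y : G, ((τ y⁻¹ b a * τ y c c' : locSubring M) : ℂ) = _ from h]
    split_ifs <;> simp <;> field_simp
  have hσE : ∀ (z : G) b c, σ (ι z) * E b c = ∑ a, τ z a b • E a c := by
    intro z b c
    simp only [E, mul_smul_comm, smul_comm (τ z _ b) κ, ← Finset.smul_sum, Finset.mul_sum,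
      Finset.smul_sum (r := τ z _ b), smul_smul]
    rw [Finset.sum_comm]
    congr 1
    refine Fintype.sum_equiv (Equiv.mulLeft z) _ _ fun y => ?_
    rw [Equiv.coe_mulLeft, _root_.mul_inv_rev, ← Finset.sum_smul, map_mul ι, map_mul σ]
    congr 1
    have hz : y⁻¹ * z⁻¹ * z = y⁻¹ := by group
    conv_lhs => rw [← hz, map_mul, Matrix.mul_apply]
    exact Finset.sum_congr rfl fun a _ => mul_comm _ _
  have hEE : ∀ a b c c', E a b * E c c' = if b = c then E a c' else 0 := by
    intro a b c c'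
    conv_lhs => lhs; simp only [E]
    rw [smul_mul_assoc, Finset.sum_mul]
    simp only [smul_mul_assoc, hσE, Finset.smul_sum, smul_smul]
    rw [Finset.sum_comm]
    simp only [← Finset.sum_smul, ← mul_assoc κ]
    simp only [mul_assoc κ, ← Finset.mul_sum, horth]
    by_cases hbc : b = c
    · rw [if_pos hbc, Finset.sum_eq_single a]
      · rw [if_pos ⟨rfl, hbc⟩, one_smul]
      · intro x _ hx; rw [if_neg fun h => hx h.1.symm, zero_smul]
      · simp
    · rw [if_neg hbc]
      exact Finset.sum_eq_zero fun x _ => by rw [if_neg fun h => hbc h.2, zero_smul]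
  refine ⟨d, E, ∑ a, E a a, Nat.pos_of_ne_zero hd0, hd, hEE, rfl, ?_, fun y b c => ?_, fun a b =>
    ⟨fun y => κ * τ y⁻¹ b a, ?_⟩, fun η hη a b => ?_⟩
  · ext i j
    simp only [E, Matrix.map_apply, Matrix.sum_apply, Matrix.smul_apply, smul_eq_mul, map_sum,
      map_mul, Finset.mul_sum]
    rw [Finset.sum_comm]
    refine Finset.sum_congr rfl fun y _ => ?_
    rw [← hτc y⁻¹, ← hd]
    simp only [Matrix.trace, Matrix.diag, Finset.sum_mul, Finset.mul_sum]
    refine Finset.sum_congr rfl fun a _ => ?_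
    simp [τc, κ, cG, div_eq_mul_inv, mul_assoc]
  · rw [hσE]
    exact Submodule.sum_mem _ fun a _ => Submodule.smul_mem _ _
      (Submodule.subset_span ⟨(a, c), rfl⟩)
  · simp only [E, Finset.smul_sum, smul_smul]
  · have hz : ∀ x, ∑ y : G, (η : G → ℂ) y⁻¹ * ((locSubring M).subtype (τ y x a)) = 0 := fun x =>
      matrix_orth_other τc θ η hτc hη x a
    have he : ∀ y : G, (σ (ι y)).map (locSubring M).subtype * (E a b).map (locSubring M).subtype =
        ∑ x, (locSubring M).subtype (τ y x a) • (E x b).map (locSubring M).subtype := by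
      intro y
      rw [← Matrix.map_mul, hσE]
      ext i j
      simp [Matrix.sum_apply]
    simp only [Finset.sum_mul, smul_mul_assoc, he, Finset.smul_sum, smul_smul]
    rw [Finset.sum_comm]
    exact Finset.sum_eq_zero fun x _ => by rw [← Finset.sum_smul, hz, zero_smul]

end Cfsg.Agent.Lib.Blocks
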