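import Cfsg.Agent.Lib.Blocks.MaxClassUniform

/-!
Below the last step, all two-step centralizers of a `p`-group of maximal class coincide
(Blackburn).
-/

set_option autoImplicit false
set_option linter.unusedSectionVars false
set_option linter.style.haveILetI false

namespace Cfsg.Agent.Lib.MaxClassDegree

open scoped commutatorElement
open Subgroup
open Cfsg.Agent.Lib.MaxClassPower
open Cfsg.Agent.Lib.MaxClassUniform

universe u

variable {G : Type u} [Group G] [Finite G] {p : ℕ} [hp : Fact p.Prime] {n : ℕ}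

theorem index_L_one (h : MaxClass G p n) : (L G 1).index = p ^ 2 := by
  have hn3 := h.three
  have e := (L G 1).card_mul_index
  rw [cardL h le_rfl (by omega), h.card, show p ^ n = p ^ (n - 1 - 1) * p ^ 2 by
    rw [← pow_add, show n - 1 - 1 + 2 = n by omega]] at e
  exact Nat.eq_of_mul_eq_mul_left (pow_pos hp.out.pos _) e

theorem index_twoStep (h : MaxClass G p n) {j : ℕ} (h1 : 1 ≤ j) (hj : j + 3 ≤ n) :
    (twoStep G j).index = p := by
  rcases (Nat.dvd_prime hp.out).mp (twoStep_index_dvd h h1 hj) with e | e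
  · exact absurd (Subgroup.index_eq_one.mp e) (twoStep_ne_top h hj)
  · exact e

theorem isCoatom_twoStep (h : MaxClass G p n) {j : ℕ} (h1 : 1 ≤ j) (hj : j + 3 ≤ n) :
    IsCoatom (twoStep G j) :=
  Cores.isCoatom_of_prime_index ((index_twoStep h h1 hj).symm ▸ hp.out)

theorem exists_twoStep_notMem (h : MaxClass G p n) {j : ℕ} (h1 : 1 ≤ j) (hj : j + 3 ≤ n) :
    ∃ a ∈ twoStep G j, a ∉ L G 1 := by
  by_contra hc
  push Not at hc
  have := Subgroup.index_antitone (show twoStep G j ≤ L G 1 from hc)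
  rw [index_L_one h, index_twoStep h h1 hj] at this
  have := hp.out.two_le
  nlinarith

/-- The standard sequence. -/
def seq {X : Type*} [Group X] (a s : X) : ℕ → X
  | 0 => a
  | i + 1 => ⁅seq a s i, s⁆

/-- A generating pair adapted to the first two-step centralizer. -/
structure Frame (G : Type u) [Group G] (p n : ℕ) (a s : G) : Prop where
  maxClass : MaxClass G p n
  four : 4 ≤ n
  memM : a ∈ twoStep G 1
  notMemL : a ∉ L G 1
  avoid : ∀ k, 1 ≤ k → k + 3 ≤ n → s ∉ twoStep G k

theorem exists_frame (h : MaxClass G p n) (hn : 4 ≤ n) : ∃ a s : G, Frame G p n a s := by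
  obtain ⟨a, ha, ha'⟩ := exists_twoStep_notMem h le_rfl (show 1 + 3 ≤ n by omega)
  obtain ⟨s, -, hs⟩ := exists_small h ⊥ (fun e => by
    have h2 : Nat.card (⊥ : Subgroup G) = Nat.card (⊤ : Subgroup G) := by rw [e]
    rw [Subgroup.card_bot, Subgroup.card_top, h.card] at h2
    exact absurd h2.symm (Nat.one_lt_pow (by omega) hp.out.one_lt).ne')
  exact ⟨a, s, h, hn, ha, ha', (avoid_of_small h hs).2⟩

variable {a s : G}

theorem seq_mem (i : ℕ) : seq a s i ∈ L G i := by
  induction i with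
  | zero => exact Subgroup.mem_top a
  | succ i ih => exact L_comm (j := 0) ih (Subgroup.mem_top s)

theorem seq_one_notMem (hf : Frame G p n a s) : seq a s 1 ∉ L G 2 := by
  intro hc
  change ⁅a, s⁆ ∈ L G 2 at hc
  have h := hf.maxClass
  have hn := hf.four
  have hsM : s ∉ twoStep G 1 := hf.avoid 1 le_rfl (by omega)
  let π := QuotientGroup.mk' (L G 2)
  have hs1 : s ∉ L G 1 := fun e => hsM (L_one_le_twoStep 1 e)
  have hgen : ∀ x : G, x ∈ Subgroup.closure ({s, a} : Set G) ⊔ L G 1 := by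
    intro x
    have htop : Subgroup.closure ({s, a} : Set G) ⊔ L G 1 = ⊤ := by
      have h1 : twoStep G 1 ≤ Subgroup.closure ({s, a} : Set G) ⊔ L G 1 := by
        have hlt : L G 1 < Subgroup.zpowers a ⊔ L G 1 :=
          lt_of_le_of_ne le_sup_right fun e => hf.notMemL (by
            rw [e]; exact Subgroup.mem_sup_left (Subgroup.mem_zpowers a))
        have hle : Subgroup.zpowers a ⊔ L G 1 ≤ twoStep G 1 :=
          sup_le (Subgroup.zpowers_le.mpr hf.memM) (L_one_le_twoStep 1)
        have heq : Subgroup.zpowers a ⊔ L G 1 = twoStep G 1 := by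
          refine Subgroup.eq_of_le_of_card_ge hle ?_
          have e1 := PGroups.card_mul_le_of_lt ((isPGroup h).to_subgroup _) hlt
          have e2 := (twoStep G 1).card_mul_index
          rw [index_twoStep h le_rfl (by omega), h.card] at e2
          rw [cardL h le_rfl (by omega), ← pow_succ, show n - 1 - 1 + 1 = n - 1 by omega] at e1
          have e3 : Nat.card (twoStep G 1) = p ^ (n - 1) := Nat.eq_of_mul_eq_mul_right hp.out.pos
            (by rw [e2, ← pow_succ, show n - 1 + 1 = n by omega])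
          rw [e3]; exact e1
        rw [← heq]
        exact sup_le (le_sup_of_le_left (Subgroup.zpowers_le.mpr (Subgroup.subset_closure (by simp)))) le_sup_right
      exact (isCoatom_twoStep h le_rfl (by omega)).2 _ (lt_of_le_of_ne h1 fun e => hsM (by
        rw [e]; exact Subgroup.mem_sup_left (Subgroup.subset_closure (by simp))))
    exact htop ▸ Subgroup.mem_top x
  have hcen : ∀ l ∈ L G 1, π l ∈ Subgroup.center (G ⧸ L G 2) := by
    intro l hl
    rw [Subgroup.mem_center_iff]
    intro q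
    obtain ⟨y, rfl⟩ := QuotientGroup.mk'_surjective _ q
    refine (commutatorElement_eq_one_iff_mul_comm.mp ?_).symm
    rw [← map_commutatorElement]
    exact (QuotientGroup.eq_one_iff _).mpr (L_comm (j := 0) hl (Subgroup.mem_top y))
  have hsa : Commute (π a) (π s) := by
    show _ * _ = _ * _
    rw [← commutatorElement_eq_one_iff_mul_comm, ← map_commutatorElement]
    exact (QuotientGroup.eq_one_iff _).mpr hc
  have hall : ∀ x : G, π x ∈ Subgroup.center (G ⧸ L G 2) := by
    intro x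
    have hle : Subgroup.closure ({s, a} : Set G) ⊔ L G 1 ≤ (Subgroup.center (G ⧸ L G 2)).comap π := by
      refine sup_le ((Subgroup.closure_le _).mpr ?_) hcen
      have key : ∀ g : G, Commute (π g) (π s) → Commute (π g) (π a) → π g ∈ Subgroup.center _ := by
        intro g g1 g2
        have : Subgroup.closure ({s, a} : Set G) ⊔ L G 1 ≤
            (Subgroup.centralizer ({π g} : Set _)).comap π := by
          refine sup_le ((Subgroup.closure_le _).mpr ?_) fun l hl => ?_
          · rintro t (rfl | rfl)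
            · exact Subgroup.mem_centralizer_singleton_iff.mpr g1.symm.eq
            · exact Subgroup.mem_centralizer_singleton_iff.mpr g2.symm.eq
          · exact Subgroup.mem_centralizer_singleton_iff.mpr (Subgroup.mem_center_iff.mp (hcen l hl) _).symm
        rw [Subgroup.mem_center_iff]
        intro q
        obtain ⟨y, rfl⟩ := QuotientGroup.mk'_surjective _ q
        exact Subgroup.mem_centralizer_singleton_iff.mp (this (hgen y))
      rintro t (rfl | rfl)
      · exact key _ (Commute.refl _) hsa.symm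
      · exact key _ hsa (Commute.refl _)
    exact hle (hgen x)
  obtain ⟨g, hg, hg'⟩ := exists_step h (j := 1) (by omega)
  refine hg' ((show L G 1 ≤ L G 2 from ?_) hg)
  show ⁅(⊤ : Subgroup G), (⊤ : Subgroup G)⁆ ≤ L G 2
  rw [Subgroup.commutator_le]
  intro x _ y _
  rw [← QuotientGroup.eq_one_iff]
  show π ⁅x, y⁆ = 1
  rw [map_commutatorElement, commutatorElement_eq_one_iff_mul_comm]
  exact Subgroup.mem_center_iff.mp (hall y) _

theorem seq_notMem (hf : Frame G p n a s) : ∀ i, 1 ≤ i → i + 2 ≤ n → seq a s i ∉ L G (i + 1) := by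
  intro i
  induction i with
  | zero => intro h1; omega
  | succ i ih =>
    intro _ hi
    rcases Nat.eq_zero_or_pos i with rfl | hi0
    · exact seq_one_notMem hf
    exact (comm_step hf.maxClass hi0 (by omega) (hf.avoid i hi0 (by omega)) (seq_mem i) (ih hi0 (by omega))).2

/-- `g` is congruent to the `k`-th power of the `K`-th term of the sequence. -/
def Cf (a s : G) (K : ℕ) (g : G) (k : ZMod p) : Prop :=
  (seq a s K ^ k.val)⁻¹ * g ∈ L G (K + 1)

theorem eq_mk {K : ℕ} {g : G} {k : ZMod p} :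
    Cf a s K g k ↔ QuotientGroup.mk' (L G (K + 1)) g = QuotientGroup.mk' (L G (K + 1)) (seq a s K) ^ k.val := by
  rw [← map_pow]
  exact ⟨fun hh => (QuotientGroup.eq.mpr hh).symm, fun hh => QuotientGroup.eq.mp hh.symm⟩

theorem mk_pow_p (hf : Frame G p n a s) {K : ℕ} (h1 : 1 ≤ K) (hK : K + 2 ≤ n) :
    orderOf (QuotientGroup.mk' (L G (K + 1)) (seq a s K)) = p := by
  have h := hf.maxClass
  refine orderOf_eq_prime ?_ fun e => seq_notMem hf K h1 hK ((QuotientGroup.eq_one_iff _).mp e)
  have hlt : L G (K + 1) ≤ L G K := L_mono (by omega)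
  have hidx : (L G (K + 1)).relIndex (L G K) = p := by
    have e := Subgroup.relIndex_mul_relIndex ⊥ (L G (K + 1)) (L G K) bot_le hlt
    rw [Subgroup.relIndex_bot_left, Subgroup.relIndex_bot_left, cardL h (by omega) (by omega),
      cardL h h1 (by omega), show n - 1 - K = n - 1 - (K + 1) + 1 by omega, pow_succ] at e
    exact Nat.eq_of_mul_eq_mul_left (pow_pos hp.out.pos _) e
  haveI : ((L G (K + 1)).subgroupOf (L G K)).Normal := inferInstance
  have h2 : (⟨seq a s K, seq_mem K⟩ : L G K) ^ p ∈ (L G (K + 1)).subgroupOf (L G K) := by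
    rw [← QuotientGroup.eq_one_iff, QuotientGroup.mk_pow, ← hidx]
    exact pow_card_eq_one'
  rw [← map_pow]
  exact (QuotientGroup.eq_one_iff _).mpr h2

theorem Cf.exists (hf : Frame G p n a s) {K : ℕ} (h1 : 1 ≤ K) (hK : K + 2 ≤ n) {g : G} (hg : g ∈ L G K) :
    ∃ k : ZMod p, Cf a s K g k := by
  have hmem := (gen_step hf.maxClass h1 hK (seq_mem K) (seq_notMem hf K h1 hK)).ge hg
  obtain ⟨x, hx, l, hl, rfl⟩ := Subgroup.mem_sup_of_normal_right.mp hmem
  obtain ⟨z, rfl⟩ := Subgroup.mem_zpowers_iff.mp hx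
  refine ⟨(z : ZMod p), eq_mk.mpr ?_⟩
  rw [map_mul, (QuotientGroup.eq_one_iff (N := L G (K + 1)) l).mpr hl |> fun e => (show
    QuotientGroup.mk' (L G (K + 1)) l = 1 from e), mul_one, map_zpow, ← zpow_natCast,
    zpow_eq_zpow_iff_modEq, mk_pow_p hf h1 hK, ← ZMod.intCast_eq_intCast_iff]
  push_cast
  rw [ZMod.natCast_zmod_val]

theorem pow_val_eq (hf : Frame G p n a s) {K : ℕ} (h1 : 1 ≤ K) (hK : K + 2 ≤ n) (m : ℕ) :
    QuotientGroup.mk' (L G (K + 1)) (seq a s K) ^ (m : ZMod p).val =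
      QuotientGroup.mk' (L G (K + 1)) (seq a s K) ^ m := by
  rw [pow_eq_pow_iff_modEq, mk_pow_p hf h1 hK, ← ZMod.natCast_eq_natCast_iff, ZMod.natCast_zmod_val]

theorem Cf.mul (hf : Frame G p n a s) {K : ℕ} (h1 : 1 ≤ K) (hK : K + 2 ≤ n) {g g' : G} {k k' : ZMod p}
    (hg : Cf a s K g k) (hg' : Cf a s K g' k') : Cf a s K (g * g') (k + k') := by
  rw [eq_mk] at hg hg' ⊢
  rw [map_mul, hg, hg', ← pow_add, ← pow_val_eq hf h1 hK (k.val + k'.val), Nat.cast_add,
    ZMod.natCast_zmod_val, ZMod.natCast_zmod_val]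

theorem Cf.unique (hf : Frame G p n a s) {K : ℕ} (h1 : 1 ≤ K) (hK : K + 2 ≤ n) {g : G} {k k' : ZMod p}
    (hg : Cf a s K g k) (hg' : Cf a s K g k') : k = k' := by
  rw [eq_mk] at hg hg'
  rw [hg, pow_eq_pow_iff_modEq, mk_pow_p hf h1 hK, ← ZMod.natCast_eq_natCast_iff, ZMod.natCast_zmod_val,
    ZMod.natCast_zmod_val] at hg'
  exact hg'

theorem Cf.zero {K : ℕ} {g : G} (hg : g ∈ L G (K + 1)) : Cf a s K g (0 : ZMod p) := by
  simpa [Cf] using hg

theorem Cf.mem {K : ℕ} {g : G} (hg : Cf a s K g (0 : ZMod p)) : g ∈ L G (K + 1) := by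
  simpa [Cf] using hg

theorem Cf.inv (hf : Frame G p n a s) {K : ℕ} (h1 : 1 ≤ K) (hK : K + 2 ≤ n) {g : G} {k : ZMod p}
    (hg : Cf a s K g k) (hgL : g ∈ L G K) : Cf a s K g⁻¹ (-k) := by
  obtain ⟨k', hk'⟩ := Cf.exists hf h1 hK (inv_mem hgL)
  have := (hg.mul hf h1 hK hk').unique hf h1 hK (Cf.zero (by simp [one_mem]))
  rwa [show -k = k' from neg_eq_of_add_eq_zero_right this]

theorem Cf.congr {K : ℕ} {g g' : G} {k : ZMod p} (hg : Cf a s K g k) (e : g⁻¹ * g' ∈ L G (K + 1)) :
    Cf a s K g' k := by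
  have := mul_mem (show _ ∈ L G (K + 1) from hg) e
  rwa [mul_assoc, mul_inv_cancel_left] at this

theorem comm_pow_left {X : Type*} [Group X] {x y : X} (hx : Commute x ⁅x, y⁆) : ∀ m : ℕ, ⁅x ^ m, y⁆ = ⁅x, y⁆ ^ m
  | 0 => by simp
  | m + 1 => by
    rw [pow_succ' x m, show ⁅x * x ^ m, y⁆ = x * ⁅x ^ m, y⁆ * x⁻¹ * ⁅x, y⁆ by
      simp only [commutatorElement_def]; group, comm_pow_left hx m, (hx.pow_right m).eq,
      mul_inv_cancel_right, ← pow_succ]

/-- Commutation with `s` shifts the coefficient one level down. -/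
theorem Cf.shift (hf : Frame G p n a s) {K : ℕ} (h1 : 1 ≤ K) (hK : K + 3 ≤ n) {g : G} {k : ZMod p}
    (hg : Cf a s K g k) (hgL : g ∈ L G K) : Cf a s (K + 1) ⁅g, s⁆ k := by
  rw [eq_mk]
  set π := QuotientGroup.mk' (L G (K + 1 + 1))
  have hl : π ((seq a s K ^ k.val)⁻¹ * g) ∈ Subgroup.center (G ⧸ L G (K + 1 + 1)) := by
    rw [Subgroup.mem_center_iff]
    intro q
    obtain ⟨y, rfl⟩ := QuotientGroup.mk'_surjective _ q
    refine (commutatorElement_eq_one_iff_mul_comm.mp ?_).symm
    rw [← map_commutatorElement]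
    exact (QuotientGroup.eq_one_iff _).mpr (L_comm (j := 0) (show _ ∈ L G (K + 1) from hg) (Subgroup.mem_top y))
  have hx : Commute (π (seq a s K)) ⁅π (seq a s K), π s⁆ := by
    show _ * _ = _ * _
    rw [← map_commutatorElement, ← commutatorElement_eq_one_iff_mul_comm, ← map_commutatorElement]
    exact (QuotientGroup.eq_one_iff _).mpr
      (L_mono (by omega) (L_comm (seq_mem (a := a) (s := s) K) (seq_mem (a := a) (s := s) (K + 1))))
  have hc := Subgroup.mem_center_iff.mp hl
  rw [show g = seq a s K ^ k.val * ((seq a s K ^ k.val)⁻¹ * g) by group, map_commutatorElement, map_mul]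
  rw [show ⁅π (seq a s K ^ k.val) * π ((seq a s K ^ k.val)⁻¹ * g), π s⁆ = ⁅π (seq a s K ^ k.val), π s⁆ by
    simp only [commutatorElement_def, mul_inv_rev]
    set w := π ((seq a s K ^ k.val)⁻¹ * g)
    calc π (seq a s K ^ k.val) * w * π s * (w⁻¹ * (π (seq a s K ^ k.val))⁻¹) * (π s)⁻¹
        = π (seq a s K ^ k.val) * (w * π s) * w⁻¹ * (π (seq a s K ^ k.val))⁻¹ * (π s)⁻¹ := by group
      _ = π (seq a s K ^ k.val) * (π s * w) * w⁻¹ * (π (seq a s K ^ k.val))⁻¹ * (π s)⁻¹ := by rw [hc (π s)]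
      _ = _ := by group]
  rw [map_pow, comm_pow_left hx, ← map_commutatorElement]
  rfl

/-- The commutator of two neighbours, differentiated by `s`. -/
theorem deriv_congr (i j : ℕ) :
    ⁅⁅seq a s i, seq a s j⁆, s⁆⁻¹ * (⁅seq a s (i + 1), seq a s j⁆ * ⁅seq a s i, seq a s (j + 1)⁆) ∈
      L G (i + j + 3) := by
  set π := QuotientGroup.mk' (L G (i + j + 3)) with hπ
  set x := π (seq a s i)
  set y := π (seq a s j)
  set t := π s
  set x' := π (seq a s (i + 1))
  set y' := π (seq a s (j + 1))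
  have hx' : x' = ⁅x, t⁆ := map_commutatorElement π _ _
  have hy' : y' = ⁅y, t⁆ := map_commutatorElement π _ _
  have one : ∀ {g : G}, g ∈ L G (i + j + 3) → π g = 1 := fun hg => (QuotientGroup.eq_one_iff _).mpr hg
  have com : ∀ {g g' : G}, ⁅g, g'⁆ ∈ L G (i + j + 3) → Commute (π g) (π g') := fun hg => by
    show _ * _ = _ * _
    rw [← commutatorElement_eq_one_iff_mul_comm, ← map_commutatorElement]
    exact one hg
  have hi1 := seq_mem (a := a) (s := s) (i + 1)
  have hj1 := seq_mem (a := a) (s := s) (j + 1)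
  have e0 : Commute x' y' := com (L_mono (by omega) (L_comm hi1 hj1))
  -- commutators at level `i + j + 1` commute with the next level and with `x'`, `y'`
  have c1 : Commute x' ⁅x, y⁆ := by
    rw [← map_commutatorElement]
    exact com (L_mono (by omega) (L_comm hi1 (L_comm (seq_mem i) (seq_mem j))))
  have c2 : Commute y' ⁅x, y⁆ := by
    rw [← map_commutatorElement]
    exact com (L_mono (by omega) (L_comm hj1 (L_comm (seq_mem i) (seq_mem j))))
  have d1 : Commute x' ⁅x, y'⁆ := by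
    rw [← map_commutatorElement]
    exact com (L_mono (by omega) (L_comm hi1 (L_comm (seq_mem i) hj1)))
  have d2 : Commute y' ⁅x', y⁆ := by
    rw [← map_commutatorElement]
    exact com (L_mono (by omega) (L_comm hj1 (L_comm hi1 (seq_mem j))))
  have d3 : Commute y' ⁅x, y'⁆ := by
    rw [← map_commutatorElement]
    exact com (L_mono (by omega) (L_comm hj1 (L_comm (seq_mem i) hj1)))
  have d4 : Commute x' ⁅x', y⁆ := by
    rw [← map_commutatorElement]
    exact com (L_mono (by omega) (L_comm hi1 (L_comm hi1 (seq_mem j))))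
  have f1 : ∀ g' : G, Commute ⁅x', y⁆ (π g') := fun g' => by
    rw [← map_commutatorElement]
    exact com (L_mono (by omega) (L_comm (j := 0) (L_comm hi1 (seq_mem j)) (Subgroup.mem_top g')))
  have f2 : ∀ g' : G, Commute ⁅x, y'⁆ (π g') := fun g' => by
    rw [← map_commutatorElement]
    exact com (L_mono (by omega) (L_comm (j := 0) (L_comm (seq_mem i) hj1) (Subgroup.mem_top g')))
  have ex : t * x * t⁻¹ = x'⁻¹ * x := by rw [hx', commutatorElement_def]; group
  have ey : t * y * t⁻¹ = y'⁻¹ * y := by rw [hy', commutatorElement_def]; group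
  have k1 : ⁅x'⁻¹, y⁆ = ⁅x', y⁆⁻¹ := by
    rw [show ⁅x'⁻¹, y⁆ = x'⁻¹ * ⁅x', y⁆⁻¹ * x' by simp only [commutatorElement_def]; group,
      d4.inv_left.inv_right.eq, inv_mul_cancel_right]
  have k2 : ⁅x, y'⁻¹⁆ = ⁅x, y'⁆⁻¹ := by
    rw [show ⁅x, y'⁻¹⁆ = y'⁻¹ * ⁅x, y'⁆⁻¹ * y' by simp only [commutatorElement_def]; group,
      d3.inv_left.inv_right.eq, inv_mul_cancel_right]
  have k0 : ⁅x'⁻¹, y'⁻¹⁆ = 1 := commutatorElement_eq_one_iff_mul_comm.mpr e0.inv_inv.eq
  have big : t * ⁅x, y⁆ * t⁻¹ = ⁅x, y⁆ * ⁅x', y⁆⁻¹ * ⁅x, y'⁆⁻¹ := by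
    rw [show t * ⁅x, y⁆ * t⁻¹ = ⁅t * x * t⁻¹, t * y * t⁻¹⁆ by simp only [commutatorElement_def]; group, ex, ey,
      show ⁅x'⁻¹ * x, y'⁻¹ * y⁆ = x'⁻¹ * (⁅x, y'⁻¹⁆ * (y'⁻¹ * ⁅x, y⁆ * y')) * x' *
        (⁅x'⁻¹, y'⁻¹⁆ * (y'⁻¹ * ⁅x'⁻¹, y⁆ * y')) by simp only [commutatorElement_def]; group,
      k0, k1, k2, one_mul, c2.inv_left.eq, inv_mul_cancel_right, d2.inv_left.inv_right.eq, inv_mul_cancel_right,
      show x'⁻¹ * (⁅x, y'⁆⁻¹ * ⁅x, y⁆) = (⁅x, y'⁆⁻¹ * ⁅x, y⁆) * x'⁻¹ from
        (d1.inv_left.inv_right.mul_right c1.inv_left).eq, inv_mul_cancel_right]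
    have g1 : Commute ⁅x, y'⁆⁻¹ ⁅x, y⁆ := by
      rw [show ⁅x, y⁆ = π ⁅seq a s i, seq a s j⁆ from (map_commutatorElement π _ _).symm]
      exact (f2 _).inv_left
    have g2 : Commute ⁅x, y'⁆⁻¹ ⁅x', y⁆⁻¹ := by
      rw [show ⁅x', y⁆ = π ⁅seq a s (i + 1), seq a s j⁆ from (map_commutatorElement π _ _).symm]
      exact (f2 _).inv_inv
    rw [g1.eq, mul_assoc, g2.eq, ← mul_assoc]
  refine (QuotientGroup.eq_one_iff _).mp ?_
  show π _ = 1
  simp only [map_mul, map_inv, map_commutatorElement]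
  show ⁅⁅x, y⁆, t⁆⁻¹ * (⁅x', y⁆ * ⁅x, y'⁆) = 1
  rw [show ⁅⁅x, y⁆, t⁆⁻¹ = t * ⁅x, y⁆ * t⁻¹ * ⁅x, y⁆⁻¹ by rw [commutatorElement_inv, commutatorElement_def], big]
  have g3 : Commute ⁅x, y⁆⁻¹ (⁅x', y⁆ * ⁅x, y'⁆) := by
    rw [show ⁅x, y⁆ = π ⁅seq a s i, seq a s j⁆ from (map_commutatorElement π _ _).symm]
    exact ((f1 _).symm.mul_right (f2 _).symm).inv_left
  rw [mul_assoc, g3.eq, ← mul_assoc, mul_assoc ⁅x, y⁆]
  have g4 : Commute ⁅x, y'⁆⁻¹ ⁅x', y⁆ := by
    rw [show ⁅x', y⁆ = π ⁅seq a s (i + 1), seq a s j⁆ from (map_commutatorElement π _ _).symm]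
    exact (f2 _).inv_left
  rw [show ⁅x, y⁆ * (⁅x', y⁆⁻¹ * ⁅x, y'⁆⁻¹) * (⁅x', y⁆ * ⁅x, y'⁆) * ⁅x, y⁆⁻¹ =
    ⁅x, y⁆ * (⁅x', y⁆⁻¹ * (⁅x, y'⁆⁻¹ * ⁅x', y⁆) * ⁅x, y'⁆) * ⁅x, y⁆⁻¹ by group, g4.eq]
  group

/-- All commutators of the sequence drop one level more than forced, at level `K`. -/
def Vanish (a s : G) (K : ℕ) : Prop := ∀ i j, i + j + 1 = K → ⁅seq a s i, seq a s j⁆ ∈ L G (K + 1)

/-- Coefficients at level `K + 1` from those at level `K`. -/
theorem rec_step (hf : Frame G p n a s) {K i j : ℕ} (h1 : 1 ≤ K) (hK : K + 3 ≤ n) (he : i + j + 1 = K)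
    {k k1 k2 : ZMod p} (hk : Cf a s K ⁅seq a s i, seq a s j⁆ k)
    (hk1 : Cf a s (K + 1) ⁅seq a s (i + 1), seq a s j⁆ k1)
    (hk2 : Cf a s (K + 1) ⁅seq a s i, seq a s (j + 1)⁆ k2) : k = k1 + k2 := by
  have hw : ⁅seq a s i, seq a s j⁆ ∈ L G K := he ▸ L_comm (seq_mem i) (seq_mem j)
  refine ((hk.shift hf h1 hK hw).congr ?_).unique hf (by omega) (by omega) (hk1.mul hf (by omega) (by omega) hk2)
  have := deriv_congr (a := a) (s := s) i j
  rwa [show i + j + 3 = K + 1 + 1 by omega] at this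

theorem Cf.neg_swap (hf : Frame G p n a s) {K i j : ℕ} (h1 : 1 ≤ K) (hK : K + 2 ≤ n) (he : i + j + 1 = K)
    {k : ZMod p} (hk : Cf a s K ⁅seq a s i, seq a s j⁆ k) : Cf a s K ⁅seq a s j, seq a s i⁆ (-k) := by
  rw [← commutatorElement_inv]
  exact hk.inv hf h1 hK (he ▸ L_comm (seq_mem i) (seq_mem j))

theorem two_ne_zero' (hp2 : p ≠ 2) : (2 : ZMod p) ≠ 0 := fun e => by
  have : ((2 : ℕ) : ZMod p) = 0 := by exact_mod_cast e
  have := (Nat.prime_dvd_prime_iff_eq hp.out Nat.prime_two).mp ((ZMod.natCast_eq_zero_iff 2 p).mp this)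
  exact hp2 this

/-- The coefficients at a level above a vanishing one alternate, and need an even level. -/
theorem alternate (hf : Frame G p n a s) {K : ℕ} (h3 : 3 ≤ K) (hK : K + 2 ≤ n) (hv : Vanish a s (K - 1))
    {c : ZMod p} (hc : Cf a s K ⁅seq a s 0, seq a s (K - 1)⁆ c) :
    (∀ i j, i + j + 1 = K → Cf a s K ⁅seq a s i, seq a s j⁆ ((-1) ^ i * c)) ∧
      (p ≠ 2 → c ≠ 0 → Even K) := by
  have key : ∀ i j, i + j + 1 = K → Cf a s K ⁅seq a s i, seq a s j⁆ ((-1) ^ i * c) := by
    intro i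
    induction i with
    | zero => intro j hj; rwa [show j = K - 1 by omega, pow_zero, one_mul]
    | succ i ih =>
      intro j hj
      obtain ⟨k, hk⟩ := Cf.exists hf (show 1 ≤ K by omega) hK (g := ⁅seq a s (i + 1), seq a s j⁆)
        (hj ▸ L_comm (seq_mem _) (seq_mem _))
      have h0 : Cf a s (K - 1) ⁅seq a s i, seq a s j⁆ (0 : ZMod p) := Cf.zero (hv i j (by omega))
      have hb := ih (j + 1) (by omega)
      have := rec_step hf (K := K - 1) (by omega) (by omega) (by omega) h0
        (show Cf a s (K - 1 + 1) _ k by rwa [show K - 1 + 1 = K by omega])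
        (show Cf a s (K - 1 + 1) _ ((-1) ^ i * c) by rwa [show K - 1 + 1 = K by omega])
      rwa [show ((-1 : ZMod p) ^ (i + 1) * c) = k by rw [pow_succ]; linear_combination this]
  refine ⟨key, fun hp2 hc0 => ?_⟩
  by_contra hodd
  have h1 := key (K - 1) 0 (by omega)
  have h2 := (hc.neg_swap hf (by omega) hK (by omega)).unique hf (by omega) hK h1
  rw [(Nat.Odd.sub_odd (Nat.not_even_iff_odd.mp hodd) odd_one).neg_one_pow, one_mul] at h2
  exact hc0 (mul_left_cancel₀ (two_ne_zero' hp2) (by linear_combination -h2))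

/-- A nonvanishing level below the top is divisible by `p`. -/
theorem dvd_level (hf : Frame G p n a s) (hp2 : p ≠ 2) {K : ℕ} (h3 : 3 ≤ K) (hK : K + 3 ≤ n)
    (hv2 : Vanish a s 2) (hv : Vanish a s (K - 1)) {c : ZMod p}
    (hc : Cf a s K ⁅seq a s 0, seq a s (K - 1)⁆ c) (hc0 : c ≠ 0) : p ∣ K := by
  obtain ⟨key, heven⟩ := alternate hf h3 (by omega) hv hc
  have hKe := heven hp2 hc0
  obtain ⟨d, hd⟩ := Cf.exists hf (show 1 ≤ K + 1 by omega) (by omega) (g := ⁅seq a s 0, seq a s K⁆)
    (by simpa using L_comm (seq_mem (a := a) (s := s) 0) (seq_mem (a := a) (s := s) K))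
  have hg : ∀ i j, i + j = K → Cf a s (K + 1) ⁅seq a s i, seq a s j⁆ ((-1 : ZMod p) ^ i * (d - (i : ZMod p) * c)) := by
    intro i
    induction i with
    | zero => intro j hj; simpa [show j = K by omega] using hd
    | succ i ih =>
      intro j hj
      obtain ⟨k, hk⟩ := Cf.exists hf (show 1 ≤ K + 1 by omega) (by omega)
        (g := ⁅seq a s (i + 1), seq a s j⁆) (L_mono (by omega) (L_comm (seq_mem (i + 1)) (seq_mem j)))
      have := rec_step hf (by omega) hK (by omega) (key i j (by omega)) hk (ih (j + 1) (by omega))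
      rwa [show ((-1 : ZMod p) ^ (i + 1) * (d - ((i + 1 : ℕ) : ZMod p) * c)) = k by
        rw [pow_succ]; push_cast; linear_combination this]
  have h2 := (hd.neg_swap hf (by omega) (by omega) (by omega)).unique hf (by omega) (by omega) (hg K 0 (by omega))
  rw [hKe.neg_one_pow, one_mul] at h2
  -- conjugation by `a` fixes the commutator at level `K`
  have hd0 : d = 0 := by
    set w := ⁅seq a s 1, seq a s (K - 2)⁆
    have hw : Cf a s K w (-c) := by simpa using key 1 (K - 2) (by omega)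
    have ha1 : ⁅a, seq a s 1⁆ ∈ L G 3 := hv2 0 1 rfl
    have haK : ⁅a, seq a s (K - 2)⁆ ∈ L G K := by
      have := hv 0 (K - 2) (by omega)
      rwa [show K - 1 + 1 = K by omega] at this
    set π := QuotientGroup.mk' (L G (K + 2))
    have com : ∀ {i j : ℕ} {g g' : G}, K + 2 ≤ i + j + 1 → g ∈ L G i → g' ∈ L G j →
        Commute (π g) (π g') := fun hij h h' => by
      show _ * _ = _ * _
      rw [← commutatorElement_eq_one_iff_mul_comm, ← map_commutatorElement]
      exact (QuotientGroup.eq_one_iff _).mpr (L_mono hij (L_comm h h'))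
    set x := π (seq a s 1)
    set y := π (seq a s (K - 2))
    have hu : Commute (π a) (π w) := by
      have hw' : w ∈ L G K := L_mono (by omega) (L_comm (seq_mem 1) (seq_mem (K - 2)))
      have e1 : Commute ⁅π a, x⁆ y := by
        rw [← map_commutatorElement]; exact com (by omega) ha1 (seq_mem _)
      have e2 : Commute x ⁅π a, y⁆ := by
        rw [← map_commutatorElement]; exact com (by omega) (seq_mem 1) haK
      have e3 : Commute ⁅π a, x⁆ ⁅π a, y⁆ := by
        rw [← map_commutatorElement, ← map_commutatorElement]; exact com (by omega) ha1 haK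
      have e4 : Commute ⁅π a, x⁆ ⁅x, y⁆ := by
        rw [← map_commutatorElement, ← map_commutatorElement]; exact com (by omega) ha1 hw'
      have e5 : Commute ⁅π a, y⁆ ⁅x, y⁆ := by
        rw [← map_commutatorElement, ← map_commutatorElement]; exact com (by omega) haK hw'
      show _ * _ = _ * _
      rw [show π w = ⁅x, y⁆ from map_commutatorElement π _ _]
      have : π a * ⁅x, y⁆ * (π a)⁻¹ = ⁅x, y⁆ := by
        set P := ⁅π a, x⁆
        set Q := ⁅π a, y⁆
        calc π a * ⁅x, y⁆ * (π a)⁻¹ = ⁅P * x, Q * y⁆ := by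
              simp only [P, Q, commutatorElement_def]; group
          _ = P * (⁅x, Q⁆ * (Q * ⁅x, y⁆ * Q⁻¹)) * P⁻¹ * (⁅P, Q⁆ * (Q * ⁅P, y⁆ * Q⁻¹)) := by
              simp only [commutatorElement_def]; group
          _ = _ := by
              rw [commutatorElement_eq_one_iff_mul_comm.mpr e2.eq, commutatorElement_eq_one_iff_mul_comm.mpr e3.eq,
                commutatorElement_eq_one_iff_mul_comm.mpr e1.eq, e5.eq, mul_inv_cancel_right, one_mul, e4.eq,
                mul_inv_cancel_right]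
              group
      calc π a * ⁅x, y⁆ = π a * ⁅x, y⁆ * (π a)⁻¹ * π a := by group
        _ = _ := by rw [this]
    -- compare with the power of the next term
    have hl : π ((seq a s K ^ (-c).val)⁻¹ * w) * π a = π a * π ((seq a s K ^ (-c).val)⁻¹ * w) :=
      (com (i := K + 1) (j := 0) (by omega) hw (Subgroup.mem_top a)).eq
    have hpow : Commute (π a) (π (seq a s K) ^ (-c).val) := by
      have hm := hu.mul_right (Commute.inv_right (show Commute (π a) (π ((seq a s K ^ (-c).val)⁻¹ * w)) from hl.symm))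
      rwa [← map_inv, ← map_mul, mul_inv_rev, inv_inv, ← mul_assoc, mul_inv_cancel, one_mul, map_pow] at hm
    have hcop : Nat.Coprime (-c).val p := by
      refine (hp.out.coprime_iff_not_dvd.mpr fun hdvd => ?_).symm
      have := Nat.eq_zero_of_dvd_of_lt hdvd (ZMod.val_lt _)
      rw [ZMod.val_eq_zero, neg_eq_zero] at this
      exact hc0 this
    have hK1 : Commute (π a) (π (seq a s K)) := by
      have hpK : (π (seq a s K)) ^ p ∈ Subgroup.center (G ⧸ L G (K + 2)) := by
        have hm : seq a s K ^ p ∈ L G (K + 1) := by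
          have := mk_pow_p hf (show 1 ≤ K by omega) (by omega)
          refine (QuotientGroup.eq_one_iff _).mp ?_
          show QuotientGroup.mk' _ (seq a s K ^ p) = 1
          rw [map_pow]
          conv_lhs => rw [← this]
          exact pow_orderOf_eq_one _
        rw [← map_pow, Subgroup.mem_center_iff]
        intro q
        obtain ⟨y, rfl⟩ := QuotientGroup.mk'_surjective _ q
        exact (com (i := 0) (j := K + 1) (by omega) (Subgroup.mem_top y) hm).eq
      have hpc : Commute (π a) (π (seq a s K) ^ p) := Subgroup.mem_center_iff.mp hpK _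
      obtain ⟨u, v, huv⟩ : IsCoprime ((-c).val : ℤ) (p : ℤ) := Nat.isCoprime_iff_coprime.mpr hcop
      have e := congrArg (fun z : ℤ => π (seq a s K) ^ z) huv
      simp only [zpow_add, zpow_mul', zpow_natCast, zpow_one] at e
      have h := (hpow.zpow_right u).mul_right (hpc.zpow_right v)
      rwa [e] at h
    refine hd.unique hf (by omega) (by omega) (Cf.zero ?_)
    refine (QuotientGroup.eq_one_iff _).mp ?_
    show π ⁅seq a s 0, seq a s K⁆ = 1
    rw [map_commutatorElement, commutatorElement_eq_one_iff_mul_comm]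
    exact hK1.eq
  rw [hd0] at h2
  have hKc : (K : ZMod p) * c = 0 := by linear_combination h2
  exact (ZMod.natCast_eq_zero_iff K p).mp ((mul_eq_zero.mp hKc).resolve_right hc0)

/-- All levels below the top vanish. -/
theorem vanish (hf : Frame G p n a s) : ∀ K, 2 ≤ K → K + 3 ≤ n → Vanish a s K := by
  have h := hf.maxClass
  intro K
  induction K using Nat.strongRecOn with
  | ind K ih =>
    intro h2 hK
    rcases Nat.eq_or_lt_of_le h2 with rfl | h3
    · intro i j hij
      have h01 : ⁅seq a s 1, seq a s 0⁆ ∈ L G 3 := mem_twoStep.mp hf.memM _ (seq_mem 1)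
      rcases (show (i = 0 ∧ j = 1) ∨ (i = 1 ∧ j = 0) by omega) with ⟨rfl, rfl⟩ | ⟨rfl, rfl⟩
      · rw [← commutatorElement_inv]; exact inv_mem h01
      · exact h01
    have hv : Vanish a s (K - 1) := ih _ (by omega) (by omega) (by omega)
    obtain ⟨c, hc⟩ := Cf.exists hf (show 1 ≤ K by omega) (by omega) (g := ⁅seq a s 0, seq a s (K - 1)⁆)
      (L_mono (by omega) (L_comm (seq_mem 0) (seq_mem (K - 1))))
    suffices hc0 : c = 0 by
      intro i j hij
      have := ((alternate hf h3 (by omega) hv hc).1 i j hij)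
      rw [hc0, mul_zero] at this
      exact this.mem
    by_contra hc0
    rcases Nat.lt_or_ge (K - 1) p with hlt | hge
    · have hp2 : p ≠ 2 := by omega
      have hd := dvd_level hf hp2 h3 hK (ih 2 h3 le_rfl (by omega)) hv hc hc0
      have hKp : K = p := by
        have := Nat.le_of_dvd (by omega) hd
        omega
      exact (Nat.not_even_iff_odd.mpr (hp.out.odd_of_ne_two hp2)) (hKp ▸ (alternate hf h3 (by omega) hv hc).2 hp2 hc0)
    · refine hc0 (hc.unique hf (by omega) (by omega) (Cf.zero ?_))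
      have hp2 := hp.out.two_le
      have hper := twoStep_periodic h (j := K - p) (by omega) (by omega) (s := s)
        (fun i h1 h2' => hf.avoid i h1 (by omega))
      rw [show K - p + p - 1 = K - 1 by omega] at hper
      rw [← commutatorElement_inv]
      refine inv_mem ?_
      rw [show K + 1 = K - 1 + 2 by omega]
      refine mem_twoStep.mp ?_ _ (seq_mem _)
      show a ∈ twoStep G (K - 1)
      rw [hper]
      rcases Nat.eq_or_lt_of_le (show 1 ≤ K - p by omega) with e | hl
      · rw [← e]; exact hf.memM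
      refine mem_twoStep_of_gen h (by omega) (by omega) (seq_mem (K - p)) (seq_notMem hf _ (by omega) (by omega)) ?_
      rw [show K - p + 2 = K - p + 1 + 1 by omega]
      exact (ih (K - p + 1) (by omega) (by omega) (by omega)) (K - p) 0 (by omega)

/-- The two-step centralizers below the last one all equal the first. -/
theorem twoStep_eq_one (h : MaxClass G p n) {j : ℕ} (h1 : 1 ≤ j) (hj : j + 4 ≤ n) :
    twoStep G j = twoStep G 1 := by
  rcases Nat.eq_or_lt_of_le h1 with e | h2
  · rw [← e]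
  obtain ⟨a, s, hf⟩ := exists_frame h (show 4 ≤ n by omega)
  have ha : a ∈ twoStep G j := by
    refine mem_twoStep_of_gen h (by omega) (by omega) (seq_mem j) (seq_notMem hf _ (by omega) (by omega)) ?_
    exact vanish hf (j + 1) (by omega) (by omega) j 0 (by omega)
  have hlt : L G 1 < twoStep G j := lt_of_le_of_ne (L_one_le_twoStep j) fun e => hf.notMemL (e ▸ ha)
  refine ((isCoatom_twoStep h le_rfl (by omega)).le_iff.mp ?_).resolve_left (twoStep_ne_top h (show j + 3 ≤ n by omega))
  have heq : Subgroup.zpowers a ⊔ L G 1 = twoStep G 1 := by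
    have hle : Subgroup.zpowers a ⊔ L G 1 ≤ twoStep G 1 :=
      sup_le (Subgroup.zpowers_le.mpr hf.memM) (L_one_le_twoStep 1)
    have hlt : L G 1 < Subgroup.zpowers a ⊔ L G 1 :=
      lt_of_le_of_ne le_sup_right fun e => hf.notMemL (by
        rw [e]; exact Subgroup.mem_sup_left (Subgroup.mem_zpowers a))
    refine Subgroup.eq_of_le_of_card_ge hle ?_
    have e1 := PGroups.card_mul_le_of_lt ((isPGroup h).to_subgroup _) hlt
    have e2 := (twoStep G 1).card_mul_index
    rw [index_twoStep h le_rfl (by omega), h.card] at e2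
    rw [cardL h le_rfl (by omega), ← pow_succ, show n - 1 - 1 + 1 = n - 1 by omega] at e1
    have e3 : Nat.card (twoStep G 1) = p ^ (n - 1) := Nat.eq_of_mul_eq_mul_right hp.out.pos
      (by rw [e2, ← pow_succ, show n - 1 + 1 = n by omega])
    rw [e3]; exact e1
  rw [← heq]
  exact sup_le (Subgroup.zpowers_le.mpr ha) (L_one_le_twoStep j)

/-- An element with large centralizer lies in the first or in the last two-step centralizer. -/
theorem mem_or_of_not_small (h : MaxClass G p n) (hn : 4 ≤ n) {g : G}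
    (hg : Nat.card (Subgroup.centralizer ({g} : Set G)) ≠ p ^ 2) :
    g ∈ twoStep G 1 ∨ g ∈ twoStep G (n - 3) := by
  by_contra hc
  push Not at hc
  refine hg (small_of_avoid h (fun e => hc.1 (L_one_le_twoStep 1 e)) fun k h1 hk hgk => ?_)
  rcases Nat.lt_or_ge (k + 3) n with hlt | hge
  · exact hc.1 (twoStep_eq_one h h1 (by omega) ▸ hgk)
  · exact hc.2 (show k = n - 3 by omega ▸ hgk)

/-- In the exceptional case the order is an even power and the first layer pairs with `L (n - 4)`. -/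
theorem exceptional (h : MaxClass G p n) (hn : 5 ≤ n) (hex : twoStep G (n - 3) ≠ twoStep G 1) :
    6 ≤ n ∧ Even n ∧ ∀ g ∈ L G 1, g ∉ L G 2 → ∀ g' ∈ L G (n - 4), g' ∉ L G (n - 3) → ⁅g, g'⁆ ≠ 1 := by
  have hp2 : p ≠ 2 := by
    rintro rfl
    obtain ⟨i, i1, i2, -, e⟩ := twoStep_eq_small h (n - 3) (by omega) (by omega)
    exact hex (by rw [e, show i = 1 by omega])
  obtain ⟨a, s, hf⟩ := exists_frame h (show 4 ≤ n by omega)
  obtain ⟨c, hc⟩ := Cf.exists hf (show 1 ≤ n - 2 by omega) (by omega) (g := ⁅seq a s 0, seq a s (n - 3)⁆)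
    (L_mono (by omega) (L_comm (seq_mem 0) (seq_mem (n - 3))))
  have hbot : L G (n - 2 + 1) = ⊥ := L_eq_bot h (by omega)
  have hv : Vanish a s (n - 2 - 1) := vanish hf _ (by omega) (by omega)
  have hc' : Cf a s (n - 2) ⁅seq a s 0, seq a s (n - 2 - 1)⁆ c := by rwa [show n - 2 - 1 = n - 3 by omega]
  obtain ⟨key, hev⟩ := alternate hf (by omega) (by omega) hv hc'
  have hc0 : c ≠ 0 := by
    intro e
    refine hex ?_
    have ha : a ∈ twoStep G (n - 3) := by
      refine mem_twoStep_of_gen h (by omega) (by omega) (seq_mem (n - 3)) (seq_notMem hf _ (by omega) (by omega)) ?_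
      have := key (n - 3) 0 (by omega)
      rw [e, mul_zero] at this
      have := this.mem
      rwa [show n - 2 + 1 = n - 3 + 2 by omega] at this
    have hlt : L G 1 < twoStep G (n - 3) := lt_of_le_of_ne (L_one_le_twoStep _) fun e => hf.notMemL (e ▸ ha)
    by_contra hne
    have hinf : twoStep G (n - 3) ⊓ twoStep G 1 < twoStep G 1 := lt_of_le_of_ne inf_le_right fun e' =>
      hne (((isCoatom_twoStep h le_rfl (by omega)).le_iff.mp (e' ▸ inf_le_left)).resolve_left
        (twoStep_ne_top h (by omega)))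
    have hlt2 : L G 1 < twoStep G (n - 3) ⊓ twoStep G 1 :=
      lt_of_le_of_ne (le_inf (L_one_le_twoStep _) (L_one_le_twoStep _)) fun e' => hf.notMemL
        (e' ▸ Subgroup.mem_inf.mpr ⟨ha, hf.memM⟩)
    have e1 := PGroups.card_mul_le_of_lt ((isPGroup h).to_subgroup _) hlt2
    have e2 := PGroups.card_mul_le_of_lt ((isPGroup h).to_subgroup _) hinf
    have e3 := (twoStep G 1).card_mul_index
    rw [index_twoStep h le_rfl (by omega), h.card] at e3
    have e4 : p ^ (n - 1 - 1) * p * p * p ≤ p ^ n := by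
      rw [← cardL h le_rfl (by omega), ← e3]
      exact Nat.mul_le_mul_right p ((Nat.mul_le_mul_right p e1).trans e2)
    rw [← pow_succ, ← pow_succ, ← pow_succ, Nat.pow_le_pow_iff_right hp.out.one_lt] at e4
    omega
  obtain ⟨r, hr⟩ := hev hp2 hc0
  refine ⟨by omega, ⟨r + 1, by omega⟩, fun g hg hg2 g' hg' hg'2 hcomm => ?_⟩
  have h12 : ⁅seq a s 1, seq a s (n - 4)⁆ = 1 := by
    set C := Subgroup.centralizer ({g'} : Set G)
    have hbase : ∀ {i j : ℕ} {u v : G}, n - 1 ≤ i + j + 1 → u ∈ L G i → v ∈ L G j → ⁅u, v⁆ = 1 :=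
      fun hij hu hv' => Subgroup.mem_bot.mp (L_eq_bot h hij ▸ L_comm hu hv')
    have hle : L G 1 ≤ C := by
      rw [← gen_step h le_rfl (by omega) hg hg2]
      refine sup_le (Subgroup.zpowers_le.mpr (Subgroup.mem_centralizer_singleton_iff.mpr
        (commutatorElement_eq_one_iff_mul_comm.mp hcomm))) fun l hl => ?_
      exact Subgroup.mem_centralizer_singleton_iff.mpr
        (commutatorElement_eq_one_iff_mul_comm.mp (hbase (by omega) hl hg'))
    have hle' : L G (n - 4) ≤ Subgroup.centralizer ({seq a s 1} : Set G) := by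
      rw [← gen_step h (by omega) (by omega) hg' (by rwa [show n - 4 + 1 = n - 3 by omega])]
      refine sup_le (Subgroup.zpowers_le.mpr (Subgroup.mem_centralizer_singleton_iff.mpr
        (Subgroup.mem_centralizer_singleton_iff.mp (hle (seq_mem 1))).symm)) fun l hl => ?_
      exact Subgroup.mem_centralizer_singleton_iff.mpr
        (commutatorElement_eq_one_iff_mul_comm.mp (hbase (by omega) hl (seq_mem 1)))
    exact commutatorElement_eq_one_iff_mul_comm.mpr
      (Subgroup.mem_centralizer_singleton_iff.mp (hle' (seq_mem (n - 4)))).symm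
  have := (key 1 (n - 4) (by omega)).unique hf (by omega) (by omega) (Cf.zero (by rw [h12]; exact one_mem _))
  rw [pow_one, neg_mul, one_mul, neg_eq_zero] at this
  exact hc0 this

end Cfsg.Agent.Lib.MaxClassDegree
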