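import Cfsg.Agent.Lib.MaxClassPower.Basic

/-!
Uniform elements of `p`-groups of maximal class: the two-step centralizers take at most `p - 1`
values, so some element outside any given proper subgroup has centralizer of order `p ^ 2`.
-/

set_option autoImplicit false
set_option linter.unusedSectionVars false
set_option linter.style.haveILetI false

namespace Cfsg.Agent.Lib.MaxClassUniform

open scoped commutatorElement
open Subgroup
open Cfsg.Agent.Lib.MaxClassPower

universe u

variable {G : Type u} [Group G] [Finite G] {p : ℕ} [hp : Fact p.Prime]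

/-- A group of order `p ^ n` of maximal class. -/
structure MaxClass (G : Type u) [Group G] (p n : ℕ) : Prop where
  three : 3 ≤ n
  card : Nat.card G = p ^ n
  ne_bot : ∀ j, j < n - 1 → L G j ≠ ⊥

variable {n : ℕ}

omit [Finite G] hp in
theorem MaxClass.of_nilpotencyClass [Group.IsNilpotent G] (hn : 3 ≤ n) (hG : Nat.card G = p ^ n)
    (h : Group.nilpotencyClass G = n - 1) : MaxClass G p n :=
  ⟨hn, hG, fun j hj hb => by
    have := Subgroup.lowerCentralSeries_eq_bot_iff_nilpotencyClass_le.mp hb
    omega⟩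

theorem isPGroup (h : MaxClass G p n) : IsPGroup p G := IsPGroup.of_card h.card

theorem L_eq_bot (h : MaxClass G p n) {j : ℕ} (hj : n - 1 ≤ j) : L G j = ⊥ :=
  le_bot_iff.mp ((L_mono hj).trans_eq (RankTwo.lowerCentralSeries_eq_bot (by have := h.three; omega) h.card))

theorem cardL (h : MaxClass G p n) {j : ℕ} (h1 : 1 ≤ j) (h2 : j ≤ n - 1) :
    Nat.card (L G j) = p ^ (n - 1 - j) :=
  card_L (by have := h.three; omega) h.card h.ne_bot h1 h2

theorem exists_step (h : MaxClass G p n) {j : ℕ} (hj : j + 2 ≤ n) : ∃ g ∈ L G j, g ∉ L G (j + 1) := by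
  by_contra hc
  push Not at hc
  haveI := (isPGroup h).isNilpotent
  rcases Nat.eq_zero_or_pos j with rfl | hj0
  · have h1 : Nat.card (L G 1) = p ^ (n - 1 - 1) := cardL h le_rfl (by omega)
    have h2 := Subgroup.card_le_of_le (show L G 0 ≤ L G 1 from hc)
    rw [show L G 0 = ⊤ from rfl, Subgroup.card_top, h.card, h1, Nat.pow_le_pow_iff_right hp.out.one_lt] at h2
    omega
  · have h2 := Subgroup.card_le_of_le (show L G j ≤ L G (j + 1) from hc)
    rw [cardL h hj0 (by omega), cardL h (by omega) (by omega),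
      Nat.pow_le_pow_iff_right hp.out.one_lt] at h2
    omega

/-- An element of `L j` outside `L (j + 1)` generates `L j` modulo `L (j + 1)`. -/
theorem gen_step (h : MaxClass G p n) {j : ℕ} (h1 : 1 ≤ j) (hj : j + 2 ≤ n) {g : G} (hg : g ∈ L G j)
    (hg' : g ∉ L G (j + 1)) : Subgroup.zpowers g ⊔ L G (j + 1) = L G j := by
  have hle : Subgroup.zpowers g ⊔ L G (j + 1) ≤ L G j :=
    sup_le (Subgroup.zpowers_le.mpr hg) (L_mono (by omega))
  have hlt : L G (j + 1) < Subgroup.zpowers g ⊔ L G (j + 1) :=
    lt_of_le_of_ne le_sup_right fun e => hg' (by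
      rw [e]; exact Subgroup.mem_sup_left (Subgroup.mem_zpowers _))
  refine Subgroup.eq_of_le_of_card_ge hle ?_
  have := PGroups.card_mul_le_of_lt ((isPGroup h).to_subgroup _) hlt
  rw [cardL h (by omega) (by omega), ← pow_succ] at this
  rw [cardL h h1 (by omega)]
  exact le_trans (Nat.pow_le_pow_right hp.out.pos (by omega)) this

/-- The two-step centralizer of `L j / L (j + 2)`. -/
def twoStep (G : Type u) [Group G] (j : ℕ) : Subgroup G :=
  (Subgroup.centralizer (((L G j).map (QuotientGroup.mk' (L G (j + 2))) : Subgroup _) : Set _)).comap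
    (QuotientGroup.mk' (L G (j + 2)))

omit [Finite G] in
theorem mem_twoStep {j : ℕ} {x : G} : x ∈ twoStep G j ↔ ∀ g ∈ L G j, ⁅g, x⁆ ∈ L G (j + 2) := by
  rw [twoStep, Subgroup.mem_comap, Subgroup.mem_centralizer_iff]
  refine ⟨fun h g hg => ?_, fun h y hy => ?_⟩
  · rw [← QuotientGroup.eq_one_iff]
    show QuotientGroup.mk' _ ⁅g, x⁆ = 1
    rw [map_commutatorElement, commutatorElement_eq_one_iff_mul_comm]
    exact h _ (Subgroup.mem_map_of_mem _ hg)
  · obtain ⟨g, hg, rfl⟩ := hy
    rw [← commutatorElement_eq_one_iff_mul_comm, ← map_commutatorElement]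
    exact (QuotientGroup.eq_one_iff _).mpr (h g hg)

theorem L_one_le_twoStep (j : ℕ) : L G 1 ≤ twoStep G j := fun x hx =>
  mem_twoStep.mpr fun g hg => L_mono (by omega) (L_comm hg hx)

/-- Membership is decided by one generator. -/
theorem mem_twoStep_of_gen (h : MaxClass G p n) {j : ℕ} (h1 : 1 ≤ j) (hj : j + 2 ≤ n) {g x : G}
    (hg : g ∈ L G j) (hg' : g ∉ L G (j + 1)) (hx : ⁅g, x⁆ ∈ L G (j + 2)) : x ∈ twoStep G j := by
  rw [mem_twoStep]
  let S : Subgroup G := (Subgroup.centralizer ({QuotientGroup.mk' (L G (j + 2)) x} : Set _)).comap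
    (QuotientGroup.mk' (L G (j + 2)))
  have memS : ∀ y, y ∈ S ↔ ⁅y, x⁆ ∈ L G (j + 2) := fun y => by
    rw [Subgroup.mem_comap, Subgroup.mem_centralizer_singleton_iff, ← commutatorElement_eq_one_iff_mul_comm,
      ← map_commutatorElement]
    exact QuotientGroup.eq_one_iff _
  have hle : L G j ≤ S := by
    rw [← gen_step h h1 hj hg hg']
    exact sup_le (Subgroup.zpowers_le.mpr ((memS g).mpr hx))
      fun y hy => (memS y).mpr (L_comm (j := 0) hy (Subgroup.mem_top x))
  exact fun y hy => (memS y).mp (hle hy)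

theorem twoStep_ne_top (h : MaxClass G p n) {j : ℕ} (hj : j + 3 ≤ n) :
    twoStep G j ≠ ⊤ := by
  intro hC
  obtain ⟨g, hg, hg'⟩ := exists_step h (j := j + 1) (by omega)
  refine hg' ((show L G (j + 1) ≤ L G (j + 2) from ?_) hg)
  show ⁅L G j, (⊤ : Subgroup G)⁆ ≤ L G (j + 2)
  rw [Subgroup.commutator_le]
  exact fun a ha b _ => mem_twoStep.mp (hC ▸ Subgroup.mem_top b) a ha

theorem twoStep_index_dvd (h : MaxClass G p n) {j : ℕ} (h1 : 1 ≤ j) (hj : j + 3 ≤ n) :
    (twoStep G j).index ∣ p := by
  obtain ⟨g, hg, hg'⟩ := exists_step h (j := j) (by omega)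
  set π := QuotientGroup.mk' (L G (j + 2))
  have hgx : ∀ x, ⁅g, x⁆ ∈ L G (j + 1) := fun x => L_comm (j := 0) hg (Subgroup.mem_top x)
  let f : G →* G ⧸ L G (j + 2) := MonoidHom.mk' (fun x => π ⁅g, x⁆) fun x y => by
    rw [← map_mul]
    refine QuotientGroup.eq_iff_div_mem.mpr ?_
    have hc : ⁅x, ⁅g, y⁆⁆ ∈ L G (j + 2) := L_mono (by omega) (L_comm (i := 0) (Subgroup.mem_top x) (hgx y))
    have hn : (L G (j + 2)).Normal := inferInstance
    have := hn.conj_mem _ hc ⁅g, x⁆
    rw [div_eq_mul_inv]
    convert this using 1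
    simp only [commutatorElement_def]
    group
  have hker : f.ker ≤ twoStep G j := fun x hx =>
    mem_twoStep_of_gen h h1 (by omega) hg hg' ((QuotientGroup.eq_one_iff _).mp hx)
  have hrange : f.range ≤ (L G (j + 1)).map π := by
    rintro _ ⟨x, rfl⟩
    exact Subgroup.mem_map_of_mem π (hgx x)
  refine (Subgroup.index_dvd_of_le hker).trans ?_
  rw [Subgroup.index_ker]
  refine (Subgroup.card_dvd_of_le hrange).trans (dvd_of_eq ?_)
  have h3 : Nat.card ((L G (j + 1)).map π) = (L G (j + 2)).relIndex (L G (j + 1)) := by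
    rw [← Subgroup.relIndex_bot_left ((L G (j + 1)).map π), ← Subgroup.map_bot π, Subgroup.relIndex_map_map,
      bot_sup_eq, QuotientGroup.ker_mk', sup_eq_left.mpr (L_mono (by omega))]
  have h4 := Subgroup.relIndex_mul_relIndex ⊥ (L G (j + 2)) (L G (j + 1)) bot_le (L_mono (by omega))
  rw [Subgroup.relIndex_bot_left, Subgroup.relIndex_bot_left, cardL h (by omega) (by omega),
    cardL h (by omega) (by omega), show n - 1 - (j + 1) = n - 1 - (j + 2) + 1 by omega, pow_succ] at h4
  rw [h3]
  exact Nat.eq_of_mul_eq_mul_left (pow_pos hp.out.pos _) h4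

/-- Outside the relevant two-step centralizer, commutation with `s` goes one step down exactly. -/
theorem comm_step (h : MaxClass G p n) {j : ℕ} (h1 : 1 ≤ j) (hj : j + 2 ≤ n) {s g : G}
    (hs : s ∉ twoStep G j) (hg : g ∈ L G j) (hg' : g ∉ L G (j + 1)) :
    ⁅g, s⁆ ∈ L G (j + 1) ∧ ⁅g, s⁆ ∉ L G (j + 2) :=
  ⟨L_comm (j := 0) hg (Subgroup.mem_top s), fun hc => hs (mem_twoStep_of_gen h h1 hj hg hg' hc)⟩

/-- An element commuting with `s` lies deep if `s` avoids the two-step centralizers below `k`. -/
theorem mem_L_of_commute (h : MaxClass G p n) {k : ℕ} (hk : k + 2 ≤ n) {s y : G} (hc : ⁅y, s⁆ = 1)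
    (hs : ∀ i, 1 ≤ i → i ≤ k → s ∉ twoStep G i) (hy : y ∈ L G 1) : y ∈ L G (k + 1) := by
  have key : ∀ i, i ≤ k → y ∈ L G (i + 1) := by
    intro i
    induction i with
    | zero => exact fun _ => hy
    | succ i ih =>
      intro hi
      by_contra hn
      have := (comm_step h (j := i + 1) (by omega) (by omega) (hs _ (by omega) hi) (ih (by omega)) hn).2
      rw [hc] at this
      exact this (one_mem _)
  exact key k le_rfl

/-- A finite `p`-group is not the union of at most `p` proper subgroups. -/
theorem exists_notMem {ι : Type*} [DecidableEq ι] (t : Finset ι) (f : ι → Subgroup G) (hG : IsPGroup p G)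
    (ht : t.card ≤ p) (hf : ∀ i ∈ t, f i ≠ ⊤) : ∃ x : G, ∀ i ∈ t, x ∉ f i := by
  classical
  by_contra hc
  push Not at hc
  haveI := Fintype.ofFinite G
  rcases t.eq_empty_or_nonempty with rfl | ⟨i₀, hi₀⟩
  · obtain ⟨i, hi, -⟩ := hc 1
    exact absurd hi (Finset.notMem_empty i)
  have hsub : (Finset.univ : Finset G) ⊆
      insert 1 (t.biUnion fun i => (Finset.univ.filter fun x => x ∈ f i).erase 1) := by
    intro x _
    rcases eq_or_ne x 1 with rfl | hx
    · exact Finset.mem_insert_self _ _
    obtain ⟨i, hi, hxi⟩ := hc x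
    exact Finset.mem_insert_of_mem (Finset.mem_biUnion.mpr ⟨i, hi, by simp [hx, hxi]⟩)
  have hcard : ∀ i ∈ t, ((Finset.univ.filter fun x => x ∈ f i).erase 1).card ≤ Nat.card G / p - 1 := by
    intro i hi
    rw [Finset.card_erase_of_mem (by simp [one_mem])]
    refine Nat.sub_le_sub_right ?_ 1
    rw [← Fintype.card_subtype, ← Nat.card_eq_fintype_card, Nat.le_div_iff_mul_le hp.out.pos]
    have := PGroups.card_mul_le_of_lt (p := p) (A := f i) (B := ⊤) (hG.to_subgroup _) (lt_top_iff_ne_top.mpr (hf i hi))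
    rwa [Subgroup.card_top] at this
  have h1 := (Finset.card_le_card hsub).trans ((Finset.card_insert_le _ _).trans
    (Nat.add_le_add_right ((Finset.card_biUnion_le).trans (Finset.sum_le_sum hcard)) 1))
  rw [Finset.card_univ, ← Nat.card_eq_fintype_card, Finset.sum_const, smul_eq_mul] at h1
  have h2 : t.card * (Nat.card G / p - 1) ≤ p * (Nat.card G / p - 1) := Nat.mul_le_mul_right _ ht
  have h3 : p ∣ Nat.card G := by
    obtain ⟨m, hm⟩ := IsPGroup.iff_card.mp hG
    rcases Nat.eq_zero_or_pos m with rfl | hm0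
    · exfalso
      refine hf i₀ hi₀ (eq_top_iff.mpr fun x _ => ?_)
      haveI : Subsingleton G := (Nat.card_eq_one_iff_unique.mp (by rw [hm, pow_zero])).1
      rw [Subsingleton.elim x 1]; exact one_mem _
    · exact hm ▸ dvd_pow_self p hm0.ne'
  have h4 : p * (Nat.card G / p - 1) + p = Nat.card G := by
    obtain ⟨c, hc'⟩ := h3
    have hc0 : 0 < c := Nat.pos_of_ne_zero fun e => by
      have := Nat.card_pos (α := G); rw [hc', e, mul_zero] at this; exact lt_irrefl 0 this
    rw [hc', Nat.mul_div_cancel_left _ hp.out.pos, Nat.mul_sub, mul_one]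
    have : p ≤ p * c := Nat.le_mul_of_pos_right p hc0
    omega
  have := hp.out.two_le
  omega

section Top

open Cfsg.Agent.Lib.PGroups

variable {F : ℕ → Subgroup G} {N : ℕ}

omit [Finite G] in
theorem iterate_diff_one (i m : ℕ) : diffSeq^[i] (fun _ => (1 : G)) m = 1 := by
  induction i generalizing m with
  | zero => rfl
  | succ i ih =>
    rw [Function.iterate_succ_apply]
    have e : diffSeq (fun _ => (1 : G)) = fun _ => 1 := funext fun _ => by simp [diffSeq]
    rw [e]
    exact ih m

/-- Iterated differences are multiplicative modulo the next level. -/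
theorem diff_mul_congr (hF : IsFiltration F N) (T : Subgroup G) [T.Normal] :
    ∀ (i d : ℕ) (a b : ℕ → G), 1 ≤ d → F (d + i + 1) ≤ T → IsPolySeq F d a → IsPolySeq F d b → 1 ≤ i →
      ∀ m, (QuotientGroup.mk' T) (diffSeq^[i] (fun k => a k * b k) m) =
        QuotientGroup.mk' T (diffSeq^[i] a m) * QuotientGroup.mk' T (diffSeq^[i] b m) := by
  intro i
  induction i with
  | zero => intro d a b _ _ _ _ h; exact absurd h (by omega)
  | succ i ih =>
    intro d a b hd hT ha hb _ m
    set c : ℕ → G := fun k => ⁅(diffSeq a k)⁻¹, (b k)⁻¹⁆ with hc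
    have e : diffSeq (fun k => a k * b k) = fun k => diffSeq a k * (c k * diffSeq b k) := by
      funext k; simp only [diffSeq, hc, commutatorElement_def]; group
    have hinv : ∀ {d : ℕ} {g : ℕ → G}, IsPolySeq F d g → IsPolySeq F d fun k => (g k)⁻¹ := by
      intro d g hg
      have hpow : ∀ r : ℕ, IsPolySeq F d fun k => g k ^ r := by
        intro r
        induction r with
        | zero => simpa using isPolySeq_one d
        | succ r ihr => simpa [pow_succ] using ihr.mul hF hg
      have := hpow (Monoid.exponent G - 1)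
      have e1 : ∀ x : G, x ^ (Monoid.exponent G - 1) = x⁻¹ := fun x => by
        apply eq_inv_of_mul_eq_one_left
        rw [← pow_succ, Nat.sub_add_cancel (Nat.one_le_iff_ne_zero.mpr Monoid.exponent_ne_zero_of_finite),
          Monoid.pow_exponent_eq_one]
      simpa [e1] using this
    have hcp : IsPolySeq F (d + 2) c :=
      ((polyClosed hF (d + 1 + d)).2 (d + 1) d le_rfl _ _ (hinv ha.diff) (hinv hb)).mono hF (by omega)
    rw [Function.iterate_succ_apply, Function.iterate_succ_apply, Function.iterate_succ_apply, e]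
    rcases Nat.eq_zero_or_pos i with rfl | hi
    · simp only [Function.iterate_zero, id, map_mul]
      have h1 : QuotientGroup.mk' T (c m) = 1 :=
        (QuotientGroup.eq_one_iff _).mpr (hT (hF.le (show d + 0 + 1 + 1 ≤ d + 2 by omega) (hcp.mem m)))
      rw [h1, one_mul]
    · have hc1 : IsPolySeq F (d + 1) c := hcp.mono hF (by omega)
      have hT' : F (d + 1 + i + 1) ≤ T := le_trans (le_of_eq (congrArg F (by omega))) hT
      rw [ih (d + 1) _ _ (by omega) hT' ha.diff (hc1.mul hF hb.diff) hi m,
        ih (d + 1) _ _ (by omega) hT' hc1 hb.diff hi m]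
      have h1 : QuotientGroup.mk' T (diffSeq^[i] c m) = 1 :=
        (QuotientGroup.eq_one_iff _).mpr (hT (hF.le (show d + (i + 1) + 1 ≤ d + 2 + i by omega) (hcp i m)))
      rw [h1, one_mul]

/-- Evaluation at `p` sees only the `p`-th difference. -/
theorem apply_prime_congr (hF : IsFiltration F N) (T : Subgroup G) [T.Normal] (hTp : F (p + 2) ≤ T)
    (hlow : ∀ j, 1 ≤ j → j < p → ∀ x ∈ F (j + 1), x ^ p ∈ T) {g : ℕ → G} (hg : IsPolySeq F 1 g)
    (h0 : g 0 = 1) : QuotientGroup.mk' T (g p) = QuotientGroup.mk' T (diffSeq^[p] g 0) := by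
  suffices key : ∀ r k, k + r = p → 1 ≤ k → ∀ g : ℕ → G, IsPolySeq F 1 g → (∀ j < k, g j = 1) →
      QuotientGroup.mk' T (g p) = QuotientGroup.mk' T (diffSeq^[p] g 0) by
    refine key (p - 1) 1 (by have := hp.out.pos; omega) le_rfl g hg fun j hj => ?_
    rw [show j = 0 by omega]; exact h0
  intro r
  induction r with
  | zero =>
    intro k hk _ g _ hgk
    rw [(diffSeq_iterate_initial hgk p 0).2 (by omega), show k = p by omega]
  | succ r ih =>
    intro k hk hk1 g hg hgk
    have hx : g k ∈ F (k + 1) := by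
      have := hg k 0
      rwa [(diffSeq_iterate_initial hgk k 0).2 (by omega), add_comm] at this
    set b : ℕ → G := fun m => (g k)⁻¹ ^ m.choose k with hb
    have hbp : IsPolySeq F 1 b := by
      have := isPolySeq_choose hF (inv_mem hx) k (by omega)
      rwa [show k + 1 - k = 1 by omega] at this
    have hres := ih (k + 1) (by omega) (by omega) (fun m => b m * g m) (hbp.mul hF hg) (by
      intro j hj
      simp only [hb]
      rcases Nat.lt_or_ge j k with hjk | hjk
      · rw [hgk j hjk, Nat.choose_eq_zero_of_lt hjk, pow_zero, one_mul]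
      · rw [show j = k by omega, Nat.choose_self, pow_one, inv_mul_cancel])
    have hbq : QuotientGroup.mk' T (b p) = 1 := by
      refine (QuotientGroup.eq_one_iff _).mpr ?_
      obtain ⟨c, hc⟩ := hp.out.dvd_choose_self (show k ≠ 0 by omega) (show k < p by omega)
      simp only [hb]
      rw [hc, pow_mul]
      exact pow_mem (hlow k hk1 (by omega) _ (inv_mem hx)) c
    have hbd : diffSeq^[p] b 0 = 1 := by
      have hstep : ∀ i ≤ k, diffSeq^[i] b = fun m => (g k)⁻¹ ^ m.choose (k - i) := by
        intro i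
        induction i with
        | zero => intro _; rfl
        | succ i ihi =>
          intro hi
          rw [Function.iterate_succ_apply', ihi (by omega)]
          funext m
          simp only [diffSeq]
          rw [show k - i = k - (i + 1) + 1 by omega, Nat.choose_succ_succ', add_comm (m.choose (k - (i + 1))),
            pow_add, inv_mul_cancel_left]
      rw [show p = (p - k - 1) + (k + 1) by omega, Function.iterate_add_apply,
        show diffSeq^[k + 1] b = fun _ => 1 from by
          rw [Function.iterate_succ_apply', hstep k le_rfl]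
          funext m; simp [diffSeq]]
      exact iterate_diff_one _ _
    rw [diff_mul_congr hF T p 1 b g le_rfl (by
      rw [show 1 + p + 1 = p + 2 by omega]; exact hTp) hbp hg hp.out.one_le, hbd, map_one, one_mul,
      map_mul, hbq, one_mul] at hres
    exact hres

end Top

/-- A power map from `L j` reaches `L (j + p - 1)` exactly. -/
theorem exists_pow_notMem (h : MaxClass G p n) {j : ℕ} (h1 : 1 ≤ j) (hj : j + p + 2 ≤ n) {s : G}
    (hs : ∀ i, 1 ≤ i → i ≤ j + p - 1 → s ∉ twoStep G i) :
    ∃ g ∈ L G j, g ^ p ∉ L G (j + p) := by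
  by_contra hc
  push Not at hc
  have hp2 := hp.out.two_le
  obtain ⟨y, hy, hy'⟩ := exists_step h (j := j) (by omega)
  have hsh : ∀ i, ∀ x ∈ L G i, x ^ p ∈ L G (i + (p - 1)) :=
    pow_mem_shift (L_eq_bot h le_rfl) (by omega)
      (pow_mem_L h.three h.card h.ne_bot (p - 1) (by omega) (by omega) (by omega))
  set T := L G (j + p)
  set t := s * y with ht
  have htu : ∀ i, 1 ≤ i → i ≤ j + p - 1 → t ∉ twoStep G i := fun i hi hi' hm =>
    hs i hi hi' (by
      have := mul_mem hm (inv_mem (L_one_le_twoStep i (L_mono h1 hy)))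
      rwa [ht, mul_inv_cancel_right] at this)
  have hpT : ∀ w : G, (∀ i, 1 ≤ i → i ≤ j + p - 1 → w ∉ twoStep G i) → w ^ p ∈ T := by
    intro w hw
    have := mem_L_of_commute h (k := j + p - 1) (by omega) (y := w ^ p) (s := w)
      (commutatorElement_eq_one_iff_mul_comm.mpr ((Commute.refl w).pow_left p).eq) hw
      (pow_mem_L h.three h.card h.ne_bot 1 le_rfl (by omega) (by omega) w)
    rwa [show j + p - 1 + 1 = j + p by omega] at this
  let F : ℕ → Subgroup G := fun i => L G (j + max i 1 - 2)
  have hF : PGroups.IsFiltration F (n + 2) := by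
    refine ⟨fun i => L_mono (by omega), fun a b => ?_, fun i hi => L_eq_bot h (by omega)⟩
    rw [Subgroup.commutator_le]
    exact fun u hu v hv => L_mono (by omega) (L_comm hu hv)
  -- the sequence of partial products
  let gs : ℕ → G := fun i => i.rec y fun _ g => g⁻¹ * t⁻¹ * g * t
  let f : ℕ → G := fun m => (s ^ m)⁻¹ * t ^ m
  have hd : ∀ i m, PGroups.diffSeq^[i + 1] f m = (t ^ m)⁻¹ * gs i * t ^ m := by
    intro i
    induction i with
    | zero =>
      intro m
      show (f m)⁻¹ * f (m + 1) = (t ^ m)⁻¹ * y * t ^ m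
      simp only [f, pow_succ, mul_inv_rev, inv_inv]
      rw [show y = s⁻¹ * t by rw [ht]; group]
      have hcs : s ^ m * s⁻¹ = s⁻¹ * s ^ m := ((Commute.refl s).pow_left m).inv_right.eq
      calc (t ^ m)⁻¹ * s ^ m * (s⁻¹ * (s ^ m)⁻¹ * (t ^ m * t))
          = (t ^ m)⁻¹ * (s ^ m * s⁻¹) * (s ^ m)⁻¹ * (t ^ m * t) := by group
        _ = (t ^ m)⁻¹ * (s⁻¹ * s ^ m) * (s ^ m)⁻¹ * (t ^ m * t) := by rw [hcs]
        _ = (t ^ m)⁻¹ * s⁻¹ * (t ^ m * t) := by group
        _ = _ := by rw [((Commute.refl t).pow_left m).eq]; group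
    | succ i ih =>
      intro m
      rw [Function.iterate_succ_apply']
      show (PGroups.diffSeq^[i + 1] f m)⁻¹ * PGroups.diffSeq^[i + 1] f (m + 1) = _
      rw [ih m, ih (m + 1)]
      show _ = (t ^ m)⁻¹ * ((gs i)⁻¹ * t⁻¹ * gs i * t) * t ^ m
      rw [show t ^ (m + 1) = t * t ^ m from pow_succ' t m]
      group
  have hgs : ∀ i, gs i ∈ L G (j + i) := by
    intro i
    induction i with
    | zero => exact hy
    | succ i ih =>
      show (gs i)⁻¹ * t⁻¹ * gs i * t ∈ _
      have := L_comm (j := 0) (inv_mem ih) (Subgroup.mem_top t⁻¹)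
      rwa [commutatorElement_def, inv_inv, inv_inv] at this
  have hf : PGroups.IsPolySeq F 1 f := by
    intro i m
    cases i with
    | zero =>
      show f m ∈ L G _
      refine L_mono (show j + max (1 + 0) 1 - 2 ≤ j by omega) ?_
      induction m with
      | zero => simp [f, one_mem]
      | succ m ihm =>
        have := mul_mem ihm (show (f m)⁻¹ * f (m + 1) ∈ L G j by
          have h0 := hd 0 m
          rw [zero_add, Function.iterate_one] at h0
          show PGroups.diffSeq f m ∈ L G j
          rw [h0]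
          simpa [gs] using (inferInstance : (L G j).Normal).conj_mem y hy (t ^ m)⁻¹)
        rwa [mul_inv_cancel_left] at this
    | succ i =>
      rw [hd]
      refine L_mono (show j + max (1 + (i + 1)) 1 - 2 ≤ j + i by omega) ?_
      simpa using (inferInstance : (L G (j + i)).Normal).conj_mem _ (hgs i) (t ^ m)⁻¹
  have hres := apply_prime_congr (p := p) hF T (le_of_eq (congrArg (L G) (by omega))) (fun i hi hip x hx => by
    simp only [F] at hx
    rcases Nat.eq_or_lt_of_le hi with rfl | hi2
    · exact hc x (L_mono (by omega) hx)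
    · exact L_mono (by omega) (hsh _ x hx)) hf (by simp [f])
  rw [show PGroups.diffSeq^[p] f 0 = gs (p - 1) by
    rw [show p = p - 1 + 1 by omega, hd]; simp] at hres
  have hfp : f p ∈ T := mul_mem (inv_mem (hpT s hs)) (hpT t htu)
  rw [show QuotientGroup.mk' T (f p) = 1 from (QuotientGroup.eq_one_iff _).mpr hfp, eq_comm] at hres
  have hlast : ∀ i, i ≤ p - 1 → gs i ∉ L G (j + i + 1) := by
    intro i
    induction i with
    | zero => exact fun _ => hy'
    | succ i ih =>
      intro hi hm
      have hnot : t⁻¹ ∉ twoStep G (j + i) := fun e => htu (j + i) (by omega) (by omega)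
        (inv_mem_iff.mp e)
      refine (comm_step h (j := j + i) (by omega) (by omega) hnot (inv_mem (hgs i))
        (fun e => ih (by omega) (inv_mem_iff.mp e))).2 ?_
      rw [commutatorElement_def, inv_inv, inv_inv]
      exact L_mono (by omega) hm
  exact hlast (p - 1) le_rfl (L_mono (by omega) ((QuotientGroup.eq_one_iff _).mp hres))

/-- The two-step centralizers are periodic with period `p - 1`. -/
theorem twoStep_periodic (h : MaxClass G p n) {j : ℕ} (h1 : 1 ≤ j) (hj : j + p + 2 ≤ n) {s : G}
    (hs : ∀ i, 1 ≤ i → i ≤ j + p - 1 → s ∉ twoStep G i) :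
    twoStep G (j + p - 1) = twoStep G j := by
  have hp2 := hp.out.two_le
  obtain ⟨g, hg, hgp⟩ := exists_pow_notMem h h1 hj hs
  have hsh : ∀ i, ∀ x ∈ L G i, x ^ p ∈ L G (i + (p - 1)) :=
    pow_mem_shift (L_eq_bot h le_rfl) (by omega)
      (pow_mem_L h.three h.card h.ne_bot (p - 1) (by omega) (by omega) (by omega))
  have hgk : g ^ p ∈ L G (j + p - 1) := L_mono (by omega) (hsh j g hg)
  have hle : twoStep G j ≤ twoStep G (j + p - 1) := by
    intro x hx
    refine mem_twoStep_of_gen h (by omega) (by omega) hgk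
      (by rwa [show j + p - 1 + 1 = j + p by omega]) ?_
    set T := L G (j + p - 1 + 2) with hT
    have hn : T.Normal := inferInstance
    have he : ⁅x, g⁆ ∈ L G (j + 2) := by
      rw [← commutatorElement_inv g x]; exact inv_mem (mem_twoStep.mp hx g hg)
    have hep : ⁅x, g⁆ ^ p ∈ T := L_mono (by omega) (hsh _ _ he)
    have hcong : (g ^ p)⁻¹ * (⁅x, g⁆ ^ p)⁻¹ * (⁅x, g⁆ * g) ^ p ∈ T := by
      rcases Nat.eq_or_lt_of_le hp2 with hp2' | hp3
      · rw [← hp2', pow_two, pow_two, pow_two]
        have hc : ⁅g, ⁅x, g⁆⁆ ∈ T := L_mono (by omega) (L_comm hg he)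
        have := hn.conj_mem _ hc (g⁻¹ * g⁻¹ * ⁅x, g⁆⁻¹)
        convert this using 1
        generalize ⁅x, g⁆ = e
        simp only [commutatorElement_def]
        group
      · have hF : PGroups.IsFiltration (fun i => if i = 0 then L G 0 else L G (i * (j + 1) - 1)) n := by
          refine ⟨fun i => ?_, fun a b => ?_, fun i hi => ?_⟩
          · simp only [Nat.succ_ne_zero, if_false]
            split_ifs with h0
            · exact L_mono (Nat.zero_le _)
            · exact L_mono (Nat.sub_le_sub_right (Nat.mul_le_mul_right _ (Nat.le_succ i)) 1)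
          · rw [Subgroup.commutator_le]
            intro u hu v hv
            rcases Nat.eq_zero_or_pos a with rfl | ha
            · rw [zero_add]
              split_ifs with hb0
              · exact Subgroup.mem_top _
              · rw [if_neg hb0] at hv
                exact L_mono (by omega) (L_comm (i := 0) (Subgroup.mem_top u) hv)
            rcases Nat.eq_zero_or_pos b with rfl | hb
            · rw [if_neg (by omega)] at hu
              rw [add_zero, if_neg (by omega)]
              exact L_mono (by omega) (L_comm (j := 0) hu (Subgroup.mem_top v))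
            rw [if_neg (by omega)] at hu hv ⊢
            refine L_mono ?_ (L_comm hu hv)
            have h3 : 1 ≤ a * (j + 1) := Nat.one_le_iff_ne_zero.mpr (Nat.mul_ne_zero (by omega) (by omega))
            have h4 : 1 ≤ b * (j + 1) := Nat.one_le_iff_ne_zero.mpr (Nat.mul_ne_zero (by omega) (by omega))
            rw [Nat.add_mul]
            omega
          · rw [if_neg (by omega)]
            refine L_eq_bot h ?_
            have : i ≤ i * (j + 1) := Nat.le_mul_of_pos_right i (by omega)
            omega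
        refine hall_congr hF ?_ ?_ T (fun i hi hip z hz => ?_) (fun i hi => ?_)
        · simp only [if_neg one_ne_zero, one_mul, Nat.add_sub_cancel]
          exact L_mono (by omega) he
        · simpa using hg
        · simp only [if_neg (show i ≠ 0 by omega)] at hz
          refine L_mono ?_ (hsh _ z hz)
          have := Nat.mul_le_mul_right (j + 1) hi
          omega
        · simp only [if_neg (show i ≠ 0 by omega)]
          refine L_mono ?_
          have h5 := Nat.mul_le_mul_right (j + 1) hi
          have h6 : 3 * j ≤ p * j := Nat.mul_le_mul_right j hp3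
          rw [Nat.mul_add p j 1, mul_one] at h5
          omega
    have e1 : (⁅x, g⁆ * g) ^ p = x * g ^ p * x⁻¹ := by
      rw [commutatorElement_def, inv_mul_cancel_right, conj_pow]
    rw [e1] at hcong
    have h5 : (g ^ p)⁻¹ * (x * g ^ p * x⁻¹) ∈ T := by
      have h6 := hn.conj_mem _ hep (g ^ p)⁻¹
      have h7 := mul_mem h6 hcong
      convert h7 using 1
      generalize ⁅x, g⁆ ^ p = w
      group
    have h8 := hn.conj_mem _ (inv_mem h5) (g ^ p)
    convert h8 using 1
    simp only [commutatorElement_def]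
    group
  rcases (Nat.dvd_prime hp.out).mp (twoStep_index_dvd h h1 (by omega)) with e | e
  · exact absurd (top_le_iff.mp ((Subgroup.index_eq_one.mp e).symm.le.trans hle))
      (twoStep_ne_top h (by omega))
  · exact ((Cores.isCoatom_of_prime_index (e.symm ▸ hp.out)).le_iff.mp hle).resolve_left
      (twoStep_ne_top h (by omega))

/-- Every two-step centralizer is one of the first `p - 1`. -/
theorem twoStep_eq_small (h : MaxClass G p n) : ∀ k, 1 ≤ k → k + 3 ≤ n →
    ∃ i, 1 ≤ i ∧ i ≤ p - 1 ∧ i + 3 ≤ n ∧ twoStep G k = twoStep G i := by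
  intro k
  induction k using Nat.strongRecOn with
  | ind k ih =>
    intro hk hkn
    rcases Nat.lt_or_ge k p with hlt | hge
    · exact ⟨k, hk, by omega, hkn, rfl⟩
    have hp2 := hp.out.two_le
    classical
    obtain ⟨s, hs⟩ := exists_notMem (p := p) (insert k (Finset.Icc 1 (p - 1))) (twoStep G) (isPGroup h)
      ((Finset.card_insert_le _ _).trans (by rw [Nat.card_Icc]; omega))
      (fun i hi => twoStep_ne_top h (by
        rcases Finset.mem_insert.mp hi with rfl | hi
        · exact hkn
        · have := (Finset.mem_Icc.mp hi).2; omega))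
    have hs' : ∀ i, 1 ≤ i → i ≤ k → s ∉ twoStep G i := by
      intro i h1 h2
      rcases Nat.eq_or_lt_of_le h2 with rfl | h2
      · exact hs _ (Finset.mem_insert_self _ _)
      · obtain ⟨i', a1, a2, -, a3⟩ := ih i h2 h1 (by omega)
        rw [a3]
        exact hs _ (Finset.mem_insert_of_mem (Finset.mem_Icc.mpr ⟨a1, a2⟩))
    have hper := twoStep_periodic h (j := k + 1 - p) (by omega) (by omega) (s := s)
      (fun i h1 h2 => hs' i h1 (by omega))
    rw [show k + 1 - p + p - 1 = k by omega] at hper
    obtain ⟨i', a1, a2, a3, a4⟩ := ih (k + 1 - p) (by omega) (by omega) (by omega)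
    exact ⟨i', a1, a2, a3, hper.trans a4⟩

/-- The elements with centralizer of order `p ^ 2`. -/
theorem small_of_avoid (h : MaxClass G p n) {s : G} (hs1 : s ∉ L G 1)
    (hs : ∀ k, 1 ≤ k → k + 3 ≤ n → s ∉ twoStep G k) :
    Nat.card (Subgroup.centralizer ({s} : Set G)) = p ^ 2 := by
  have hn3 := h.three
  haveI := (isPGroup h).isNilpotent
  set C := Subgroup.centralizer ({s} : Set G) with hC
  have hinf : C ⊓ L G 1 = L G (n - 2) := by
    refine le_antisymm (fun y hy => ?_) (le_inf (fun y hy => ?_) (L_mono (by omega)))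
    · have := mem_L_of_commute h (k := n - 3) (by omega) (y := y) (s := s)
        (commutatorElement_eq_one_iff_mul_comm.mpr (Subgroup.mem_centralizer_singleton_iff.mp hy.1))
        (fun i h1 h2 => hs i h1 (by omega)) hy.2
      rwa [show n - 3 + 1 = n - 2 by omega] at this
    · rw [Subgroup.mem_centralizer_singleton_iff, ← commutatorElement_eq_one_iff_mul_comm, ← Subgroup.mem_bot,
        ← L_eq_bot h (show n - 1 ≤ n - 2 + 1 by omega)]
      exact L_comm (j := 0) hy (Subgroup.mem_top s)
  have hidx : (L G 1).index = p ^ 2 := by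
    have e := (L G 1).card_mul_index
    rw [cardL h le_rfl (by omega), h.card, show p ^ n = p ^ (n - 1 - 1) * p ^ 2 by
      rw [← pow_add, show n - 1 - 1 + 2 = n by omega]] at e
    exact Nat.eq_of_mul_eq_mul_left (pow_pos hp.out.pos _) e
  have hrd : (L G 1).relIndex C ∣ p ^ 2 := hidx ▸ Subgroup.relIndex_dvd_index_of_normal _ _
  obtain ⟨i, hi, hi'⟩ := (Nat.dvd_prime_pow hp.out).mp hrd
  have hcard : Nat.card C = p * p ^ i := by
    have e := Subgroup.relIndex_mul_relIndex ⊥ (C ⊓ L G 1) C bot_le inf_le_left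
    rw [Subgroup.relIndex_bot_left, Subgroup.relIndex_bot_left, Subgroup.inf_relIndex_left, hi', hinf,
      cardL h (by omega) (by omega), show n - 1 - (n - 2) = 1 by omega, pow_one] at e
    exact e.symm
  interval_cases i
  · exact absurd (Subgroup.relIndex_eq_one.mp (by simpa using hi') (Subgroup.mem_centralizer_singleton_iff.mpr rfl)) hs1
  · rw [hcard, pow_one, pow_two]
  · exfalso
    have htop : C ⊔ L G 1 = ⊤ := by
      rw [← Subgroup.index_eq_one]
      have e := Subgroup.relIndex_mul_index (le_sup_right : L G 1 ≤ C ⊔ L G 1)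
      rw [Subgroup.relIndex_sup_right, hi', hidx] at e
      exact Nat.eq_of_mul_eq_mul_left (pow_pos hp.out.pos 2) (e.trans (mul_one _).symm)
    have hCtop : C = ⊤ := frattini_nongenerating (top_le_iff.mp (htop ▸ sup_le_sup_left
      ((Subgroup.top_lowerCentralSeries_one (G := G)).le.trans Cores.commutator_le_frattini) C))
    have hsz : s ∈ Subgroup.center G := Subgroup.mem_center_iff.mpr fun g =>
      Subgroup.mem_centralizer_singleton_iff.mp (show g ∈ C from hCtop ▸ Subgroup.mem_top g)
    have hzL : L G (n - 2) ≤ Subgroup.center G := fun y hy => Subgroup.mem_center_iff.mpr fun g => by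
      refine (commutatorElement_eq_one_iff_mul_comm.mp ?_).symm
      rw [← Subgroup.mem_bot, ← L_eq_bot h (show n - 1 ≤ n - 2 + 1 by omega)]
      exact L_comm (j := 0) hy (Subgroup.mem_top g)
    have heq : L G (n - 2) = Subgroup.center G := Subgroup.eq_of_le_of_card_ge hzL (by
      rw [(RankTwo.maxClass_center hn3 h.card (h.ne_bot _ (by omega))).1, cardL h (by omega) (by omega),
        show n - 1 - (n - 2) = 1 by omega, pow_one])
    exact hs1 (L_mono (by omega) (heq ▸ hsz))

/-- Some element outside a given proper subgroup has centralizer of order `p ^ 2`. -/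
theorem exists_small (h : MaxClass G p n) (M : Subgroup G) (hM : M ≠ ⊤) :
    ∃ s ∉ M, Nat.card (Subgroup.centralizer ({s} : Set G)) = p ^ 2 := by
  classical
  have hn3 := h.three
  have hL1 : L G 1 ≠ ⊤ := fun e => by
    have := cardL h le_rfl (show 1 ≤ n - 1 by omega)
    rw [e, Subgroup.card_top, h.card] at this
    have := Nat.pow_right_injective hp.out.two_le this
    omega
  let idx : Finset ℕ := if n = 3 then {1} else Finset.Icc 1 (min (p - 1) (n - 3))
  let f : Option ℕ → Subgroup G := fun o => match o with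
    | none => M
    | some i => if n = 3 then L G 1 else twoStep G i
  have hp2 := hp.out.two_le
  obtain ⟨s, hs⟩ := exists_notMem (p := p) (insert none (idx.map Function.Embedding.some)) f (isPGroup h)
    ((Finset.card_insert_le _ _).trans (by
      rw [Finset.card_map]
      simp only [idx]
      split_ifs
      · simp; omega
      · rw [Nat.card_Icc]; omega))
    (fun o ho => by
      rcases Finset.mem_insert.mp ho with rfl | ho
      · exact hM
      obtain ⟨i, hi, rfl⟩ := Finset.mem_map.mp ho
      show (if n = 3 then L G 1 else twoStep G i) ≠ ⊤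
      split_ifs with hn
      · exact hL1
      · simp only [idx, if_neg hn, Finset.mem_Icc] at hi
        exact twoStep_ne_top h (by omega))
  refine ⟨s, hs none (Finset.mem_insert_self _ _), ?_⟩
  have hsome : ∀ i ∈ idx, s ∉ (if n = 3 then L G 1 else twoStep G i) := fun i hi =>
    hs (some i) (Finset.mem_insert_of_mem (Finset.mem_map.mpr ⟨i, hi, rfl⟩))
  by_cases hn : n = 3
  · refine small_of_avoid h ?_ fun k _ hk => absurd hk (by omega)
    simpa [hn] using hsome 1 (by simp [idx, hn])
  · simp only [if_neg hn] at hsome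
    have hk : ∀ k, 1 ≤ k → k + 3 ≤ n → s ∉ twoStep G k := fun k h1 h2 => by
      obtain ⟨i, a1, a2, a3, a4⟩ := twoStep_eq_small h k h1 h2
      rw [a4]
      exact hsome i (by simp only [idx, if_neg hn, Finset.mem_Icc]; omega)
    exact small_of_avoid h (fun e => hk 1 le_rfl (by omega) (L_one_le_twoStep 1 e)) hk

/-- Counting the commutators with `s`. -/
theorem card_le_mul_comm (s : G) {X Y : Subgroup G} (h : ∀ y ∈ X, ⁅y, s⁆ ∈ Y) :
    Nat.card X ≤ Nat.card ↥(Subgroup.centralizer ({s} : Set G) ⊓ X) * Nat.card Y := by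
  set D := (Subgroup.centralizer ({s} : Set G) ⊓ X).subgroupOf X
  let F : X ⧸ D → Y := fun q => ⟨⁅((Quotient.out q : X) : G), s⁆, h _ (Quotient.out q).2⟩
  have hle : D.index ≤ Nat.card Y := by
    refine Nat.card_le_card_of_injective F fun a b hab => ?_
    have e : ⁅((Quotient.out a : X) : G), s⁆ = ⁅((Quotient.out b : X) : G), s⁆ := congrArg Subtype.val hab
    rw [commutatorElement_def, commutatorElement_def] at e
    rw [← QuotientGroup.out_eq' a, ← QuotientGroup.out_eq' b, QuotientGroup.eq, Subgroup.mem_subgroupOf]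
    refine ⟨Subgroup.mem_centralizer_singleton_iff.mpr ?_, SetLike.coe_mem _⟩
    simp only [Subgroup.coe_mul, Subgroup.coe_inv]
    set u := ((Quotient.out a : X) : G)
    set v := ((Quotient.out b : X) : G)
    have e' : u * s * u⁻¹ = v * s * v⁻¹ := mul_right_cancel e
    calc u⁻¹ * v * s = u⁻¹ * (v * s * v⁻¹) * v := by group
      _ = u⁻¹ * (u * s * u⁻¹) * v := by rw [e']
      _ = s * (u⁻¹ * v) := by group
  rw [← D.card_mul_index, Nat.card_congr (Subgroup.subgroupOfEquivOfLe inf_le_right).toEquiv]
  exact Nat.mul_le_mul_left _ hle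

/-- An element with centralizer of order `p ^ 2` avoids `L 1` and the two-step centralizers. -/
theorem avoid_of_small (h : MaxClass G p n) {s : G}
    (hs : Nat.card (Subgroup.centralizer ({s} : Set G)) = p ^ 2) :
    s ∉ L G 1 ∧ ∀ k, 1 ≤ k → k + 3 ≤ n → s ∉ twoStep G k := by
  have hn3 := h.three
  set C := Subgroup.centralizer ({s} : Set G) with hC
  have hnot : s ∉ L G 1 := by
    intro h1
    have hle : L G (n - 3) ≤ C := fun y hy => by
      rw [hC, Subgroup.mem_centralizer_singleton_iff, ← commutatorElement_eq_one_iff_mul_comm, ← Subgroup.mem_bot,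
        ← L_eq_bot h (show n - 1 ≤ n - 3 + 1 + 1 by omega)]
      exact L_comm hy h1
    rcases Nat.eq_or_lt_of_le hn3 with hn | hn
    · rw [← hn] at hle
      have := Subgroup.card_le_of_le hle
      rw [show L G (3 - 3) = ⊤ from rfl, Subgroup.card_top, h.card, hs, ← hn,
        Nat.pow_le_pow_iff_right hp.out.one_lt] at this
      omega
    have heq : L G (n - 3) = C := Subgroup.eq_of_le_of_card_ge hle (by
      rw [hs, cardL h (by omega) (by omega), show n - 1 - (n - 3) = 2 by omega])
    have hsL : s ∈ L G (n - 3) := heq ▸ Subgroup.mem_centralizer_singleton_iff.mpr rfl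
    have := card_le_mul_comm s (X := ⊤) (Y := L G (n - 2))
      (fun y _ => L_mono (by omega) (L_comm (i := 0) (Subgroup.mem_top y) hsL))
    rw [inf_top_eq, ← hC, Subgroup.card_top, h.card, hs, cardL h (by omega) (by omega), ← pow_add,
      Nat.pow_le_pow_iff_right hp.out.one_lt] at this
    omega
  refine ⟨hnot, fun k h1 h2 hk => hnot ?_⟩
  have hcount := card_le_mul_comm s (X := L G k) (Y := L G (k + 2)) fun y hy => mem_twoStep.mp hk y hy
  rw [← hC, cardL h h1 (by omega), cardL h (by omega) (by omega),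
    show n - 1 - k = 2 + (n - 1 - (k + 2)) by omega, pow_add] at hcount
  have h3 : p ^ 2 ≤ Nat.card ↥(C ⊓ L G k) := Nat.le_of_mul_le_mul_right hcount (pow_pos hp.out.pos _)
  have heq : C ⊓ L G k = C := Subgroup.eq_of_le_of_card_ge inf_le_left (hs ▸ h3)
  have hmem : s ∈ C ⊓ L G k := by
    rw [heq]; exact Subgroup.mem_centralizer_singleton_iff.mpr rfl
  exact L_mono h1 hmem.2

/-- The commutators with such an element generate the next term. -/
theorem L_succ_le (h : MaxClass G p n) {s : G} (hs : ∀ k, 1 ≤ k → k + 3 ≤ n → s ∉ twoStep G k) :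
    ∀ d i, i + d = n → 1 ≤ i → ∀ H : Subgroup G, (∀ g ∈ L G i, ⁅g, s⁆ ∈ H) → L G (i + 1) ≤ H := by
  intro d
  induction d with
  | zero =>
    intro i hi _ H _
    rw [L_eq_bot h (by omega)]
    exact bot_le
  | succ d ih =>
    intro i hi hi1 H hH
    rcases Nat.lt_or_ge (i + 2) n with hin | hin
    · have hle := ih (i + 1) (by omega) (by omega) H fun g hg => hH g (L_mono (by omega) hg)
      obtain ⟨g, hg, hg'⟩ := exists_step h (j := i) (by omega)
      obtain ⟨c1, c2⟩ := comm_step h hi1 (by omega) (hs i hi1 (by omega)) hg hg'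
      rw [← gen_step h (by omega) (by omega) c1 c2]
      exact sup_le (Subgroup.zpowers_le.mpr (hH g hg)) hle
    · rw [L_eq_bot h (by omega)]
      exact bot_le

/-- Subgroups of `L 1` invariant under commutation with such an element are terms of the series. -/
theorem eq_L_of_invariant (h : MaxClass G p n) {s : G} (hs : ∀ k, 1 ≤ k → k + 3 ≤ n → s ∉ twoStep G k)
    {H : Subgroup G} (hH1 : H ≤ L G 1) (hinv : ∀ x ∈ H, ⁅x, s⁆ ∈ H) :
    ∃ i, 1 ≤ i ∧ i + 1 ≤ n ∧ H = L G i := by
  have hn3 := h.three
  classical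
  have hfull : ∀ d i, i + d = n → 1 ≤ i → ∀ x ∈ H, x ∈ L G i → x ∉ L G (i + 1) → L G i ≤ H := by
    intro d
    induction d with
    | zero =>
      intro i hi _ x _ hx hx'
      rw [L_eq_bot h (by omega)]
      exact bot_le
    | succ d ih =>
      intro i hi hi1 x hxH hx hx'
      have hle : L G (i + 1) ≤ H := by
        rcases Nat.lt_or_ge (i + 2) n with hin | hin
        · obtain ⟨c1, c2⟩ := comm_step h hi1 (by omega) (hs i hi1 (by omega)) hx hx'
          exact ih (i + 1) (by omega) (by omega) _ (hinv x hxH) c1 c2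
        · rw [L_eq_bot h (by omega)]
          exact bot_le
      rcases Nat.lt_or_ge (i + 1) n with hin | hin
      · rw [← gen_step h hi1 (by omega) hx hx']
        exact sup_le (Subgroup.zpowers_le.mpr hxH) hle
      · exact (L_mono (by omega : n - 1 ≤ i)).trans (by rw [L_eq_bot h le_rfl]; exact bot_le)
  by_cases hbot : H = ⊥
  · exact ⟨n - 1, by omega, by omega, by rw [hbot, L_eq_bot h le_rfl]⟩
  have hex : ∃ i, ¬ H ≤ L G (i + 1) := ⟨n, fun hle => hbot (le_bot_iff.mp (hle.trans (L_eq_bot h (by omega)).le))⟩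
  have h0 : Nat.find hex ≠ 0 := fun e => by
    have := Nat.find_spec hex
    rw [e, zero_add] at this
    exact this hH1
  have hle : H ≤ L G (Nat.find hex) := by
    have := not_not.mp (Nat.find_min hex (show Nat.find hex - 1 < Nat.find hex by omega))
    rwa [show Nat.find hex - 1 + 1 = Nat.find hex by omega] at this
  obtain ⟨x, hxH, hx⟩ := SetLike.not_le_iff_exists.mp (Nat.find_spec hex)
  have hlt : Nat.find hex + 1 < n := by
    by_contra hc
    exact hbot (le_bot_iff.mp (hle.trans (L_eq_bot h (by omega)).le))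
  exact ⟨Nat.find hex, by omega, by omega,
    le_antisymm hle (hfull _ _ (Nat.add_sub_cancel' (by omega)) (by omega) x hxH (hle hxH) hx)⟩

/-- The proper subgroups containing an element with centralizer of order `p ^ 2`. -/
theorem overgroup_structure (h : MaxClass G p n) {s : G}
    (hs : Nat.card (Subgroup.centralizer ({s} : Set G)) = p ^ 2) {D : Subgroup G} (hsD : s ∈ D) (hD : D ≠ ⊤) :
    ∃ i, 1 ≤ i ∧ i + 1 ≤ n ∧ L G i ≤ D ∧ (∀ d ∈ D, ∃ z : ℤ, (s ^ z)⁻¹ * d ∈ L G i) ∧
      ∀ d ∈ D, d ∉ L G i → Nat.card (Subgroup.centralizer ({d} : Set G)) = p ^ 2 := by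
  obtain ⟨hs1, hsC⟩ := avoid_of_small h hs
  have hn3 := h.three
  haveI := (isPGroup h).isNilpotent
  obtain ⟨i, hi1, hin, hi⟩ := eq_L_of_invariant h hsC (H := D ⊓ L G 1) inf_le_right fun x hx =>
    ⟨by rw [commutatorElement_def]; exact D.mul_mem (D.mul_mem (D.mul_mem hx.1 hsD) (D.inv_mem hx.1)) (D.inv_mem hsD),
      L_mono (by omega) (L_comm hx.2 (show s ∈ L G 0 from Subgroup.mem_top s))⟩
  have hiD : L G i ≤ D := hi ▸ inf_le_left
  have hidx : (L G 1).index = p ^ 2 := by
    have e := (L G 1).card_mul_index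
    rw [cardL h le_rfl (by omega), h.card, show p ^ n = p ^ (n - 1 - 1) * p ^ 2 by
      rw [← pow_add, show n - 1 - 1 + 2 = n by omega]] at e
    exact Nat.eq_of_mul_eq_mul_left (pow_pos hp.out.pos _) e
  have hrel : (L G i).relIndex D = p := by
    rw [← hi, Subgroup.inf_relIndex_left]
    obtain ⟨r, hr, hr'⟩ := (Nat.dvd_prime_pow hp.out).mp
      (hidx ▸ Subgroup.relIndex_dvd_index_of_normal (L G 1) D)
    interval_cases r
    · exact absurd (Subgroup.relIndex_eq_one.mp (by simpa using hr') hsD) hs1
    · rw [hr', pow_one]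
    · exfalso
      have htop : D ⊔ L G 1 = ⊤ := by
        rw [← Subgroup.index_eq_one]
        have e := Subgroup.relIndex_mul_index (le_sup_right : L G 1 ≤ D ⊔ L G 1)
        rw [Subgroup.relIndex_sup_right, hr', hidx] at e
        exact Nat.eq_of_mul_eq_mul_left (pow_pos hp.out.pos 2) (e.trans (mul_one _).symm)
      exact hD (frattini_nongenerating (top_le_iff.mp (htop ▸ sup_le_sup_left
        ((Subgroup.top_lowerCentralSeries_one (G := G)).le.trans Cores.commutator_le_frattini) D)))
  have hgen : ∀ d ∈ D, d ∉ L G i → Subgroup.zpowers d ⊔ L G i = D := by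
    intro d hdD hd
    have hle : Subgroup.zpowers d ⊔ L G i ≤ D := sup_le (Subgroup.zpowers_le.mpr hdD) hiD
    have hlt : L G i < Subgroup.zpowers d ⊔ L G i :=
      lt_of_le_of_ne le_sup_right fun e => hd (by
        rw [e]; exact Subgroup.mem_sup_left (Subgroup.mem_zpowers d))
    refine Subgroup.eq_of_le_of_card_ge hle ?_
    refine le_trans (le_of_eq ?_) (PGroups.card_mul_le_of_lt ((isPGroup h).to_subgroup _) hlt)
    have e := Subgroup.relIndex_mul_relIndex ⊥ (L G i) D bot_le hiD
    rwa [Subgroup.relIndex_bot_left, Subgroup.relIndex_bot_left, hrel, eq_comm] at e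
  have hiL1 : L G i ≤ L G 1 := L_mono hi1
  refine ⟨i, hi1, hin, hiD, fun d hd => ?_, fun d hdD hd => ?_⟩
  · have := hgen s hsD (fun e => hs1 (hiL1 e)) ▸ hd
    obtain ⟨a, ha, l, hl, rfl⟩ := Subgroup.mem_sup_of_normal_right.mp this
    obtain ⟨z, rfl⟩ := Subgroup.mem_zpowers_iff.mp ha
    exact ⟨z, by simpa using hl⟩
  · refine small_of_avoid h (fun e => hd (hi ▸ ⟨hdD, e⟩)) fun k h1 h2 hk => hsC k h1 h2 ?_
    have : D ≤ twoStep G k := hgen d hdD hd ▸ sup_le (Subgroup.zpowers_le.mpr hk)
      (hiL1.trans (L_one_le_twoStep k))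
    exact this hsD

/-- The terms of the series seen from an overgroup `D` of such an element. -/
theorem overgroup_commutators (h : MaxClass G p n) {s : G} (hsC : ∀ k, 1 ≤ k → k + 3 ≤ n → s ∉ twoStep G k)
    {D : Subgroup G} (hsD : s ∈ D) {i : ℕ} (hi1 : 1 ≤ i) (hin : i + 1 ≤ n) (hiD : L G i ≤ D)
    (hgen : ∀ d ∈ D, ∃ z : ℤ, (s ^ z)⁻¹ * d ∈ L G i) :
    ⁅D, D⁆ = L G (i + 1) ∧ ∀ m, i ≤ m → m ≤ n → ⁅L G m, D⁆ = L G (m + 1) := by
  refine ⟨le_antisymm ?_ ?_, fun m hm hmn => le_antisymm ?_ ?_⟩
  · rw [Subgroup.commutator_le]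
    set π := QuotientGroup.mk' (L G (i + 1))
    have hcen : ∀ l ∈ L G i, ∀ y, Commute (π l) (π y) := fun l hl y => by
      show _ * _ = _ * _
      rw [← commutatorElement_eq_one_iff_mul_comm, ← map_commutatorElement]
      exact (QuotientGroup.eq_one_iff _).mpr (L_comm (j := 0) hl (Subgroup.mem_top y))
    intro a ha b hb
    obtain ⟨z1, h1⟩ := hgen a ha
    obtain ⟨z2, h2⟩ := hgen b hb
    rw [← QuotientGroup.eq_one_iff]
    show π ⁅a, b⁆ = 1
    rw [map_commutatorElement, commutatorElement_eq_one_iff_mul_comm]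
    rw [show a = s ^ z1 * ((s ^ z1)⁻¹ * a) by group, show b = s ^ z2 * ((s ^ z2)⁻¹ * b) by group,
      map_mul, map_mul]
    exact Commute.mul_left (Commute.mul_right (((Commute.refl s).zpow_zpow z1 z2).map π) (hcen _ h2 _).symm)
      (Commute.mul_right (hcen _ h1 _) (hcen _ h1 _))
  · exact L_succ_le h hsC _ i (Nat.add_sub_cancel' (by omega)) hi1 _ fun g hg =>
      Subgroup.commutator_mem_commutator (hiD hg) hsD
  · exact (Subgroup.commutator_mono le_rfl le_top).trans le_rfl
  · exact L_succ_le h hsC _ m (Nat.add_sub_cancel' hmn) (by omega) _ fun g hg =>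
      Subgroup.commutator_mem_commutator hg hsD

/-- The term `L i` inside an overgroup is cut out by commutation. -/
theorem overgroup_char (h : MaxClass G p n) {s : G} {D : Subgroup G} {i : ℕ} (hi1 : 1 ≤ i) (hi4 : i + 4 ≤ n)
    (hsmall : ∀ d ∈ D, d ∉ L G i → Nat.card (Subgroup.centralizer ({d} : Set G)) = p ^ 2)
    (_hsD : s ∈ D) {d : G} (hd : d ∈ D) :
    d ∈ L G i ↔ ∀ g ∈ L G (i + 1), ⁅g, d⁆ ∈ L G (i + 3) := by
  refine ⟨fun hdi g hg => L_mono (by omega) (L_comm hg hdi), fun hall => ?_⟩
  by_contra hdi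
  obtain ⟨g, hg, hg'⟩ := exists_step h (j := i + 1) (by omega)
  exact (comm_step h (by omega) (by omega) ((avoid_of_small h (hsmall d hd hdi)).2 (i + 1) (by omega) (by omega))
    hg hg').2 (hall g hg)

/-- A nontrivial normal subgroup contains `L 1` or is a term of the series. -/
theorem normal_cases (h : MaxClass G p n) (H : Subgroup G) [H.Normal] (hH : H ≠ ⊥) :
    L G 1 ≤ H ∨ ∃ i, 1 ≤ i ∧ i + 2 ≤ n ∧ H = L G i := by
  have hn3 := h.three
  obtain ⟨k, hk⟩ := (isPGroup h).index H
  have hc := H.card_mul_index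
  rw [hk, h.card] at hc
  rcases Nat.lt_or_ge k 2 with hk2 | hk2
  · left
    have hcyc : IsCyclic (G ⧸ H) := by
      interval_cases k
      · haveI : Subsingleton (G ⧸ H) := (Nat.card_eq_one_iff_unique.mp (hk.trans (pow_zero p))).1
        infer_instance
      · exact isCyclic_of_prime_card (hk.trans (pow_one p))
    show ⁅(⊤ : Subgroup G), (⊤ : Subgroup G)⁆ ≤ H
    rw [Subgroup.commutator_le]
    intro a _ b _
    rw [← QuotientGroup.eq_one_iff]
    show QuotientGroup.mk' H ⁅a, b⁆ = 1
    rw [map_commutatorElement, commutatorElement_eq_one_iff_mul_comm]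
    exact mul_comm' _ _
  · right
    have hkn : k ≤ n := (Nat.pow_dvd_pow_iff_le_right hp.out.one_lt).mp ⟨_, by rw [← hc, mul_comm]⟩
    have hcard : Nat.card H = p ^ (n - k) := by
      refine Nat.eq_of_mul_eq_mul_right (pow_pos hp.out.pos k) (hc.trans ?_)
      rw [← pow_add, Nat.sub_add_cancel hkn]
    have hle : L G (k - 1) ≤ H := by
      have hb := RankTwo.lowerCentralSeries_eq_bot (G := G ⧸ H) hk2 (by rw [← Subgroup.index_eq_card, hk])
      rwa [← Subgroup.map_top_of_surjective _ (QuotientGroup.mk'_surjective H),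
        ← Subgroup.map_lowerCentralSeries, Subgroup.map_eq_bot_iff, QuotientGroup.ker_mk'] at hb
    have hlt : k < n := by
      refine lt_of_le_of_ne hkn fun e => hH (Subgroup.card_eq_one.mp ?_)
      rw [hcard, e, Nat.sub_self, pow_zero]
    refine ⟨k - 1, by omega, by omega, (Subgroup.eq_of_le_of_card_ge hle ?_).symm⟩
    rw [hcard, cardL h (by omega) (by omega), show n - 1 - (k - 1) = n - k by omega]

/-- Centralizers have order at least `p ^ 2`. -/
theorem sq_le_card_centralizer (h : MaxClass G p n) (x : G) :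
    p ^ 2 ≤ Nat.card (Subgroup.centralizer ({x} : Set G)) := by
  have hn3 := h.three
  by_cases hx : x ∈ Subgroup.center G
  · rw [show Subgroup.centralizer ({x} : Set G) = ⊤ from eq_top_iff.mpr fun g _ =>
      Subgroup.mem_centralizer_singleton_iff.mpr (Subgroup.mem_center_iff.mp hx g), Subgroup.card_top, h.card]
    exact Nat.pow_le_pow_right hp.out.pos (by omega)
  · have hlt : Subgroup.center G < Subgroup.centralizer ({x} : Set G) := by
      refine lt_of_le_of_ne (fun g hg => Subgroup.mem_centralizer_singleton_iff.mpr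
        (Subgroup.mem_center_iff.mp hg x).symm) fun e => hx ?_
      rw [e]; exact Subgroup.mem_centralizer_singleton_iff.mpr rfl
    have := PGroups.card_mul_le_of_lt ((isPGroup h).to_subgroup _) hlt
    rwa [(RankTwo.maxClass_center hn3 h.card (h.ne_bot _ (by omega))).1, ← pow_two] at this

end Cfsg.Agent.Lib.MaxClassUniform
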