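import Cfsg.Agent.Lib.Blocks.LocalRing
import Cfsg.Agent.Lib.Characters.Ortho
import Cfsg.Agent.Lib.Characters.Integrality

/-!
# Residues of sums over orbits of a normal subgroup

For a character `ψ` whose restriction to a normal subgroup `N` is irreducible, the `N`-invariant
elements of the integral group algebra act by scalars; their residues are governed by a linear
character of `G ⧸ N` when the restriction lies in the principal block of `N`.
-/

set_option autoImplicit false
set_option linter.unusedSectionVars false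
set_option linter.unusedVariables false
set_option linter.style.haveILetI false

namespace Cfsg.Agent.Lib.Blocks.NOrbit

open Cfsg Cfsg.Agent.Lib.Characters Cfsg.Agent.Lib.Blocks MonoidAlgebra

universe u

variable {G : Type u} [Group G] [Fintype G] (N : Subgroup G)

/-- The orbit of `x` under conjugation by `N`. -/
noncomputable def orb (x : G) : Finset G := by
  classical exact Finset.univ.filter fun y => ∃ n ∈ N, n * x * n⁻¹ = y

theorem mem_orb {x y : G} : y ∈ orb N x ↔ ∃ n ∈ N, n * x * n⁻¹ = y := by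
  classical simp [orb]

theorem self_mem_orb (x : G) : x ∈ orb N x := (mem_orb N).2 ⟨1, N.one_mem, by simp⟩

theorem orb_eq {x y : G} (h : y ∈ orb N x) : orb N y = orb N x := by
  obtain ⟨n, hn, rfl⟩ := (mem_orb N).1 h
  ext z
  rw [mem_orb, mem_orb]
  constructor
  · rintro ⟨m, hm, rfl⟩
    exact ⟨m * n, N.mul_mem hm hn, by group⟩
  · rintro ⟨m, hm, rfl⟩
    exact ⟨m * n⁻¹, N.mul_mem hm (N.inv_mem hn), by group⟩

/-- The size of an orbit. -/
theorem card_orb (c : G) : (orb N c).card = ((Subgroup.centralizer ({c} : Set G)).subgroupOf N).index := by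
  classical
  letI : MulAction N G := MulAction.compHom G (((ConjAct.toConjAct : G ≃* ConjAct G).toMonoidHom).comp N.subtype)
  have hsmul : ∀ (n : N) (y : G), n • y = (n : G) * y * (n : G)⁻¹ := fun n y => by
    show ConjAct.toConjAct (n : G) • y = _
    rw [ConjAct.toConjAct_smul]
  have horb : (MulAction.orbit N c : Set G) = (orb N c : Set G) := by
    ext y
    simp [MulAction.mem_orbit_iff, hsmul, mem_orb, eq_comm]
  have hstab : MulAction.stabilizer N c = (Subgroup.centralizer ({c} : Set G)).subgroupOf N := by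
    ext n
    rw [MulAction.mem_stabilizer_iff, hsmul, Subgroup.mem_subgroupOf,
      Subgroup.mem_centralizer_singleton_iff, mul_inv_eq_iff_eq_mul]
  have h1 := MulAction.index_stabilizer N c
  rw [hstab, horb, Set.ncard_coe_finset] at h1
  exact h1.symm

/-- A sum over an invariant set with coefficients constant on orbits lies in the ideal as soon as
all orbit sums do. -/
theorem sum_invariant_mem {M : Ideal AlgInt} [M.IsPrime] (K : Finset G)
    (hK : ∀ x ∈ K, ∀ y ∈ orb N x, y ∈ K) (c : G → ℤ) (hc : ∀ x, ∀ y ∈ orb N x, c y = c x)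
    (F : G → ℂ) (hF : ∀ x ∈ K, MemLocalIdeal M (∑ y ∈ orb N x, F y)) :
    MemLocalIdeal M (∑ y ∈ K, (c y : ℂ) * F y) := by
  classical
  rw [← Finset.sum_fiberwise_of_maps_to (s := K) (t := K.image (orb N)) (g := orb N)
    fun x hx => Finset.mem_image_of_mem _ hx]
  refine memLocalIdeal_sum _ fun O hO => ?_
  obtain ⟨x, hx, rfl⟩ := Finset.mem_image.1 hO
  have hfib : K.filter (fun y => orb N y = orb N x) = orb N x := by
    ext y
    rw [Finset.mem_filter]
    exact ⟨fun h => h.2 ▸ self_mem_orb N y, fun h => ⟨hK x hx y h, orb_eq N h⟩⟩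
  rw [hfib, Finset.sum_congr rfl fun y hy => by rw [hc x y hy], ← Finset.mul_sum]
  exact memLocalIdeal_mul_left (memLocalRing_intCast _) (hF x hx)

variable [N.Normal]

theorem mk_eq_of_mem_orb {x y : G} (h : y ∈ orb N x) :
    (QuotientGroup.mk y : G ⧸ N) = QuotientGroup.mk x := by
  obtain ⟨n, hn, rfl⟩ := (mem_orb N).1 h
  simp [(QuotientGroup.eq_one_iff n).2 hn]

/-- The sum of the orbit of `x` in the integral group algebra. -/
noncomputable def orbSum (x : G) : MonoidAlgebra ℤ G := ∑ y ∈ orb N x, of ℤ G y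

/-- Commuting with `N`. -/
def Inv (a : MonoidAlgebra ℤ G) : Prop := ∀ n ∈ N, Commute (of ℤ G n) a

theorem inv_orbSum (x : G) : Inv N (orbSum N x) := by
  intro n hn
  show of ℤ G n * _ = _ * of ℤ G n
  rw [orbSum, Finset.mul_sum, Finset.sum_mul]
  refine Finset.sum_nbij' (fun y => n * y * n⁻¹) (fun y => n⁻¹ * y * n) (fun y hy => ?_)
    (fun y hy => ?_) (fun y _ => by group) (fun y _ => by group) (fun y _ => ?_)
  · obtain ⟨m, hm, rfl⟩ := (mem_orb N).1 hy
    exact (mem_orb N).2 ⟨n * m, N.mul_mem hn hm, by group⟩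
  · obtain ⟨m, hm, rfl⟩ := (mem_orb N).1 hy
    exact (mem_orb N).2 ⟨n⁻¹ * m, N.mul_mem (N.inv_mem hn) hm, by group⟩
  · rw [← map_mul, ← map_mul]
    congr 1
    group

theorem Inv.mul {a b : MonoidAlgebra ℤ G} (ha : Inv N a) (hb : Inv N b) : Inv N (a * b) :=
  fun n hn => (ha n hn).mul_right (hb n hn)

theorem inv_one : Inv N (1 : MonoidAlgebra ℤ G) := fun n _ => Commute.one_right _

theorem Inv.coeff_eq {a : MonoidAlgebra ℤ G} (ha : Inv N a) {x y : G} (h : y ∈ orb N x) :
    a.coeff y = a.coeff x := by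
  obtain ⟨n, hn, rfl⟩ := (mem_orb N).1 h
  have h1 := congrArg (fun z : MonoidAlgebra ℤ G => z.coeff (n * x)) (ha n hn).eq
  simp only [of_apply, coeff_single_mul_apply, coeff_mul_single_apply, one_mul, mul_one,
    inv_mul_cancel_left] at h1
  exact h1.symm

/-- The elements supported on a coset. -/
noncomputable def coset (q : G ⧸ N) : Submodule ℤ (MonoidAlgebra ℤ G) :=
  Submodule.span ℤ (of ℤ G '' {g | (QuotientGroup.mk g : G ⧸ N) = q})

theorem of_mem_coset (g : G) : of ℤ G g ∈ coset N (QuotientGroup.mk g) :=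
  Submodule.subset_span ⟨g, rfl, rfl⟩

theorem orbSum_mem_coset (x : G) : orbSum N x ∈ coset N (QuotientGroup.mk x) :=
  Submodule.sum_mem _ fun y hy => mk_eq_of_mem_orb N hy ▸ of_mem_coset N y

theorem mul_mem_coset {a b : MonoidAlgebra ℤ G} {q r : G ⧸ N} (ha : a ∈ coset N q)
    (hb : b ∈ coset N r) : a * b ∈ coset N (q * r) := by
  have h := Submodule.mul_mem_mul ha hb
  rw [coset, coset, Submodule.span_mul_span] at h
  refine Submodule.span_mono ?_ h
  rintro _ ⟨_, ⟨g, hg, rfl⟩, _, ⟨g', hg', rfl⟩, rfl⟩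
  refine ⟨g * g', ?_, map_mul _ _ _⟩
  rw [Set.mem_setOf_eq] at hg hg' ⊢
  rw [QuotientGroup.mk_mul, hg, hg']

theorem coeff_eq_zero_of_mem_coset {a : MonoidAlgebra ℤ G} {q : G ⧸ N} (ha : a ∈ coset N q)
    (g : G) (hg : (QuotientGroup.mk g : G ⧸ N) ≠ q) : a.coeff g = 0 := by
  classical
  refine Submodule.span_induction ?_ ?_ ?_ ?_ ha
  · rintro _ ⟨h, hh, rfl⟩
    rw [Set.mem_setOf_eq] at hh
    rw [of_apply, coeff_single, Finsupp.single_apply, if_neg]
    rintro rfl
    exact hg hh
  · simp
  · intro u v _ _ hu hv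
    simp [hu, hv]
  · intro z u _ hu
    rw [MonoidAlgebra.coeff_smul, Finsupp.smul_apply, hu, smul_zero]

theorem card_orb_dvd {p : ℕ} [Fact p.Prime] (P : Sylow p N) {c : G}
    (hc : c ∈ Subgroup.centralizer (((P : Subgroup N).map N.subtype : Subgroup G) : Set G)) :
    ¬ p ∣ (orb N c).card := by
  rw [card_orb]
  intro hd
  refine Sylow.not_dvd_index P (hd.trans (Subgroup.index_dvd_of_le fun a ha => Subgroup.mem_subgroupOf.2
    (Subgroup.mem_centralizer_singleton_iff.2 (Subgroup.mem_centralizer_iff.1 hc _ ⟨a, ha, rfl⟩))))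

/-- The scalar by which `a` acts, read off the character. -/
noncomputable def val (ψ : G → ℂ) (a : MonoidAlgebra ℤ G) : ℂ :=
  (∑ g, (a.coeff g : ℂ) * ψ g) / ψ 1

theorem val_orbSum (ψ : G → ℂ) (x : G) : val ψ (orbSum N x) = (∑ y ∈ orb N x, ψ y) / ψ 1 := by
  classical
  rw [val]
  congr 1
  have hcoeff : ∀ g, (orbSum N x).coeff g = if g ∈ orb N x then 1 else 0 := fun g => by
    simp [orbSum, coeff_single, Finsupp.single_apply]
  simp only [hcoeff, Int.cast_ite, Int.cast_one, Int.cast_zero, ite_mul, one_mul, zero_mul,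
    Finset.sum_ite_mem, Finset.univ_inter]

/-- The augmentation. -/
noncomputable def aug (G : Type u) [Group G] : MonoidAlgebra ℤ G →ₐ[ℤ] ℤ :=
  MonoidAlgebra.lift ℤ ℤ G (1 : G →* ℤ)

theorem aug_of (g : G) : aug G (of ℤ G g) = 1 := by simp [aug]

theorem aug_orbSum (x : G) : aug G (orbSum N x) = (orb N x).card := by
  rw [orbSum, map_sum, Finset.sum_congr rfl fun y _ => aug_of y]
  simp

theorem sum_single_coeff (a : MonoidAlgebra ℤ G) : a = ∑ g, a.coeff g • of ℤ G g := by
  classical
  refine MonoidAlgebra.ext (Finsupp.ext fun g => ?_)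
  simp [coeff_single, Finsupp.single_apply]

theorem aug_eq_sum (a : MonoidAlgebra ℤ G) : aug G a = ∑ g, a.coeff g := by
  conv_lhs => rw [sum_single_coeff a]
  rw [map_sum]
  exact Finset.sum_congr rfl fun g _ => by rw [map_zsmul, aug_of, smul_eq_mul, mul_one]

section Scalar

variable {N} {n : ℕ} (ρ : Representation ℂ G (Fin n → ℂ))

/-- The action of the integral group algebra. -/
noncomputable def act : MonoidAlgebra ℤ G →ₐ[ℤ] Module.End ℂ (Fin n → ℂ) :=
  MonoidAlgebra.lift ℤ _ G ρ

theorem act_of (g : G) : act ρ (of ℤ G g) = ρ g := by simp [act]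

theorem trace_act (a : MonoidAlgebra ℤ G) :
    LinearMap.trace ℂ _ (act ρ a) = ∑ g, (a.coeff g : ℂ) * ρ.character g := by
  conv_lhs => rw [sum_single_coeff a]
  rw [map_sum, map_sum]
  refine Finset.sum_congr rfl fun g _ => ?_
  rw [map_zsmul, act_of, map_zsmul, zsmul_eq_mul]
  rfl

theorem act_eq_val (hirr : IsIrrCharacter N (fun x : N => ρ.character x)) {a : MonoidAlgebra ℤ G}
    (ha : Inv N a) : act ρ a = val ρ.character a • 1 := by
  haveI : Representation.IsIrreducible (ρ.comp N.subtype) :=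
    isIrreducible_of_isIrrCharacter (ρ.comp N.subtype) hirr
  obtain ⟨c, hc⟩ := exists_smul_of_commute (ρ.comp N.subtype) (act ρ a) (fun x => by
    show act ρ a * ρ (x : G) = ρ (x : G) * act ρ a
    rw [← act_of, ← map_mul, ← map_mul, (ha x x.2).eq])
  have htr : LinearMap.trace ℂ _ (act ρ a) = c * ρ.character 1 := by
    rw [hc, map_smul, LinearMap.trace_id, smul_eq_mul, ρ.char_one]
  have h1 : ρ.character 1 ≠ 0 := IsIrrCharacter.apply_one_ne_zero (χ := fun x : N => ρ.character x) hirr
  have : val ρ.character a = c := by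
    rw [val, ← trace_act, htr, mul_div_assoc, div_self h1, mul_one]
  rw [this]
  exact hc

theorem isIntegral_val (hirr : IsIrrCharacter N (fun x : N => ρ.character x))
    {a : MonoidAlgebra ℤ G} (ha : Inv N a) : IsIntegral ℤ (val ρ.character a) := by
  have h1 : ρ.character 1 ≠ 0 := IsIrrCharacter.apply_one_ne_zero (χ := fun x : N => ρ.character x) hirr
  haveI : Nontrivial (Fin n → ℂ) := Module.nontrivial_of_finrank_pos (R := ℂ) (by
    rw [ρ.char_one, Nat.cast_ne_zero] at h1
    omega)
  have hint : IsIntegral ℤ (act ρ a) := (Algebra.IsIntegral.isIntegral a).map (act ρ)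
  rw [act_eq_val ρ hirr ha, ← Algebra.algebraMap_eq_smul_one] at hint
  exact (isIntegral_algebraMap_iff
    (RingHom.injective (algebraMap ℂ (Module.End ℂ (Fin n → ℂ))))).1 hint

theorem val_mul (hirr : IsIrrCharacter N (fun x : N => ρ.character x))
    {a b : MonoidAlgebra ℤ G} (ha : Inv N a) (hb : Inv N b) :
    val ρ.character (a * b) = val ρ.character a * val ρ.character b := by
  have h1 : ρ.character 1 ≠ 0 := IsIrrCharacter.apply_one_ne_zero (χ := fun x : N => ρ.character x) hirr
  have h := congrArg (LinearMap.trace ℂ _) (map_mul (act ρ) a b)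
  rw [act_eq_val ρ hirr ha, act_eq_val ρ hirr hb, act_eq_val ρ hirr (Inv.mul N ha hb), smul_mul_smul_comm,
    mul_one, map_smul, map_smul, LinearMap.trace_one, smul_eq_mul, smul_eq_mul] at h
  rw [ρ.char_one] at h1
  exact mul_right_cancel₀ h1 h

end Scalar

end Cfsg.Agent.Lib.Blocks.NOrbit
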