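import Cfsg.Agent.Lib.Blocks.Central

/-!
# Block idempotents have local integral coefficients (Osima)

`IsRCentral M f`: a class function with values in the local ring at `M`.  The main result is
`isRCentral_blockCoeff`: the idempotent coefficient function of a block is such a function.
-/

set_option autoImplicit false
set_option linter.unusedSectionVars false
set_option linter.style.haveILetI false

namespace Cfsg.Agent.Lib.Blocks

open Cfsg Cfsg.Agent.Lib.Characters
open scoped ComplexConjugate

universe u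

variable {G : Type u} [Group G] [Fintype G] {M : Ideal AlgInt} [hMp : M.IsPrime]

/-- A class function all of whose values are local integers at `M`. -/
def IsRCentral (M : Ideal AlgInt) (f : G → ℂ) : Prop :=
  IsClassFunction G f ∧ ∀ x, MemLocalRing M (f x)

namespace IsRCentral

variable {f f' : G → ℂ}

theorem add (hf : IsRCentral M f) (hf' : IsRCentral M f') : IsRCentral M (f + f') :=
  ⟨fun g h => by simp [hf.1 g h, hf'.1 g h], fun x => memLocalRing_add (hf.2 x) (hf'.2 x)⟩

theorem sub (hf : IsRCentral M f) (hf' : IsRCentral M f') : IsRCentral M (f - f') :=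
  ⟨fun g h => by simp [hf.1 g h, hf'.1 g h], fun x => memLocalRing_sub (hf.2 x) (hf'.2 x)⟩

theorem smul {c : ℂ} (hc : MemLocalRing M c) (hf : IsRCentral M f) : IsRCentral M (c • f) :=
  ⟨fun g h => by simp [hf.1 g h], fun x => memLocalRing_mul hc (hf.2 x)⟩

theorem conv (hf : IsRCentral M f) (hf' : IsRCentral M f') : IsRCentral M (Blocks.conv f f') :=
  ⟨isClassFunction_conv hf.1 hf'.1,
    fun _ => memLocalRing_sum _ fun x _ => memLocalRing_mul (hf.2 x) (hf'.2 _)⟩

theorem zero : IsRCentral M (0 : G → ℂ) :=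
  ⟨fun _ _ => rfl, fun _ => memLocalRing_zero⟩

theorem sum {ι : Type*} (s : Finset ι) {F : ι → G → ℂ} (h : ∀ i ∈ s, IsRCentral M (F i)) :
    IsRCentral M (∑ i ∈ s, F i) :=
  Finset.sum_induction F _ (fun _ _ => add) zero h

end IsRCentral

theorem isRCentral_classIndicator (g : G) : IsRCentral M (classIndicator g) :=
  ⟨isClassFunction_classIndicator g, fun x => by
    unfold classIndicator
    split_ifs
    · exact memLocalRing_one
    · exact memLocalRing_zero⟩

theorem isRCentral_deltaOne : IsRCentral M (deltaOne : G → ℂ) :=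
  isRCentral_classIndicator 1

theorem memLocalRing_centralChar (χ : IrrCharacter G) (g : G) :
    MemLocalRing M (centralChar (χ : G → ℂ) g) :=
  memLocalRing_of_isIntegral' (isIntegral_centralChar_irr χ.2 g)

theorem memLocalRing_omega {f : G → ℂ} (hf : IsRCentral M f) (χ : IrrCharacter G) :
    MemLocalRing M (omega (χ : G → ℂ) f) := by
  haveI : Finite (ConjClasses G) := Finite.of_surjective _ ConjClasses.mk_surjective
  haveI := Fintype.ofFinite (ConjClasses G)
  rw [omega_eq_sum_classes (irr_isClassFunction χ) hf.1]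
  exact memLocalRing_sum _ fun C _ =>
    memLocalRing_mul (hf.2 _) (memLocalRing_centralChar χ _)

/-- Iterated convolution. -/
noncomputable def convPow (f : G → ℂ) : ℕ → G → ℂ
  | 0 => deltaOne
  | n + 1 => conv f (convPow f n)

theorem isRCentral_convPow {f : G → ℂ} (hf : IsRCentral M f) :
    ∀ n, IsRCentral M (convPow f n)
  | 0 => isRCentral_deltaOne
  | n + 1 => hf.conv (isRCentral_convPow hf n)

theorem omega_convPow {χ f : G → ℂ} (hχ : IsIrrCharacter G χ) (hf : IsClassFunction G f) :
    ∀ n, omega χ (convPow f n) = omega χ f ^ n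
  | 0 => by rw [convPow, omega_deltaOne hχ, pow_zero]
  | n + 1 => by rw [convPow, omega_conv hχ hf, omega_convPow hχ hf n, pow_succ']

/-! ### Blocks and central functions -/

theorem omega_congr_of_sameBlock {χ ψ : IrrCharacter G}
    (h : SameBlock M (χ : G → ℂ) (ψ : G → ℂ)) {f : G → ℂ} (hf : IsRCentral M f) :
    MemLocalIdeal M (omega (χ : G → ℂ) f - omega (ψ : G → ℂ) f) := by
  haveI : Finite (ConjClasses G) := Finite.of_surjective _ ConjClasses.mk_surjective
  haveI := Fintype.ofFinite (ConjClasses G)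
  rw [omega_eq_sum_classes (irr_isClassFunction χ) hf.1,
    omega_eq_sum_classes (irr_isClassFunction ψ) hf.1, ← Finset.sum_sub_distrib]
  refine memLocalIdeal_sum _ fun C _ => ?_
  rw [← mul_sub]
  exact memLocalIdeal_mul_left (hf.2 _) (h _)

theorem sameBlock_refl (χ : G → ℂ) : SameBlock M χ χ := fun g => by
  rw [sub_self]; exact memLocalIdeal_zero

theorem sameBlock_symm {χ ψ : G → ℂ} (h : SameBlock M χ ψ) : SameBlock M ψ χ := fun g => by
  simpa using memLocalIdeal_neg (h g)

theorem sameBlock_trans {χ ψ η : G → ℂ} (h : SameBlock M χ ψ) (h' : SameBlock M ψ η) :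
    SameBlock M χ η := fun g => by
  simpa using memLocalIdeal_add (h g) (h' g)

theorem self_mem_blockOf (χ : IrrCharacter G) : χ ∈ blockOf M (χ : G → ℂ) :=
  sameBlock_refl _

theorem blockOf_eq_of_sameBlock {χ ψ : G → ℂ} (h : SameBlock M χ ψ) :
    (blockOf M χ : Set (IrrCharacter G)) = blockOf M ψ :=
  Set.ext fun _ => ⟨sameBlock_trans (sameBlock_symm h), sameBlock_trans h⟩

theorem isPBlock_blockOf (χ : IrrCharacter G) : IsPBlock M (blockOf M (χ : G → ℂ)) := ⟨χ, rfl⟩

theorem isPBlock_principalBlock : IsPBlock M (principalBlock M G) := ⟨trivIrr G, rfl⟩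

theorem IsPBlock.nonempty {B : Set (IrrCharacter G)} (hB : IsPBlock M B) : B.Nonempty := by
  obtain ⟨χ, rfl⟩ := hB
  exact ⟨χ, self_mem_blockOf χ⟩

theorem IsPBlock.eq_blockOf {B : Set (IrrCharacter G)} (hB : IsPBlock M B) {χ : IrrCharacter G}
    (hχ : χ ∈ B) : B = blockOf M (χ : G → ℂ) := by
  obtain ⟨ψ, rfl⟩ := hB
  exact blockOf_eq_of_sameBlock hχ

theorem IsPBlock.sameBlock {B : Set (IrrCharacter G)} (hB : IsPBlock M B) {χ ψ : IrrCharacter G}
    (hχ : χ ∈ B) (hψ : ψ ∈ B) : SameBlock M (χ : G → ℂ) (ψ : G → ℂ) := by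
  rw [IsPBlock.eq_blockOf hB hχ] at hψ
  exact hψ

theorem IsPBlock.mem_iff {B : Set (IrrCharacter G)} (hB : IsPBlock M B) {χ : IrrCharacter G}
    (hχ : χ ∈ B) {ψ : IrrCharacter G} : ψ ∈ B ↔ SameBlock M (χ : G → ℂ) (ψ : G → ℂ) := by
  rw [IsPBlock.eq_blockOf hB hχ]; rfl

theorem IsPBlock.eq_of_mem {B B' : Set (IrrCharacter G)} (hB : IsPBlock M B)
    (hB' : IsPBlock M B') {χ : IrrCharacter G} (h : χ ∈ B) (h' : χ ∈ B') : B = B' := by
  rw [IsPBlock.eq_blockOf hB h, IsPBlock.eq_blockOf hB' h']

/-! ### The coefficient function of a set of characters -/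

theorem finsum_irr_eq_sum_ite [Fintype (IrrCharacter G)] (A : Set (IrrCharacter G))
    [DecidablePred (· ∈ A)] (F : IrrCharacter G → ℂ) :
    ∑ᶠ χ ∈ A, F χ = ∑ χ, if χ ∈ A then F χ else 0 := by
  rw [finsum_mem_def, finsum_eq_sum_of_fintype]
  exact Finset.sum_congr rfl fun χ _ => by rw [Set.indicator_apply]

theorem isClassFunction_blockCoeff (A : Set (IrrCharacter G)) :
    IsClassFunction G (blockCoeff A) := by
  intro g h
  simp only [blockCoeff, irr_isClassFunction _ g h]

theorem blockCoeff_eq_finsum_inv (A : Set (IrrCharacter G)) (g : G) :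
    blockCoeff A g =
      (Nat.card G : ℂ)⁻¹ * ∑ᶠ χ ∈ A, (χ : G → ℂ) 1 * (χ : G → ℂ) g⁻¹ := by
  simp only [blockCoeff, IsCharacter.apply_inv (irr_isCharacter _)]

open Classical in
theorem omega_blockCoeff (A : Set (IrrCharacter G)) (ψ : IrrCharacter G) :
    omega (ψ : G → ℂ) (blockCoeff A) = if ψ ∈ A then 1 else 0 := by
  haveI := Fintype.ofFinite (IrrCharacter G)
  have hne := IsIrrCharacter.apply_one_ne_zero ψ.2
  rw [omega, div_eq_iff hne]
  calc ∑ x, blockCoeff A x * (ψ : G → ℂ) x
      = ∑ χ : IrrCharacter G, (if χ ∈ A then (χ : G → ℂ) 1 else 0) *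
          classInner (ψ : G → ℂ) (χ : G → ℂ) := by
        simp only [blockCoeff, finsum_irr_eq_sum_ite, classInner, Finset.mul_sum, Finset.sum_mul]
        rw [Finset.sum_comm]
        refine Finset.sum_congr rfl fun χ _ => Finset.sum_congr rfl fun x _ => ?_
        split_ifs <;> ring
    _ = _ := by
        simp [classInner_irr]

theorem blockCoeff_conv_self (A : Set (IrrCharacter G)) :
    conv (blockCoeff A) (blockCoeff A) = blockCoeff A := by
  classical
  refine ext_omega (isClassFunction_conv (isClassFunction_blockCoeff A)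
    (isClassFunction_blockCoeff A)) (isClassFunction_blockCoeff A) fun ψ => ?_
  rw [omega_conv ψ.2 (isClassFunction_blockCoeff A), omega_blockCoeff]
  split_ifs <;> simp

theorem blockCoeff_singleton (χ : IrrCharacter G) (g : G) :
    blockCoeff ({χ} : Set (IrrCharacter G)) g =
      (Nat.card G : ℂ)⁻¹ * ((χ : G → ℂ) 1 * conj ((χ : G → ℂ) g)) := by
  simp [blockCoeff]

/-! ### Lifting idempotents -/

variable {p : ℕ}

omit [Group G] in
/-- The group order is a power of `p` times a local unit. -/
theorem exists_card_eq (hM : IsPModular p M) [Nonempty G] :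
    ∃ a m : ℕ, Nat.card G = p ^ a * m ∧ ¬ p ∣ m :=
  ⟨_, _, (Nat.ordProj_mul_ordCompl_eq_self (Nat.card G) p).symm,
    Nat.not_dvd_ordCompl hM.1 Nat.card_pos.ne'⟩

/-- An idempotent in the algebra of central characters which is congruent to a local integral
central function has local integral coefficients. -/
theorem isRCentral_blockCoeff_of_congr (hM : IsPModular p M) {A : Set (IrrCharacter G)}
    {b : G → ℂ} (hb : IsRCentral M b)
    (h1 : ∀ η ∈ A, MemLocalIdeal M (omega (η : G → ℂ) b - 1))
    (h0 : ∀ η : IrrCharacter G, η ∉ A → MemLocalIdeal M (omega (η : G → ℂ) b)) :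
    IsRCentral M (blockCoeff A) := by
  classical
  haveI := Fintype.ofFinite (IrrCharacter G)
  obtain ⟨a, m, hcard, hm⟩ := exists_card_eq (G := G) hM
  -- a uniform exponent
  have hN : ∀ η : IrrCharacter G, ∃ N : ℕ, ∀ n, N ≤ n → MemLocalRing M
      ((if η ∈ A then (1 - omega (η : G → ℂ) b) else omega (η : G → ℂ) b) ^ n / (p : ℂ) ^ a) := by
    intro η
    refine exists_pow_div_p_pow hM ?_ a
    split_ifs with h
    · simpa using memLocalIdeal_neg (h1 η h)
    · exact h0 η h
  choose N hN using hN
  set n := Finset.univ.sup N + 1 with hn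
  have hNn : ∀ η, N η ≤ n := fun η =>
    le_trans (Finset.le_sup (Finset.mem_univ η)) (Nat.le_succ _)
  let c := convPow (deltaOne - convPow (deltaOne - b) n) n
  have hd : IsRCentral M (deltaOne - convPow (deltaOne - b) n) :=
    isRCentral_deltaOne.sub (isRCentral_convPow (isRCentral_deltaOne.sub hb) n)
  have hc : IsRCentral M c := isRCentral_convPow hd n
  have hωc : ∀ η : IrrCharacter G,
      omega (η : G → ℂ) c = (1 - (1 - omega (η : G → ℂ) b) ^ n) ^ n := by
    intro η
    rw [omega_convPow η.2 hd.1, omega_sub, omega_deltaOne η.2,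
      omega_convPow η.2 (isRCentral_deltaOne.sub hb).1, omega_sub, omega_deltaOne η.2]
  -- the correction term is divisible by the group order
  have hdiff : ∀ η : IrrCharacter G,
      MemLocalRing M (((if η ∈ A then 1 else 0) - omega (η : G → ℂ) c) * (Nat.card G : ℂ)⁻¹) := by
    intro η
    have hmul : ((Nat.card G : ℂ))⁻¹ = (1 / (p : ℂ) ^ a) * (m : ℂ)⁻¹ := by
      rw [hcard]; push_cast; rw [mul_inv, one_div]
    rw [hmul, ← mul_assoc]
    refine memLocalRing_mul ?_ (memLocalRing_inv_natCast hM hm)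
    rw [mul_one_div, hωc]
    have hω := memLocalRing_omega hb η
    have hN' := hN η n (hNn η)
    split_ifs with h
    · rw [if_pos h] at hN'
      set s := (1 - omega (η : G → ℂ) b) ^ n with hs
      have hsr : MemLocalRing M s := memLocalRing_pow (memLocalRing_sub memLocalRing_one hω) n
      obtain ⟨q, hq, hqR⟩ : ∃ q : ℂ, 1 - (1 - s) ^ n = q * s ∧ MemLocalRing M q := by
        refine ⟨∑ i ∈ Finset.range n, (1 - s) ^ i, ?_,
          memLocalRing_sum _ fun i _ => memLocalRing_pow (memLocalRing_sub memLocalRing_one hsr) i⟩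
        have := geom_sum_mul (1 - s) n
        linear_combination this
      rw [hq, mul_div_assoc]
      exact memLocalRing_mul hqR hN'
    · rw [if_neg h] at hN'
      set t := omega (η : G → ℂ) b with ht
      have hq : 1 - (1 - t) ^ n = (∑ i ∈ Finset.range n, (1 - t) ^ i) * t := by
        have := geom_sum_mul (1 - t) n
        linear_combination this
      rw [hq, mul_pow, zero_sub, ← neg_mul, mul_div_assoc]
      refine memLocalRing_mul (memLocalRing_neg (memLocalRing_pow ?_ n)) hN'
      exact memLocalRing_sum _ fun i _ => memLocalRing_pow (memLocalRing_sub memLocalRing_one hω) i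
  refine ⟨isClassFunction_blockCoeff A, fun g => ?_⟩
  have hdecomp : blockCoeff A g = c g + ∑ η : IrrCharacter G,
      (((if η ∈ A then 1 else 0) - omega (η : G → ℂ) c) * (Nat.card G : ℂ)⁻¹) *
        ((η : G → ℂ) 1 * conj ((η : G → ℂ) g)) := by
    rw [eq_sum_omega hc.1 g, blockCoeff, finsum_irr_eq_sum_ite, Finset.mul_sum, Finset.mul_sum,
      ← Finset.sum_add_distrib]
    refine Finset.sum_congr rfl fun η _ => ?_
    split_ifs <;> ring
  rw [hdecomp]
  exact memLocalRing_add (hc.2 g) (memLocalRing_sum _ fun η _ => memLocalRing_mul (hdiff η)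
    (memLocalRing_mul (memLocalRing_of_isIntegral' (isIntegral_char η 1))
      (memLocalRing_of_isIntegral' (isIntegral_conj_char η g))))

/-- A central function separating a block from the other characters. -/
theorem exists_separating (χ₀ : IrrCharacter G) :
    ∃ b : G → ℂ, IsRCentral M b ∧
      (∀ η ∈ blockOf M (χ₀ : G → ℂ), MemLocalIdeal M (omega (η : G → ℂ) b - 1)) ∧
      ∀ η : IrrCharacter G, η ∉ blockOf M (χ₀ : G → ℂ) →
        MemLocalIdeal M (omega (η : G → ℂ) b) := by
  classical
  haveI := Fintype.ofFinite (IrrCharacter G)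
  suffices key : ∀ s : Finset (IrrCharacter G), ∃ b : G → ℂ, IsRCentral M b ∧
      MemLocalIdeal M (omega (χ₀ : G → ℂ) b - 1) ∧
      ∀ η ∈ s, η ∉ blockOf M (χ₀ : G → ℂ) → MemLocalIdeal M (omega (η : G → ℂ) b) by
    obtain ⟨b, hb, hb1, hb0⟩ := key Finset.univ
    refine ⟨b, hb, fun η hη => ?_, fun η hη => hb0 η (Finset.mem_univ η) hη⟩
    have := omega_congr_of_sameBlock (χ := χ₀) (ψ := η) hη hb
    simpa using memLocalIdeal_sub hb1 this
  intro s
  induction s using Finset.induction with
  | empty =>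
    exact ⟨deltaOne, isRCentral_deltaOne,
      by rw [omega_deltaOne χ₀.2, sub_self]; exact memLocalIdeal_zero, by simp⟩
  | insert ψ s _ ih =>
    obtain ⟨b, hb, hb1, hb0⟩ := ih
    by_cases hψ : ψ ∈ blockOf M (χ₀ : G → ℂ)
    · refine ⟨b, hb, hb1, fun η hη hη' => ?_⟩
      rcases Finset.mem_insert.1 hη with rfl | h
      · exact absurd hψ hη'
      · exact hb0 η h hη'
    obtain ⟨g, hg⟩ : ∃ g, ¬ MemLocalIdeal M
        (centralChar (χ₀ : G → ℂ) g - centralChar (ψ : G → ℂ) g) := by
      simpa [blockOf, SameBlock] using hψ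
    set d := centralChar (χ₀ : G → ℂ) g - centralChar (ψ : G → ℂ) g with hd
    have hdR : MemLocalRing M d :=
      memLocalRing_sub (memLocalRing_centralChar χ₀ g) (memLocalRing_centralChar ψ g)
    let a : G → ℂ := d⁻¹ • (classIndicator g - centralChar (ψ : G → ℂ) g • deltaOne)
    have ha : IsRCentral M a :=
      ((isRCentral_classIndicator g).sub
        (isRCentral_deltaOne.smul (memLocalRing_centralChar ψ g))).smul (memLocalRing_inv hdR hg)
    have hωa : ∀ η : IrrCharacter G, omega (η : G → ℂ) a =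
        d⁻¹ * (centralChar (η : G → ℂ) g - centralChar (ψ : G → ℂ) g) := by
      intro η
      rw [omega_smul, omega_sub, omega_smul, omega_deltaOne η.2,
        omega_classIndicator (irr_isClassFunction η), mul_one]
    refine ⟨conv a b, ha.conv hb, ?_, fun η hη hη' => ?_⟩
    · rw [omega_conv χ₀.2 ha.1, hωa, ← hd, inv_mul_cancel₀ (ne_zero_of_not_memLocalIdeal hg),
        one_mul]
      exact hb1
    · rw [omega_conv η.2 ha.1]
      rcases Finset.mem_insert.1 hη with rfl | h
      · rw [hωa, sub_self, mul_zero, zero_mul]; exact memLocalIdeal_zero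
      · exact memLocalIdeal_mul_left (memLocalRing_omega ha η) (hb0 η h hη')

/-- **Osima's theorem.** -/
theorem isRCentral_blockCoeff (hM : IsPModular p M) {B : Set (IrrCharacter G)}
    (hB : IsPBlock M B) : IsRCentral M (blockCoeff B) := by
  obtain ⟨χ₀, rfl⟩ := hB
  obtain ⟨b, hb, h1, h0⟩ := exists_separating (M := M) χ₀
  exact isRCentral_blockCoeff_of_congr hM hb h1 h0

/-- A set of characters with local integral idempotent is a union of blocks. -/
theorem blockOf_subset_of_isRCentral {A : Set (IrrCharacter G)}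
    (hA : IsRCentral M (blockCoeff A)) {χ : IrrCharacter G} (hχ : χ ∈ A) :
    blockOf M (χ : G → ℂ) ⊆ A := by
  classical
  intro ψ hψ
  by_contra hn
  have := omega_congr_of_sameBlock (χ := χ) (ψ := ψ) hψ hA
  rw [omega_blockCoeff, omega_blockCoeff, if_pos hχ, if_neg hn, sub_zero] at this
  exact not_memLocalIdeal_one this

/-! ### Defect classes -/

/-- A class with a unit coefficient in the idempotent and nonzero central character. -/
theorem exists_isDefectClass (hM : IsPModular p M) {B : Set (IrrCharacter G)}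
    (hB : IsPBlock M B) : ∃ g : G, IsDefectClass M B g := by
  classical
  haveI : Finite (ConjClasses G) := Finite.of_surjective _ ConjClasses.mk_surjective
  haveI := Fintype.ofFinite (ConjClasses G)
  obtain ⟨χ, hχ⟩ := IsPBlock.nonempty hB
  have he := isRCentral_blockCoeff hM hB
  by_contra hcon
  simp only [IsDefectClass, not_exists, not_and, not_forall, not_not] at hcon
  have h1 : omega (χ : G → ℂ) (blockCoeff B) = 1 := by rw [omega_blockCoeff, if_pos hχ]
  rw [omega_eq_sum_classes (irr_isClassFunction χ) he.1] at h1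
  refine not_memLocalIdeal_one (M := M) (h1 ▸ memLocalIdeal_sum _ fun C _ => ?_)
  by_cases hc : MemLocalIdeal M (blockCoeff B (Quotient.out C))
  · exact memLocalIdeal_mul_right hc (memLocalRing_centralChar χ _)
  · obtain ⟨ψ, hψB, hψ⟩ := hcon (Quotient.out C) (he.2 _) hc
    refine memLocalIdeal_mul_left (he.2 _) ?_
    exact (memLocalIdeal_iff_of_sub (IsPBlock.sameBlock hB hχ hψB (Quotient.out C))).2 hψ

/-! ### Nilpotence modulo `M` -/

/-- A central function with all central characters in the ideal is nilpotent modulo `M`. -/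
theorem exists_convPow_memLocalIdeal (hM : IsPModular p M) {z : G → ℂ} (hz : IsRCentral M z)
    (h : ∀ η : IrrCharacter G, MemLocalIdeal M (omega (η : G → ℂ) z)) :
    ∃ N : ℕ, ∀ n, N ≤ n → ∀ x, MemLocalIdeal M (convPow z n x) := by
  haveI := Fintype.ofFinite (IrrCharacter G)
  obtain ⟨a, m, hcard, hm⟩ := exists_card_eq (G := G) hM
  choose N hN using fun η => exists_pow_div_p_pow hM (h η) (a + 1)
  refine ⟨Finset.univ.sup N, fun n hn x => ?_⟩
  rw [eq_sum_omega (isRCentral_convPow hz n).1 x, Finset.mul_sum]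
  refine memLocalIdeal_sum _ fun η _ => ?_
  have hp0 : (p : ℂ) ≠ 0 := Nat.cast_ne_zero.2 hM.1.ne_zero
  have key : (Nat.card G : ℂ)⁻¹ * (omega (η : G → ℂ) (convPow z n) * (η : G → ℂ) 1 *
      conj ((η : G → ℂ) x)) = (p : ℂ) * (omega (η : G → ℂ) z ^ n / (p : ℂ) ^ (a + 1) *
      ((m : ℂ)⁻¹ * ((η : G → ℂ) 1 * conj ((η : G → ℂ) x)))) := by
    rw [omega_convPow η.2 hz.1, hcard]
    push_cast
    field_simp
    ring
  rw [key]
  exact memLocalIdeal_of_p_mul hM (memLocalRing_mul
    (hN η n (le_trans (Finset.le_sup (Finset.mem_univ η)) hn))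
    (memLocalRing_mul (memLocalRing_inv_natCast hM hm)
      (memLocalRing_mul (memLocalRing_of_isIntegral' (isIntegral_char η 1))
        (memLocalRing_of_isIntegral' (isIntegral_conj_char η x)))))

end Cfsg.Agent.Lib.Blocks
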