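import Cfsg.Agent.Lib.Blocks.CharCongr
import Cfsg.Agent.Lib.OddChar.GaloisConj
import Cfsg.Agent.Lib.Characters.ExtensionCoprime
import Mathlib.FieldTheory.Galois.Basic

/-!
# `p`-rational characters through coprime powers
-/

set_option autoImplicit false
set_option linter.unusedSectionVars false
set_option linter.style.haveILetI false

namespace Cfsg.Agent.Lib.Blocks.PRational

open Cfsg Cfsg.Agent.Lib.Characters Cfsg.Agent.Lib.BlockHeights Cfsg.Agent.Lib.OddChar

universe u

variable {G : Type u} [Group G] [Finite G]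

/-- The part of the group order prime to `p`. -/
noncomputable def pc (p : ℕ) (G : Type u) [Group G] : ℕ := Nat.card G / p ^ (Nat.card G).factorization p

theorem pow_mul_pc (p : ℕ) : p ^ (Nat.card G).factorization p * pc p G = Nat.card G :=
  Nat.ordProj_mul_ordCompl_eq_self _ _

theorem not_dvd_pc {p : ℕ} (hp : p.Prime) : ¬ p ∣ pc p G :=
  Nat.not_dvd_ordCompl hp Nat.card_pos.ne'

theorem pc_dvd_card (p : ℕ) : pc p G ∣ Nat.card G := ⟨_, (mul_comm _ _).trans (pow_mul_pc p) |>.symm⟩

/-- Invariance under the powers congruent to one modulo the `p'`-part of the order. -/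
def Rat (p : ℕ) (f : G → ℂ) : Prop :=
  ∀ k : ℕ, Nat.Coprime k (Nat.card G) → k ≡ 1 [MOD pc p G] → ∀ g, f (g ^ k) = f g

/-- Invariant characters have their values in the field of `p'`-th roots of unity. -/
theorem mem_adjoin_of_rat (p : ℕ) {χ : G → ℂ} (hχ : IsCharacter G χ) (h : Rat p χ) (g : G) :
    χ g ∈ IntermediateField.adjoin ℚ ({Complex.exp (2 * Real.pi * Complex.I / (pc p G))} : Set ℂ) := by
  haveI : NeZero (Nat.card G) := ⟨Nat.card_pos.ne'⟩
  set K := cycField (Nat.card G)
  haveI := isCyclotomic_cycField (Nat.card G)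
  haveI : FiniteDimensional ℚ K := IsCyclotomicExtension.finiteDimensional {Nat.card G} ℚ _
  haveI : IsGalois ℚ K := IsCyclotomicExtension.isGalois {Nat.card G} ℚ _
  have hm0 : pc p G ≠ 0 := fun h0 => Nat.card_pos.ne' (Nat.eq_zero_of_zero_dvd (h0 ▸ pc_dvd_card p))
  have hzp := Complex.isPrimitiveRoot_exp (pc p G) hm0
  have hzn : Complex.exp (2 * Real.pi * Complex.I / (pc p G)) ^ Nat.card G = 1 := by
    rw [hzp.pow_eq_one_iff_dvd]; exact pc_dvd_card p
  let z : K := ⟨_, mem_cycField_of_pow_eq_one hzn⟩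
  have hx : (⟨χ g, apply_mem_cycField hχ g⟩ : K) ∈ IntermediateField.adjoin ℚ ({z} : Set K) := by
    rw [← IsGalois.fixedField_fixingSubgroup (IntermediateField.adjoin ℚ ({z} : Set K))]
    rintro ⟨σ, hσ⟩
    show σ _ = _
    obtain ⟨k, hk, hσk⟩ := exists_galExp σ
    obtain ⟨ι, hι, μ, hμ, hev⟩ := exists_eigen_sum hχ g
    obtain ⟨c, hc⟩ := orderOf_dvd_natCard g
    have hμn : ∀ i, μ i ^ Nat.card G = 1 := fun i => by rw [hc, pow_mul, hμ i, one_pow]
    let ν : ι → K := fun i => ⟨μ i, mem_cycField_of_pow_eq_one (hμn i)⟩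
    have h1 : (⟨χ g, apply_mem_cycField hχ g⟩ : K) = ∑ i, ν i := by
      refine Subtype.ext ?_
      have := hev 1
      simp only [pow_one] at this
      simpa [ν] using this
    have hk1 : k ≡ 1 [MOD pc p G] := by
      rcases Nat.eq_zero_or_pos k with rfl | hkpos
      · rw [Nat.coprime_zero_left] at hk
        have h5 : pc p G ∣ 1 := hk ▸ pc_dvd_card (G := G) p
        rw [Nat.eq_one_of_dvd_one h5]
        exact Nat.modEq_one
      · have h2 : σ z = z := (IntermediateField.mem_fixingSubgroup_iff _ _).1 hσ z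
          (IntermediateField.mem_adjoin_simple_self ℚ z)
        rw [hσk z hzn] at h2
        have h3 := congrArg (fun y : K => (y : ℂ)) h2
        simp only [SubmonoidClass.coe_pow] at h3
        refine ((Nat.modEq_iff_dvd' hkpos).2 ((hzp.pow_eq_one_iff_dvd _).1 ?_)).symm
        refine mul_right_cancel₀ (hzp.ne_zero hm0) ?_
        rw [one_mul, ← pow_succ, Nat.sub_add_cancel hkpos]
        exact h3
    rw [h1, map_sum]
    refine Subtype.ext ?_
    rw [AddSubmonoidClass.coe_finsetSum, AddSubmonoidClass.coe_finsetSum]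
    have h4 := h k hk hk1 g
    rw [hev k, show χ g = ∑ i, μ i from by simpa using hev 1] at h4
    refine (Finset.sum_congr rfl fun i _ => ?_).trans h4
    rw [hσk (ν i) (hμn i)]
    rfl
  have h2 := (IntermediateField.mem_map (f := K.val) _).2 ⟨_, hx, rfl⟩
  erw [IntermediateField.adjoin_map, Set.image_singleton] at h2
  exact h2

/-- Characters with values in a field of `p'`-th roots of unity are invariant. -/
theorem rat_of_mem_adjoin {p : ℕ} (hp : p.Prime) {f : G → ℂ} (hf : IsCharacter G f) {m : ℕ}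
    (hm : ¬ p ∣ m)
    (hval : ∀ g, f g ∈ IntermediateField.adjoin ℚ ({Complex.exp (2 * Real.pi * Complex.I / m)} : Set ℂ)) :
    Rat p f := by
  intro k hk hk1 g
  set n := Nat.card G with hn
  have hm0 : m ≠ 0 := fun h => hm (h ▸ dvd_zero p)
  have hgcd : n.gcd m ∣ pc p G := by
    refine (Nat.Coprime.dvd_of_dvd_mul_left ?_ ((Nat.gcd_dvd_left n m).trans (pow_mul_pc (G := G) p).symm.dvd))
    exact ((hp.coprime_iff_not_dvd.2 fun h => hm (h.trans (Nat.gcd_dvd_right n m))).pow_left _).symm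
  obtain ⟨k', hk'n, hk'm⟩ := Nat.chineseRemainder' (hk1.of_dvd hgcd : k ≡ 1 [MOD n.gcd m])
  haveI : NeZero (n * m) := ⟨mul_ne_zero Nat.card_pos.ne' hm0⟩
  have hk' : Nat.Coprime k' (n * m) := by
    refine Nat.Coprime.mul_right ?_ ?_
    · unfold Nat.Coprime; rw [Nat.ModEq.gcd_eq hk'n]; exact hk
    · unfold Nat.Coprime; rw [Nat.ModEq.gcd_eq hk'm]; exact Nat.gcd_one_left m
  set K := cycField (n * m) with hK
  obtain ⟨σ, hσ⟩ : ∃ σ : K ≃ₐ[ℚ] K, ∀ z : K, (z : ℂ) ^ (n * m) = 1 → σ z = z ^ k' := exists_galAut hk'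
  set ζ := Complex.exp (2 * Real.pi * Complex.I / m) with hζ
  have hzm : ζ ^ m = 1 := (Complex.isPrimitiveRoot_exp m hm0).pow_eq_one
  have hzN : ζ ^ (n * m) = 1 := by rw [mul_comm, pow_mul, hzm, one_pow]
  let z : K := ⟨ζ, mem_cycField_of_pow_eq_one hzN⟩
  have hσz : σ z = z := by
    rw [hσ z hzN]
    refine Subtype.ext ?_
    show ζ ^ k' = ζ
    conv_rhs => rw [← pow_one ζ]
    exact pow_eq_pow_of_modEq hk'm hzm
  have hfix : ∀ x ∈ IntermediateField.adjoin ℚ ({z} : Set K), σ x = x := by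
    intro x hx
    induction hx using IntermediateField.adjoin_induction with
    | mem y hy => rw [Set.mem_singleton_iff.1 hy]; exact hσz
    | algebraMap q => exact σ.commutes q
    | add a b _ _ ha hb => rw [map_add, ha, hb]
    | inv a _ ha => rw [map_inv₀, ha]
    | mul a b _ _ ha hb => rw [map_mul, ha, hb]
  have h2 : f g ∈ (IntermediateField.adjoin ℚ ({z} : Set K)).map K.val := by
    erw [IntermediateField.adjoin_map, Set.image_singleton]
    exact hval g
  obtain ⟨y, hy, hyf⟩ := (IntermediateField.mem_map (f := K.val) _).1 h2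
  obtain ⟨ι, hι, μ, hμ, hev⟩ := exists_eigen_sum hf g
  obtain ⟨c, hc⟩ := orderOf_dvd_natCard g
  have hμn : ∀ i, μ i ^ n = 1 := fun i => by rw [hn, hc, pow_mul, hμ i, one_pow]
  have hμN : ∀ i, μ i ^ (n * m) = 1 := fun i => by rw [pow_mul, hμn, one_pow]
  let ν : ι → K := fun i => ⟨μ i, mem_cycField_of_pow_eq_one (hμN i)⟩
  have hy' : y = ∑ i, ν i := by
    refine Subtype.ext (hyf.trans ?_)
    have := hev 1
    simp only [pow_one] at this
    simpa [ν] using this
  have h3 := congrArg (fun u : K => (u : ℂ)) (hfix y hy)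
  rw [hy', map_sum] at h3
  simp only [AddSubmonoidClass.coe_finsetSum] at h3
  rw [hev k, show f g = ∑ i, μ i from by simpa using hev 1]
  refine (Finset.sum_congr rfl fun i _ => ?_).trans h3
  rw [hσ (ν i) (hμN i)]
  show μ i ^ k = μ i ^ k'
  exact (pow_eq_pow_of_modEq hk'n (hμn i)).symm

/-- The power map does not change residues. -/
theorem memLocalIdeal_pow_sub {M : Ideal AlgInt} [M.IsPrime] {p : ℕ} (hM : IsPModular p M) {z : ℂ}
    (hz : z ^ Nat.card G = 1) {k : ℕ} (hk : k ≡ 1 [MOD pc p G]) :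
    MemLocalIdeal M (z ^ k - z) := by
  have hzi : IsIntegral ℤ z :=
    IsIntegral.of_pow (Nat.card_pos (α := G)) (by rw [hz]; exact isIntegral_one)
  rcases Nat.eq_zero_or_pos k with rfl | hk0
  · have hp1 : pc p G = 1 := Nat.dvd_one.1 (Nat.modEq_zero_iff_dvd.1 hk.symm)
    have h1 := memLocalIdeal_root_sub_one hM (k := (Nat.card G).factorization p) (z := z) (by
      conv_lhs => rw [← mul_one (p ^ _), ← hp1, pow_mul_pc]
      exact hz)
    rw [pow_zero, ← neg_sub]
    exact memLocalIdeal_neg h1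
  · obtain ⟨c, hc⟩ := (Nat.modEq_iff_dvd' hk0).1 hk.symm
    have h1 := memLocalIdeal_root_sub_one hM (k := (Nat.card G).factorization p) (z := z ^ (k - 1)) (by
      rw [← pow_mul, hc, show pc p G * c * p ^ (Nat.card G).factorization p =
        p ^ (Nat.card G).factorization p * pc p G * c by ring, pow_mul_pc, pow_mul, hz, one_pow])
    have h2 := memLocalIdeal_mul_left (memLocalRing_of_isIntegral' hzi) h1
    rwa [mul_sub, mul_one, ← pow_succ', Nat.sub_add_cancel hk0] at h2

/-- Character values at coprime powers congruent to one modulo the `p'`-part. -/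
theorem memLocalIdeal_char_pow_sub {M : Ideal AlgInt} [M.IsPrime] {p : ℕ} (hM : IsPModular p M)
    {χ : G → ℂ} (hχ : IsCharacter G χ) {k : ℕ} (hk : k ≡ 1 [MOD pc p G]) (g : G) :
    MemLocalIdeal M (χ (g ^ k) - χ g) := by
  obtain ⟨ι, hι, μ, hμ, hev⟩ := exists_eigen_sum hχ g
  obtain ⟨c, hc⟩ := orderOf_dvd_natCard g
  rw [hev k, show χ g = ∑ i, μ i from by simpa using hev 1, ← Finset.sum_sub_distrib]
  exact memLocalIdeal_sum _ fun i _ =>
    memLocalIdeal_pow_sub hM (by rw [hc, pow_mul, hμ i, one_pow]) hk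

/-- A root of unity congruent to one has `p`-power order. -/
theorem pow_eq_one_of_congr {M : Ideal AlgInt} [M.IsPrime] {p : ℕ} (hM : IsPModular p M) {z : ℂ}
    (hz : z ^ Nat.card G = 1) (h1 : MemLocalIdeal M (z - 1)) :
    z ^ p ^ (Nat.card G).factorization p = 1 := by
  have hzi : IsIntegral ℤ z :=
    IsIntegral.of_pow (Nat.card_pos (α := G)) (by rw [hz]; exact isIntegral_one)
  set w := z ^ p ^ (Nat.card G).factorization p with hw
  have hwR : MemLocalRing M w := memLocalRing_of_isIntegral' (hzi.pow _)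
  have hwm : w ^ pc p G = 1 := by rw [hw, ← pow_mul, pow_mul_pc, hz]
  have hw1 : MemLocalIdeal M (w - 1) := by
    rw [hw, ← mul_geom_sum z]
    exact memLocalIdeal_mul_right h1
      (memLocalRing_of_isIntegral' (IsIntegral.sum _ fun i _ => hzi.pow i))
  by_contra hne
  have hgeo : ∑ i ∈ Finset.range (pc p G), w ^ i = 0 := by
    have := mul_geom_sum w (pc p G)
    rw [hwm, sub_self] at this
    exact (mul_eq_zero.1 this).resolve_left (sub_ne_zero.2 hne)
  have h2 : MemLocalIdeal M ((pc p G : ℂ)) := by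
    have h3 : ((pc p G : ℂ)) = - ∑ i ∈ Finset.range (pc p G), (w ^ i - 1) := by
      rw [Finset.sum_sub_distrib, hgeo]
      simp
    rw [h3]
    refine memLocalIdeal_neg (memLocalIdeal_sum _ fun i _ => ?_)
    rw [← geom_sum_mul w i]
    exact memLocalIdeal_mul_left
      (memLocalRing_of_isIntegral' (IsIntegral.sum _ fun j _ => (hzi.pow _).pow j)) hw1
  exact not_dvd_pc (G := G) hM.1 ((memLocalIdeal_natCast_iff hM _).1 h2)

/-- Pointwise congruent characters of degree prime to `p` lie in one block. -/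
theorem sameBlock_of_congr {M : Ideal AlgInt} [M.IsPrime] {p : ℕ} (hM : IsPModular p M)
    {χ χ' : G → ℂ} {d : ℕ} (hd : ¬ p ∣ d) (h : χ 1 = d) (h' : χ' 1 = d)
    (hc : ∀ g, MemLocalIdeal M (χ g - χ' g)) : SameBlock M χ χ' := by
  intro g
  rw [centralChar, centralChar, h, h', ← sub_div, ← mul_sub, div_eq_mul_inv]
  exact memLocalIdeal_mul_right (memLocalIdeal_mul_left (memLocalRing_natCast _) (hc g))
    (memLocalRing_inv_natCast hM hd)

/-- Extension when the index is prime to the degree and to the determinantal order. -/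
theorem exists_extension_coprime (N : Subgroup G) [hN : N.Normal] {θ : N → ℂ} (hθ : IsIrrCharacter N θ)
    (hinv : ∀ (g : G) (n : N), θ ⟨g * n * g⁻¹, hN.conj_mem (n : G) n.2 g⟩ = θ n)
    {d : ℕ} (hd : θ 1 = d) (hcop : Nat.Coprime N.index d)
    (hcop' : Nat.Coprime N.index (detOrder θ)) :
    ∃ χ : G → ℂ, IsIrrCharacter G χ ∧ ∀ n : N, χ n = θ n := by
  have hθc := IsIrrCharacter.isCharacter hθ
  have hinvd : ∀ (g : G) (n : N), detChar θ ⟨g * n * g⁻¹, hN.conj_mem (n : G) n.2 g⟩ = detChar θ n := by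
    intro g n
    have he : θ ∘ (MulAut.conjNormal g : N ≃* N).toMonoidHom = θ :=
      funext fun x => conjNormal_invariant hinv g x
    have h1 := congrFun (detChar_comp (MulAut.conjNormal g : N ≃* N).toMonoidHom hθc) n
    rw [he] at h1
    rw [h1]
    exact congrArg (detChar θ) (Subtype.ext (MulAut.conjNormal_apply g n).symm)
  obtain ⟨μ, ⟨hμ, hμ1, hμN, -⟩, -⟩ :=
    exists_linear_extension_coprime (isCharacter_detChar hθc).1 (isCharacter_detChar hθc).2 hinvd hcop'
  exact exists_irr_extension_of_det hθ hinv hd hcop hμ hμ1 hμN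

end Cfsg.Agent.Lib.Blocks.PRational
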