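import Cfsg.Agent.Lib.Blocks.PrimeOrderCorner
import Mathlib.GroupTheory.SpecificGroups.Cyclic
import Mathlib.LinearAlgebra.Trace
import Mathlib.LinearAlgebra.Matrix.Rank
import Mathlib.RingTheory.ZMod.UnitsCyclic

/-!
# A bound for the sums of an irreducible character over the sections of a subgroup of order `p`
-/

set_option autoImplicit false
set_option linter.unusedSectionVars false
set_option linter.unusedVariables false

namespace Cfsg.Agent.Lib.Blocks

open Cfsg Matrix Module

universe u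

variable {G : Type u} [Group G] {M : Ideal AlgInt} [hMp : M.IsPrime] {p : ℕ} [hp : Fact p.Prime]

theorem exists_pow_eq_mem {P : Subgroup G} (hP : Nat.card P = p) {u : G} (hu : u ∈ P) (hu1 : u ≠ 1)
    {x : G} (hx : x ∈ P) : ∃ j : ℕ, u ^ j = x := by
  haveI : Finite P := Nat.finite_of_card_ne_zero (by rw [hP]; exact hp.out.ne_zero)
  classical
  have h := mem_zpowers_of_prime_card hP (g := (⟨u, hu⟩ : P)) (g' := ⟨x, hx⟩)
    (fun h => hu1 (congrArg Subtype.val h))
  rw [mem_zpowers_iff_mem_range_orderOf] at h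
  obtain ⟨j, -, hj⟩ := Finset.mem_image.1 h
  exact ⟨j, congrArg Subtype.val hj⟩

theorem orderOf_of_mem_prime {P : Subgroup G} (hP : Nat.card P = p) {u : G} (hu : u ∈ P)
    (hu1 : u ≠ 1) : orderOf u = p := by
  rcases (Nat.dvd_prime hp.out).1 (hP ▸ Subgroup.orderOf_dvd_natCard P hu) with h | h
  · exact absurd (orderOf_eq_one_iff.1 h) hu1
  · exact h

/-- A subgroup of order `p = |G|_p` has trivial intersection with its conjugates. -/
theorem mem_normalizer_of_conj_mem [Finite G] (P : Subgroup G) (hP : Nat.card P = p)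
    (hsq : ¬ p ^ 2 ∣ Nat.card G) {u : G} (hu : u ∈ P) (hu1 : u ≠ 1) {g : G}
    (hg : g⁻¹ * u * g ∈ Subgroup.normalizer (P : Set G)) :
    g ∈ Subgroup.normalizer (P : Set G) := by
  -- `P` is the only subgroup of order `p` in its normalizer
  have hmem : g⁻¹ * u * g ∈ P := by
    by_contra hnot
    set a := g⁻¹ * u * g with hadef
    have hao : orderOf a = p := by
      rw [hadef, show g⁻¹ * u * g = MulAut.conj g⁻¹ u by simp, MulEquiv.orderOf_eq, orderOf_of_mem_prime hP hu hu1]
    have hfac : (Nat.card G).factorization p = 1 := by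
      refine le_antisymm ?_ ?_
      · by_contra hlt
        exact hsq ((pow_dvd_pow p (by omega : 2 ≤ (Nat.card G).factorization p)).trans
          (Nat.ordProj_dvd _ _))
      · exact hp.out.factorization_pos_of_dvd Nat.card_pos.ne'
          (hP ▸ Subgroup.card_subgroup_dvd_card P)
    let Q : Sylow p G := Sylow.ofCard P (by rw [hP, hfac, pow_one])
    have hQ : (Q : Subgroup G) = P := rfl
    have hpg : IsPGroup p (Subgroup.zpowers a) := IsPGroup.of_card (n := 1) (by
      rw [Nat.card_zpowers, hao, pow_one])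
    have h := IsPGroup.inf_normalizer_sylow hpg Q
    have h2 : a ∈ Subgroup.zpowers a ⊓ Subgroup.normalizer ((Q : Subgroup G) : Set G) :=
      ⟨Subgroup.mem_zpowers a, hg⟩
    exact hnot ((h ▸ h2 : a ∈ Subgroup.zpowers a ⊓ (Q : Subgroup G)).2)
  rw [Subgroup.mem_normalizer_iff]
  intro x
  have hconj : ∀ x ∈ P, g⁻¹ * x * g ∈ P := by
    intro x hx
    obtain ⟨j, rfl⟩ := exists_pow_eq_mem hP hu hu1 hx
    rw [show g⁻¹ * u ^ j * g = (g⁻¹ * u * g) ^ j by
      simpa using (conj_pow (a := g⁻¹) (b := u) (i := j)).symm]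
    exact P.pow_mem hmem j
  constructor
  · intro hx
    obtain ⟨j, hj⟩ := exists_pow_eq_mem hP hmem (fun h => hu1 (by
      have h' := congrArg (fun z => g * z * g⁻¹) h
      simpa [mul_assoc] using h')) hx
    rw [← hj, show g * (g⁻¹ * u * g) ^ j * g⁻¹ = u ^ j by
      rw [← conj_pow]; congr 1; group]
    exact P.pow_mem hu j
  · intro hx
    have := hconj _ hx
    simpa [mul_assoc] using this

/-- An element of `p'`-order generating the normalizer modulo the centralizer. -/
theorem exists_normalizer_generator [Finite G] (P : Subgroup G) (hP : Nat.card P = p)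
    (hsq : ¬ p ^ 2 ∣ Nat.card G) {u : G} (hu : u ∈ P) (hu1 : u ≠ 1) :
    ∃ (t : G) (r : ℕ), t ∈ Subgroup.normalizer (P : Set G) ∧ ¬ p ∣ orderOf t ∧
      t * u * t⁻¹ = u ^ r ∧
      IsPrimitiveRoot (r : ZMod p)
        ((Subgroup.centralizer (P : Set G)).relIndex (Subgroup.normalizer (P : Set G))) ∧
      t ^ ((Subgroup.centralizer (P : Set G)).relIndex (Subgroup.normalizer (P : Set G))) ∈
        Subgroup.centralizer (P : Set G) ∧
      ∀ g ∈ Subgroup.normalizer (P : Set G), ∃ i : ℕ, (t ^ i)⁻¹ * g ∈ Subgroup.centralizer (P : Set G) := by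
  classical
  have hpr := hp.out
  haveI hcycP : IsCyclic P := isCyclic_of_prime_card hP
  set N := Subgroup.normalizer (P : Set G) with hN
  set C := Subgroup.centralizer (P : Set G) with hC
  let f := P.normalizerMonoidHom
  have hker : ∀ g : N, g ∈ f.ker ↔ (g : G) ∈ C := fun g => by
    show g ∈ P.normalizerMonoidHom.ker ↔ _
    rw [Subgroup.normalizerMonoidHom_ker, Subgroup.mem_subgroupOf]
  haveI : IsCyclic (MulAut P) := by
    have h : IsCyclic (ZMod (Nat.card P))ˣ := by
      rw [hP]; exact ZMod.isCyclic_units_prime hpr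
    exact (MulEquiv.isCyclic (IsCyclic.mulAutMulEquiv P)).2 h
  obtain ⟨⟨_, g₀, rfl⟩, hgen⟩ := IsCyclic.exists_generator (α := f.range)
  have hcard : Nat.card f.range = C.relIndex N := by
    rw [← Subgroup.index_ker, Subgroup.relIndex]
    congr 1
    ext g
    rw [hker]; rfl
  have hcop : Nat.Coprime (orderOf (f g₀)) p := by
    refine Nat.Coprime.coprime_dvd_left (orderOf_dvd_natCard (f g₀)) ?_
    rw [IsCyclic.card_mulAut, hP, Nat.totient_prime hpr, Nat.coprime_comm,
      hpr.coprime_iff_not_dvd]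
    exact Nat.not_dvd_of_pos_of_lt (by have := hpr.two_le; omega) (by have := hpr.pos; omega)
  obtain ⟨m, hm⟩ := exists_pow_eq_self_of_coprime (n := p) hcop.symm
  set t : N := g₀ ^ p with htdef
  have htgen : ∀ g : N, ∃ i : ℕ, f (t ^ i) = f g := by
    intro g
    obtain ⟨i, hi⟩ := (mem_powers_iff_mem_zpowers (x := (⟨f g₀, g₀, rfl⟩ : f.range))).2
      (hgen ⟨f g, g, rfl⟩)
    refine ⟨m * i, ?_⟩
    have hi' : (f g₀) ^ i = f g := congrArg Subtype.val hi
    rw [map_pow, htdef, map_pow, pow_mul, hm, hi']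
  have hord : orderOf (f t) = C.relIndex N := by
    rw [← hcard, ← Nat.card_zpowers]
    refine congrArg (fun H : Subgroup (MulAut P) => Nat.card H) (le_antisymm ?_ ?_)
    · exact Subgroup.zpowers_le.2 ⟨t, rfl⟩
    · rintro _ ⟨g, rfl⟩
      obtain ⟨i, hi⟩ := htgen g
      exact ⟨i, by beta_reduce; rw [zpow_natCast, ← map_pow, hi]⟩
  have hut : (t : G) * u * (t : G)⁻¹ ∈ P := ((Subgroup.mem_normalizer_iff.1 t.2) u).1 hu
  obtain ⟨r, hr⟩ := exists_pow_eq_mem hP hu hu1 hut
  have hiter : ∀ i : ℕ, ((t ^ i : N) : G) * u * ((t ^ i : N) : G)⁻¹ = u ^ (r ^ i) := by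
    intro i
    induction i with
    | zero => simp
    | succ i ih =>
      rw [pow_succ' t, pow_succ r, pow_mul, Subgroup.coe_mul, _root_.mul_inv_rev,
        show (t : G) * ((t ^ i : N) : G) * u * (((t ^ i : N) : G)⁻¹ * (t : G)⁻¹) =
          (t : G) * (((t ^ i : N) : G) * u * ((t ^ i : N) : G)⁻¹) * (t : G)⁻¹ by group, ih,
        ← conj_pow, ← hr, ← pow_mul, mul_comm, pow_mul]
  have hordu : orderOf u = p := orderOf_of_mem_prime hP hu hu1
  have hzero : ∀ i : ℕ, (r : ZMod p) ^ i = 1 ↔ f (t ^ i) = 1 := by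
    intro i
    rw [← MonoidHom.mem_ker, hker, Subgroup.mem_centralizer_iff]
    have h0 : (r : ZMod p) ^ i = 1 ↔ u ^ (r ^ i) = u := by
      conv_rhs => rhs; rw [← pow_one u]
      rw [pow_eq_pow_iff_modEq, hordu, ← ZMod.natCast_eq_natCast_iff]
      simp
    rw [h0, ← hiter i]
    constructor
    · intro h x hx
      obtain ⟨j, rfl⟩ := exists_pow_eq_mem hP hu hu1 hx
      exact ((show Commute ((t ^ i : N) : G) u from mul_inv_eq_iff_eq_mul.1 h).pow_right j).eq.symm
    · intro h
      rw [← h u hu]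
      group
  refine ⟨(t : G), r, t.2, ?_, hr.symm, ?_, ?_, ?_⟩
  · intro hd
    rw [Subgroup.orderOf_coe, htdef] at hd
    have hdvd : p ∣ orderOf g₀ := hd.trans (orderOf_pow_dvd p)
    rw [orderOf_pow_of_dvd hpr.ne_zero hdvd] at hd
    refine hsq ((?_ : p ^ 2 ∣ orderOf g₀).trans ?_)
    · have := Nat.mul_dvd_mul_left p hd
      rwa [Nat.mul_div_cancel' hdvd, ← pow_two] at this
    · rw [← Subgroup.orderOf_coe]; exact orderOf_dvd_natCard _
  · refine ⟨(hzero _).2 ?_, fun l hl => ?_⟩
    · rw [← hord, map_pow, pow_orderOf_eq_one]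
    · rw [← hord]
      refine orderOf_dvd_of_pow_eq_one ?_
      rw [← map_pow]; exact (hzero l).1 hl
  · rw [← Subgroup.coe_pow, ← hker, MonoidHom.mem_ker, map_pow, ← hord, pow_orderOf_eq_one]
  · intro g hg
    obtain ⟨i, hi⟩ := htgen ⟨g, hg⟩
    refine ⟨i, ?_⟩
    have h : (t ^ i)⁻¹ * (⟨g, hg⟩ : N) ∈ f.ker := by
      rw [MonoidHom.mem_ker, map_mul, map_inv, hi, inv_mul_cancel]
    simpa using (hker _).1 h

/-- Reduction does not increase the rank. -/
theorem rank_red_le {n : ℕ} (A : Matrix (Fin n) (Fin n) (locSubring M)) :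
    (A.map (red M)).rank ≤ (A.map (locSubring M).subtype).rank := by
  classical
  let k := ResField M
  set Ab := A.map (red M) with hAb
  set r := Ab.rank with hr
  set S := LinearMap.range (Matrix.mulVecLin Ab) with hS
  let b : Module.Basis (Fin r) k S := Module.finBasisOfFinrankEq k S rfl
  obtain ⟨q, hq⟩ := (S.subtype).exists_leftInverse_of_injective S.ker_subtype
  choose w hw using fun i : Fin r => (b i).2
  let L : Matrix (Fin r) (Fin n) k := LinearMap.toMatrix' (b.equivFun.toLinearMap ∘ₗ q)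
  let R : Matrix (Fin n) (Fin r) k := Matrix.of fun a i => w i a
  have h1 : L * Ab * R = 1 := by
    apply Matrix.ext_of_mulVec_single
    intro i
    rw [← Matrix.mulVec_mulVec, Matrix.one_mulVec, Matrix.mulVec_single_one, ← Matrix.mulVec_mulVec]
    have e1 : Ab *ᵥ (R.col i) = (b i : Fin n → k) := hw i
    rw [e1]
    show L *ᵥ (b i : Fin n → k) = _
    rw [show L *ᵥ (b i : Fin n → k) = (b.equivFun.toLinearMap ∘ₗ q) (b i : Fin n → k) from by
      rw [← Matrix.toLin'_apply, Matrix.toLin'_toMatrix']]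
    have e2 : q (b i : Fin n → k) = b i := LinearMap.congr_fun hq (b i)
    rw [LinearMap.comp_apply, e2]
    funext j
    simp [Finsupp.single_apply, Pi.single_apply, eq_comm]
  choose L' hL' using fun i j => red_surjective (M := M) (L i j)
  choose R' hR' using fun i j => red_surjective (M := M) (R i j)
  let T : Matrix (Fin r) (Fin r) (locSubring M) := Matrix.of L' * A * Matrix.of R'
  have hTred : T.map (red M) = 1 := by
    rw [Matrix.map_mul, Matrix.map_mul, ← h1]
    congr 1
    · congr 1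
      ext i j; exact hL' i j
    · ext i j; exact hR' i j
  have hdet : ((locSubring M).subtype T.det) ≠ 0 := by
    intro h
    have h0 : T.det = 0 := Subtype.ext h
    have h2 := RingHom.map_det (red M) T
    rw [RingHom.mapMatrix_apply, hTred, Matrix.det_one, h0, map_zero] at h2
    exact zero_ne_one h2
  have hT : (T.map (locSubring M).subtype).rank = r := by
    rw [Matrix.rank_of_isUnit _ ((Matrix.isUnit_iff_isUnit_det _).2
      (isUnit_iff_ne_zero.2 (by rw [← RingHom.mapMatrix_apply, ← RingHom.map_det]; exact hdet))),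
      Fintype.card_fin]
  rw [Matrix.map_mul, Matrix.map_mul] at hT
  calc r = _ := hT.symm
    _ ≤ ((Matrix.of L').map (locSubring M).subtype * A.map (locSubring M).subtype).rank :=
      Matrix.rank_mul_le_left _ _
    _ ≤ _ := Matrix.rank_mul_le_right _ _

theorem rank_eq_trace_of_idempotent {n : ℕ} {E : Matrix (Fin n) (Fin n) ℂ} (hE : E * E = E) :
    (E.rank : ℂ) = E.trace := by
  rw [← Matrix.trace_toLin'_eq]
  have h : LinearMap.IsProj (LinearMap.range (Matrix.toLin' E)) (Matrix.toLin' E) := by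
    refine ⟨fun x => ⟨x, rfl⟩, ?_⟩
    rintro _ ⟨y, rfl⟩
    rw [← LinearMap.comp_apply, ← Matrix.toLin'_mul, hE]
  rw [h.trace]
  rfl

/-- **The section bound.** -/
theorem section_sum_bound [Fintype G] (hM : IsPModular p M) (P : Subgroup G) (hP : Nat.card P = p)
    (hsq : ¬ p ^ 2 ∣ Nat.card G) {u : G} (hu : u ∈ P) (hu1 : u ≠ 1)
    (O : Subgroup G) [Fintype O] (hOC : O ≤ Subgroup.centralizer (P : Set G))
    (hO : ¬ p ∣ Nat.card O)
    (hOreg : ∀ c ∈ Subgroup.centralizer (P : Set G), ¬ p ∣ orderOf c → c ∈ O)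
    (hdec : ∀ c ∈ Subgroup.centralizer (P : Set G), ∃ j : ℕ, ∃ y ∈ O, c = u ^ j * y)
    (hON : ∀ g ∈ Subgroup.normalizer (P : Set G), ∀ y ∈ O, g * y * g⁻¹ ∈ O)
    (χ : IrrCharacter G) :
    ∃ S : ℤ, ∑ j ∈ Finset.Ico 1 p, ∑ y : O, (χ : G → ℂ) (u ^ j * (y : G)) = (Nat.card O : ℂ) * S ∧
      -((p : ℤ) - 1) ≤ S ∧ S ≤ p := by
  classical
  haveI := resField_charP (M := M) hM
  obtain ⟨n, σ, hσχ, hloc⟩ := exists_localEnd_model hM χ.2
  set N := Subgroup.normalizer (P : Set G) with hN
  set C := Subgroup.centralizer (P : Set G) with hC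
  let ι := (locSubring M).subtype
  have hordu : orderOf u = p := orderOf_of_mem_prime hP hu hu1
  have hup : u ^ p = 1 := hordu ▸ pow_orderOf_eq_one u
  have huC : u ∈ C := Subgroup.mem_centralizer_iff.2 fun x hx => by
    obtain ⟨j, rfl⟩ := exists_pow_eq_mem hP hu hu1 hx
    exact ((Commute.refl u).pow_left j).eq
  have huy : ∀ y ∈ O, Commute u y := fun y hy => Subgroup.mem_centralizer_iff.1 (hOC hy) u hu
  -- the averaging idempotent over `O`
  let cO : locSubring M := ⟨(Nat.card O : ℂ)⁻¹, memLocalRing_inv_natCast hM hO⟩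
  let E : Matrix (Fin n) (Fin n) (locSubring M) := cO • ∑ y : O, σ (y : G)
  have hcO : cO * (Nat.card O : locSubring M) = 1 := Subtype.ext (by
    show (Nat.card O : ℂ)⁻¹ * ((Nat.card O : locSubring M) : ℂ) = 1
    rw [SubringClass.coe_natCast]
    exact inv_mul_cancel₀ (Nat.cast_ne_zero.2 Nat.card_pos.ne'))
  have hEy : ∀ y : O, σ (y : G) * E = E := by
    intro y
    simp only [E, mul_smul_comm, Finset.mul_sum]
    refine congrArg _ (Fintype.sum_equiv (Equiv.mulLeft y) _ _ fun z => ?_)
    rw [← map_mul]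
    rfl
  have hyE : ∀ y : O, E * σ (y : G) = E := by
    intro y
    simp only [E, smul_mul_assoc, Finset.sum_mul]
    refine congrArg _ (Fintype.sum_equiv (Equiv.mulRight y) _ _ fun z => ?_)
    rw [← map_mul]
    rfl
  have hEE : E * E = E := by
    conv_lhs => lhs; simp only [E]
    rw [smul_mul_assoc, Finset.sum_mul, Finset.sum_congr rfl fun y _ => hEy y, Finset.sum_const,
      Finset.card_univ, ← Nat.card_eq_fintype_card, ← Nat.cast_smul_eq_nsmul (locSubring M),
      smul_smul, hcO, one_smul]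
  have hEN : ∀ g ∈ N, E * σ g = σ g * E := by
    intro g hg
    simp only [E, smul_mul_assoc, mul_smul_comm, Finset.sum_mul, Finset.mul_sum]
    refine congrArg _ ?_
    refine Fintype.sum_equiv
      { toFun := fun z : O => (⟨g⁻¹ * z * g, by
          simpa using hON g⁻¹ (N.inv_mem hg) z z.2⟩ : O)
        invFun := fun z : O => (⟨g * z * g⁻¹, hON g hg z z.2⟩ : O)
        left_inv := fun z => Subtype.ext (by simp [mul_assoc])
        right_inv := fun z => Subtype.ext (by simp [mul_assoc]) } _ _ fun z => ?_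
    rw [← map_mul, ← map_mul]
    simp [mul_assoc]
  have hPle : P ≤ N := Subgroup.le_normalizer
  have hEu : E * σ u = σ u * E := hEN u (hPle hu)
  -- complex matrices
  let A1 : Matrix (Fin n) (Fin n) (locSubring M) := (∑ j ∈ Finset.range p, σ (u ^ j)) * E
  let E0 : Matrix (Fin n) (Fin n) ℂ := E.map ι
  let Q : Matrix (Fin n) (Fin n) ℂ := (p : ℂ)⁻¹ • A1.map ι
  have hp0 : (p : ℂ) ≠ 0 := Nat.cast_ne_zero.2 hp.out.ne_zero
  have hE0 : E0 * E0 = E0 := by
    show E.map ι * E.map ι = E.map ι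
    rw [← Matrix.map_mul, hEE]
  have huA : σ u * A1 = A1 := by
    simp only [A1, ← mul_assoc, Finset.mul_sum]
    congr 1
    calc ∑ j ∈ Finset.range p, σ u * σ (u ^ j) = ∑ j ∈ Finset.range p, σ (u ^ (j + 1)) :=
          Finset.sum_congr rfl fun j _ => by rw [← map_mul, ← pow_succ']
      _ = _ := by
          apply add_right_cancel (b := σ (u ^ 0))
          rw [← Finset.sum_range_succ' (fun j => σ (u ^ j)), Finset.sum_range_succ, hup, pow_zero]
  have huA' : ∀ j : ℕ, σ (u ^ j) * A1 = A1 := by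
    intro j
    induction j with
    | zero => rw [pow_zero, map_one, one_mul]
    | succ j ih => rw [pow_succ, map_mul, mul_assoc, huA, ih]
  have hEA : E * A1 = A1 := by
    simp only [A1]
    rw [← mul_assoc, Finset.mul_sum, Finset.sum_congr rfl fun j _ =>
      hEN (u ^ j) (N.pow_mem (hPle hu) j), ← Finset.sum_mul, mul_assoc, hEE]
  have hAA : A1 * A1 = (p : locSubring M) • A1 := by
    conv_lhs => lhs; simp only [A1]
    rw [mul_assoc, hEA, Finset.sum_mul, Finset.sum_congr rfl fun j _ => huA' j, Finset.sum_const,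
      Finset.card_range, Nat.cast_smul_eq_nsmul]
  have hQ : Q * Q = Q := by
    simp only [Q, smul_mul_assoc, mul_smul_comm, ← Matrix.map_mul, hAA, smul_smul]
    ext a b
    simp [ι, mul_assoc, hp0]
  set m0 := Q.rank with hm0
  set w := E0.rank with hw
  have hA1rank : (A1.map ι).rank = m0 := by
    have h : A1.map ι = (p : ℂ) • Q := by
      simp only [Q, smul_smul, mul_inv_cancel₀ hp0, one_smul]
    rw [h, hm0]
    refine le_antisymm ?_ ?_
    · calc ((p : ℂ) • Q).rank = (((p : ℂ) • (1 : Matrix (Fin n) (Fin n) ℂ)) * Q).rank := by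
            rw [smul_mul_assoc, one_mul]
        _ ≤ Q.rank := Matrix.rank_mul_le_right _ _
    · calc Q.rank = (((p : ℂ)⁻¹ • (1 : Matrix (Fin n) (Fin n) ℂ)) * ((p : ℂ) • Q)).rank := by
            rw [smul_mul_assoc, one_mul, smul_smul, inv_mul_cancel₀ hp0, one_smul]
        _ ≤ _ := Matrix.rank_mul_le_right _ _
  -- the trace identity
  have htr : ∑ j ∈ Finset.Ico 1 p, ∑ y : O, (χ : G → ℂ) (u ^ j * (y : G)) =
      (Nat.card O : ℂ) * (((p * m0 : ℕ) : ℤ) - (w : ℤ) : ℤ) := by
    have hO0 : (Nat.card O : ℂ) ≠ 0 := Nat.cast_ne_zero.2 Nat.card_pos.ne'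
    have hj : ∀ j : ℕ, ((σ (u ^ j) * E).map ι).trace =
        (Nat.card O : ℂ)⁻¹ * ∑ y : O, (χ : G → ℂ) (u ^ j * (y : G)) := by
      intro j
      simp only [E, mul_smul_comm, Finset.mul_sum, ← map_mul]
      simp only [Matrix.trace, Matrix.diag, Matrix.map_apply, Matrix.smul_apply, Matrix.sum_apply,
        smul_eq_mul, map_mul, map_sum, Finset.mul_sum, ← hσχ]
      rw [Finset.sum_comm]
      rfl
    have h1 : (p : ℂ) * (m0 : ℂ) =
        ∑ j ∈ Finset.range p, (Nat.card O : ℂ)⁻¹ * ∑ y : O, (χ : G → ℂ) (u ^ j * (y : G)) := by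
      rw [hm0, rank_eq_trace_of_idempotent hQ]
      simp only [Q, Matrix.trace_smul, smul_eq_mul, ← mul_assoc, mul_inv_cancel₀ hp0, one_mul]
      rw [← Finset.sum_congr rfl fun j _ => hj j, ← Matrix.trace_sum]
      congr 1
      simp only [A1, Finset.sum_mul]
      ext a b
      simp [Matrix.sum_apply, ← Matrix.map_mul]
    have h2 : (w : ℂ) = (Nat.card O : ℂ)⁻¹ * ∑ y : O, (χ : G → ℂ) (u ^ 0 * (y : G)) := by
      rw [hw, rank_eq_trace_of_idempotent hE0, ← hj 0, pow_zero, map_one, one_mul]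
    push_cast
    rw [h1, h2, Finset.range_eq_Ico, Finset.sum_eq_sum_Ico_succ_bot hp.out.pos, zero_add,
      add_sub_cancel_left, ← Finset.mul_sum, ← mul_assoc, mul_inv_cancel₀ hO0, one_mul]
  refine ⟨_, htr, ?_⟩
  -- the modular side
  obtain ⟨t, r, htN, htreg, htu, hprim, hteC, hNgen⟩ := exists_normalizer_generator P hP hsq hu hu1
  set e := C.relIndex N with he
  let k := ResField M
  let ρ := redModel σ
  let πk : Module.End k (Fin n → k) := Matrix.toLinAlgEquiv' (E.map (red M))
  have hπred : ∀ (A B : Matrix (Fin n) (Fin n) (locSubring M)), A = B →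
      Matrix.toLinAlgEquiv' (A.map (red M)) = Matrix.toLinAlgEquiv' (B.map (red M)) :=
    fun A B h => by rw [h]
  have hπy : ∀ y : O, ρ (y : G) * πk = πk ∧ πk * ρ (y : G) = πk := fun y => by
    constructor
    · show Matrix.toLinAlgEquiv' ((σ (y : G)).map (red M)) * Matrix.toLinAlgEquiv' _ = _
      rw [← map_mul, ← Matrix.map_mul, hEy]
    · show Matrix.toLinAlgEquiv' _ * Matrix.toLinAlgEquiv' ((σ (y : G)).map (red M)) = _
      rw [← map_mul, ← Matrix.map_mul, hyE]
  have hππ : πk * πk = πk := by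
    show Matrix.toLinAlgEquiv' _ * Matrix.toLinAlgEquiv' _ = _
    rw [← map_mul, ← Matrix.map_mul, hEE]
  have hπN : ∀ g ∈ N, Commute πk (ρ g) := fun g hg => by
    show Matrix.toLinAlgEquiv' _ * Matrix.toLinAlgEquiv' ((σ g).map (red M)) =
      Matrix.toLinAlgEquiv' ((σ g).map (red M)) * Matrix.toLinAlgEquiv' _
    rw [← map_mul, ← map_mul, ← Matrix.map_mul, ← Matrix.map_mul, hEN g hg]
  have hρu : ρ u ^ p = 1 := by rw [← map_pow, hup, map_one]
  have hr1 : IsPrimitiveRoot (r : k) e := by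
    have h := hprim.map_of_injective (f := ZMod.castHom (dvd_refl p) k) (RingHom.injective _)
    simpa using h
  have hte : t ^ e ∈ O := hOreg _ hteC fun h => htreg (h.trans (orderOf_pow_dvd e))
  have heNZ : (e : k) ≠ 0 := by
    rw [Ne, CharP.cast_eq_zero_iff k p]
    have h1 : e ∣ p - 1 := by
      refine (hprim.dvd_of_pow_eq_one _ (ZMod.pow_card_sub_one_eq_one ?_))
      intro h0
      have h2 := hprim.pow_eq_one
      rw [h0, zero_pow (show e ≠ 0 from Subgroup.index_ne_zero_of_finite (H := C.subgroupOf N))] at h2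
      exact zero_ne_one h2
    intro hd
    have := Nat.le_of_dvd (by have := hp.out.two_le; omega) (hd.trans h1)
    have := hp.out.two_le
    omega
  have huz : u ∈ N := hPle hu
  have hfree : ∀ g : G, g⁻¹ * u * g ∈ N → g ∈ N := fun g hg =>
    mem_normalizer_of_conj_mem P hP hsq hu hu1 hg
  have hπe : ρ t ^ e * πk = πk := by
    rw [← map_pow]; exact (hπy ⟨_, hte⟩).1
  have hgen2 : ∀ φ : Module.End k (Fin n → k), φ * πk = φ → πk * φ = φ → Commute φ (ρ u) →
      Commute φ (ρ t) → ∀ g ∈ N, Commute φ (ρ g) := by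
    intro φ h1 h2 h3 h4 g hg
    obtain ⟨i, hi⟩ := hNgen g hg
    obtain ⟨j, y, hy, hjy⟩ := hdec _ hi
    have hgeq : g = t ^ i * (u ^ j * y) := by rw [← hjy, mul_inv_cancel_left]
    have hcy : Commute φ (ρ y) := by
      show φ * ρ y = ρ y * φ
      conv_lhs => rw [← h1, mul_assoc, (hπy ⟨y, hy⟩).2, h1]
      conv_rhs => rw [← h2, ← mul_assoc, (hπy ⟨y, hy⟩).1, h2]
    rw [hgeq, map_mul, map_mul, map_pow, map_pow]
    exact (h4.pow_right i).mul_right ((h3.pow_right j).mul_right hcy)
  have hK := finrank_corner_fixed_le (p := p) (ρ u) πk (ρ t) r e hρu hππ (hπN u huz) (hπN t htN)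
    hπe (by rw [← map_mul, ← map_pow, ← map_mul, ← htu]; simp) heNZ hr1
    fun φ hφ2 h1 h2 h3 h4 => (idempotent_stable_dichotomy (p := p) ρ hloc u hup N huz hfree φ
      (hgen2 φ h1 h2 h3 h4) hφ2).imp (fun h x _ hx => h x hx) fun h x _ hx => h x hx
  obtain ⟨hlo, hhi⟩ := finrank_corner_bounds (p := p) (ρ u) πk hρu (hπN u huz) hK
  set c := finrank k ↥(LinearMap.range ((ρ u - 1) ^ (p - 1) * πk)) with hc
  have hc_le : c ≤ m0 := by
    have h : (ρ u - 1) ^ (p - 1) * πk = Matrix.toLinAlgEquiv' (A1.map (red M)) := by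
      rw [sub_one_pow_pred (k := k)]
      simp only [A1, ← map_pow, Matrix.map_mul, map_mul]
      congr 1
      rw [show (∑ j ∈ Finset.range p, σ (u ^ j)).map (red M) =
        ∑ j ∈ Finset.range p, (σ (u ^ j)).map (red M) from map_sum (red M).mapMatrix _ _, map_sum]
      rfl
    rw [hc, h]
    exact (rank_red_le A1).trans hA1rank.le
  have hwk : finrank k ↥(LinearMap.range πk) = w := by
    have h1 : finrank k ↥(LinearMap.range πk) ≤ w := rank_red_le E
    have h2 : finrank k ↥(LinearMap.range (1 - πk)) ≤ (1 - E0).rank := by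
      have he : 1 - πk = Matrix.toLinAlgEquiv' ((1 - E).map (red M)) := by
        rw [Matrix.map_sub (hf := map_sub (red M)), Matrix.map_one _ (map_zero _) (map_one _),
          map_sub, map_one]
      rw [he, show (1 - E0) = (1 - E).map ι by
        rw [Matrix.map_sub (hf := map_sub ι), Matrix.map_one _ (map_zero _) (map_one _)]]
      exact rank_red_le (1 - E)
    have h3 : finrank k ↥(LinearMap.range πk) + finrank k ↥(LinearMap.range (1 - πk)) ≥ n := by
      have htop : LinearMap.range πk ⊔ LinearMap.range (1 - πk) = ⊤ := eq_top_iff.2 fun x _ =>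
        Submodule.mem_sup.2 ⟨πk x, ⟨x, rfl⟩, (1 - πk) x, ⟨x, rfl⟩, by simp⟩
      have h := Submodule.finrank_add_le_finrank_add_finrank (LinearMap.range πk)
        (LinearMap.range (1 - πk))
      rw [htop, finrank_top, Module.finrank_fin_fun] at h
      exact h
    have h4 : E0.rank + (1 - E0).rank = n := by
      have e2 : (1 - E0) * (1 - E0) = 1 - E0 := by rw [mul_sub, mul_one, sub_mul, one_mul, hE0]; abel
      have e3 : ((E0.rank + (1 - E0).rank : ℕ) : ℂ) = (n : ℂ) := by
        push_cast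
        rw [rank_eq_trace_of_idempotent hE0, rank_eq_trace_of_idempotent e2, Matrix.trace_sub,
          Matrix.trace_one, Fintype.card_fin]
        ring
      exact_mod_cast e3
    omega
  have hK0 : m0 ≤ finrank k ↥(LinearMap.ker (ρ u - 1) ⊓ LinearMap.range πk) := by
    let B : Matrix (Fin n) (Fin n) (locSubring M) := (σ u - 1) * E + (1 - E)
    set Bk : Module.End k (Fin n → k) := Matrix.toLinAlgEquiv' (B.map (red M)) with hBk
    set Bc : Module.End ℂ (Fin n → ℂ) := Matrix.toLinAlgEquiv' (B.map ι) with hBc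
    have hle := rank_red_le B
    have hk := LinearMap.finrank_range_add_finrank_ker Bk
    have hcx := LinearMap.finrank_range_add_finrank_ker Bc
    rw [Module.finrank_fin_fun] at hk hcx
    have hBkval : Bk = (ρ u - 1) * πk + (1 - πk) := by
      simp only [hBk, B]
      rw [Matrix.map_add (hf := map_add (red M)), Matrix.map_mul,
        Matrix.map_sub (hf := map_sub (red M)), Matrix.map_sub (hf := map_sub (red M)),
        Matrix.map_one _ (map_zero _) (map_one _), map_add, map_mul, map_sub, map_sub, map_one]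
      rfl
    have hkerk : LinearMap.ker Bk ≤ LinearMap.ker (ρ u - 1) ⊓ LinearMap.range πk := by
      intro x hx
      rw [LinearMap.mem_ker, hBkval] at hx
      have hc' : Commute πk (ρ u - 1) := (hπN u huz).sub_right (Commute.one_right _)
      have e : πk * ((ρ u - 1) * πk + (1 - πk)) = (ρ u - 1) * πk := by
        rw [mul_add, mul_sub, mul_one, hππ, sub_self, add_zero, ← mul_assoc, hc'.eq, mul_assoc, hππ]
      have h1 : (ρ u - 1) (πk x) = 0 := by
        rw [← Module.End.mul_apply, ← e, Module.End.mul_apply, hx, map_zero]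
      rw [LinearMap.add_apply, Module.End.mul_apply, h1, zero_add, LinearMap.sub_apply,
        Module.End.one_apply, sub_eq_zero] at hx
      refine Submodule.mem_inf.2 ⟨?_, ⟨x, hx.symm⟩⟩
      rw [LinearMap.mem_ker, hx, h1]
    have hkerc : m0 ≤ finrank ℂ ↥(LinearMap.ker Bc) := by
      refine Submodule.finrank_mono (s := LinearMap.range (Matrix.mulVecLin Q)) ?_
      rintro _ ⟨y, rfl⟩
      rw [LinearMap.mem_ker]
      show B.map ι *ᵥ (Q *ᵥ y) = 0
      rw [Matrix.mulVec_mulVec]
      have h0 : B * A1 = 0 := by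
        simp only [B]
        rw [add_mul, sub_mul (1 : Matrix (Fin n) (Fin n) (locSubring M)), mul_assoc, hEA,
          sub_mul, one_mul, huA, sub_self, add_zero]
      simp only [Q, Matrix.mul_smul, ← Matrix.map_mul, h0, Matrix.map_zero _ (map_zero ι),
        smul_zero, Matrix.zero_mulVec]
    have := Submodule.finrank_mono hkerk
    have e1 : finrank k ↥(LinearMap.range Bk) = (B.map (red M)).rank := rfl
    have e2 : finrank ℂ ↥(LinearMap.range Bc) = (B.map ι).rank := rfl
    have hle' : (B.map (red M)).rank ≤ (B.map ι).rank := hle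
    omega
  rw [hwk] at hlo hhi
  have hKc : m0 ≤ c + 1 := hK0.trans hK
  have h1 : p * c ≤ p * m0 := Nat.mul_le_mul_left p hc_le
  have h2 : p * m0 ≤ p * c + p := by
    rw [← Nat.mul_succ]; exact Nat.mul_le_mul_left p hKc
  have := hp.out.one_le
  constructor <;> · push_cast; omega

end Cfsg.Agent.Lib.Blocks
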