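import Cfsg.Agent.Lib.Blocks.PrimeOrderModular

/-!
# The corner of a module over a normalizer of a subgroup of order `p`
-/

set_option autoImplicit false
set_option linter.unusedSectionVars false
set_option linter.unusedVariables false

namespace Cfsg.Agent.Lib.Blocks

open Module

variable {k : Type*} [Field k] {p : ℕ} [hp : Fact p.Prime] [CharP k p]
variable {V : Type*} [AddCommGroup V] [Module k V] [FiniteDimensional k V]

theorem pow_fixed_smul {t : Module.End k V} {z : V} {b : k} (h : t z = b • z) (j : ℕ) :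
    (t ^ j) z = b ^ j • z := by
  induction j with
  | zero => simp
  | succ j ih => rw [pow_succ, End.mul_apply, h, map_smul, ih, smul_smul, pow_succ']

/-- At most one non-projective Jordan block. -/
theorem finrank_corner_fixed_le (u π t : Module.End k V) (r e : ℕ) (hu : u ^ p = 1)
    (hπ : π * π = π) (hπu : Commute π u) (hπt : Commute π t) (he : t ^ e * π = π)
    (htu : t * u = u ^ r * t) (he0 : (e : k) ≠ 0) (hr : IsPrimitiveRoot (r : k) e)
    (H : ∀ φ : Module.End k V, φ * φ = φ → φ * π = φ → π * φ = φ → Commute φ u → Commute φ t →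
      (∀ x, π x = x → u x = x → φ x ∈ LinearMap.range ((u - 1) ^ (p - 1))) ∨
        ∀ x, π x = x → u x = x → x - φ x ∈ LinearMap.range ((u - 1) ^ (p - 1))) :
    finrank k ↥(LinearMap.ker (u - 1) ⊓ LinearMap.range π) ≤
      finrank k ↥(LinearMap.range ((u - 1) ^ (p - 1) * π)) + 1 := by
  classical
  set X := u - 1 with hX
  set I := LinearMap.range (X ^ (p - 1)) with hI
  set c := LinearMap.range (X ^ (p - 1) * π) with hc
  set K := LinearMap.ker X ⊓ LinearMap.range π with hK
  have hepos : 0 < e := Nat.pos_of_ne_zero fun h => he0 (by rw [h, Nat.cast_zero])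
  have hXu : Commute X u := (Commute.refl u).sub_left (Commute.one_left u)
  have hπX : Commute π X := hπu.sub_right (Commute.one_right π)
  have hπfix : ∀ x ∈ LinearMap.range π, π x = x := by
    rintro _ ⟨y, rfl⟩; rw [← End.mul_apply, hπ]
  have hXp : X ^ p = 0 := sub_one_pow_p (k := k) hu
  have hker : ∀ x, X x = 0 ↔ u x = x := fun x => by
    rw [hX, LinearMap.sub_apply, End.one_apply, sub_eq_zero]
  have hIc : ∀ x ∈ LinearMap.range π, x ∈ I → x ∈ c := by
    rintro x hx ⟨y, rfl⟩
    refine ⟨y, ?_⟩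
    rw [End.mul_apply]
    conv_rhs => rw [← hπfix _ hx, ← End.mul_apply, (hπX.pow_right (p - 1)).eq, End.mul_apply]
  by_cases hKI : ∀ w ∈ K, w ∈ I
  · exact (Submodule.finrank_mono fun w hw =>
      hIc w (Submodule.mem_inf.1 hw).2 (hKI w hw)).trans (Nat.le_succ _)
  push Not at hKI
  obtain ⟨w, hwK, hwI⟩ := hKI
  -- `u ^ r - 1 = X U` with `U` invertible
  set U : Module.End k V := ∑ i ∈ Finset.range r, u ^ i with hUdef
  have hUX : Commute U X := Commute.sum_left _ _ _ fun i _ => hXu.symm.pow_left i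
  have hXU : X * U = u ^ r - 1 := by rw [hX, hUdef, mul_geom_sum]
  have htX : t * X = X * U * t := by
    rw [hXU, sub_mul, one_mul, ← htu, hX, mul_sub, mul_one]
  have hr0 : (r : k) ≠ 0 := hr.ne_zero hepos.ne'
  have hre : r ^ e % p = 1 := by
    have h : ((r ^ e : ℕ) : k) = ((1 : ℕ) : k) := by push_cast; exact hr.pow_eq_one
    rw [CharP.natCast_eq_natCast k p] at h
    rw [h, Nat.mod_eq_of_lt hp.out.one_lt]
  have hUfix : ∀ x, X x = 0 → U x = (r : k) • x := fun x hx => by
    rw [hUdef, LinearMap.sum_apply, Finset.sum_congr rfl fun i _ => pow_fixed ((hker x).1 hx) i,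
      Finset.sum_const, Finset.card_range, Nat.cast_smul_eq_nsmul]
  have hUu : IsUnit U := by
    have hQ : U = algebraMap k (Module.End k V) (r : k) +
        X * ∑ i ∈ Finset.range r, ∑ j ∈ Finset.range i, u ^ j := by
      rw [Finset.mul_sum, Finset.sum_congr rfl fun i _ => mul_geom_sum u i, hUdef,
        Finset.sum_sub_distrib, Finset.sum_const, Finset.card_range, map_natCast]
      rw [nsmul_one, add_sub_cancel]
    have hcom : Commute X (∑ i ∈ Finset.range r, ∑ j ∈ Finset.range i, u ^ j) :=
      Commute.sum_right _ _ _ fun i _ => Commute.sum_right _ _ _ fun j _ => hXu.pow_right j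
    rw [hQ]
    exact IsNilpotent.isUnit_add_left_of_commute (hcom.isNilpotent_mul_right ⟨p, hXp⟩)
      ((isUnit_iff_ne_zero.2 hr0).map (algebraMap k (Module.End k V))) (Algebra.commutes _ _).symm
  have hUinj : ∀ (m : ℕ), Function.Injective (U ^ m) := fun m =>
    ((Module.End.isUnit_iff _).1 (hUu.pow m)).1
  have htpow : ∀ m : ℕ, t * X ^ m = X ^ m * U ^ m * t := by
    intro m
    induction m with
    | zero => simp
    | succ m ih =>
      rw [pow_succ, ← mul_assoc, ih, mul_assoc (X ^ m * U ^ m) t X, htX, pow_succ, ← mul_assoc,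
        ← mul_assoc, mul_assoc (X ^ m) (U ^ m) X, ((hUX.pow_left m)).eq]
      simp only [mul_assoc]
  have hlift : ∀ (m : ℕ) (y : V) (d : k) (v : V), X v = 0 → (X ^ m) y = d • v →
      ∀ a : k, t v = a • v → (r : k) ^ m • (X ^ m) (t y) = (d * a) • v := by
    intro m y d v hv hy a ha
    have h1 := LinearMap.congr_fun (htpow m) y
    rw [End.mul_apply, hy, map_smul, ha, smul_smul, End.mul_apply, End.mul_apply] at h1
    have h2 : (X ^ (m + 1)) y = 0 := by rw [pow_succ', End.mul_apply, hy, map_smul, hv, smul_zero]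
    have h3 := LinearMap.congr_fun (htpow (m + 1)) y
    rw [End.mul_apply, h2, map_zero, End.mul_apply, End.mul_apply] at h3
    have h4 : X ((X ^ m) (t y)) = 0 := by
      rw [← End.mul_apply, ← pow_succ']
      refine hUinj (m + 1) ?_
      rw [map_zero]
      conv_lhs => rw [← End.mul_apply, ((hUX.pow_pow (m + 1) (m + 1))).eq, End.mul_apply]
      exact h3.symm
    have h5 : ∀ i : ℕ, (U ^ i) ((X ^ m) (t y)) = (r : k) ^ i • (X ^ m) (t y) := by
      intro i
      induction i with
      | zero => simp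
      | succ i ih => rw [pow_succ, End.mul_apply, hUfix _ h4, map_smul, ih, smul_smul, pow_succ']
    rw [← h5, ← End.mul_apply, ((hUX.pow_pow m m)).eq, End.mul_apply]
    exact h1.symm
  -- an eigenvector outside `I`
  have htW : ∀ x ∈ LinearMap.range π, t x ∈ LinearMap.range π := by
    intro x hx
    exact ⟨t x, by rw [← End.mul_apply, hπt.eq, End.mul_apply, hπfix x hx]⟩
  have htpowW : ∀ (j : ℕ), ∀ x ∈ LinearMap.range π, (t ^ j) x ∈ LinearMap.range π := by
    intro j x hx
    exact ⟨(t ^ j) x, by rw [← End.mul_apply, (hπt.pow_right j).eq, End.mul_apply, hπfix x hx]⟩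
  have htpowK : ∀ (j : ℕ), ∀ x ∈ K, (t ^ j) x ∈ K := by
    intro j
    induction j with
    | zero => intro x hx; simpa using hx
    | succ j ih =>
      intro x hx
      rw [pow_succ', End.mul_apply]
      obtain ⟨h1, h2⟩ := ih x hx
      refine ⟨?_, htW _ h2⟩
      show X (t ((t ^ j) x)) = 0
      have h3 := LinearMap.congr_fun htX ((t ^ j) x)
      rw [End.mul_apply, show X ((t ^ j) x) = 0 from h1, map_zero, ← hUX.eq, End.mul_apply,
        End.mul_apply] at h3
      apply hUinj 1
      rw [map_zero, pow_one]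
      exact h3.symm
  have heW : ∀ x ∈ LinearMap.range π, (t ^ e) x = x := fun x hx => by
    conv_lhs => rw [← hπfix x hx, ← End.mul_apply, he, hπfix x hx]
  set v' : ℕ → V := fun i => ∑ j ∈ Finset.range e, ((r : k) ^ (i * j)) • (t ^ j) w with hv'
  have hv'sum : ∑ i ∈ Finset.range e, v' i = (e : k) • w := by
    rw [hv', Finset.sum_comm, Finset.sum_eq_single 0]
    · simp [Nat.cast_smul_eq_nsmul]
    · intro j hj hj0
      rw [← Finset.sum_smul]
      have h : ∑ i ∈ Finset.range e, (r : k) ^ (i * j) = 0 := by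
        simp only [mul_comm _ j, pow_mul]
        have h1 : ((r : k) ^ j - 1) ≠ 0 :=
          sub_ne_zero.2 (hr.pow_ne_one_of_pos_of_lt hj0 (Finset.mem_range.1 hj))
        apply mul_left_cancel₀ h1
        rw [mul_zero, mul_geom_sum, ← pow_mul, mul_comm, pow_mul, hr.pow_eq_one, one_pow, sub_self]
      rw [h, zero_smul]
    · intro h
      exact absurd (Finset.mem_range.2 hepos) h
  obtain ⟨i₀, hi₀⟩ : ∃ i ∈ Finset.range e, v' i ∉ I := by
    by_contra h
    push Not at h
    refine hwI ?_
    have h2 : (e : k) • w ∈ I := hv'sum ▸ sum_mem h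
    exact (Submodule.smul_mem_iff _ he0).1 h2
  set v := v' i₀ with hvdef
  have hvK : v ∈ K := sum_mem fun j _ => K.smul_mem _ (htpowK j w hwK)
  set a : k := ((r : k) ^ i₀)⁻¹ with ha
  have hae : a ^ e = 1 := by
    rw [ha, inv_pow, ← pow_mul, mul_comm, pow_mul, hr.pow_eq_one, one_pow, inv_one]
  have hrot : ∀ g : ℕ → V, g e = g 0 →
      ∑ j ∈ Finset.range e, g (j + 1) = ∑ j ∈ Finset.range e, g j := by
    intro g hg
    apply add_right_cancel (b := g 0)
    rw [← Finset.sum_range_succ', Finset.sum_range_succ, hg]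
  have htv : t v = a • v := by
    rw [hvdef, hv', Finset.smul_sum, map_sum]
    refine Eq.trans ?_ (hrot (fun j => a • ((r : k) ^ (i₀ * j)) • (t ^ j) w) ?_)
    · refine Finset.sum_congr rfl fun j _ => ?_
      rw [map_smul, ← End.mul_apply, ← pow_succ', smul_smul]
      congr 1
      rw [ha, mul_add, mul_one, pow_add]
      field_simp
    · simp only [pow_mul, pow_zero, mul_zero, End.one_apply]
      rw [← pow_mul, mul_comm, pow_mul, hr.pow_eq_one, one_pow, heW w hwK.2]
  -- the height of `v`
  have hvX : X v = 0 := hvK.1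
  have hp1 : (fun h => v ∈ LinearMap.range (X ^ h)) 0 := ⟨v, rfl⟩
  obtain ⟨h, hh, hvh, hvh1⟩ : ∃ h, h < p - 1 ∧ v ∈ LinearMap.range (X ^ h) ∧
      v ∉ LinearMap.range (X ^ (h + 1)) := by
    by_contra hcon
    push Not at hcon
    have : ∀ h, h ≤ p - 1 → v ∈ LinearMap.range (X ^ h) := by
      intro h
      induction h with
      | zero => exact fun _ => hp1
      | succ h ih => exact fun hh => hcon h (by omega) (ih (by omega))
    exact hi₀.2 (this _ le_rfl)
  obtain ⟨z₁, hz₁⟩ := hvh
  set z₀ := π z₁ with hz₀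
  have hz₀v : (X ^ h) z₀ = v := by
    rw [hz₀, ← End.mul_apply, ← (hπX.pow_right h).eq, End.mul_apply, hz₁, hπfix v hvK.2]
  set b : k := a * ((r : k) ^ h)⁻¹ with hb
  have hb0 : b ≠ 0 := mul_ne_zero (inv_ne_zero (pow_ne_zero _ hr0)) (inv_ne_zero (pow_ne_zero _ hr0))
  have hbe : b ^ e = 1 := by
    rw [hb, mul_pow, hae, one_mul, inv_pow, ← pow_mul, mul_comm, pow_mul, hr.pow_eq_one, one_pow,
      inv_one]
  have hXtj : ∀ j : ℕ, (X ^ h) ((t ^ j) z₀) = b ^ j • v := by
    intro j
    induction j with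
    | zero => simpa using hz₀v
    | succ j ih =>
      rw [pow_succ', End.mul_apply]
      have h1 := hlift h _ _ v hvX ih a htv
      have h2 := congrArg (fun x => ((r : k) ^ h)⁻¹ • x) h1
      simp only [smul_smul, inv_mul_cancel₀ (pow_ne_zero h hr0), one_smul] at h2
      rw [h2, pow_succ, hb]
      congr 1
      ring
  set z : V := (e : k)⁻¹ • ∑ j ∈ Finset.range e, (b ^ j)⁻¹ • (t ^ j) z₀ with hz
  have hzW : z ∈ LinearMap.range π := Submodule.smul_mem _ _ (sum_mem fun j _ =>
    Submodule.smul_mem _ _ (htpowW j z₀ ⟨z₁, rfl⟩))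
  have hzv : (X ^ h) z = v := by
    rw [hz, map_smul, map_sum, Finset.sum_congr rfl fun j _ => by
      rw [map_smul, hXtj, smul_smul, inv_mul_cancel₀ (pow_ne_zero _ hb0), one_smul],
      Finset.sum_const, Finset.card_range, ← Nat.cast_smul_eq_nsmul k, smul_smul,
      inv_mul_cancel₀ he0, one_smul]
  have htz : t z = b • z := by
    rw [hz, map_smul, map_sum, smul_comm b, Finset.smul_sum (r := b)]
    congr 1
    refine Eq.trans ?_ (hrot (fun j => b • (b ^ j)⁻¹ • (t ^ j) z₀) ?_)
    · refine Finset.sum_congr rfl fun j _ => ?_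
      rw [map_smul, ← End.mul_apply, ← pow_succ', smul_smul]
      congr 1
      rw [pow_succ]
      field_simp
    · simp [hbe, heW z₀ ⟨z₁, rfl⟩]
  have hzh1 : (X ^ (h + 1)) z = 0 := by rw [pow_succ', End.mul_apply, hzv, hvX]
  have hzbig : ∀ m, h < m → (X ^ m) z = 0 := fun m hm => by
    rw [show m = (m - (h + 1)) + (h + 1) by omega, pow_add, End.mul_apply, hzh1, map_zero]
  -- the functional
  set S : Submodule k V := LinearMap.range (X ^ (h + 1)) ⊔
    Submodule.span k (Set.range fun j : Fin h => (X ^ (j : ℕ)) z) with hS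
  have hvS : v ∉ S := by
    intro hmem
    obtain ⟨_, ⟨y, rfl⟩, s, hs, heq⟩ := Submodule.mem_sup.1 hmem
    obtain ⟨cc, rfl⟩ := (Submodule.mem_span_range_iff_exists_fun k).1 hs
    by_cases hall : ∀ j, cc j = 0
    · refine hvh1 ⟨y, ?_⟩
      simpa [hall] using heq
    push Not at hall
    obtain ⟨j₀, hj₀⟩ := hall
    let T : Finset (Fin h) := Finset.univ.filter fun j => cc j ≠ 0
    have hT : T.Nonempty := ⟨j₀, by simp [T, hj₀]⟩
    set m := T.min' hT with hm
    have hmc : cc m ≠ 0 := (Finset.mem_filter.1 (T.min'_mem hT)).2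
    have hlow : ∀ j, j < m → cc j = 0 := fun j hj => by
      by_contra hne
      exact absurd (T.min'_le j (by simp [T, hne])) (not_le.2 hj)
    have h1 := congrArg (X ^ (h - (m : ℕ))) heq
    rw [map_add, map_sum, ← End.mul_apply, ← pow_add,
      Finset.sum_eq_single m (fun j _ hj => by
        rcases lt_or_gt_of_ne hj with hlt | hgt
        · rw [hlow j hlt, zero_smul, map_zero]
        · rw [map_smul, ← End.mul_apply, ← pow_add, hzbig _ (by
            have := Fin.lt_def.1 hgt; have := j.2; omega), smul_zero])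
        (fun h' => absurd (Finset.mem_univ m) h'),
      map_smul, ← End.mul_apply, ← pow_add, Nat.sub_add_cancel m.2.le, hzv,
      show h - (m : ℕ) = (h - m - 1) + 1 by have := m.2; omega] at h1
    conv_rhs at h1 => rw [pow_succ, End.mul_apply, hvX, map_zero]
    refine hvh1 ⟨-((cc m)⁻¹ • (X ^ (h - (m : ℕ) - 1 + 1)) y), ?_⟩
    rw [map_neg, map_smul, ← End.mul_apply, ← pow_add,
      show h + 1 + (h - (m : ℕ) - 1 + 1) = h - m - 1 + 1 + (h + 1) by omega, eq_neg_of_add_eq_zero_left h1]
    rw [smul_neg, neg_neg, smul_smul, inv_mul_cancel₀ hmc, one_smul]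
  obtain ⟨l₀, hl₀v, hl₀S⟩ := Submodule.exists_dual_map_eq_bot_of_notMem hvS inferInstance
  have hl₀ : ∀ x ∈ S, l₀ x = 0 := fun x hx =>
    (Submodule.mem_bot k).1 (hl₀S ▸ Submodule.mem_map_of_mem hx)
  set l : V →ₗ[k] k := (l₀ v)⁻¹ • l₀ with hl
  have hlv : l v = 1 := by simp [hl, hl₀v]
  have hlS : ∀ x ∈ S, l x = 0 := fun x hx => by simp [hl, hl₀ x hx]
  set P₀ : Module.End k V := ∑ i ∈ Finset.range (h + 1),
    (l ∘ₗ (X ^ (h - i) * π)).smulRight ((X ^ i) z) with hP0
  have hP0app : ∀ x, P₀ x = ∑ i ∈ Finset.range (h + 1), l ((X ^ (h - i)) (π x)) • (X ^ i) z := by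
    intro x; simp [hP0, End.mul_apply]
  have hP0X : ∀ x, P₀ (X x) = X (P₀ x) := by
    intro x
    have hpx : π (X x) = X (π x) := LinearMap.congr_fun hπX.eq x
    rw [hP0app, hP0app, map_sum, Finset.sum_range_succ' _ h, Finset.sum_range_succ _ h]
    congr 1
    · refine Finset.sum_congr rfl fun i hi => ?_
      rw [map_smul X, ← End.mul_apply X, ← pow_succ', hpx, ← End.mul_apply (X ^ (h - (i + 1))), ← pow_succ,
        show h - (i + 1) + 1 = h - i by have := Finset.mem_range.1 hi; omega]
    · rw [hpx, ← End.mul_apply (X ^ (h - 0)), ← pow_succ, Nat.sub_zero,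
        hlS _ (Submodule.mem_sup_left ⟨_, rfl⟩), zero_smul, map_smul, ← End.mul_apply X, ← pow_succ',
        hzh1, smul_zero]
  have hP0u : Commute P₀ u := by
    have : Commute P₀ X := LinearMap.ext hP0X
    have h2 := this.add_right (Commute.one_right P₀)
    rwa [hX, sub_add_cancel] at h2
  have hP0z : P₀ z = z := by
    rw [hP0app, hπfix z hzW, Finset.sum_eq_single 0]
    · simp [hzv, hlv]
    · intro i hi hi0
      rw [hlS _ (Submodule.mem_sup_right (Submodule.subset_span ⟨⟨h - i, by
        have := Finset.mem_range.1 hi; omega⟩, rfl⟩)), zero_smul]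
    · intro h'; exact absurd (Finset.mem_range.2 (Nat.succ_pos _)) h'
  set Z : Submodule k V := Submodule.span k (Set.range fun j : ℕ => (u ^ j) z) with hZ
  have huZ : ∀ x ∈ Z, u x ∈ Z := by
    intro x hx
    induction hx using Submodule.span_induction with
    | mem x hx =>
      obtain ⟨j, rfl⟩ := hx
      exact Submodule.subset_span ⟨j + 1, by simp [pow_succ']⟩
    | zero => simp
    | add x y _ _ hx hy => rw [map_add]; exact add_mem hx hy
    | smul c x _ hx => rw [map_smul]; exact Z.smul_mem c hx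
  have hXZ : ∀ i : ℕ, (X ^ i) z ∈ Z := by
    intro i
    induction i with
    | zero => exact Submodule.subset_span ⟨0, rfl⟩
    | succ i ih => rw [pow_succ', End.mul_apply, hX, LinearMap.sub_apply]; exact sub_mem (huZ _ ih) ih
  have hP0Z : ∀ x, P₀ x ∈ Z := fun x => by
    rw [hP0app]; exact sum_mem fun i _ => Z.smul_mem _ (hXZ i)
  have htupow : ∀ j : ℕ, t * u ^ j = u ^ (r * j) * t := by
    intro j
    induction j with
    | zero => simp
    | succ j ih => rw [pow_succ, ← mul_assoc, ih, mul_assoc, htu, ← mul_assoc, ← pow_add, mul_add, mul_one]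
  have htjZ : ∀ j : ℕ, ∀ x ∈ Z, (t ^ j) x ∈ Z := by
    intro j
    induction j with
    | zero => intro x hx; simpa using hx
    | succ j ih =>
      intro x hx
      rw [pow_succ, End.mul_apply]
      refine ih _ ?_
      induction hx using Submodule.span_induction with
      | mem x hx =>
        obtain ⟨i, rfl⟩ := hx
        rw [← End.mul_apply, htupow, End.mul_apply, htz, map_smul]
        exact Z.smul_mem _ (Submodule.subset_span ⟨_, rfl⟩)
      | zero => simp
      | add x y _ _ hx hy => rw [map_add]; exact add_mem hx hy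
      | smul c x _ hx => rw [map_smul]; exact Z.smul_mem c hx
  set φ : Module.End k V :=
    (e : k)⁻¹ • ∑ j ∈ Finset.range e, t ^ j * P₀ * (t ^ (e - j) * π) with hφ
  have hφZ : ∀ x, φ x ∈ Z := fun x => by
    simp only [hφ, LinearMap.smul_apply, LinearMap.sum_apply, End.mul_apply]
    exact Z.smul_mem _ (sum_mem fun j _ => htjZ j _ (hP0Z _))
  have hφu : Commute φ u := by
    refine (Commute.sum_left _ _ _ fun j hj => ?_).smul_left _
    have hje : e - j + j = e := Nat.sub_add_cancel (Finset.mem_range.1 hj).le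
    have h1 : ∀ i m : ℕ, t ^ i * u ^ m = u ^ (r ^ i * m) * t ^ i := by
      intro i
      induction i with
      | zero => intro m; simp
      | succ i ih =>
        intro m
        rw [pow_succ t, mul_assoc, htupow, ← mul_assoc, ih, pow_succ r, mul_assoc, mul_assoc]
    show t ^ j * P₀ * (t ^ (e - j) * π) * u = u * (t ^ j * P₀ * (t ^ (e - j) * π))
    have h1' : t ^ (e - j) * u = u ^ r ^ (e - j) * t ^ (e - j) := by simpa using h1 (e - j) 1
    calc t ^ j * P₀ * (t ^ (e - j) * π) * u = t ^ j * P₀ * ((t ^ (e - j) * u) * π) := by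
          rw [mul_assoc (t ^ j * P₀), mul_assoc (t ^ (e - j)) π u, hπu.eq, ← mul_assoc (t ^ (e - j))]
      _ = t ^ j * (P₀ * u ^ r ^ (e - j)) * (t ^ (e - j) * π) := by
          rw [h1']; simp only [mul_assoc]
      _ = (t ^ j * u ^ r ^ (e - j)) * P₀ * (t ^ (e - j) * π) := by
          rw [(hP0u.pow_right _).eq]; simp only [mul_assoc]
      _ = u * (t ^ j * P₀ * (t ^ (e - j) * π)) := by
          rw [h1, ← pow_add, add_comm, hje, pow_eq_pow_mod _ hu, hre, pow_one]
          simp only [mul_assoc]
  have hP0π : P₀ * π = P₀ := LinearMap.ext fun x => by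
    rw [End.mul_apply, hP0app, hP0app]
    simp only [← End.mul_apply π, hπ]
  have hπP0 : π * P₀ = P₀ := LinearMap.ext fun x => by
    rw [End.mul_apply, hP0app, map_sum]
    refine Finset.sum_congr rfl fun i _ => ?_
    rw [map_smul π, ← End.mul_apply π, (hπX.pow_right i).eq, End.mul_apply _ π, hπfix z hzW]
  have hφπ : φ * π = φ := by
    rw [hφ, smul_mul_assoc, Finset.sum_mul]
    simp only [mul_assoc, hπ]
  have hπφ : π * φ = φ := by
    rw [hφ, mul_smul_comm, Finset.mul_sum]
    refine congrArg _ (Finset.sum_congr rfl fun j _ => ?_)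
    rw [← mul_assoc π, ← mul_assoc π (t ^ j) P₀, (hπt.pow_right j).eq, mul_assoc (t ^ j) π P₀, hπP0]
  have hφt : Commute φ t := by
    refine Commute.smul_left ?_ _
    show (∑ j ∈ Finset.range e, t ^ j * P₀ * (t ^ (e - j) * π)) * t =
      t * ∑ j ∈ Finset.range e, t ^ j * P₀ * (t ^ (e - j) * π)
    rw [Finset.sum_mul, Finset.mul_sum]
    let g : ℕ → Module.End k V := fun j => t ^ j * P₀ * (t ^ (e + 1 - j) * π)
    have hL : ∀ j ∈ Finset.range e, t ^ j * P₀ * (t ^ (e - j) * π) * t = g j := by
      intro j hj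
      simp only [g]
      rw [show e + 1 - j = e - j + 1 by have := Finset.mem_range.1 hj; omega, pow_succ,
        mul_assoc (t ^ j * P₀), mul_assoc (t ^ (e - j)) π t, hπt.eq, mul_assoc (t ^ (e - j)) t π]
    have hR : ∀ j ∈ Finset.range e, t * (t ^ j * P₀ * (t ^ (e - j) * π)) = g (j + 1) := by
      intro j hj
      simp only [g]
      rw [show e + 1 - (j + 1) = e - j by omega, pow_succ' t j]
      simp only [mul_assoc]
    rw [Finset.sum_congr rfl hL, Finset.sum_congr rfl hR]
    apply add_right_cancel (b := g e)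
    rw [← Finset.sum_range_succ]
    conv_lhs => rw [Finset.sum_range_succ']
    congr 1
    simp only [g, pow_zero, one_mul, Nat.sub_zero, Nat.add_sub_cancel_left, pow_one]
    have h1 : t ^ (e + 1) * π = π * t := by rw [pow_succ', mul_assoc, he, hπt.eq]
    have h2 : t ^ e * P₀ = P₀ := by
      conv_lhs => rw [← hπP0, ← mul_assoc, he, hπP0]
    rw [h1, ← mul_assoc, hP0π, h2, ← hπt.eq, ← mul_assoc, hP0π]
  have hφz : φ z = z := by
    rw [hφ, LinearMap.smul_apply, LinearMap.sum_apply, Finset.sum_congr rfl fun j hj => by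
      rw [End.mul_apply, End.mul_apply, End.mul_apply, hπfix z hzW, pow_fixed_smul htz, map_smul,
        hP0z, map_smul, pow_fixed_smul htz, smul_smul, ← pow_add,
        Nat.sub_add_cancel (Finset.mem_range.1 hj).le, hbe, one_smul],
      Finset.sum_const, Finset.card_range, ← Nat.cast_smul_eq_nsmul k, smul_smul,
      inv_mul_cancel₀ he0, one_smul]
  have hφu' : ∀ j : ℕ, φ ((u ^ j) z) = (u ^ j) z := fun j => by
    rw [← End.mul_apply, (hφu.pow_right j).eq, End.mul_apply, hφz]
  have hφfix : ∀ x ∈ Z, φ x = x := by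
    intro x hx
    induction hx using Submodule.span_induction with
    | mem x hx => obtain ⟨j, rfl⟩ := hx; exact hφu' j
    | zero => simp
    | add x y _ _ hx hy => rw [map_add, hx, hy]
    | smul c x _ hx => rw [map_smul, hx]
  have hφφ : φ * φ = φ := LinearMap.ext fun x => by rw [End.mul_apply, hφfix _ (hφZ x)]
  have hvZ : v ∈ Z := hzv ▸ hXZ h
  rcases H φ hφφ hφπ hπφ hφu hφt with hl' | hr'
  · exact absurd (hφfix v hvZ ▸ hl' v (hπfix v hvK.2) ((hker v).1 hvX)) hi₀.2
  have hsub : K ≤ (k ∙ v) ⊔ c := by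
    intro x hx
    have hux : u x = x := (hker x).1 hx.1
    rw [← add_sub_cancel (φ x) x]
    refine Submodule.add_mem_sup ?_ (hIc _ ?_ (hr' x (hπfix x hx.2) hux))
    · have hy : φ x ∈ Z := hφZ x
      have hXy : X (φ x) = 0 := by
        rw [hker, ← End.mul_apply, ← hφu.eq, End.mul_apply, hux]
      have hyW : π (φ x) = φ x := by rw [← End.mul_apply, hπφ]
      have hP0Zfix : ∀ y ∈ Z, P₀ y = y := by
        intro y hy
        induction hy using Submodule.span_induction with
        | mem y hy =>
          obtain ⟨j, rfl⟩ := hy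
          rw [← End.mul_apply, (hP0u.pow_right j).eq, End.mul_apply, hP0z]
        | zero => simp
        | add a b _ _ ha hb => rw [map_add, ha, hb]
        | smul c a _ ha => rw [map_smul, ha]
      rw [← hP0Zfix _ hy, hP0app, hyW]
      refine sum_mem fun i hi => ?_
      rcases Nat.lt_or_ge i h with hlt | hge
      · rw [show h - i = (h - i - 1) + 1 by omega, pow_succ, End.mul_apply, hXy, map_zero,
          map_zero, zero_smul]
        exact zero_mem _
      · rw [show i = h by have := Finset.mem_range.1 hi; omega, hzv]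
        exact Submodule.smul_mem _ _ (Submodule.mem_span_singleton_self v)
    · exact sub_mem hx.2 ⟨φ x, by rw [← End.mul_apply, hπφ]⟩
  calc finrank k K ≤ finrank k ↥((k ∙ v) ⊔ c) := Submodule.finrank_mono hsub
    _ ≤ finrank k ↥(k ∙ v) + finrank k c := Submodule.finrank_add_le_finrank_add_finrank _ _
    _ ≤ finrank k c + 1 := by
      have := (finrank_span_le_card ({v} : Set V) : finrank k ↥(k ∙ v) ≤ _)
      simp at this
      omega

theorem finrank_corner_step (u π : Module.End k V) (i : ℕ) :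
    finrank k ↥(LinearMap.range ((u - 1) ^ (i + 1) * π)) +
      finrank k ↥(LinearMap.range ((u - 1) ^ i * π) ⊓ LinearMap.ker (u - 1)) =
      finrank k ↥(LinearMap.range ((u - 1) ^ i * π)) := by
  set S := LinearMap.range ((u - 1) ^ i * π) with hS
  have h := LinearMap.finrank_range_add_finrank_ker ((u - 1).domRestrict S)
  have h1 : LinearMap.range ((u - 1).domRestrict S) = LinearMap.range ((u - 1) ^ (i + 1) * π) := by
    rw [LinearMap.range_domRestrict, hS, pow_succ', mul_assoc]
    exact (LinearMap.range_comp _ _).symm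
  have h2 : finrank k ↥(LinearMap.ker ((u - 1).domRestrict S)) =
      finrank k ↥(S ⊓ LinearMap.ker (u - 1)) := by
    rw [LinearMap.ker_domRestrict, ← Submodule.map_comap_subtype S (LinearMap.ker (u - 1)),
      Submodule.finrank_map_subtype_eq]
  rw [h1, h2] at h
  exact h

/-- Dimension bounds from at most one non-projective block. -/
theorem finrank_corner_bounds (u π : Module.End k V) (hu : u ^ p = 1) (hπu : Commute π u)
    (hK : finrank k ↥(LinearMap.ker (u - 1) ⊓ LinearMap.range π) ≤
      finrank k ↥(LinearMap.range ((u - 1) ^ (p - 1) * π)) + 1) :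
    p * finrank k ↥(LinearMap.range ((u - 1) ^ (p - 1) * π)) ≤ finrank k ↥(LinearMap.range π) ∧
      finrank k ↥(LinearMap.range π) ≤
        p * finrank k ↥(LinearMap.range ((u - 1) ^ (p - 1) * π)) + (p - 1) := by
  set c := finrank k ↥(LinearMap.range ((u - 1) ^ (p - 1) * π)) with hc
  let d : ℕ → ℕ := fun i => finrank k ↥(LinearMap.range ((u - 1) ^ i * π))
  have hπX : Commute π (u - 1) := hπu.sub_right (Commute.one_right π)
  have hXp : (u - 1) ^ p = 0 := sub_one_pow_p (k := k) hu
  have hdp : d p = 0 := by simp [d, hXp]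
  have hmono : ∀ i, i ≤ p - 1 → LinearMap.range ((u - 1) ^ (p - 1) * π) ≤
      LinearMap.range ((u - 1) ^ i * π) ⊓ LinearMap.ker (u - 1) := by
    intro i hi x hx
    obtain ⟨y, rfl⟩ := hx
    refine ⟨⟨((u - 1) ^ (p - 1 - i)) y, ?_⟩, ?_⟩
    · rw [End.mul_apply, End.mul_apply, ← End.mul_apply π, (hπX.pow_right _).eq, End.mul_apply,
        ← End.mul_apply ((u - 1) ^ i), ← pow_add, Nat.add_sub_cancel' hi]
    · show (u - 1) (((u - 1) ^ (p - 1) * π) y) = 0
      rw [← End.mul_apply, ← mul_assoc, ← pow_succ', Nat.sub_add_cancel hp.out.one_le, hXp, zero_mul,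
        LinearMap.zero_apply]
  have hlow : ∀ i, i ≤ p - 1 → d (i + 1) + c ≤ d i := fun i hi =>
    (Nat.add_le_add_left (Submodule.finrank_mono (hmono i hi)) _).trans
      (finrank_corner_step u π i).le
  have hhigh : ∀ i, d i ≤ d (i + 1) + (c + 1) := by
    intro i
    refine (finrank_corner_step u π i).symm.le.trans (Nat.add_le_add_left (le_trans ?_ hK) _)
    refine Submodule.finrank_mono fun x hx => ⟨hx.2, ?_⟩
    obtain ⟨y, rfl⟩ := hx.1
    exact ⟨((u - 1) ^ i) y, by rw [← End.mul_apply, (hπX.pow_right i).eq]⟩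
  have hl : ∀ m, m ≤ p → m * c + d m ≤ d 0 := by
    intro m
    induction m with
    | zero => simp
    | succ m ih =>
      intro hm
      have := hlow m (by omega); have := ih (by omega)
      rw [Nat.succ_mul]; omega
  have hh : ∀ m, d 0 ≤ d m + m * (c + 1) := by
    intro m
    induction m with
    | zero => simp
    | succ m ih => have := hhigh m; rw [Nat.succ_mul]; omega
  have hd0 : d 0 = finrank k ↥(LinearMap.range π) := by
    show finrank k ↥(LinearMap.range ((u - 1) ^ 0 * π)) = _
    rw [pow_zero, one_mul]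
  constructor
  · have := hl p le_rfl; omega
  · have h1 := hh (p - 1)
    have hdc : d (p - 1) = c := rfl
    rw [hdc, Nat.mul_add, mul_one, hd0] at h1
    have h2 : p * c = (p - 1) * c + c := by
      rw [← Nat.succ_mul]; congr 1; have := hp.out.one_le; omega
    omega

end Cfsg.Agent.Lib.Blocks
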