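import Cfsg.Agent.Lib.Blocks.LocalModel
import Mathlib.GroupTheory.GroupAction.Quotient
import Mathlib.RingTheory.RootsOfUnity.PrimitiveRoots
import Mathlib.Algebra.CharP.Lemmas

/-!
# Modular representations and a subgroup of order `p`

If every endomorphism of a module is invertible or nilpotent, then a suitable corner of its
restriction to the normalizer of a self-centred subgroup of order `p` has at most one
non-projective Jordan block.
-/

set_option autoImplicit false
set_option linter.unusedSectionVars false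
set_option linter.unusedVariables false

namespace Cfsg.Agent.Lib.Blocks

open Module

variable {k : Type*} [Field k] {p : ℕ} [hp : Fact p.Prime] [CharP k p]
variable {V : Type*} [AddCommGroup V] [Module k V]

/-- The norm element is the top power of `u - 1`. -/
theorem sub_one_pow_pred {A : Type*} [Ring A] [Algebra k A] (u : A) :
    (u - 1) ^ (p - 1) = ∑ j ∈ Finset.range p, u ^ j := by
  open Polynomial in
  have h : ((X : k[X]) - 1) ^ (p - 1) = ∑ j ∈ Finset.range p, X ^ j := by
    have h1 : (X : k[X]) - 1 ≠ 0 := sub_ne_zero.2 fun h => by simpa using congrArg natDegree h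
    apply mul_right_cancel₀ h1
    rw [← pow_succ, Nat.sub_add_cancel hp.out.one_le, geom_sum_mul,
      sub_pow_char, one_pow]
  have h2 := congrArg (Polynomial.aeval u) h
  simpa using h2

theorem sub_one_pow_p {A : Type*} [Ring A] [Algebra k A] {u : A} (hu : u ^ p = 1) :
    (u - 1) ^ p = 0 := by
  have h : (u - 1) ^ (p - 1) * (u - 1) = 0 := by
    rw [sub_one_pow_pred (k := k), geom_sum_mul, hu, sub_self]
  rwa [← pow_succ, Nat.sub_add_cancel hp.out.one_le] at h

theorem pow_fixed {u : Module.End k V} {x : V} (hx : u x = x) (j : ℕ) : (u ^ j) x = x := by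
  induction j with
  | zero => rfl
  | succ j ih => rw [pow_succ, End.mul_apply, hx, ih]

/-- A sum over a free orbit decomposition lies in the image of the norm. -/
theorem sum_free_mem_range {α : Type*} (σ : Equiv.Perm α) (hσ : σ ^ p = 1) (u : Module.End k V)
    (F : α → V) (hF : ∀ a, F (σ a) = u (F a)) :
    ∀ s : Finset α, (∀ a ∈ s, σ a ∈ s) → (∀ a ∈ s, σ a ≠ a) →
      ∑ a ∈ s, F a ∈ LinearMap.range ((u - 1) ^ (p - 1)) := by
  classical
  intro s
  induction s using Finset.strongInductionOn with
  | _ s ih =>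
    intro hs hfix
    rcases s.eq_empty_or_nonempty with rfl | ⟨a, ha⟩
    · simp
    set O : Finset α := (Finset.range p).image fun j => (σ ^ j) a with hO
    have hmem : ∀ j : ℕ, (σ ^ j) a ∈ s := by
      intro j
      induction j with
      | zero => simpa using ha
      | succ j ih => rw [pow_succ', Equiv.Perm.mul_apply]; exact hs _ ih
    have hOs : O ⊆ s := by
      intro b hb
      obtain ⟨j, -, rfl⟩ := Finset.mem_image.1 hb
      exact hmem j
    have hfree : ∀ j, 0 < j → j < p → (σ ^ j) a ≠ a := by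
      intro j hj hjp h
      apply hfix a ha
      obtain ⟨m, hm⟩ := Nat.exists_mul_mod_eq_one_of_coprime
        ((Nat.coprime_comm.1 ((Nat.Prime.coprime_iff_not_dvd hp.out).2
          (Nat.not_dvd_of_pos_of_lt hj hjp)))) hp.out.one_lt
      have h1 : σ ^ (j * m) = σ := by
        rw [pow_eq_pow_mod _ hσ, hm.2, pow_one]
      have h2 : ∀ i : ℕ, ((σ ^ j) ^ i) a = a := by
        intro i
        induction i with
        | zero => rfl
        | succ i ih => rw [pow_succ, Equiv.Perm.mul_apply, h, ih]
      calc σ a = (σ ^ (j * m)) a := by rw [h1]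
        _ = a := by rw [pow_mul]; exact h2 m
    have hinj : Set.InjOn (fun j => (σ ^ j) a) (Finset.range p : Set ℕ) := by
      intro i hi j hj h
      simp only [Finset.coe_range, Set.mem_Iio] at hi hj
      simp only at h
      by_contra hne
      rcases Nat.lt_or_gt_of_ne hne with hlt | hlt
      · refine hfree (j - i) (by omega) (by omega) ((σ ^ i).injective ?_)
        rw [← Equiv.Perm.mul_apply, ← pow_add, Nat.add_sub_cancel' hlt.le]
        exact h.symm
      · refine hfree (i - j) (by omega) (by omega) ((σ ^ j).injective ?_)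
        rw [← Equiv.Perm.mul_apply, ← pow_add, Nat.add_sub_cancel' hlt.le]
        exact h
    have hFO : ∀ j : ℕ, F ((σ ^ j) a) = (u ^ j) (F a) := by
      intro j
      induction j with
      | zero => rfl
      | succ j ih => rw [pow_succ', pow_succ', Equiv.Perm.mul_apply, hF, ih, End.mul_apply]
    have hsplit := Finset.sum_sdiff (f := F) hOs
    rw [← hsplit]
    refine add_mem (ih _ (Finset.sdiff_ssubset hOs ⟨a, Finset.mem_image.2
      ⟨0, Finset.mem_range.2 hp.out.pos, rfl⟩⟩) ?_ fun b hb => hfix b (Finset.mem_sdiff.1 hb).1) ?_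
    · intro b hb
      rw [Finset.mem_sdiff] at hb ⊢
      refine ⟨hs b hb.1, fun hbO => hb.2 ?_⟩
      obtain ⟨j, hj, hjb⟩ := Finset.mem_image.1 hbO
      refine Finset.mem_image.2 ⟨(j + (p - 1)) % p, Finset.mem_range.2 (Nat.mod_lt _ hp.out.pos), ?_⟩
      rw [← pow_eq_pow_mod _ hσ, add_comm, pow_add, Equiv.Perm.mul_apply, hjb]
      show (σ ^ (p - 1) * σ) b = b
      rw [← pow_succ, Nat.sub_add_cancel hp.out.one_le, hσ]
      rfl
    · rw [hO, Finset.sum_image hinj, sub_one_pow_pred (k := k)]
      exact ⟨F a, by simp [LinearMap.sum_apply, hFO]⟩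

/-- The averaging over cosets of an idempotent commuting with the normalizer. -/
theorem idempotent_stable_dichotomy {G : Type*} [Group G] [Finite G] [FiniteDimensional k V]
    (ρ : G →* Module.End k V) (hloc : LocalEnd ρ) (u : G) (hu : u ^ p = 1) (N : Subgroup G)
    (huN : u ∈ N) (hfree : ∀ g : G, g⁻¹ * u * g ∈ N → g ∈ N)
    (ψ : Module.End k V) (hψ : ∀ g ∈ N, Commute ψ (ρ g)) (hψ2 : ψ * ψ = ψ) :
    (∀ x, ρ u x = x → ψ x ∈ LinearMap.range ((ρ u - 1) ^ (p - 1))) ∨
      ∀ x, ρ u x = x → x - ψ x ∈ LinearMap.range ((ρ u - 1) ^ (p - 1)) := by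
  classical
  haveI := Fintype.ofFinite (G ⧸ N)
  set I := LinearMap.range ((ρ u - 1) ^ (p - 1)) with hI
  let F : G ⧸ N → Module.End k V := fun q => Quotient.liftOn' q (fun g => ρ g * ψ * ρ g⁻¹) (by
    intro a b hab
    rw [QuotientGroup.leftRel_apply] at hab
    have h := (hψ _ hab).eq
    obtain ⟨c, rfl⟩ : ∃ c, b = a * c := ⟨a⁻¹ * b, by group⟩
    rw [inv_mul_cancel_left] at h
    show ρ a * ψ * ρ a⁻¹ = ρ (a * c) * ψ * ρ (a * c)⁻¹
    rw [mul_inv_rev, map_mul, map_mul, mul_assoc (ρ a) _ ψ, ← h]
    simp only [mul_assoc]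
    rw [← mul_assoc (ρ c), ← map_mul, mul_inv_cancel, map_one, one_mul])
  have hFg : ∀ g : G, F (g : G ⧸ N) = ρ g * ψ * ρ g⁻¹ := fun g => rfl
  have hFmul : ∀ (g : G) (q : G ⧸ N), F (g • q) = ρ g * F q * ρ g⁻¹ := by
    intro g q
    induction q using QuotientGroup.induction_on with
    | _ a =>
      rw [MulAction.Quotient.smul_mk, hFg, hFg, smul_eq_mul, mul_inv_rev, map_mul, map_mul]
      simp only [mul_assoc]
  set Φ : Module.End k V := ∑ q, F q with hΦ
  have hΦc : ∀ g, Commute Φ (ρ g) := by
    intro g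
    have h : ρ g * Φ * ρ g⁻¹ = Φ := by
      rw [hΦ, Finset.mul_sum, Finset.sum_mul]
      exact Fintype.sum_equiv (MulAction.toPerm g) _ _ fun q => (hFmul g q).symm
    show Φ * ρ g = ρ g * Φ
    conv_lhs => rw [← h, mul_assoc, ← map_mul, inv_mul_cancel, map_one, mul_one]
  have hIu : ∀ (Ψ : Module.End k V), Commute Ψ (ρ u) → ∀ x ∈ I, Ψ x ∈ I := by
    rintro Ψ hΨ _ ⟨y, rfl⟩
    exact ⟨Ψ y, by
      have h := LinearMap.congr_fun ((hΨ.sub_right (Commute.one_right Ψ)).pow_right (p - 1)) y
      rw [End.mul_apply, End.mul_apply] at h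
      exact h.symm⟩
  -- the other cosets contribute norms
  have hkey : ∀ x, ρ u x = x → Φ x - ψ x ∈ I := by
    intro x hx
    have h1 : ∑ q ∈ Finset.univ.erase ((1 : G) : G ⧸ N), F q x ∈ I := by
      refine sum_free_mem_range (MulAction.toPermHom G (G ⧸ N) u) (by rw [← map_pow, hu, map_one])
        (ρ u) _ (fun q => ?_) _ (fun q hq => ?_) (fun q hq => ?_)
      · show F (u • q) x = ρ u (F q x)
        rw [hFmul, End.mul_apply, End.mul_apply]
        congr 2
        conv_lhs => rw [← hx]
        rw [← End.mul_apply, ← map_mul, inv_mul_cancel, map_one, End.one_apply]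
      · refine Finset.mem_erase.2 ⟨fun h => (Finset.mem_erase.1 hq).1 ?_, Finset.mem_univ _⟩
        have h' : u • q = ((1 : G) : G ⧸ N) := h
        rw [← inv_smul_smul u q, h', MulAction.Quotient.smul_mk, QuotientGroup.eq]
        simpa using N.mul_mem huN (N.one_mem)
      · intro h
        refine (Finset.mem_erase.1 hq).1 ?_
        revert h
        induction q using QuotientGroup.induction_on with
        | _ a =>
          intro h
          have h' : u • (a : G ⧸ N) = (a : G ⧸ N) := h
          rw [MulAction.Quotient.smul_mk, smul_eq_mul, eq_comm, QuotientGroup.eq, ← mul_assoc] at h'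
          rw [QuotientGroup.eq]
          simpa using N.inv_mem (hfree a h')
    have h2 : Φ x = ψ x + ∑ q ∈ Finset.univ.erase ((1 : G) : G ⧸ N), F q x := by
      rw [hΦ, LinearMap.sum_apply, ← Finset.add_sum_erase _ _ (Finset.mem_univ ((1 : G) : G ⧸ N)),
        hFg, inv_one, map_one, one_mul, mul_one]
    rw [h2, add_sub_cancel_left]
    exact h1
  have hfix : ∀ (Ψ : Module.End k V), Commute Ψ (ρ u) → ∀ x, ρ u x = x → ρ u (Ψ x) = Ψ x := by
    intro Ψ hΨ x hx
    rw [← End.mul_apply, ← hΨ.eq, End.mul_apply, hx]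
  rcases hloc Φ hΦc with hunit | ⟨m, hm⟩
  · right
    intro x hx
    have hxψ : ρ u (x - ψ x) = x - ψ x := by
      rw [map_sub, hx, hfix ψ (hψ u huN) x hx]
    have h := hkey _ hxψ
    rw [map_sub ψ, ← End.mul_apply, hψ2, sub_self, sub_zero] at h
    obtain ⟨U, hU⟩ := hunit
    have hUc : Commute (↑U⁻¹ : Module.End k V) (ρ u) := (hU ▸ hΦc u : Commute (↑U : Module.End k V) (ρ u)).units_inv_left
    have h3 := hIu _ hUc _ h
    rwa [← End.mul_apply, ← hU, Units.inv_mul, End.one_apply] at h3
  · left
    intro x hx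
    have hpow : ∀ i : ℕ, (Φ ^ i) (ψ x) - ψ x ∈ I := by
      intro i
      induction i with
      | zero => simp
      | succ i ih =>
        have hψx : ρ u (ψ x) = ψ x := hfix ψ (hψ u huN) x hx
        have h := hkey _ hψx
        rw [← End.mul_apply ψ, hψ2] at h
        have h2 := add_mem (hIu _ ((hΦc u).pow_left i) _ h) ih
        rw [map_sub, sub_add_sub_cancel] at h2
        rwa [pow_succ, End.mul_apply]
    have h := hpow m
    rw [hm, LinearMap.zero_apply, zero_sub] at h
    simpa using h

end Cfsg.Agent.Lib.Blocks
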