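import Cfsg.Agent.Lib.Blocks.PrimeOrderBound
import Cfsg.Agent.Lib.Blocks.HomocyclicTwo
import Cfsg.Agent.S0942
import Mathlib.Analysis.SpecialFunctions.Complex.CircleAddChar
import Mathlib.NumberTheory.LegendreSymbol.AddCharacter
import Mathlib.RingTheory.Polynomial.Cyclotomic.Eval

/-!
# The sections of a Sylow subgroup of order `p`
-/

set_option autoImplicit false
set_option linter.unusedSectionVars false
set_option linter.unusedVariables false

namespace Cfsg.Agent.Lib.Blocks

open Cfsg Cfsg.Agent.Lib.Characters Cfsg.Agent.Lib.Cores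
open scoped ComplexConjugate

universe u

variable {G : Type u} [Group G] [Fintype G] {M : Ideal AlgInt} [hMp : M.IsPrime] {p : ℕ}
  [hp : Fact p.Prime]

/-- Exponentiation by a residue modulo `p`. -/
def upow (u : G) (i : ZMod p) : G := u ^ i.val

theorem upow_zero (u : G) : upow (p := p) u 0 = 1 := by simp [upow]

theorem upow_natCast {u : G} (hu : u ^ p = 1) (n : ℕ) : upow (p := p) u n = u ^ n := by
  rw [upow, ZMod.val_natCast, ← pow_eq_pow_mod _ hu]

theorem upow_add {u : G} (hu : u ^ p = 1) (i j : ZMod p) :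
    upow u (i + j) = upow u i * upow u j := by
  rw [upow, upow, upow, ← pow_add, ZMod.val_add, ← pow_eq_pow_mod _ hu]

theorem upow_mem {P : Subgroup G} {u : G} (hu : u ∈ P) (i : ZMod p) : upow u i ∈ P := P.pow_mem hu _

theorem upow_eq_one_iff {u : G} (hu : orderOf u = p) (i : ZMod p) : upow u i = 1 ↔ i = 0 := by
  rw [upow, ← orderOf_dvd_iff_pow_eq_one, hu, ← ZMod.natCast_eq_zero_iff, ZMod.natCast_zmod_val]

theorem upow_injective {u : G} (hu : orderOf u = p) : Function.Injective (upow (p := p) u) := by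
  intro i j h
  have h' : upow u (i - j) = 1 := by
    apply mul_right_cancel (b := upow u j)
    rw [← upow_add (hu ▸ pow_orderOf_eq_one u), sub_add_cancel, one_mul, h]
  exact sub_eq_zero.1 ((upow_eq_one_iff hu _).1 h')

theorem exists_upow_eq {P : Subgroup G} (hP : Nat.card P = p) {u : G} (hu : u ∈ P) (hu1 : u ≠ 1)
    {x : G} (hx : x ∈ P) : ∃ i : ZMod p, upow u i = x := by
  obtain ⟨j, rfl⟩ := exists_pow_eq_mem hP hu hu1 hx
  exact ⟨j, upow_natCast (orderOf_of_mem_prime hP hu hu1 ▸ pow_orderOf_eq_one u) j⟩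

theorem upow_mul_natCast {u : G} (hu : u ^ p = 1) (n : ℕ) (i : ZMod p) :
    upow u ((n : ZMod p) * i) = upow u i ^ n := by
  conv_lhs => rw [← ZMod.natCast_zmod_val i, ← Nat.cast_mul, upow_natCast hu]
  rw [upow, ← pow_mul, mul_comm]

theorem centralizer_eq_of_prime (P : Subgroup G) (hP : Nat.card P = p) {x : G} (hx : x ∈ P)
    (hx1 : x ≠ 1) :
    Subgroup.centralizer ({x} : Set G) = Subgroup.centralizer (P : Set G) := by
  refine le_antisymm (fun c hc => Subgroup.mem_centralizer_iff.2 fun y hy => ?_)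
    (Subgroup.centralizer_le (Set.singleton_subset_iff.2 hx))
  obtain ⟨j, rfl⟩ := exists_pow_eq_mem hP hx hx1 hy
  exact ((show Commute c x from Subgroup.mem_centralizer_singleton_iff.1 hc).pow_right j).eq.symm

theorem index_pPrimeCore_centralizer (P : Subgroup G) (hP : Nat.card P = p)
    (hsq : ¬ p ^ 2 ∣ Nat.card G) {x : G} (hx : x ∈ P) (hx1 : x ≠ 1) :
    (pPrimeCore p (Subgroup.centralizer ({x} : Set G))).index = p ^ 1 := by
  have hmem : x ∈ Subgroup.centralizer ({x} : Set G) := Subgroup.mem_centralizer_singleton_iff.2 rfl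
  set x' : Subgroup.centralizer ({x} : Set G) := ⟨x, hmem⟩ with hx'
  have hx'ord : orderOf x' = p := by rw [Subgroup.orderOf_mk, orderOf_of_mem_prime hP hx hx1]
  have hdvd : p ∣ Nat.card (Subgroup.centralizer ({x} : Set G)) := hx'ord ▸ orderOf_dvd_natCard x'
  have hfac : (Nat.card (Subgroup.centralizer ({x} : Set G))).factorization p = 1 := by
    refine le_antisymm ?_ (hp.out.factorization_pos_of_dvd Nat.card_pos.ne' hdvd)
    by_contra hlt
    exact hsq (((pow_dvd_pow p (by omega : 2 ≤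
      (Nat.card (Subgroup.centralizer ({x} : Set G))).factorization p)).trans
      (Nat.ordProj_dvd _ _)).trans (Subgroup.card_subgroup_dvd_card _))
  let Q : Sylow p (Subgroup.centralizer ({x} : Set G)) := Sylow.ofCard (Subgroup.zpowers x')
    (by rw [Nat.card_zpowers, hx'ord, hfac, pow_one])
  have hQ : (Q : Subgroup (Subgroup.centralizer ({x} : Set G))) = Subgroup.zpowers x' := rfl
  rw [index_pPrimeCore_of_normalizer_le Q ?_, hQ, Nat.card_zpowers, hx'ord, pow_one]
  intro c _
  rw [hQ, Subgroup.mem_centralizer_iff]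
  rintro _ ⟨k, rfl⟩
  exact ((show Commute c x' from Subtype.ext
    (Subgroup.mem_centralizer_singleton_iff.1 c.2)).zpow_right k).eq.symm

/-- The `p`-regular elements of the centralizer form a subgroup complementing `P`. -/
theorem regular_core (P : Subgroup G) (hP : Nat.card P = p) (hsq : ¬ p ^ 2 ∣ Nat.card G)
    {u : G} (hu : u ∈ P) (hu1 : u ≠ 1) :
    (∀ y, y ∈ centralizerPPrimeCore p u ↔ y ∈ Subgroup.centralizer (P : Set G) ∧ ¬ p ∣ orderOf y) ∧
      ¬ p ∣ Nat.card (centralizerPPrimeCore p u) ∧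
      (∀ c ∈ Subgroup.centralizer (P : Set G), ∃ j : ℕ, ∃ y ∈ centralizerPPrimeCore p u,
        c = u ^ j * y) := by
  set D := Subgroup.centralizer ({u} : Set G) with hD
  have hDC : D = Subgroup.centralizer (P : Set G) := centralizer_eq_of_prime P hP hu hu1
  set K := pPrimeCore p D with hK
  haveI : K.Normal := (pPrimeCore_mem p D).1
  have hidx : K.index = p := (index_pPrimeCore_centralizer P hP hsq hu hu1).trans (pow_one p)
  have hordu : orderOf u = p := orderOf_of_mem_prime hP hu hu1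
  have hreg : ∀ c : D, c ∈ K ↔ ¬ p ∣ orderOf c := by
    intro c
    constructor
    · exact fun hc h => not_dvd_card_pPrimeCore (p := p) (G := D)
        (h.trans (Subgroup.orderOf_dvd_natCard K hc))
    · intro hc
      rw [← QuotientGroup.eq_one_iff, ← orderOf_eq_one_iff]
      refine Nat.eq_one_of_dvd_coprimes (Nat.Coprime.symm (hp.out.coprime_iff_not_dvd.2 hc))
        (orderOf_map_dvd (QuotientGroup.mk' K) c) ?_
      exact (orderOf_dvd_natCard _).trans hidx.dvd
  have hOmem : ∀ y, y ∈ centralizerPPrimeCore p u ↔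
      y ∈ Subgroup.centralizer (P : Set G) ∧ ¬ p ∣ orderOf y := by
    intro y
    constructor
    · rintro ⟨c, hc, rfl⟩
      exact ⟨(SetLike.ext_iff.1 hDC _).1 c.2, fun h => (hreg c).1 hc (by rw [← Subgroup.orderOf_coe]; exact h)⟩
    · rintro ⟨hy, hy'⟩
      exact ⟨⟨y, (SetLike.ext_iff.1 hDC _).2 hy⟩, (hreg _).2 (by rwa [Subgroup.orderOf_mk]), rfl⟩
  refine ⟨hOmem, ?_, fun c hc => ?_⟩
  · rw [centralizerPPrimeCore, Subgroup.card_subtype]
    exact not_dvd_card_pPrimeCore
  · set u' : D := ⟨u, Subgroup.mem_centralizer_singleton_iff.2 rfl⟩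
    have hu'K : u' ∉ K := fun h => (hreg u').1 h (by rw [Subgroup.orderOf_mk, hordu])
    haveI : Fact (Nat.card (D ⧸ K)).Prime := ⟨by rw [← Subgroup.index, hidx]; exact hp.out⟩
    have h := mem_zpowers_of_prime_card (G := D ⧸ K) rfl
      (g := (u' : D ⧸ K)) (g' := ((⟨c, (SetLike.ext_iff.1 hDC _).2 hc⟩ : D) : D ⧸ K))
      (fun h => hu'K ((QuotientGroup.eq_one_iff u').1 h))
    rw [← mem_powers_iff_mem_zpowers] at h
    obtain ⟨j, hj⟩ := h
    set d : D := (u' ^ j)⁻¹ * ⟨c, (SetLike.ext_iff.1 hDC _).2 hc⟩ with hd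
    refine ⟨j, (d : G), ⟨d, ?_, rfl⟩, ?_⟩
    · exact QuotientGroup.eq.1 ((QuotientGroup.mk_pow K u' j).trans hj)
    · simp [d, u']

/-- The multiplicity of a linear character in the restriction to `⟨u⟩` is a natural number. -/
theorem exists_mult_nat {u : G} (hu : orderOf u = p) (χ : IrrCharacter G) (j : ZMod p) :
    ∃ n : ℕ, (n : ℂ) = (p : ℂ)⁻¹ * ∑ i : ZMod p,
      (χ : G → ℂ) (upow u i) * ZMod.stdAddChar (-(i * j)) := by
  obtain ⟨n, ρ, -, hρ⟩ := χ.2
  have hu' : u ^ p = 1 := hu ▸ pow_orderOf_eq_one u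
  let Q : Module.End ℂ (Fin n → ℂ) :=
    (p : ℂ)⁻¹ • ∑ i : ZMod p, ZMod.stdAddChar (-(i * j)) • ρ (upow u i)
  have hQ : Q * Q = Q := by
    have h : ∀ a : ZMod p, (ZMod.stdAddChar (-(a * j)) • ρ (upow u a)) *
        (∑ i : ZMod p, ZMod.stdAddChar (-(i * j)) • ρ (upow u i)) =
        ∑ i : ZMod p, ZMod.stdAddChar (-(i * j)) • ρ (upow u i) := by
      intro a
      rw [Finset.mul_sum]
      refine Fintype.sum_equiv (Equiv.addLeft a) _ _ fun b => ?_
      rw [smul_mul_smul_comm, ← AddChar.map_add_eq_mul, ← map_mul, ← upow_add hu',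
        Equiv.coe_addLeft, add_mul, neg_add]
    simp only [Q, smul_mul_smul_comm, Finset.sum_mul]
    rw [Finset.sum_congr rfl fun a _ => h a, Finset.sum_const, Finset.card_univ, ZMod.card,
      ← Nat.cast_smul_eq_nsmul ℂ, smul_smul, mul_assoc,
      inv_mul_cancel₀ (Nat.cast_ne_zero.2 hp.out.ne_zero), mul_one]
  refine ⟨Module.finrank ℂ (LinearMap.range Q), ?_⟩
  have hproj : LinearMap.IsProj (LinearMap.range Q) Q :=
    ⟨fun x => ⟨x, rfl⟩, by rintro _ ⟨y, rfl⟩; rw [← Module.End.mul_apply, hQ]⟩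
  rw [← hproj.trace]
  simp only [Q, map_smul, map_sum, smul_eq_mul, ← hρ, Representation.character]
  exact congrArg _ (Finset.sum_congr rfl fun i _ => mul_comm _ _)

theorem sum_stdAddChar_mul (b : ZMod p) :
    ∑ x : ZMod p, ZMod.stdAddChar (x * b) = if b = 0 then (p : ℂ) else 0 := by
  rw [AddChar.sum_mulShift b (ZMod.isPrimitive_stdAddChar p), ZMod.card]
  split_ifs <;> simp

/-- Fourier inversion on `⟨u⟩`. -/
theorem eq_sum_mult {u : G} (χ : IrrCharacter G) (m : ZMod p → ℕ)
    (hm : ∀ j, (m j : ℂ) = (p : ℂ)⁻¹ * ∑ i : ZMod p,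
      (χ : G → ℂ) (upow u i) * ZMod.stdAddChar (-(i * j))) (i : ZMod p) :
    (χ : G → ℂ) (upow u i) = ∑ j, (m j : ℂ) * ZMod.stdAddChar (i * j) := by
  classical
  have hp0 : (p : ℂ) ≠ 0 := Nat.cast_ne_zero.2 hp.out.ne_zero
  calc (χ : G → ℂ) (upow u i) = ∑ i', (p : ℂ)⁻¹ * (χ : G → ℂ) (upow u i') *
        (if i - i' = 0 then (p : ℂ) else 0) := by
        rw [Finset.sum_eq_single i]
        · rw [if_pos (sub_self i)]; field_simp
        · intro b _ hb; rw [if_neg (sub_ne_zero.2 (Ne.symm hb)), mul_zero]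
        · simp
    _ = ∑ i', ∑ j, (p : ℂ)⁻¹ * (χ : G → ℂ) (upow u i') * ZMod.stdAddChar (j * (i - i')) :=
        Finset.sum_congr rfl fun i' _ => by rw [← sum_stdAddChar_mul, Finset.mul_sum]
    _ = _ := by
        rw [Finset.sum_comm]
        refine Finset.sum_congr rfl fun j _ => ?_
        rw [hm, Finset.mul_sum, Finset.sum_mul]
        refine Finset.sum_congr rfl fun i' _ => ?_
        rw [show j * (i - i') = -(i' * j) + i * j by ring, AddChar.map_add_eq_mul]
        ring

theorem conj_stdAddChar (x : ZMod p) : conj (ZMod.stdAddChar x) = ZMod.stdAddChar (-x) :=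
  (AddChar.map_neg_eq_conj _ _).symm

/-- The product of all `1 - ζ^s`. -/
theorem prod_one_sub_stdAddChar :
    ∏ s ∈ (Finset.univ : Finset (ZMod p)).erase 0, (1 - ZMod.stdAddChar s) = (p : ℂ) := by
  classical
  have hprim : IsPrimitiveRoot (ZMod.stdAddChar (1 : ZMod p)) p := by
    refine IsPrimitiveRoot.mk_of_lt _ hp.out.pos ?_ fun l hl hlp => ?_
    · rw [← AddChar.map_nsmul_eq_pow, nsmul_one, ZMod.natCast_self, AddChar.map_zero_eq_one]
    · rw [← AddChar.map_nsmul_eq_pow, nsmul_one]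
      intro h
      rw [← AddChar.map_zero_eq_one (ZMod.stdAddChar (N := p))] at h
      have h2 := ZMod.injective_stdAddChar h
      rw [ZMod.natCast_eq_zero_iff] at h2
      exact absurd (Nat.le_of_dvd hl h2) (by omega)
  have hroots : primitiveRoots p ℂ = ((Finset.univ : Finset (ZMod p)).erase 0).image ZMod.stdAddChar := by
    symm
    refine Finset.eq_of_subset_of_card_le ?_ ?_
    · intro z hz
      obtain ⟨s, hs, rfl⟩ := Finset.mem_image.1 hz
      rw [mem_primitiveRoots hp.out.pos,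
        show s = s.val • (1 : ZMod p) by rw [nsmul_one, ZMod.natCast_zmod_val],
        AddChar.map_nsmul_eq_pow]
      refine hprim.pow_of_coprime _ (Nat.Coprime.symm (hp.out.coprime_iff_not_dvd.2 ?_))
      exact Nat.not_dvd_of_pos_of_lt (Nat.pos_of_ne_zero fun h =>
        (Finset.mem_erase.1 hs).1 ((ZMod.val_eq_zero s).1 h)) (ZMod.val_lt s)
    · rw [hprim.card_primitiveRoots, Nat.totient_prime hp.out,
        Finset.card_image_of_injective _ ZMod.injective_stdAddChar,
        Finset.card_erase_of_mem (Finset.mem_univ _), Finset.card_univ, ZMod.card]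
  have h := Polynomial.eval_one_cyclotomic_prime (R := ℂ) (p := p)
  rw [Polynomial.cyclotomic_eq_prod_X_sub_primitiveRoots hprim, hroots,
    Finset.prod_image ZMod.injective_stdAddChar.injOn, Polynomial.eval_prod] at h
  simpa using h

theorem memLocalRing_stdAddChar (x : ZMod p) : MemLocalRing M (ZMod.stdAddChar x) :=
  memLocalRing_of_isIntegral' (IsIntegral.of_pow hp.out.pos (by
    rw [← AddChar.map_nsmul_eq_pow, show p • x = 0 by
      rw [nsmul_eq_mul, ZMod.natCast_self, zero_mul], AddChar.map_zero_eq_one]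
    exact isIntegral_one))

/-- All the `1 - ζ^s` are associates. -/
theorem memLocalRing_one_sub_div {s s' : ZMod p} (hs' : s' ≠ 0) :
    MemLocalRing M ((1 - ZMod.stdAddChar s) / (1 - ZMod.stdAddChar s')) := by
  have hne : (1 : ℂ) - ZMod.stdAddChar s' ≠ 0 := sub_ne_zero.2 fun h => hs'
    (ZMod.injective_stdAddChar (h.symm.trans (AddChar.map_zero_eq_one _).symm))
  have hk : (s * s'⁻¹).val • s' = s := by
    rw [nsmul_eq_mul, ZMod.natCast_zmod_val, mul_assoc, inv_mul_cancel₀ hs', mul_one]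
  have e : (1 - ZMod.stdAddChar s) =
      (∑ i ∈ Finset.range (s * s'⁻¹).val, ZMod.stdAddChar s' ^ i) * (1 - ZMod.stdAddChar s') := by
    rw [geom_sum_mul_neg, ← AddChar.map_nsmul_eq_pow, hk]
  rw [e, mul_div_cancel_right₀ _ hne]
  exact memLocalRing_sum _ fun i _ => memLocalRing_pow (memLocalRing_stdAddChar _) i

end Cfsg.Agent.Lib.Blocks
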