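import Cfsg.Agent.Lib.Blocks.PrimeOrderSections
import Cfsg.Agent.Lib.Blocks.PrimeOrderProduct

/-!
# Exceptional characters at a Sylow subgroup of order `p`
-/

set_option autoImplicit false
set_option linter.unusedSectionVars false
set_option linter.unusedVariables false

namespace Cfsg.Agent.Lib.Blocks

open Cfsg Cfsg.Agent.Lib.Characters
open Polynomial (X C)

universe u

/-- An equidistant family of sets at distance two is a sunflower or a co-sunflower. -/
theorem exceptional_dichotomy {J α : Type*} [DecidableEq α] [Nonempty α] (F : J → Finset α)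
    (R : J → J → Prop) (hsymm : ∀ i j, R i j → R j i) (hR : ∀ i j, R i j → F i = F j)
    (hnR : ∀ i j, ¬ R i j → (F i \ F j).card = 1) {i₀ i₁ : J} (h01 : ¬ R i₀ i₁) :
    ∃ Y : J → α, (∀ i j, Y i = Y j ↔ R i j) ∧
      ((∀ i j, Y i ∈ F j ↔ R i j) ∨ (∀ i j, Y i ∈ F j ↔ ¬ R i j)) ∧
      ∀ a, (∀ i, a ≠ Y i) → ∀ i j, a ∈ F i ↔ a ∈ F j := by
  classical
  have hcard : ∀ i j, (F i).card = (F j).card := by
    intro i j
    by_cases h : R i j
    · rw [hR i j h]
    · have h1 := hnR i j h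
      have h2 := hnR j i fun h' => h (hsymm _ _ h')
      have e1 := Finset.card_sdiff_add_card_inter (F i) (F j)
      have e2 := Finset.card_sdiff_add_card_inter (F j) (F i)
      rw [Finset.inter_comm] at e2
      omega
  have hint : ∀ i j, ¬ R i j → (F i ∩ F j).card + 1 = (F i).card := by
    intro i j h
    have e1 := Finset.card_sdiff_add_card_inter (F i) (F j)
    rw [hnR i j h] at e1
    omega
  set K := F i₀ ∩ F i₁ with hK
  set L := F i₀ ∪ F i₁ with hL
  set w := (F i₀).card with hw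
  have hKw : K.card + 1 = w := hint _ _ h01
  have hLw : L.card = w + 1 := by
    have := Finset.card_union_add_card_inter (F i₀) (F i₁)
    have := hcard i₀ i₁
    rw [← hK, ← hL] at *
    omega
  have hdich : ∀ j, K ⊆ F j ∨ F j ⊆ L := by
    intro j
    by_contra hcon
    push Not at hcon
    obtain ⟨hKj, hjL⟩ := hcon
    have hj0 : ¬ R i₀ j := fun h => hjL (hR _ _ h ▸ Finset.subset_union_left)
    have hj1 : ¬ R i₁ j := fun h => hjL (hR _ _ h ▸ Finset.subset_union_right)
    obtain ⟨x, hxK, hxj⟩ := Finset.not_subset.1 hKj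
    rw [hK, Finset.mem_inter] at hxK
    obtain ⟨a, ha⟩ := Finset.card_eq_one.1 (hnR _ _ hj0)
    obtain ⟨b, hb⟩ := Finset.card_eq_one.1 (hnR _ _ hj1)
    have hxa : x = a := Finset.mem_singleton.1 (ha ▸ Finset.mem_sdiff.2 ⟨hxK.1, hxj⟩)
    have hxb : x = b := Finset.mem_singleton.1 (hb ▸ Finset.mem_sdiff.2 ⟨hxK.2, hxj⟩)
    have hsub : L.erase x ⊆ F j := by
      intro y hy
      rw [Finset.mem_erase, hL, Finset.mem_union] at hy
      by_contra hyj
      rcases hy.2 with h | h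
      · exact hy.1 ((Finset.mem_singleton.1 (ha ▸ Finset.mem_sdiff.2 ⟨h, hyj⟩)).trans hxa.symm)
      · exact hy.1 ((Finset.mem_singleton.1 (hb ▸ Finset.mem_sdiff.2 ⟨h, hyj⟩)).trans hxb.symm)
    have hxL : x ∈ L := Finset.mem_union_left _ hxK.1
    have h := Finset.eq_of_subset_of_card_le hsub (by
      rw [Finset.card_erase_of_mem hxL, hLw, hcard j i₀]; omega)
    exact hjL (h ▸ Finset.erase_subset _ _)
  by_cases hall : ∀ j, K ⊆ F j
  · have hY : ∀ j, ∃ y, F j \ K = {y} := fun j => Finset.card_eq_one.1 (by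
      rw [Finset.card_sdiff_of_subset (hall j), hcard j i₀, ← hw]; omega)
    choose Y hY using hY
    have hYmem : ∀ j, Y j ∈ F j ∧ Y j ∉ K := fun j =>
      Finset.mem_sdiff.1 (hY j ▸ Finset.mem_singleton_self _)
    have hmemF : ∀ j a, a ∈ F j → a ∈ K ∨ a = Y j := fun j a ha => by
      by_cases h : a ∈ K
      · exact Or.inl h
      · exact Or.inr (Finset.mem_singleton.1 (hY j ▸ Finset.mem_sdiff.2 ⟨ha, h⟩))
    have hiff : ∀ i j, Y i ∈ F j ↔ R i j := by
      refine fun i j => ⟨fun h => ?_, fun h => hR i j h ▸ (hYmem i).1⟩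
      by_contra hn
      have hKij : K ⊆ F i ∩ F j := Finset.subset_inter (hall i) (hall j)
      have hE := Finset.eq_of_subset_of_card_le hKij (by
        have := hint i j hn; have := hcard i i₀; omega)
      exact (hYmem i).2 (hE ▸ Finset.mem_inter.2 ⟨(hYmem i).1, h⟩)
    refine ⟨Y, fun i j => ⟨fun h => (hiff i j).1 (h ▸ (hYmem j).1), fun h => ?_⟩, Or.inl hiff,
      fun a ha i j => ?_⟩
    · exact ((hmemF j _ ((hiff i j).2 h)).resolve_left (hYmem i).2)
    · constructor
      · exact fun h => hall j ((hmemF i a h).resolve_right (ha i))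
      · exact fun h => hall i ((hmemF j a h).resolve_right (ha j))
  push Not at hall
  obtain ⟨k, hk⟩ := hall
  have hkL := (hdich k).resolve_left hk
  have hallL : ∀ j, F j ⊆ L := by
    intro l
    by_contra hl
    have hlK := (hdich l).resolve_right hl
    have hkl : ¬ R k l := fun h => hl (hR _ _ h ▸ hkL)
    obtain ⟨c, hc, hcL⟩ := Finset.not_subset.1 hl
    have hFl : F l = insert c K := by
      symm
      refine Finset.eq_of_subset_of_card_le (Finset.insert_subset hc hlK) ?_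
      rw [Finset.card_insert_of_notMem (fun h => hcL (Finset.mem_union_left _ (Finset.mem_inter.1 h).1)),
        hcard l i₀, ← hw]
      exact hKw.ge
    obtain ⟨x, hxK, hxk⟩ := Finset.not_subset.1 hk
    have hsub : F k ∩ F l ⊆ K.erase x := by
      intro y hy
      rw [Finset.mem_inter, hFl, Finset.mem_insert] at hy
      refine Finset.mem_erase.2 ⟨fun h => hxk (h ▸ hy.1), hy.2.resolve_left fun h => ?_⟩
      exact hcL (hkL (h ▸ hy.1))
    have := Finset.card_le_card hsub
    rw [Finset.card_erase_of_mem hxK] at this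
    have := hint k l hkl
    have := hcard k i₀
    have : 1 ≤ K.card := Finset.card_pos.2 ⟨x, hxK⟩
    omega
  have hY : ∀ j, ∃ y, L \ F j = {y} := fun j => Finset.card_eq_one.1 (by
    rw [Finset.card_sdiff_of_subset (hallL j), hcard j i₀, hLw, ← hw]; omega)
  choose Y hY using hY
  have hYmem : ∀ j, Y j ∈ L ∧ Y j ∉ F j := fun j =>
    Finset.mem_sdiff.1 (hY j ▸ Finset.mem_singleton_self _)
  have hout : ∀ j a, a ∈ L → a ∉ F j → a = Y j := fun j a ha h' =>
    Finset.mem_singleton.1 (hY j ▸ Finset.mem_sdiff.2 ⟨ha, h'⟩)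
  have hiff : ∀ i j, Y i ∈ F j ↔ ¬ R i j := by
    refine fun i j => ⟨fun h hr => (hYmem i).2 (hR i j hr ▸ h), fun hn => ?_⟩
    by_contra h
    have hsub : F j ⊆ F i := by
      intro y hy
      by_contra hyi
      exact h (hout i y (hallL j hy) hyi ▸ hy)
    have := hnR j i fun h' => hn (hsymm _ _ h')
    rw [Finset.sdiff_eq_empty_iff_subset.2 hsub, Finset.card_empty] at this
    omega
  refine ⟨Y, fun i j => ⟨fun h => ?_, fun h => ?_⟩, Or.inr hiff, fun a ha i j => ?_⟩
  · by_contra hn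
    exact (hYmem j).2 (h ▸ (hiff i j).2 hn)
  · exact hout j _ (hYmem i).1 fun hm => (hiff i j).1 hm h
  · constructor
    · intro h; by_contra h'; exact ha j (hout j a (hallL i h) h')
    · intro h; by_contra h'; exact ha i (hout i a (hallL j h) h')

variable {G : Type u} [Group G] [Fintype G] {M : Ideal AlgInt} [hMp : M.IsPrime] {p : ℕ}
  [hp : Fact p.Prime]

theorem memLocalRing_mul_div {x y d : ℂ} (hx : MemLocalRing M x) (hy : MemLocalRing M (y / d)) :
    MemLocalRing M (x * y / d) := by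
  rw [mul_div_assoc]; exact memLocalRing_mul hx hy

/-- An exceptional character of a block with at least three exceptional characters is unshifted. -/
theorem no_shift (hM : IsPModular p M) (P : Subgroup G) (hP : Nat.card P = p)
    (hsq : ¬ p ^ 2 ∣ Nat.card G) {u : G} (hu : u ∈ P) (hu1 : u ≠ 1) {r e : ℕ}
    (hr : IsPrimitiveRoot (r : ZMod p) e) (hepos : 0 < e) (he : 2 * e < p - 1)
    (hN : ∀ g ∈ Subgroup.normalizer (P : Set G), ∃ h : ZMod p, h ^ e = 1 ∧
      ∀ i, g * upow u i * g⁻¹ = upow u (h * i))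
    (χ : IrrCharacter G) (m : ZMod p → ℕ) (A ε : ℤ) (j₀ : ZMod p) (hj₀ : j₀ ≠ 0)
    (hε : ε = 1 ∨ ε = -1)
    (hm : ∀ j, (m j : ℂ) = (p : ℂ)⁻¹ * ∑ i : ZMod p,
      (χ : G → ℂ) (upow u i) * ZMod.stdAddChar (-(i * j)))
    (hd : ∀ j : ZMod p, j ≠ 0 →
      (m 0 : ℤ) - m j = A - if (j * j₀⁻¹) ^ e = 1 then ε else 0)
    (hA : A ≠ 0) (hAp : A.natAbs < p) : False := by
  classical
  have hp0 : (p : ℂ) ≠ 0 := Nat.cast_ne_zero.2 hp.out.ne_zero
  have hordu : orderOf u = p := orderOf_of_mem_prime hP hu hu1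
  have hup : u ^ p = 1 := hordu ▸ pow_orderOf_eq_one u
  set ψ := ZMod.stdAddChar (N := p) with hψ
  set H : Finset (ZMod p) := (Polynomial.nthRoots e (1 : ZMod p)).toFinset with hH
  have hHmem : ∀ x, x ∈ H ↔ x ^ e = 1 := fun x => by
    rw [hH, Multiset.mem_toFinset, Polynomial.mem_nthRoots hepos]
  have hHcard : H.card = e := by
    rw [hH, Multiset.toFinset_card_of_nodup hr.nthRoots_one_nodup, hr.card_nthRoots_one]
  have hH0 : ∀ x ∈ H, x ≠ 0 := fun x hx h => by
    rw [hHmem, h, zero_pow hepos.ne'] at hx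
    exact zero_ne_one hx
  set O : Finset (ZMod p) := H.image (· * j₀) with hO
  have hOmem : ∀ j, j ∈ O ↔ (j * j₀⁻¹) ^ e = 1 := by
    intro j
    rw [hO, Finset.mem_image]
    constructor
    · rintro ⟨x, hx, rfl⟩
      rwa [mul_inv_cancel_right₀ hj₀, ← hHmem]
    · exact fun h => ⟨j * j₀⁻¹, (hHmem _).2 h, by rw [inv_mul_cancel_right₀ hj₀]⟩
  have hOcard : O.card = e := by
    rw [hO, Finset.card_image_of_injective _ (mul_left_injective₀ hj₀), hHcard]
  have hO0 : (0 : ZMod p) ∉ O := fun h => by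
    rw [hOmem, zero_mul, zero_pow hepos.ne'] at h
    exact zero_ne_one h
  have hOH : ∀ h ∈ H, ∀ j ∈ O, h * j ∈ O := by
    intro h hh j hj
    rw [hOmem] at hj ⊢
    rw [mul_assoc, mul_pow, hj, mul_one, ← hHmem]
    exact hh
  -- the transforms
  let tr : (ZMod p → ℂ) → ZMod p → ℂ := fun α k => ∑ a, α a * ψ (a * k)
  have hpoly : ∀ S : Finset (ZMod p), S.card < p → ∃ α : ZMod p → ℂ,
      (∀ a, MemLocalRing M (α a)) ∧ ∀ k, tr α k = ∏ s ∈ S, (ψ k - ψ s) := by
    intro S hS
    let Q : Polynomial (locSubring M) :=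
      ∏ s ∈ S, (X - C (⟨ψ s, memLocalRing_stdAddChar s⟩ : locSubring M))
    refine ⟨fun a => ((Q.coeff a.val : locSubring M) : ℂ), fun a => (Q.coeff a.val).2, fun k => ?_⟩
    have hdeg : (Q.map (locSubring M).subtype).natDegree < p := by
      refine lt_of_le_of_lt Polynomial.natDegree_map_le (lt_of_le_of_lt ?_ hS)
      refine (Polynomial.natDegree_prod_le _ _).trans ((Finset.sum_le_card_nsmul _ _ 1 ?_).trans ?_)
      · exact fun s _ => Polynomial.natDegree_X_sub_C_le _
      · simp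
    have h := Polynomial.eval_eq_sum_range' hdeg (ψ k)
    rw [Polynomial.map_prod, Polynomial.eval_prod] at h
    simp only [Polynomial.map_sub, Polynomial.map_X, Polynomial.map_C, Polynomial.eval_sub,
      Polynomial.eval_X, Polynomial.eval_C] at h
    rw [show ∏ s ∈ S, (ψ k - ψ s) = _ from h]
    refine Finset.sum_bij (fun a _ => a.val) (fun a _ => Finset.mem_range.2 (ZMod.val_lt a))
      (fun a _ b _ h => ZMod.val_injective p h)
      (fun n hn => ⟨(n : ZMod p), Finset.mem_univ _, ZMod.val_cast_of_lt (Finset.mem_range.1 hn)⟩)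
      fun a _ => ?_
    rw [Polynomial.map_prod] at *
    simp only [Polynomial.map_sub, Polynomial.map_X, Polynomial.map_C]
    rw [← AddChar.map_nsmul_eq_pow, nsmul_eq_mul, ZMod.natCast_zmod_val]
    congr 1
    rw [show (∏ i ∈ S, (X - C ((locSubring M).subtype ⟨ψ i, memLocalRing_stdAddChar i⟩))) =
      Q.map (locSubring M).subtype by simp [Q, Polynomial.map_prod], Polynomial.coeff_map]
    rfl
  obtain ⟨α₀, hα₀, hα₀t⟩ := hpoly O (by omega)
  have hecast : ¬ p ∣ e := fun h => by have := Nat.le_of_dvd hepos h; omega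
  let α : ZMod p → ℂ := fun a => (e : ℂ)⁻¹ * ∑ h ∈ H, α₀ (h * a)
  have hα : ∀ a, MemLocalRing M (α a) := fun a => memLocalRing_mul
    (memLocalRing_inv_natCast hM hecast) (memLocalRing_sum _ fun h _ => hα₀ _)
  have hαinv : ∀ h ∈ H, ∀ a, α (h * a) = α a := by
    intro h hh a
    simp only [α]
    congr 1
    refine Finset.sum_bij (fun x _ => x * h) (fun x hx => ?_)
      (fun x _ y _ hxy => mul_right_cancel₀ (hH0 h hh) hxy)
      (fun y hy => ⟨y * h⁻¹, ?_, inv_mul_cancel_right₀ (hH0 h hh) y⟩) (fun x _ => by rw [mul_assoc])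
    · rw [hHmem] at *; rw [mul_pow, hx, hh, one_mul]
    · rw [hHmem] at *; rw [mul_pow, hy, inv_pow, hh, inv_one, one_mul]
  have hαt : ∀ k, tr α k = (e : ℂ)⁻¹ * ∑ h ∈ H, ∏ s ∈ O, (ψ (h⁻¹ * k) - ψ s) := by
    intro k
    simp only [tr, α, mul_assoc, Finset.sum_mul, ← Finset.mul_sum]
    congr 1
    rw [Finset.sum_comm]
    refine Finset.sum_congr rfl fun h hh => ?_
    rw [← hα₀t]
    refine Fintype.sum_equiv (Equiv.mulLeft₀ h (hH0 h hh)) _ _ fun a => ?_
    show α₀ (h * a) * ψ (a * k) = α₀ (h * a) * ψ (h * a * (h⁻¹ * k))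
    rw [show h * a * (h⁻¹ * k) = h * h⁻¹ * (a * k) by ring, mul_inv_cancel₀ (hH0 h hh), one_mul]
  set a₀ : ℂ := ∏ s ∈ O, (1 - ψ s) with ha₀
  have hα0 : tr α 0 = a₀ := by
    have hec : (e : ℂ) ≠ 0 := Nat.cast_ne_zero.2 hepos.ne'
    rw [hαt]
    simp only [mul_zero, AddChar.map_zero_eq_one]
    rw [Finset.sum_const, hHcard, nsmul_eq_mul, ← mul_assoc, inv_mul_cancel₀ hec, one_mul]
  have hαO : ∀ k ∈ O, tr α k = 0 := by
    intro k hk
    rw [hαt, Finset.sum_eq_zero, mul_zero]
    intro h hh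
    refine Finset.prod_eq_zero (hOH h⁻¹ ?_ k hk) (sub_self _)
    rw [hHmem] at hh ⊢
    rw [inv_pow, hh, inv_one]
  have hj₀O : j₀ ∈ O := by rw [hOmem, mul_inv_cancel₀ hj₀, one_pow]
  obtain ⟨β, hβ, hβt⟩ := hpoly (insert 0 (O.erase j₀)) (by
    have := Finset.card_insert_le (0 : ZMod p) (O.erase j₀)
    rw [Finset.card_erase_of_mem hj₀O, hOcard] at this
    omega)
  set b₀ : ℂ := ∏ s ∈ insert 0 (O.erase j₀), (ψ j₀ - ψ s) with hb₀
  have hβ0 : ∀ k, k = 0 ∨ (k ∈ O ∧ k ≠ j₀) → tr β k = 0 := by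
    intro k hk
    rw [hβt]
    refine Finset.prod_eq_zero (i := k) ?_ (sub_self _)
    rcases hk with rfl | ⟨h1, h2⟩
    · exact Finset.mem_insert_self _ _
    · exact Finset.mem_insert_of_mem (Finset.mem_erase.2 ⟨h2, h1⟩)
  -- the functions on the group
  let fn : (ZMod p → ℂ) → G → ℂ := fun γ z => ∑ a, if upow u a = z then γ a else 0
  have hfn : ∀ γ : ZMod p → ℂ, (∀ a, MemLocalRing M (γ a)) → ∀ z, MemLocalRing M (fn γ z) :=
    fun γ hγ z => memLocalRing_sum _ fun a _ => by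
      split_ifs
      exacts [hγ a, memLocalRing_zero]
  have hfnC : ∀ γ z, fn γ z ≠ 0 → z ∈ Subgroup.centralizer (P : Set G) := by
    intro γ z hz
    obtain ⟨a, -, ha⟩ := Finset.exists_ne_zero_of_sum_ne_zero hz
    have hza : upow u a = z := by by_contra h; exact ha (if_neg h)
    rw [← hza, Subgroup.mem_centralizer_iff]
    intro x hx
    obtain ⟨b, rfl⟩ := exists_upow_eq hP hu hu1 hx
    rw [← upow_add hup, add_comm, upow_add hup]
  have hfnsum : ∀ γ (F : G → ℂ), ∑ z, fn γ z * F z = ∑ a, γ a * F (upow u a) := by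
    intro γ F
    simp only [fn, Finset.sum_mul]
    rw [Finset.sum_comm]
    refine Finset.sum_congr rfl fun a _ => ?_
    rw [Finset.sum_eq_single (upow u a)]
    · rw [if_pos rfl]
    · intro z _ hz; rw [if_neg (Ne.symm hz), zero_mul]
    · simp
  have hfnN : ∀ g ∈ Subgroup.normalizer (P : Set G), ∀ x, fn α (g * x * g⁻¹) = fn α x := by
    intro g hg x
    obtain ⟨h, hh, hgh⟩ := hN g hg
    have hh0 : h ≠ 0 := hH0 h ((hHmem h).2 hh)
    simp only [fn]
    refine (Fintype.sum_equiv (Equiv.mulLeft₀ h hh0) _ _ fun a => ?_).symm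
    show (if upow u a = x then α a else 0) =
      if upow u (h * a) = g * x * g⁻¹ then α (h * a) else 0
    rw [← hgh, hαinv h ((hHmem h).2 hh)]
    exact if_congr (by simp) rfl rfl
  -- the values of the character on `P`
  have hval : ∀ i, (χ : G → ℂ) (upow u i) = ∑ j, (m j : ℂ) * ψ (i * j) := eq_sum_mult χ m hm
  have hsum1 : ∀ γ, ∑ z, fn γ z * (χ : G → ℂ) z = ∑ j, (m j : ℂ) * tr γ j := by
    intro γ
    rw [hfnsum]
    simp only [hval, tr, Finset.mul_sum]
    rw [Finset.sum_comm]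
    exact Finset.sum_congr rfl fun j _ => Finset.sum_congr rfl fun a _ => by ring
  have hsum2 : ∀ γ δ, ∑ z, ∑ w, fn γ z * fn δ w * (χ : G → ℂ) (z * w) =
      ∑ j, (m j : ℂ) * (tr γ j * tr δ j) := by
    intro γ δ
    simp only [mul_assoc, ← Finset.mul_sum]
    rw [hfnsum γ fun z => ∑ w, fn δ w * (χ : G → ℂ) (z * w)]
    simp only [hfnsum δ fun w => (χ : G → ℂ) (_ * w), ← upow_add hup, hval, tr, Finset.mul_sum,
      Finset.sum_mul]
    rw [Finset.sum_comm, Finset.sum_congr rfl fun x _ => Finset.sum_comm, Finset.sum_comm]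
    refine Finset.sum_congr rfl fun j _ => Finset.sum_congr rfl fun a _ =>
      Finset.sum_congr rfl fun b _ => ?_
    rw [add_mul, AddChar.map_add_eq_mul]
    ring
  -- reduce a linear form modulo the regular character
  let c : ZMod p → ℂ := fun j => if j = 0 then (A : ℂ) else if j ∈ O then (ε : ℂ) else 0
  have hmc : ∀ j, (m j : ℂ) = c j + ((m 0 : ℂ) - A) := by
    intro j
    simp only [c]
    by_cases hj : j = 0
    · subst hj; rw [if_pos rfl]; ring
    · have h := hd j hj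
      rw [if_neg hj]
      by_cases hjO : j ∈ O
      · rw [if_pos hjO]
        rw [if_pos ((hOmem j).1 hjO)] at h
        have h' : ((m 0 : ℂ) - m j) = (A : ℂ) - ε := by exact_mod_cast congrArg (fun z : ℤ => (z : ℂ)) h
        linear_combination -h'
      · rw [if_neg hjO]
        rw [if_neg (fun h' => hjO ((hOmem j).2 h')), sub_zero] at h
        have h' : ((m 0 : ℂ) - m j) = (A : ℂ) := by exact_mod_cast congrArg (fun z : ℤ => (z : ℂ)) h
        linear_combination -h'
  have hOnly : ∀ g : ZMod p → ℂ, ∑ j, c j * g j = A * g 0 + ε * ∑ j ∈ O, g j := by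
    intro g
    rw [← Finset.add_sum_erase _ _ (Finset.mem_univ (0 : ZMod p)), Finset.mul_sum]
    congr 1
    · simp [c]
    · rw [← Finset.sum_subset (s₁ := O) (fun x hx =>
        Finset.mem_erase.2 ⟨ne_of_mem_of_not_mem hx hO0, Finset.mem_univ _⟩) fun x hx hxO => by
          simp [c, hxO, (Finset.mem_erase.1 hx).1]]
      exact Finset.sum_congr rfl fun x hx => by
        simp [c, hx, ne_of_mem_of_not_mem hx hO0, mul_assoc]
  have htot : ∀ γ, ∑ j, tr γ j = (p : ℂ) * γ 0 := by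
    intro γ
    simp only [tr]
    rw [Finset.sum_comm, Finset.sum_eq_single 0]
    · simp [mul_comm (p : ℂ)]
    · intro a _ ha
      rw [← Finset.mul_sum, Finset.sum_congr rfl fun j _ => by rw [mul_comm a j],
        sum_stdAddChar_mul, if_neg ha, mul_zero]
    · simp
  have htot2 : ∀ γ δ, ∑ j, tr γ j * tr δ j = (p : ℂ) * ∑ a, γ a * δ (-a) := by
    intro γ δ
    simp only [tr, Finset.sum_mul_sum]
    rw [Finset.sum_comm, Finset.mul_sum]
    refine Finset.sum_congr rfl fun a _ => ?_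
    rw [Finset.sum_comm, Finset.sum_eq_single (-a)]
    · have : ∀ j : ZMod p, γ a * ψ (a * j) * (δ (-a) * ψ (-a * j)) = γ a * δ (-a) := by
        intro j
        rw [mul_mul_mul_comm, ← AddChar.map_add_eq_mul, neg_mul, add_neg_cancel,
          AddChar.map_zero_eq_one, mul_one]
      rw [Finset.sum_congr rfl fun j _ => this j, Finset.sum_const, Finset.card_univ, ZMod.card,
        nsmul_eq_mul]
    · intro b _ hb
      have : ∀ j : ZMod p, γ a * ψ (a * j) * (δ b * ψ (b * j)) = γ a * δ b * ψ (j * (a + b)) := by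
        intro j
        rw [mul_mul_mul_comm, ← AddChar.map_add_eq_mul]
        congr 2; ring
      rw [Finset.sum_congr rfl fun j _ => this j, ← Finset.mul_sum, sum_stdAddChar_mul,
        if_neg (fun h => hb (eq_neg_of_add_eq_zero_right h)), mul_zero]
    · simp
  have hK2 := product_congr hM P hP hsq χ (fn α) (fn β) (hfn α hα) (hfn β hβ) hfnN (hfnC α) (hfnC β)
  have hK1 := product_congr hM P hP hsq χ (fn α) (fn α) (hfn α hα) (hfn α hα) hfnN (hfnC α) (hfnC α)
  rw [hsum2, hsum1] at hK1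
  rw [hsum2, hsum1, hsum1] at hK2
  set K := (Nat.card G : ℂ) / ((χ : G → ℂ) 1 * (Nat.card (Subgroup.normalizer (P : Set G)) : ℂ))
  have hm0R : MemLocalRing M ((m 0 : ℂ) - A) :=
    memLocalRing_sub (memLocalRing_natCast _) (memLocalRing_intCast _)
  have hlin : ∀ g : ZMod p → ℂ, ∀ v : ℂ, ∑ j, g j = (p : ℂ) * v →
      ∑ j, (m j : ℂ) * g j = A * g 0 + ε * (∑ j ∈ O, g j) + (p : ℂ) * (((m 0 : ℂ) - A) * v) := by
    intro g v hv
    rw [Finset.sum_congr rfl fun j (_ : j ∈ Finset.univ) => show (m j : ℂ) * g j =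
      c j * g j + ((m 0 : ℂ) - A) * g j by rw [hmc j, add_mul],
      Finset.sum_add_distrib, ← Finset.mul_sum, hv, hOnly]
    ring
  set t₁ : ℂ := ((m 0 : ℂ) - A) * α 0 with ht₁
  set t₂ : ℂ := ((m 0 : ℂ) - A) * β 0 with ht₂
  have hXa : ∑ j, (m j : ℂ) * tr α j = A * a₀ + (p : ℂ) * t₁ := by
    rw [hlin _ _ (htot α), hα0, Finset.sum_eq_zero hαO]; ring
  have hXb : ∑ j, (m j : ℂ) * tr β j = ε * b₀ + (p : ℂ) * t₂ := by
    rw [hlin _ _ (htot β), hβ0 0 (Or.inl rfl), Finset.sum_eq_single j₀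
      (fun k hk hne => hβ0 k (Or.inr ⟨hk, hne⟩)) (fun h => absurd hj₀O h), hβt]
    ring
  set v₁ : ℂ := ((m 0 : ℂ) - A) * ∑ a, α a * α (-a) with hv₁
  set v₂ : ℂ := ((m 0 : ℂ) - A) * ∑ a, α a * β (-a) with hv₂
  have hv₁R : MemLocalRing M v₁ :=
    memLocalRing_mul hm0R (memLocalRing_sum _ fun a _ => memLocalRing_mul (hα a) (hα _))
  have hv₂R : MemLocalRing M v₂ :=
    memLocalRing_mul hm0R (memLocalRing_sum _ fun a _ => memLocalRing_mul (hα a) (hβ _))
  have hS1 : ∑ j, (m j : ℂ) * (tr α j * tr α j) = A * a₀ ^ 2 + (p : ℂ) * v₁ := by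
    rw [hlin _ _ (htot2 α α), hα0, Finset.sum_eq_zero fun k hk => by rw [hαO k hk, zero_mul]]; ring
  have hS2 : ∑ j, (m j : ℂ) * (tr α j * tr β j) = (p : ℂ) * v₂ := by
    rw [hlin _ _ (htot2 α β), hβ0 0 (Or.inl rfl), Finset.sum_eq_zero fun k hk => by rw [hαO k hk, zero_mul]]
    ring
  rw [hS1, hXa] at hK1
  rw [hS2, hXa, hXb] at hK2
  -- units
  set π : ℂ := 1 - ψ 1 with hπ
  let IsU : ℂ → Prop := fun z => z ≠ 0 ∧ MemLocalRing M z ∧ MemLocalRing M z⁻¹
  have hUprod : ∀ S : Finset (ZMod p), (∀ s ∈ S, s ≠ 0) →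
      ∃ z, IsU z ∧ ∏ s ∈ S, (1 - ψ s) = π ^ S.card * z := by
    intro S
    induction S using Finset.induction_on with
    | empty => exact fun _ => ⟨1, ⟨one_ne_zero, memLocalRing_one, by rw [inv_one]; exact memLocalRing_one⟩, by simp⟩
    | insert s S hs ih =>
      intro hS
      obtain ⟨z, ⟨hz0, hz1, hz2⟩, hz⟩ := ih fun x hx => hS x (Finset.mem_insert_of_mem hx)
      have hs0 := hS s (Finset.mem_insert_self _ _)
      have hne : ∀ x : ZMod p, x ≠ 0 → (1 : ℂ) - ψ x ≠ 0 := fun x hx => sub_ne_zero.2 fun h =>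
        hx (ZMod.injective_stdAddChar (h.symm.trans (AddChar.map_zero_eq_one _).symm))
      refine ⟨(1 - ψ s) / π * z, ⟨mul_ne_zero (div_ne_zero (hne s hs0) (hne 1 one_ne_zero)) hz0,
        memLocalRing_mul (memLocalRing_one_sub_div one_ne_zero) hz1, ?_⟩, ?_⟩
      · rw [mul_inv, inv_div]; exact memLocalRing_mul (memLocalRing_one_sub_div hs0) hz2
      · rw [Finset.prod_insert hs, Finset.card_insert_of_notMem hs, hz, pow_succ]
        have hq : π * ((1 - ψ s) / π) = 1 - ψ s := by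
          have hp' : π ≠ 0 := hπ ▸ hne 1 one_ne_zero
          exact mul_div_cancel₀ _ hp'
        linear_combination (-(π ^ S.card * z)) * hq
  have hπ0 : π ≠ 0 := sub_ne_zero.2 fun h =>
    one_ne_zero (ZMod.injective_stdAddChar (h.symm.trans (AddChar.map_zero_eq_one _).symm))
  obtain ⟨up, ⟨hup0, hupR, hupI⟩, hpπ⟩ := hUprod ((Finset.univ : Finset (ZMod p)).erase 0)
    fun s hs => (Finset.mem_erase.1 hs).1
  rw [prod_one_sub_stdAddChar, Finset.card_erase_of_mem (Finset.mem_univ _), Finset.card_univ,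
    ZMod.card] at hpπ
  have hπR : MemLocalRing M π := memLocalRing_sub memLocalRing_one (memLocalRing_stdAddChar _)
  have hπI : MemLocalIdeal M π := by
    rw [← memLocalIdeal_pow_iff hπR (n := p - 1) (by omega),
      show π ^ (p - 1) = (p : ℂ) * up⁻¹ by rw [hpπ, mul_inv_cancel_right₀ hup0]]
    exact memLocalIdeal_mul_right ((memLocalIdeal_natCast_iff hM p).2 dvd_rfl) hupI
  obtain ⟨ua, hua, haπ⟩ := hUprod O fun s hs => ne_of_mem_of_not_mem hs hO0
  rw [hOcard] at haπ
  change a₀ = _ at haπ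
  have hScard : (insert 0 (O.erase j₀)).card = e := by
    rw [Finset.card_insert_of_notMem (fun h => hO0 (Finset.mem_of_mem_erase h)),
      Finset.card_erase_of_mem hj₀O, hOcard]
    omega
  obtain ⟨ub, hub, hbπ⟩ := hUprod ((insert 0 (O.erase j₀)).image (· - j₀)) fun s hs => by
    obtain ⟨x, hx, rfl⟩ := Finset.mem_image.1 hs
    refine sub_ne_zero.2 fun h => ?_
    subst h
    rcases Finset.mem_insert.1 hx with h | h
    · exact hj₀ h
    · exact (Finset.mem_erase.1 h).1 rfl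
  rw [Finset.card_image_of_injective _ sub_left_injective, hScard,
    Finset.prod_image sub_left_injective.injOn] at hbπ
  have hb₀π : b₀ = π ^ e * (ψ j₀ ^ e * ub) := by
    rw [hb₀, Finset.prod_congr rfl fun s _ => show ψ j₀ - ψ s = ψ j₀ * (1 - ψ (s - j₀)) by
      rw [mul_sub, mul_one, ← AddChar.map_add_eq_mul, add_sub_cancel],
      Finset.prod_mul_distrib, Finset.prod_const, hScard, hbπ]
    ring
  have hψu : MemLocalRing M (ψ j₀ ^ e) ∧ MemLocalRing M (ψ j₀ ^ e)⁻¹ ∧ ψ j₀ ^ e ≠ 0 := by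
    rw [← AddChar.map_nsmul_eq_pow, ← AddChar.map_neg_eq_inv]
    exact ⟨memLocalRing_stdAddChar _, memLocalRing_stdAddChar _, (AddChar.val_isUnit _ _).ne_zero⟩
  have hAU : ¬ MemLocalIdeal M (A : ℂ) := fun h => by
    have h1 := (memLocalIdeal_intCast_iff hM A).1 h
    have := Int.natAbs_le_of_dvd_ne_zero h1 hA
    simp at this
    omega
  have hεU : ¬ MemLocalIdeal M (ε : ℂ) := fun h => by
    have h1 := (memLocalIdeal_intCast_iff hM ε).1 h
    rcases hε with rfl | rfl <;>
      · have := Int.natAbs_le_of_dvd_ne_zero h1 (by norm_num)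
        simp at this
        have := hp.out.two_le
        omega
  have hperturb : ∀ (v w t : ℂ), MemLocalRing M v → ¬ MemLocalIdeal M v → IsU w → MemLocalRing M t →
      ∃ z, IsU z ∧ v * (π ^ e * w) + (p : ℂ) * t = π ^ e * z := by
    intro v w t hv hvU hw ht
    set d : ℂ := π ^ (p - 1 - e) * (up * t) with hd'
    have hdI : MemLocalIdeal M d := memLocalIdeal_mul_right
      ((memLocalIdeal_pow_iff hπR (by omega)).2 hπI) (memLocalRing_mul hupR ht)
    have hvw : ¬ MemLocalIdeal M (v * w) := not_memLocalIdeal_mul hv hw.2.1 hvU fun h =>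
      not_memLocalIdeal_one (M := M) (by
        have := memLocalIdeal_mul_right h hw.2.2
        rwa [mul_inv_cancel₀ hw.1] at this)
    have hz : ¬ MemLocalIdeal M (v * w + d) := fun h => hvw (by
      have := memLocalIdeal_sub h hdI; rwa [add_sub_cancel_right] at this)
    have hzR : MemLocalRing M (v * w + d) :=
      memLocalRing_add (memLocalRing_mul hv hw.2.1) (memLocalIdeal_mem_ring hdI)
    refine ⟨v * w + d, ⟨ne_zero_of_not_memLocalIdeal hz, hzR, memLocalRing_inv hzR hz⟩, ?_⟩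
    rw [hd', mul_add, ← mul_assoc (π ^ e) (π ^ (p - 1 - e)), ← pow_add,
      show e + (p - 1 - e) = p - 1 by omega, hpπ]
    ring
  obtain ⟨za, hza, hXa'⟩ := hperturb A ua t₁ (memLocalRing_intCast _) hAU hua
    (memLocalRing_mul hm0R (hα 0))
  obtain ⟨zb, hzb, hXb'⟩ := hperturb ε (ψ j₀ ^ e * ub) t₂ (memLocalRing_intCast _) hεU
    ⟨mul_ne_zero hψu.2.2 hub.1, memLocalRing_mul hψu.1 hub.2.1, by
      rw [mul_inv]; exact memLocalRing_mul hψu.2.1 hub.2.2⟩
    (memLocalRing_mul hm0R (hβ 0))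
  rw [← haπ] at hXa'
  rw [← hb₀π] at hXb'
  rw [hXa'] at hK1
  rw [hXa', hXb'] at hK2
  have h2 : MemLocalRing M (K * (π ^ e * za) * (π ^ e * zb) / p) := by
    have := memLocalRing_sub hv₂R hK2
    convert this using 1
    field_simp
    ring
  have h3 : MemLocalRing M (K * (π ^ e * za) * (π ^ e * za) / p) := by
    have := memLocalRing_mul h2 (memLocalRing_mul hza.2.1 hzb.2.2)
    convert this using 1
    have := hzb.1
    field_simp
  have h4 : MemLocalRing M (A * a₀ ^ 2 / p) := by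
    have := memLocalRing_sub (memLocalRing_add hK1 h3) hv₁R
    convert this using 1
    field_simp
    ring
  have hA0 : (A : ℂ) ≠ 0 := Int.cast_ne_zero.2 hA
  have h5 : MemLocalRing M ((π ^ e) ^ 2 / π ^ (p - 1)) := by
    have := memLocalRing_mul h4 (memLocalRing_mul (memLocalRing_mul
      (memLocalRing_inv (memLocalRing_intCast _) hAU) hupR)
      (memLocalRing_mul hua.2.2 hua.2.2))
    convert this using 1
    rw [haπ, hpπ]
    have := hua.1
    field_simp
  apply not_memLocalIdeal_one (M := M)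
  have h6 := memLocalIdeal_mul_left h5 ((memLocalIdeal_pow_iff hπR (n := p - 1 - 2 * e) (by omega)).2 hπI)
  rwa [← pow_mul, div_mul_eq_mul_div, ← pow_add, show e * 2 + (p - 1 - 2 * e) = p - 1 by omega,
    div_self (pow_ne_zero _ hπ0)] at h6

end Cfsg.Agent.Lib.Blocks
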