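import Cfsg.Agent.Lib.Blocks.PrincipalRestrict
import Cfsg.Agent.Lib.Characters.Monomial

/-!
# Extending the principal block of a normal subgroup
-/

set_option autoImplicit false
set_option linter.unusedSectionVars false
set_option linter.unusedVariables false
set_option linter.style.haveILetI false

namespace Cfsg.Agent.Lib.Blocks

open Cfsg Cfsg.Agent.Lib.Characters
open scoped ComplexConjugate commutatorElement

universe u v

section

variable {G : Type u} [Group G] [Fintype G] {M : Ideal AlgInt} [hMp : M.IsPrime] {p : ℕ}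
  [hp : Fact p.Prime]

theorem compEquivIrr_mem_principalBlock {H : Type v} [Group H] [Fintype H] (e : G ≃* H)
    {χ : IrrCharacter H} (h : χ ∈ principalBlock M H) :
    compEquivIrr e χ ∈ principalBlock M G := by
  have h2 := sameBlock_compEquivIrr e (χ := trivIrr H) (ψ := χ) h
  rwa [show compEquivIrr e (trivIrr H) = trivIrr G from Subtype.ext (funext fun g => by
    show ((trivIrr H : IrrCharacter H) : H → ℂ) (e g) = _
    rw [trivIrr_apply, trivIrr_apply])] at h2

/-- The centraliser of a Sylow subgroup supplements in intermediate subgroups. -/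
theorem sup_centralizer_subgroupOf (N : Subgroup G) [N.Normal] (P : Sylow p G)
    (hsup : N ⊔ Subgroup.centralizer ((P : Subgroup G) : Set G) = ⊤) {H : Subgroup G} (hNH : N ≤ H)
    (hPH : (P : Subgroup G) ≤ H) :
    N.subgroupOf H ⊔ Subgroup.centralizer (((P.subtype hPH : Sylow p H) : Subgroup H) : Set H) = ⊤ := by
  rw [eq_top_iff]
  intro h _
  obtain ⟨n, hn, c, hc, hnc⟩ := Subgroup.mem_sup_of_normal_left.1 (hsup ▸ Subgroup.mem_top (h : G))
  have hcH : c ∈ H := by
    have := H.mul_mem (H.inv_mem (hNH hn)) h.2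
    rwa [← hnc, inv_mul_cancel_left] at this
  have : h = (⟨n, hNH hn⟩ : H) * ⟨c, hcH⟩ := Subtype.ext hnc.symm
  rw [this]
  refine Subgroup.mul_mem_sup hn (Subgroup.mem_centralizer_iff.2 fun a ha => Subtype.ext ?_)
  exact Subgroup.mem_centralizer_iff.1 hc (a : G) ha

theorem not_dvd_index_subgroupOf (N : Subgroup G) [N.Normal] (hidx : ¬ p ∣ N.index)
    (H : Subgroup G) : ¬ p ∣ (N.subgroupOf H).index := fun h =>
  hidx (h.trans (Subgroup.relIndex_dvd_index_of_normal N H))

/-- Pointwise form of the extension property in a subgroup. -/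
def HasExtension (M : Ideal AlgInt) {N : Subgroup G} (θ : IrrCharacter N) (H : Subgroup G) (hNH : N ≤ H)
    (η : IrrCharacter H) : Prop :=
  η ∈ principalBlock M H ∧ ∀ n : N, (η : H → ℂ) ⟨n, hNH n.2⟩ = (θ : N → ℂ) n

end

/-- Solvable quotient. -/
theorem extendsPrincipal_of_solvable {M : Ideal AlgInt} [hMp : M.IsPrime] {p : ℕ} [hp : Fact p.Prime]
    (hM : IsPModular p M) :
    ∀ (n : ℕ) (G : Type u) [Group G] [Fintype G] (N : Subgroup G) [N.Normal], Nat.card G = n →
      ¬ p ∣ N.index → ∀ P : Sylow p G, N ⊔ Subgroup.centralizer ((P : Subgroup G) : Set G) = ⊤ →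
      Group.IsSolvable (G ⧸ N) → ExtendsPrincipal M N := by
  intro n
  induction n using Nat.strong_induction_on with
  | _ n ih =>
  intro G _ _ N _ hn hidx P hsup hsol
  classical
  haveI := Fintype.ofFinite N
  by_cases hN : N = ⊤
  · intro θ hθ
    let e : G ≃* N := (Subgroup.topEquiv.symm).trans (MulEquiv.subgroupCongr hN.symm)
    refine ⟨compEquivIrr e θ, compEquivIrr_mem_principalBlock e hθ, fun m => ?_⟩
    show (θ : N → ℂ) (e m) = _
    congr 1
  · haveI : Nontrivial (G ⧸ N) := QuotientGroup.nontrivial_iff.2 hN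
    let K : Subgroup G := (commutator (G ⧸ N)).comap (QuotientGroup.mk' N)
    haveI : K.Normal := inferInstanceAs (Subgroup.Normal (Subgroup.comap _ _))
    have hNK : N ≤ K := by
      intro m hm
      show (QuotientGroup.mk' N) m ∈ (commutator (G ⧸ N))
      rw [show (QuotientGroup.mk' N) m = 1 from (QuotientGroup.eq_one_iff m).2 hm]
      exact one_mem _
    have hK : K ≠ ⊤ := by
      intro h
      refine (Group.IsSolvable.commutator_lt_top_of_nontrivial (G ⧸ N)).ne ?_
      rw [← Subgroup.map_comap_eq_self_of_surjective (QuotientGroup.mk'_surjective N) (commutator (G ⧸ N))]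
      rw [show Subgroup.comap (QuotientGroup.mk' N) (commutator (G ⧸ N)) = ⊤ from h,
        Subgroup.map_top_of_surjective _ (QuotientGroup.mk'_surjective N)]
    have hKidx : ¬ p ∣ K.index := fun h => hidx (h.trans (Subgroup.index_dvd_of_le hNK))
    have hPK : (P : Subgroup G) ≤ K := (sylow_le_of_not_dvd_index N hidx P).trans hNK
    haveI := Fintype.ofFinite K
    have hext1 : ExtendsPrincipal M K := by
      refine extendsPrincipal_of_comm K hM hKidx P (top_le_iff.1 (hsup.ge.trans (sup_le_sup_right hNK _))) ?_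
      intro a b
      obtain ⟨a, rfl⟩ := QuotientGroup.mk_surjective a
      obtain ⟨b, rfl⟩ := QuotientGroup.mk_surjective b
      rw [← QuotientGroup.mk_mul, ← QuotientGroup.mk_mul, QuotientGroup.eq]
      show (QuotientGroup.mk' N) ((a * b)⁻¹ * (b * a)) ∈ commutator (G ⧸ N)
      have : (a * b)⁻¹ * (b * a) = ⁅b⁻¹, a⁻¹⁆ := by simp [commutatorElement_def, mul_assoc]
      rw [this, map_commutatorElement]
      exact Subgroup.commutator_mem_commutator (Subgroup.mem_top _) (Subgroup.mem_top _)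
    have hlt : Nat.card K < n := by
      rw [← hn]
      exact lt_of_le_of_ne (Subgroup.card_le_card_group K) fun h => hK (Subgroup.eq_top_of_card_eq _ h)
    haveI : Group.IsSolvable (K ⧸ N.subgroupOf K) := by
      haveI := hsol
      refine Group.isSolvable_of_isSolvable_injective
        (f := QuotientGroup.map (N.subgroupOf K) N K.subtype le_rfl) ?_
      rw [injective_iff_map_eq_one]
      intro x hx
      obtain ⟨x, rfl⟩ := QuotientGroup.mk_surjective x
      replace hx : (((x : K) : G) : G ⧸ N) = 1 := hx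
      rw [QuotientGroup.eq_one_iff] at hx
      rw [QuotientGroup.eq_one_iff]
      exact hx
    have hext2 : ExtendsPrincipal M (N.subgroupOf K) :=
      ih _ hlt K (N.subgroupOf K) rfl (not_dvd_index_subgroupOf N hidx K) (P.subtype hPK)
        (sup_centralizer_subgroupOf N P hsup hNK hPK) inferInstance
    intro θ hθ
    haveI := Fintype.ofFinite (N.subgroupOf K)
    obtain ⟨χK, hχK, hresK⟩ := hext2 _
      (compEquivIrr_mem_principalBlock (Subgroup.subgroupOfEquivOfLe hNK) hθ)
    obtain ⟨χ, hχ, hres⟩ := hext1 χK hχK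
    refine ⟨χ, hχ, fun m => ?_⟩
    have h1 := hres ⟨m, hNK m.2⟩
    have h2 := hresK ⟨⟨m, hNK m.2⟩, m.2⟩
    exact h1.trans h2

section

variable {G : Type u} [Group G] [Fintype G] {M : Ideal AlgInt} [hMp : M.IsPrime] {p : ℕ}
  [hp : Fact p.Prime] (N : Subgroup G) [N.Normal] [Fintype N]

theorem exists_hasExtension (hM : IsPModular p M) (hidx : ¬ p ∣ N.index) (P : Sylow p G)
    (hsup : N ⊔ Subgroup.centralizer ((P : Subgroup G) : Set G) = ⊤) (H : Subgroup G) (hNH : N ≤ H)
    [Fintype H] (hsol : Group.IsSolvable (H ⧸ N.subgroupOf H)) {θ : IrrCharacter N}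
    (hθ : θ ∈ principalBlock M N) : ∃ η, HasExtension M θ H hNH η := by
  classical
  haveI := Fintype.ofFinite (N.subgroupOf H)
  have hPH := (sylow_le_of_not_dvd_index N hidx P).trans hNH
  obtain ⟨η, hη, hres⟩ := extendsPrincipal_of_solvable hM _ H (N.subgroupOf H) rfl
    (not_dvd_index_subgroupOf N hidx H) (P.subtype hPH) (sup_centralizer_subgroupOf N P hsup hNH hPH) hsol _
    (compEquivIrr_mem_principalBlock (Subgroup.subgroupOfEquivOfLe hNH) hθ)
  exact ⟨η, hη, fun m => hres ⟨⟨m, hNH m.2⟩, m.2⟩⟩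

theorem hasExtension_unique (hM : IsPModular p M) (hidx : ¬ p ∣ N.index) (P : Sylow p G)
    (hsup : N ⊔ Subgroup.centralizer ((P : Subgroup G) : Set G) = ⊤) (H : Subgroup G) (hNH : N ≤ H)
    [Fintype H] {θ : IrrCharacter N} (hθ : θ ∈ principalBlock M N) {η η' : IrrCharacter H}
    (h : HasExtension M θ H hNH η) (h' : HasExtension M θ H hNH η') : η' = η := by
  classical
  haveI := Fintype.ofFinite (N.subgroupOf H)
  have hPH := (sylow_le_of_not_dvd_index N hidx P).trans hNH
  let θ' := compEquivIrr (Subgroup.subgroupOfEquivOfLe hNH) θ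
  refine principal_over_unique (N.subgroupOf H) hM (not_dvd_index_subgroupOf N hidx H) (P.subtype hPH)
    (sup_centralizer_subgroupOf N P hsup hNH hPH) h.1 h'.1 (θ := θ') (fun m => ?_) ?_
  · exact h.2 ⟨(m : H), m.2⟩
  · rw [show (fun m : N.subgroupOf H => (η' : H → ℂ) m) = (θ' : N.subgroupOf H → ℂ) from
      funext fun m => h'.2 ⟨(m : H), m.2⟩, IsIrrCharacter.classInner_self θ'.2]
    exact one_ne_zero

/-- The restriction of an extension to an intermediate subgroup is an extension. -/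
theorem hasExtension_mono (hM : IsPModular p M) (hidx : ¬ p ∣ N.index) (P : Sylow p G)
    {H₁ H₂ : Subgroup G} (h₁ : N ≤ H₁) (h₁₂ : H₁ ≤ H₂) [Fintype H₁] [Fintype H₂] {θ : IrrCharacter N}
    (hθ : θ ∈ principalBlock M N) {η : IrrCharacter H₂} (h : HasExtension M θ H₂ (h₁.trans h₁₂) η) :
    ∃ η₁, HasExtension M θ H₁ h₁ η₁ ∧
      ∀ (x : G) (hx : x ∈ H₁), (η₁ : H₁ → ℂ) ⟨x, hx⟩ = (η : H₂ → ℂ) ⟨x, h₁₂ hx⟩ := by
  classical
  haveI := Fintype.ofFinite (N.subgroupOf H₁)
  haveI := Fintype.ofFinite (N.subgroupOf H₂)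
  let e := Subgroup.subgroupOfEquivOfLe h₁
  let θ' := compEquivIrr e θ
  have hc : IsCharacter H₁ (fun x : H₁ => (η : H₂ → ℂ) (Subgroup.inclusion h₁₂ x)) :=
    IsCharacter.comp (irr_isCharacter η) (Subgroup.inclusion h₁₂)
  have hr : (fun m : N.subgroupOf H₁ => (η : H₂ → ℂ) (Subgroup.inclusion h₁₂ m)) =
      (θ' : N.subgroupOf H₁ → ℂ) := funext fun m => h.2 ⟨(m : H₁), m.2⟩
  let η₁ : IrrCharacter H₁ := ⟨_, isIrr_of_restrict (N.subgroupOf H₁) hc (hr ▸ θ'.2)⟩
  refine ⟨η₁, ⟨?_, fun m => h.2 m⟩, fun x hx => rfl⟩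
  have hPN := sylow_le_of_not_dvd_index N hidx P
  have hfull₁ := full_of_over (N.subgroupOf H₁) hM (not_dvd_index_subgroupOf N hidx H₁) (χ := η₁)
    (θ := θ') (compEquivIrr_mem_principalBlock e hθ) (by
      rw [show (fun m : N.subgroupOf H₁ => (η₁ : H₁ → ℂ) m) = (θ' : N.subgroupOf H₁ → ℂ) from hr,
        IsIrrCharacter.classInner_self θ'.2]
      exact one_ne_zero)
  let e₂ := Subgroup.subgroupOfEquivOfLe (h₁.trans h₁₂)
  have hr₂ : (fun m : N.subgroupOf H₂ => (η : H₂ → ℂ) m) =
      (compEquivIrr e₂ θ : N.subgroupOf H₂ → ℂ) := funext fun m => h.2 ⟨(m : H₂), m.2⟩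
  have hfull₂ := full_of_over (N.subgroupOf H₂) hM (not_dvd_index_subgroupOf N hidx H₂) (χ := η)
    (θ := compEquivIrr e₂ θ) (compEquivIrr_mem_principalBlock e₂ hθ) (by
      rw [hr₂, IsIrrCharacter.classInner_self (compEquivIrr e₂ θ).2]
      exact one_ne_zero)
  refine (mem_principalBlock_iff_ratio hM (P.subtype (hPN.trans h₁)) η₁ hfull₁).2 fun x hx hxr => ?_
  refine (mem_principalBlock_iff_ratio hM (P.subtype ((hPN.trans h₁).trans h₁₂)) η hfull₂).1 h.1
    (Subgroup.inclusion h₁₂ x) ?_ ?_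
  · refine Subgroup.mem_centralizer_iff.2 fun a ha => Subtype.ext ?_
    exact (congrArg Subtype.val (Subgroup.mem_centralizer_iff.1 hx ⟨(a : G), hPN.trans h₁ ha⟩ ha) : (a : G) * (x : G) = (x : G) * (a : G))
  · rwa [orderOf_injective _ (Subgroup.inclusion_injective h₁₂)]

theorem isSolvable_sup_quotient (E : Subgroup G) [Group.IsSolvable E] :
    Group.IsSolvable ((N ⊔ E : Subgroup G) ⧸ N.subgroupOf (N ⊔ E)) := by
  refine Group.isSolvable_of_surjective
    (f := (QuotientGroup.mk' _).comp (Subgroup.inclusion (le_sup_right : E ≤ N ⊔ E))) ?_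
  intro q
  obtain ⟨⟨x, hx⟩, rfl⟩ := QuotientGroup.mk_surjective q
  obtain ⟨m, hm, c, hc, rfl⟩ := Subgroup.mem_sup_of_normal_left.1 hx
  refine ⟨⟨c, hc⟩, ?_⟩
  show ((⟨c, _⟩ : (N ⊔ E : Subgroup G)) : _ ⧸ N.subgroupOf (N ⊔ E)) = _
  rw [QuotientGroup.eq]
  show c⁻¹ * (m * c) ∈ N
  simpa [mul_assoc] using (inferInstance : N.Normal).conj_mem m hm c⁻¹

/-- Every member of the principal block of `N` extends to one of `G`. -/
theorem extendsPrincipal_of_sup (hM : IsPModular p M) (hidx : ¬ p ∣ N.index) (P : Sylow p G)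
    (hsup : N ⊔ Subgroup.centralizer ((P : Subgroup G) : Set G) = ⊤) : ExtendsPrincipal M N := by
  classical
  intro θ hθ
  have hZ : ∀ g : G, Group.IsSolvable ((N ⊔ Subgroup.zpowers g : Subgroup G) ⧸
      N.subgroupOf (N ⊔ Subgroup.zpowers g)) := fun g => by
    haveI : Group.IsSolvable (Subgroup.zpowers g) := Group.isSolvable_of_comm fun a b => mul_comm' a b
    exact isSolvable_sup_quotient N _
  let H : G → Subgroup G := fun g => N ⊔ Subgroup.zpowers g
  haveI : ∀ K : Subgroup G, Fintype K := fun K => Fintype.ofFinite K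
  have hη : ∀ g, ∃ η, HasExtension M θ (H g) le_sup_left η := fun g =>
    exists_hasExtension N hM hidx P hsup (H g) le_sup_left (hZ g) hθ
  choose η hη using hη
  have hg : ∀ g, g ∈ H g := fun g => Subgroup.mem_sup_right (Subgroup.mem_zpowers g)
  let Θ : G → ℂ := fun g => (η g : H g → ℂ) ⟨g, hg g⟩
  have hΘH : ∀ (K : Subgroup G) (hNK : N ≤ K) (ξ : IrrCharacter K), HasExtension M θ K hNK ξ →
      ∀ (x : G) (hx : x ∈ K), Θ x = (ξ : K → ℂ) ⟨x, hx⟩ := by
    intro K hNK ξ hξ x hx
    obtain ⟨η₁, h₁, hv⟩ := hasExtension_mono N hM hidx P (H₁ := H x) le_sup_left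
      (sup_le hNK ((Subgroup.zpowers_le).2 hx)) hθ hξ
    rw [← hv x (hg x), hasExtension_unique N hM hidx P hsup _ _ hθ (hη x) h₁]
  have hinv : ∀ (a : G) (m : N), (θ : N → ℂ) ⟨a * m * a⁻¹, (inferInstance : N.Normal).conj_mem m m.2 a⟩ =
      (θ : N → ℂ) m := by
    intro a m
    rw [← (hη a).2 ⟨_, (inferInstance : N.Normal).conj_mem m m.2 a⟩, ← (hη a).2 m]
    exact irr_isClassFunction (η a) ⟨m, le_sup_left (a := N) m.2⟩ ⟨a, hg a⟩
  have hN1 : ∀ m : N, Θ m = (θ : N → ℂ) m := fun m => (hη m).2 m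
  have hcl : IsClassFunction G Θ := by
    intro g a
    let e : H g ≃* (H g).map (MulAut.conj a : G ≃* G).toMonoidHom := (MulAut.conj a : G ≃* G).subgroupMap (H g)
    have hNK : N ≤ (H g).map (MulAut.conj a : G ≃* G).toMonoidHom := by
      intro m hm
      refine ⟨a⁻¹ * m * a, le_sup_left (a := N) (by simpa using (inferInstance : N.Normal).conj_mem m hm a⁻¹), ?_⟩
      show a * (a⁻¹ * m * a) * a⁻¹ = m
      group
    have hext : HasExtension M θ _ hNK (compEquivIrr e.symm (η g)) := by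
      refine ⟨compEquivIrr_mem_principalBlock e.symm (hη g).1, fun m => ?_⟩
      show (η g : H g → ℂ) (e.symm _) = _
      have hm' : a⁻¹ * (m : G) * a ∈ N := by simpa using (inferInstance : N.Normal).conj_mem m m.2 a⁻¹
      have hes : e.symm ⟨(m : G), hNK m.2⟩ = ⟨a⁻¹ * (m : G) * a, le_sup_left (a := N) hm'⟩ := by
        rw [MulEquiv.symm_apply_eq]
        exact Subtype.ext (show (m : G) = a * (a⁻¹ * (m : G) * a) * a⁻¹ by simp [mul_assoc])
      rw [hes]
      refine ((hη g).2 ⟨_, hm'⟩).trans ?_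
      rw [← hinv a ⟨_, hm'⟩]
      exact congrArg (θ : N → ℂ) (Subtype.ext (show a * (a⁻¹ * (m : G) * a) * a⁻¹ = (m : G) by group))
    rw [hΘH _ hNK _ hext (a * g * a⁻¹) ⟨g, hg g, rfl⟩]
    show (η g : H g → ℂ) (e.symm _) = (η g : H g → ℂ) _
    exact congrArg (η g : H g → ℂ) ((MulEquiv.symm_apply_eq _).2 (Subtype.ext rfl))
  have hnorm : classInner Θ Θ = 1 := by
    have hav : Characters.avgN N (Θ * fun g => conj (Θ g)) = fun _ => 1 := by
      funext g
      haveI := Fintype.ofFinite (N.subgroupOf (H g))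
      let e := Subgroup.subgroupOfEquivOfLe (le_sup_left : N ≤ H g)
      have hr : (fun m : N.subgroupOf (H g) => (η g : H g → ℂ) m) = (compEquivIrr e θ : _ → ℂ) :=
        funext fun m => (hη g).2 ⟨(m : H g), m.2⟩
      have h1 := congrFun (avgN_mul_conj_self (N.subgroupOf (H g)) (η g).2 (hr ▸ (compEquivIrr e θ).2))
        ⟨g, hg g⟩
      rw [← h1]
      simp only [Characters.avgN, Pi.mul_apply]
      rw [Nat.card_congr e.toEquiv]
      congr 1
      refine (Fintype.sum_equiv e.toEquiv _ _ fun m => ?_).symm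
      have hv : Θ ((e m : G) * g) = (η g : H g → ℂ) ((m : H g) * ⟨g, hg g⟩) :=
        hΘH (H g) le_sup_left _ (hη g) _ ((H g).mul_mem (m : H g).2 (hg g))
      show _ = Θ ((e m : G) * g) * conj (Θ ((e m : G) * g))
      rw [hv]
    have h2 := classInner_avgN_of_const N (Θ * fun g => conj (Θ g)) (φ := fun _ => (1 : ℂ)) fun _ _ => rfl
    rw [hav, IsIrrCharacter.classInner_self isIrrCharacter_one] at h2
    rw [h2]
    simp [classInner]
  have hgen : IsGeneralizedCharacter G Θ := by
    refine isGeneralizedCharacter_of_elementary hcl fun E q hq hE => ?_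
    haveI := IsElementary.isNilpotent hq hE
    obtain ⟨ξ, hξ⟩ := exists_hasExtension N hM hidx P hsup (N ⊔ E) le_sup_left
      (isSolvable_sup_quotient N E) hθ
    rw [show (fun x : E => Θ x) = fun x : E => (ξ : (N ⊔ E : Subgroup G) → ℂ) (Subgroup.inclusion le_sup_right x) from
      funext fun x => hΘH _ le_sup_left _ hξ x (Subgroup.mem_sup_right x.2)]
    exact IsCharacter.isGeneralizedCharacter
      (IsCharacter.comp (irr_isCharacter ξ) (Subgroup.inclusion le_sup_right))
  obtain ⟨χ, hχ⟩ := IsGeneralizedCharacter.eq_pm_irr hgen hnorm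
  have hΘ1 : Θ 1 = (θ : N → ℂ) 1 := hN1 1
  have heq : Θ = (χ : G → ℂ) := by
    rcases hχ with h | h
    · exact h
    · exfalso
      obtain ⟨b, hb, hb'⟩ := IsIrrCharacter.exists_apply_one θ.2
      obtain ⟨c, hc, hc'⟩ := IsIrrCharacter.exists_apply_one χ.2
      rw [h, Pi.neg_apply, hb', hc'] at hΘ1
      have : ((b + c : ℕ) : ℂ) = 0 := by push_cast; linear_combination -hΘ1
      have : b + c = 0 := Nat.cast_eq_zero.1 this
      omega
  have hres : ∀ m : N, (χ : G → ℂ) m = (θ : N → ℂ) m := fun m => heq ▸ hN1 m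
  refine ⟨χ, ?_, hres⟩
  have hfull := full_of_over N hM hidx hθ (χ := χ) (by
    rw [show (fun m : N => (χ : G → ℂ) m) = (θ : N → ℂ) from funext hres,
      IsIrrCharacter.classInner_self θ.2]
    exact one_ne_zero)
  refine (mem_principalBlock_iff_ratio hM P χ hfull).2 fun x hx hxr => ?_
  have hPH : (P : Subgroup G) ≤ H x := (sylow_le_of_not_dvd_index N hidx P).trans le_sup_left
  haveI := Fintype.ofFinite (N.subgroupOf (H x))
  let e := Subgroup.subgroupOfEquivOfLe (le_sup_left : N ≤ H x)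
  have hr : (fun m : N.subgroupOf (H x) => (η x : H x → ℂ) m) = (compEquivIrr e θ : _ → ℂ) :=
    funext fun m => (hη x).2 ⟨(m : H x), m.2⟩
  have hf := full_of_over (N.subgroupOf (H x)) hM (not_dvd_index_subgroupOf N hidx _) (χ := η x)
    (θ := compEquivIrr e θ) (compEquivIrr_mem_principalBlock e hθ) (by
      rw [hr, IsIrrCharacter.classInner_self (compEquivIrr e θ).2]
      exact one_ne_zero)
  have h1 := (mem_principalBlock_iff_ratio hM (P.subtype hPH) (η x) hf).1 (hη x).1 ⟨x, hg x⟩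
    (Subgroup.mem_centralizer_iff.2 fun a ha => Subtype.ext (Subgroup.mem_centralizer_iff.1 hx (a : G) ha))
    (by rwa [Subgroup.orderOf_mk])
  have h11 : Θ 1 = (η x : H x → ℂ) 1 := hΘH (H x) le_sup_left _ (hη x) 1 (one_mem _)
  rw [← heq, h11]
  exact h1

end

end Cfsg.Agent.Lib.Blocks
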