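import Cfsg.Agent.Lib.Blocks.DefectZero
import Cfsg.Agent.Lib.BlockHeights.DefectClasses

/-!
# Characters of degree prime to `p` in the principal block
-/

set_option autoImplicit false
set_option linter.unusedSectionVars false
set_option linter.unusedVariables false

namespace Cfsg.Agent.Lib.Blocks

open Cfsg Cfsg.Agent.Lib.Characters

universe u

variable {G : Type u} [Group G] [Fintype G] {M : Ideal AlgInt} [hMp : M.IsPrime] {p : ℕ}
  [hp : Fact p.Prime]

/-- An element whose class has full defect is conjugate into the centralizer of a Sylow subgroup. -/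
theorem exists_conj_mem_centralizer_sylow (P : Sylow p G) {x : G}
    (hx : (Nat.card (Subgroup.centralizer ({x} : Set G))).factorization p =
      (Nat.card G).factorization p) :
    ∃ c : G, c * x * c⁻¹ ∈ Subgroup.centralizer ((P : Subgroup G) : Set G) := by
  classical
  obtain ⟨R⟩ : Nonempty (Sylow p (Subgroup.centralizer ({x} : Set G))) := inferInstance
  set R' : Subgroup G := (R : Subgroup (Subgroup.centralizer ({x} : Set G))).map
    (Subgroup.centralizer ({x} : Set G)).subtype with hR'
  have hcard : Nat.card R' = p ^ (Nat.card G).factorization p := by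
    rw [hR', Subgroup.card_map_of_injective (Subgroup.subtype_injective _), Sylow.card_eq_multiplicity, hx]
  let RS : Sylow p G := Sylow.ofCard R' hcard
  obtain ⟨c, hc⟩ := MulAction.exists_smul_eq G RS P
  refine ⟨c, Subgroup.mem_centralizer_iff.2 fun a ha => ?_⟩
  rw [← hc, Sylow.coe_subgroup_smul] at ha
  obtain ⟨b, hb, rfl⟩ := Subgroup.mem_smul_pointwise_iff_exists _ _ _ |>.1 ha
  obtain ⟨b', hb', rfl⟩ := Subgroup.mem_map.1 (show b ∈ R' from hb)
  have hcomm : (b' : G) * x = x * b' := Subgroup.mem_centralizer_singleton_iff.1 b'.2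
  show c * (b' : G) * c⁻¹ * (c * x * c⁻¹) = c * x * c⁻¹ * (c * (b' : G) * c⁻¹)
  rw [show c * (b' : G) * c⁻¹ * (c * x * c⁻¹) = c * ((b' : G) * x) * c⁻¹ by group, hcomm]
  group

theorem blockDefect_of_not_dvd {χ : IrrCharacter G} (hd : ¬ p ∣ charDegree (χ : G → ℂ)) :
    blockDefect p (blockOf M (χ : G → ℂ)) = (Nat.card G).factorization p := by
  rw [blockDefect]
  suffices h : sInf ((fun ψ : IrrCharacter G => (charDegree (ψ : G → ℂ)).factorization p) ''
      blockOf M (χ : G → ℂ)) = 0 by rw [h, Nat.sub_zero]
  exact Nat.sInf_eq_zero.2 (Or.inl ⟨χ, self_mem_blockOf χ, Nat.factorization_eq_zero_of_not_dvd hd⟩)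

/-- A character of degree prime to `p` lies in the principal block as soon as its values at the
`p`-regular elements centralizing a Sylow subgroup are congruent to its degree; and conversely. -/
theorem mem_principalBlock_iff_congr (hM : IsPModular p M) (P : Sylow p G) (χ : IrrCharacter G)
    (hd : ¬ p ∣ charDegree (χ : G → ℂ)) :
    χ ∈ principalBlock M G ↔ ∀ x ∈ Subgroup.centralizer ((P : Subgroup G) : Set G), ¬ p ∣ orderOf x →
      MemLocalIdeal M ((χ : G → ℂ) x - (χ : G → ℂ) 1) := by
  classical
  have h1 : ¬ p ∣ charDegree ((trivIrr G : IrrCharacter G) : G → ℂ) := by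
    intro h
    have h2 : (charDegree ((trivIrr G : IrrCharacter G) : G → ℂ) : ℂ) = 1 := by
      rw [charDegree_eq, trivIrr_apply]
    rw [Nat.cast_eq_one.1 h2, Nat.dvd_one] at h
    exact hp.out.ne_one h
  have hkey := Cfsg.Agent.Lib.BlockHeights.sameBlock_iff_classes hM
    (blockDefect_of_not_dvd (M := M) h1) (blockDefect_of_not_dvd (M := M) hd)
  have hmem : χ ∈ principalBlock M G ↔
      SameBlock M ((trivIrr G : IrrCharacter G) : G → ℂ) (χ : G → ℂ) := Iff.rfl
  rw [hmem, hkey]
  have hdR : MemLocalRing M ((χ : G → ℂ) 1)⁻¹ := by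
    rw [← charDegree_eq]; exact memLocalRing_inv_natCast hM hd
  have hd0 : (χ : G → ℂ) 1 ≠ 0 := IsIrrCharacter.apply_one_ne_zero χ.2
  constructor
  · intro h x hx hxr
    have hPx : (P : Subgroup G) ≤ Subgroup.centralizer ({x} : Set G) := fun a ha =>
      Subgroup.mem_centralizer_singleton_iff.2 (Subgroup.mem_centralizer_iff.1 hx a ha)
    have hfull : (Nat.card (Subgroup.centralizer ({x} : Set G))).factorization p =
        (Nat.card G).factorization p := by
      refine le_antisymm ?_ ?_
      · exact (Nat.factorization_le_iff_dvd Nat.card_pos.ne' Nat.card_pos.ne').2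
          (Subgroup.card_subgroup_dvd_card _) p
      · refine (hp.out.pow_dvd_iff_le_factorization Nat.card_pos.ne').1 ?_
        rw [← Sylow.card_eq_multiplicity P]
        exact Subgroup.card_dvd_of_le hPx
    have hidx : ¬ p ∣ (Subgroup.centralizer ({x} : Set G)).index := fun h' =>
      Sylow.not_dvd_index P (h'.trans (Subgroup.index_dvd_of_le hPx))
    have h2 := h x hxr hfull
    simp only [centralChar, trivIrr_apply] at h2
    have h3 := memLocalIdeal_mul_right (memLocalIdeal_neg h2)
      (memLocalRing_mul (memLocalRing_inv_natCast hM hidx)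
        (memLocalRing_of_isIntegral' (isIntegral_char χ 1)))
    have hi0 : ((Subgroup.centralizer ({x} : Set G)).index : ℂ) ≠ 0 :=
      Nat.cast_ne_zero.2 fun h0 => hidx (h0 ▸ dvd_zero p)
    convert h3 using 1
    field_simp
    ring
  · intro h x hxr hfull
    obtain ⟨c, hc⟩ := exists_conj_mem_centralizer_sylow P hfull
    have h2 := h _ hc (by rwa [show c * x * c⁻¹ = MulAut.conj c x from rfl, MulEquiv.orderOf_eq])
    rw [irr_isClassFunction χ] at h2
    have h3 := memLocalIdeal_neg (memLocalIdeal_mul_right
      (memLocalIdeal_mul_left (memLocalRing_natCast (M := M) (Subgroup.centralizer ({x} : Set G)).index) h2)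
      hdR)
    simp only [centralChar, trivIrr_apply]
    convert h3 using 1
    field_simp
    ring

end Cfsg.Agent.Lib.Blocks
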