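import Cfsg.Agent.Lib.Blocks.TwoCharBlock
import Cfsg.Agent.Lib.BrauerPairs.Principal
import Cfsg.Agent.Lib.Modular.Weights
import Cfsg.Agent.Lib.Blocks.Covering2

/-!
# A principal block of least dimension

If no non-principal character of the principal block has a trivial constituent on a Sylow
`p`-subgroup, the block algebra is the group algebra of that subgroup and the elements of order
prime to `p` form a normal subgroup.
-/

set_option autoImplicit false
set_option linter.unusedSectionVars false
set_option linter.style.haveILetI false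

namespace Cfsg.Agent.Lib.Blocks

open Cfsg Cfsg.Agent.Lib.Characters Cfsg.Agent.Lib.BrauerPairs MonoidAlgebra
open scoped ComplexConjugate

universe u

variable {G : Type u} [Group G] [Fintype G] {M : Ideal AlgInt} [hMp : M.IsPrime] {p : ℕ}
  [hp : Fact p.Prime]

/-- The block idempotent at `1` when no other character has a trivial constituent on a Sylow
subgroup. -/
theorem card_mul_blockCoeff_one_eq_sylow (hM : IsPModular p M) (P : Sylow p G)
    [Fintype (P : Subgroup G)]
    (hB : ∀ θ ∈ principalBlock M G, ∑ x : (P : Subgroup G), (θ : G → ℂ) x ≠ 0 → θ = trivIrr G) :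
    (Nat.card G : ℂ) * blockCoeff (principalBlock M G) 1 = Nat.card (P : Subgroup G) := by
  classical
  haveI := Fintype.ofFinite (IrrCharacter G)
  set B := principalBlock M G with hBdef
  have hBb : IsPBlock M B := isPBlock_principalBlock
  have h0 : ∑ x : (P : Subgroup G), blockCoeff B x = blockCoeff B 1 := by
    refine Finset.sum_eq_single 1 (fun u _ hu => ?_) (by simp)
    refine blockCoeff_eq_zero_of_dvd hM hBb ?_
    obtain ⟨j, hj⟩ := P.2 u
    obtain ⟨i, -, hi⟩ := (Nat.dvd_prime_pow hM.1).1 (orderOf_dvd_of_pow_eq_one hj)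
    rw [Subgroup.orderOf_coe, hi]
    exact dvd_pow_self p fun h0 => hu (orderOf_eq_one_iff.1 (by rw [hi, h0, pow_zero]))
  rw [← h0]
  simp only [blockCoeff, finsum_mem_eq_toFinset_sum]
  rw [← Finset.mul_sum, ← mul_assoc, mul_inv_cancel₀ (Nat.cast_ne_zero.2 Nat.card_pos.ne'),
    one_mul, Finset.sum_comm]
  rw [Finset.sum_eq_single (trivIrr G)]
  · simp [Nat.card_eq_fintype_card]
  · intro θ hθ hne
    rw [← Finset.mul_sum, ← map_sum]
    have : ∑ x : (P : Subgroup G), (θ : G → ℂ) x = 0 :=
      not_not.1 fun h => hne (hB θ (Set.mem_toFinset.1 hθ) h)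
    rw [this, map_zero, mul_zero]
  · exact fun h => absurd (Set.mem_toFinset.2 trivIrr_mem_principalBlock) h

variable (k : Type*) [Field k] {Q : Type*} [Group Q]

/-- Translation of functions on a group. -/
def translate (x : Q) : (Q → k) →ₗ[k] (Q → k) where
  toFun c y := c (x⁻¹ * y)
  map_add' _ _ := rfl
  map_smul' _ _ := rfl

/-- The ascending series of almost fixed functions. -/
def fixSeries (Q : Type*) [Group Q] : ℕ → Submodule k (Q → k)
  | 0 => ⊥
  | i + 1 => ⨅ x : Q, (fixSeries Q i).comap (translate k x - LinearMap.id)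

variable {k}

theorem mem_fixSeries_succ {i : ℕ} {d : Q → k} :
    d ∈ fixSeries k Q (i + 1) ↔ ∀ x : Q, translate k x d - d ∈ fixSeries k Q i := by
  simp only [fixSeries, Submodule.mem_iInf, Submodule.mem_comap, LinearMap.sub_apply,
    LinearMap.id_coe, id_eq]

theorem fixSeries_le_succ (i : ℕ) : fixSeries k Q i ≤ fixSeries k Q (i + 1) := by
  induction i with
  | zero => exact bot_le
  | succ i ih =>
    intro v hv
    rw [mem_fixSeries_succ] at hv ⊢
    exact fun x => ih (hv x)

theorem translate_mul (x y : Q) (d : Q → k) :
    translate k (x * y) d = translate k x (translate k y d) :=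
  funext fun z => congrArg d (by simp [mul_assoc])

theorem translate_one (d : Q → k) : translate k (1 : Q) d = d := funext fun z => congrArg d (by simp)

theorem translate_mem_fixSeries (i : ℕ) (x : Q) {d : Q → k} (hd : d ∈ fixSeries k Q i) :
    translate k x d ∈ fixSeries k Q i := by
  have h := mem_fixSeries_succ.1 (fixSeries_le_succ i hd) x
  have := add_mem h hd
  rwa [sub_add_cancel] at this

/-- A `p`-group in characteristic `p` acts unipotently on its functions. -/
theorem exists_fixSeries_eq_top [Finite Q] [CharP k p] (hQ : IsPGroup p Q) :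
    ∃ n, fixSeries k Q n = ⊤ := by
  classical
  haveI := Fintype.ofFinite Q
  obtain ⟨n, hn⟩ := monotone_stabilizes_iff_noetherian.2
    (inferInstance : IsNoetherian k (Q → k))
    ⟨fixSeries k Q, monotone_nat_of_le_succ fixSeries_le_succ⟩
  refine ⟨n, ?_⟩
  by_contra hne
  set F := fixSeries k Q n with hF
  set V := (Q → k) ⧸ F
  letI : Module (ZMod p) V := AddCommGroup.zmodModule fun v => by
    rw [← Nat.cast_smul_eq_nsmul k, CharP.cast_eq_zero, zero_smul]
  obtain ⟨w, hw⟩ : ∃ w : Q → k, w ∉ F := by
    by_contra h
    push Not at h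
    exact hne (eq_top_iff.2 fun v _ => h v)
  obtain ⟨v, hv0, hv⟩ := Modular.exists_fixed hQ
    (fun x => (F.mapQ F (translate k x) fun d hd => translate_mem_fixSeries n x hd).toAddMonoidHom)
    (fun a b v => by
      induction v using Submodule.Quotient.induction_on with
      | H d => simp [translate_mul])
    (fun v => by
      induction v using Submodule.Quotient.induction_on with
      | H d => simp [translate_one])
    (w := (Submodule.Quotient.mk w : V)) (by simpa [Submodule.Quotient.mk_eq_zero] using hw)
  induction v using Submodule.Quotient.induction_on with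
  | H d =>
    rw [ne_eq, Submodule.Quotient.mk_eq_zero] at hv0
    refine hv0 ?_
    rw [hF, show fixSeries k Q n = fixSeries k Q (n + 1) from hn (n + 1) n.le_succ]
    rw [mem_fixSeries_succ]
    intro x
    have := hv x
    simpa [Submodule.Quotient.eq, hF] using this

/-- **Least dimension.** The elements of order prime to `p` form a normal subgroup. -/
theorem exists_complement_of_minimal (hM : IsPModular p M) (P : Sylow p G)
    [Fintype (P : Subgroup G)]
    (hB : ∀ θ ∈ principalBlock M G, ∑ x : (P : Subgroup G), (θ : G → ℂ) x ≠ 0 → θ = trivIrr G) :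
    ∃ K : Subgroup G, K.Normal ∧ ¬ p ∣ Nat.card K ∧ ∀ g : G, ¬ p ∣ orderOf g → g ∈ K := by
  classical
  haveI := resField_charP (M := M) hM
  set B := principalBlock M G with hBdef
  have hBb : IsPBlock M B := isPBlock_principalBlock
  have heR := isRCentral_blockCoeff hM hBb
  set e := redAlg (blockCoeff B) heR.2 with hedef
  have hid : e * e = e := by
    rw [hedef, ← redAlg_conv _ _ heR.2 heR.2 (fun x => by rw [blockCoeff_conv_self]; exact heR.2 x)]
    exact redAlg_congr _ _ (blockCoeff_conv_self B)
  have hcomm : ∀ a, e * a = a * e := redAlg_comm _ heR.1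
  have hcard := card_mul_blockCoeff_one_eq_sylow hM P hB
  -- the rank of the block algebra
  have hrank : Module.finrank (ResField M) (LinearMap.range
      ((LinearMap.mulRight (ResField M) e).comp (spread (id : G → G)))) =
        Nat.card (P : Subgroup G) := by
    let T : Matrix G G (locSubring M) := Matrix.of fun x y => ⟨blockCoeff B (y⁻¹ * x), heR.2 _⟩
    have hT : ∀ (a : G → ℂ) (x : G), conv (a ∘ id) (blockCoeff B) x =
        ∑ d, (T (id x) d : ℂ) * a d := fun a x => Finset.sum_congr rfl fun y _ => mul_comm _ _
    have hee : ∀ a : G → ℂ, conv (conv (a ∘ id) (blockCoeff B)) (blockCoeff B) =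
        conv (a ∘ id) (blockCoeff B) := fun a => by rw [conv_assoc', blockCoeff_conv_self]
    have h := finrank_spread_mul id Function.surjective_id (blockCoeff B) heR.2 hee T hT
    rw [← hedef] at h
    have h2 : ∑ i, ((T i i : locSubring M) : ℂ) = (Nat.card (P : Subgroup G) : ℂ) := by
      rw [← hcard]
      simp [T, B, Finset.card_univ, Nat.card_eq_fintype_card]
    exact_mod_cast h.trans h2
  -- the map from functions on `P`
  let Φ : (↥(P : Subgroup G) → ResField M) →ₗ[ResField M] MonoidAlgebra (ResField M) G :=
    (LinearMap.mulRight (ResField M) e).comp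
      { toFun := fun c => ∑ x : (P : Subgroup G), single (x : G) (c x)
        map_add' := fun a b => by simp [single_add, Finset.sum_add_distrib]
        map_smul' := fun r a => by
          rw [RingHom.id_apply, Finset.smul_sum]
          exact Finset.sum_congr rfl fun x _ => (smul_single r _ _).symm }
  have hΦ : ∀ c, Φ c = (∑ x : (P : Subgroup G), single (x : G) (c x)) * e := fun c => rfl
  have hτ : ∀ (x : (P : Subgroup G)) c,
      single (x : G) (1 : ResField M) * Φ c = Φ (translate (ResField M) x c) := by
    intro x c
    rw [hΦ, hΦ, ← mul_assoc, Finset.mul_sum]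
    congr 1
    rw [← Equiv.sum_comp (Equiv.mulLeft x) fun y =>
      single (y : G) (translate (ResField M) x c y)]
    refine Finset.sum_congr rfl fun y _ => ?_
    simp [translate, single_mul_single]
  have hinj : Function.Injective Φ := by
    rw [← LinearMap.ker_eq_bot]
    by_contra hne
    obtain ⟨w, hw, hw0⟩ := Submodule.exists_mem_ne_zero_of_ne_bot hne
    set V := LinearMap.ker Φ
    letI : Module (ZMod p) V := AddCommGroup.zmodModule fun v => by
      rw [← Nat.cast_smul_eq_nsmul (ResField M), CharP.cast_eq_zero, zero_smul]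
    have hst : ∀ x, ∀ c ∈ V, translate (ResField M) x c ∈ V := fun x c hc => by
      rw [LinearMap.mem_ker] at hc ⊢
      rw [← hτ, hc, mul_zero]
    obtain ⟨c, hc0, hc⟩ := Modular.exists_fixed P.isPGroup'
      (fun x => ((translate (ResField M) x).restrict (hst x)).toAddMonoidHom)
      (fun a b v => Subtype.ext (translate_mul a b v.1))
      (fun v => Subtype.ext (translate_one v.1))
      (w := (⟨w, hw⟩ : V)) (fun h => hw0 (congrArg Subtype.val h))
    have hconst : ∀ y, c.1 y = c.1 1 := fun y => by
      have := congrFun (congrArg Subtype.val (hc y⁻¹)) 1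
      simpa [translate] using this
    have hz : c.1 1 • ((∑ x : (P : Subgroup G), single (x : G) (1 : ResField M)) * e) = 0 := by
      have := (LinearMap.mem_ker.1 c.2)
      rw [hΦ] at this
      rw [← this, ← smul_mul_assoc, Finset.smul_sum]
      congr 1
      exact Finset.sum_congr rfl fun y _ => by rw [smul_single, smul_eq_mul, mul_one, hconst y]
    have hc1 : c.1 1 ≠ 0 := fun h => hc0 (Subtype.ext (funext fun y => by rw [hconst, h]; rfl))
    have h1 := congrArg (fun a : MonoidAlgebra (ResField M) G => a.coeff 1)
      ((smul_eq_zero.1 hz).resolve_left hc1)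
    simp only [Finset.sum_mul, MonoidAlgebra.coeff_sum, Finset.sum_apply',
      coeff_single_mul_apply, mul_one, one_mul, hedef, coeff_redAlg, coeff_zero,
      Finsupp.zero_apply] at h1
    rw [← map_sum, red_eq_zero_iff] at h1
    rw [AddSubmonoidClass.coe_finsetSum] at h1
    have h2 : ∑ x : (P : Subgroup G), blockCoeff B (x : G)⁻¹ = blockCoeff B 1 := by
      rw [Finset.sum_eq_single 1 ?_ (by simp), Subgroup.coe_one, inv_one]
      intro u _ hu
      refine blockCoeff_eq_zero_of_dvd hM hBb ?_
      obtain ⟨j, hj⟩ := P.2 u
      obtain ⟨i, -, hi⟩ := (Nat.dvd_prime_pow hM.1).1 (orderOf_dvd_of_pow_eq_one hj)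
      rw [orderOf_inv, Subgroup.orderOf_coe, hi]
      exact dvd_pow_self p fun h0 => hu (orderOf_eq_one_iff.1 (by rw [hi, h0, pow_zero]))
    rw [h2] at h1
    refine not_memLocalIdeal_one (M := M) ?_
    have h3 := memLocalIdeal_mul_left (memLocalRing_natCast (M := M) (P : Subgroup G).index) h1
    have h4 : ((P : Subgroup G).index : ℂ) * blockCoeff B 1 = 1 := by
      have h5 := hcard
      rw [← Subgroup.card_mul_index (P : Subgroup G), Nat.cast_mul, mul_assoc] at h5
      exact mul_left_cancel₀ (Nat.cast_ne_zero.2 Nat.card_pos.ne')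
        (h5.trans (mul_one _).symm)
    rwa [h4] at h3
  have hrange : LinearMap.range Φ = LinearMap.range
      ((LinearMap.mulRight (ResField M) e).comp (spread (id : G → G))) := by
    refine Submodule.eq_of_le_of_finrank_eq ?_ ?_
    · rintro _ ⟨c, rfl⟩
      refine ⟨fun g => (∑ x : (P : Subgroup G), single (x : G) (c x)).coeff g, ?_⟩
      rw [hΦ]
      show spread id _ * e = _
      congr 1
      exact coeff_injective (Finsupp.ext fun g => coeff_spread _ _ g)
    · rw [hrank, LinearMap.finrank_range_of_inj hinj, Module.finrank_fintype_fun_eq_card,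
        Nat.card_eq_fintype_card]
  have hsingle : ∀ g : G, ∃ c, Φ c = single g (1 : ResField M) * e := by
    intro g
    rw [← LinearMap.mem_range, hrange]
    refine ⟨Pi.single g 1, ?_⟩
    show spread id _ * e = _
    congr 1
    refine coeff_injective (Finsupp.ext fun y => ?_)
    rw [coeff_spread, coeff_single, Finsupp.single_apply, id_eq, Pi.single_apply]
    simp only [eq_comm (a := y)]
  -- augmentation
  let ε : MonoidAlgebra (ResField M) G →ₐ[ResField M] ResField M :=
    MonoidAlgebra.lift (ResField M) (ResField M) G 1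
  have hεs : ∀ (g : G) (r : ResField M), ε (single g r) = r := fun g r => by
    simp [ε, MonoidAlgebra.lift_single]
  have hεe : ε e = 1 := by
    rw [hedef, redAlg, map_sum]
    simp only [hεs]
    rw [← map_sum]
    have h1 : ∑ x : G, blockCoeff B x = 1 := by
      have h2 := omega_blockCoeff B (trivIrr G)
      rw [if_pos trivIrr_mem_principalBlock, omega] at h2
      simpa using h2
    refine (congrArg (red M) (Subtype.ext ?_)).trans (map_one _)
    rw [AddSubmonoidClass.coe_finsetSum, OneMemClass.coe_one]
    exact h1
  obtain ⟨n, hn⟩ := exists_fixSeries_eq_top (k := ResField M) (p := p) P.isPGroup'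
  -- the kernel of the action on the block
  let K : Subgroup G :=
    { carrier := {g | single g (1 : ResField M) * e = e}
      one_mem' := by show single (1 : G) (1 : ResField M) * e = e; rw [← one_def, one_mul]
      mul_mem' := fun {a b} ha hb => by
        show single (a * b) (1 : ResField M) * e = e
        rw [show single (a * b) (1 : ResField M) = single a 1 * single b 1 by
          rw [single_mul_single, mul_one], mul_assoc, hb, ha]
      inv_mem' := fun {a} ha => by
        show single a⁻¹ (1 : ResField M) * e = e
        conv_lhs => rw [← ha, ← mul_assoc, single_mul_single, inv_mul_cancel, mul_one, ← one_def,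
          one_mul] }
  have hKmem : ∀ g, g ∈ K ↔ single g (1 : ResField M) * e = e := fun g => Iff.rfl
  have hKn : K.Normal := ⟨fun g hg x => by
    rw [hKmem] at hg ⊢
    rw [show single (x * g * x⁻¹) (1 : ResField M) = single x 1 * single g 1 * single x⁻¹ 1 by
      rw [single_mul_single, single_mul_single, mul_one, mul_one], mul_assoc, ← hcomm,
      ← mul_assoc, mul_assoc (single x (1 : ResField M)), hg, mul_assoc, hcomm, ← mul_assoc,
      single_mul_single, mul_inv_cancel, mul_one, ← one_def, one_mul]⟩
  have hKP : ∀ x : (P : Subgroup G), (x : G) ∈ K → x = 1 := by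
    intro x hx
    rw [hKmem] at hx
    have h1 : Φ (Pi.single x 1) = Φ (Pi.single 1 1) := by
      rw [hΦ, hΦ, Finset.sum_eq_single x (fun y _ hy => by rw [Pi.single_eq_of_ne hy]; simp)
        (by simp), Finset.sum_eq_single 1 (fun y _ hy => by rw [Pi.single_eq_of_ne hy]; simp)
        (by simp), Pi.single_eq_same, Pi.single_eq_same, hx, Subgroup.coe_one, ← one_def, one_mul]
    by_contra hne
    have h2 := congrFun (hinj h1) x
    rw [Pi.single_eq_same, Pi.single_eq_of_ne hne] at h2
    exact one_ne_zero h2
  have hKp : ¬ p ∣ Nat.card K := by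
    intro hd
    obtain ⟨z, hz⟩ := exists_prime_orderOf_dvd_card' p hd
    rw [← Subgroup.orderOf_coe] at hz
    obtain ⟨S, hS⟩ := (IsPGroup.of_card (p := p) (n := 1) (by
      rw [Nat.card_zpowers, hz, pow_one]) : IsPGroup p (Subgroup.zpowers (z : G))).exists_le_sylow
    obtain ⟨a, ha⟩ := MulAction.exists_smul_eq G S P
    have h1 : a * (z : G) * a⁻¹ ∈ (P : Subgroup G) := by
      rw [← ha, Sylow.coe_subgroup_smul]
      exact ⟨z, hS (Subgroup.mem_zpowers _), rfl⟩
    have h2 := congrArg Subtype.val (hKP ⟨_, h1⟩ (hKn.conj_mem _ z.2 a))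
    rw [Subgroup.coe_one, conj_eq_one_iff] at h2
    rw [h2, orderOf_one] at hz
    exact hM.1.ne_one hz.symm
  -- every element acts unipotently
  have hpow : ∀ g : G, g ^ p ^ n ∈ K := by
    intro g
    obtain ⟨c, hc⟩ := hsingle g
    have hsum : ∑ x, c x = 1 := by
      have := congrArg ε hc
      rw [hΦ, map_mul, map_mul, map_sum, hεe, hεs, mul_one, mul_one] at this
      simpa [hεs] using this
    let U : (↥(P : Subgroup G) → ResField M) →ₗ[ResField M] (↥(P : Subgroup G) → ResField M) :=
      ∑ x, c x • (translate (ResField M) x - LinearMap.id)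
    have hU : ∀ d, (single g (1 : ResField M) - 1) * Φ d = Φ (U d) := by
      intro d
      have h1 : single g (1 : ResField M) * Φ d =
          (∑ x : (P : Subgroup G), single (x : G) (c x)) * Φ d := by
        conv_lhs => rw [hΦ, ← hcomm, ← mul_assoc, ← hc, hΦ, mul_assoc, hcomm, ← hΦ]
      rw [sub_mul, one_mul, h1, Finset.sum_mul]
      simp only [U, LinearMap.sum_apply, LinearMap.smul_apply, LinearMap.sub_apply,
        LinearMap.id_coe, id_eq, map_sum, map_smul, map_sub, smul_sub, Finset.sum_sub_distrib,
        ← Finset.sum_smul, hsum, one_smul]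
      congr 1
      refine Finset.sum_congr rfl fun x _ => ?_
      rw [← hτ, ← smul_mul_assoc, smul_single, smul_eq_mul, mul_one]
    have hdrop : ∀ i, ∀ d ∈ fixSeries (ResField M) (P : Subgroup G) i,
        (single g (1 : ResField M) - 1) ^ i * Φ d = 0 := by
      intro i
      induction i with
      | zero =>
        intro d hd
        rw [Submodule.mem_bot (R := ResField M) |>.1 hd, map_zero, mul_zero]
      | succ i ih =>
        intro d hd
        rw [pow_succ, mul_assoc, hU]
        refine ih _ ?_
        simp only [U, LinearMap.sum_apply, LinearMap.smul_apply]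
        exact Submodule.sum_mem _ fun x _ => Submodule.smul_mem _ _
          (mem_fixSeries_succ.1 hd x)
    have he1 : e = Φ (Pi.single 1 1) := by
      rw [hΦ, Finset.sum_eq_single 1 (fun y _ hy => by rw [Pi.single_eq_of_ne hy]; simp)
        (by simp), Pi.single_eq_same, Subgroup.coe_one, ← one_def, one_mul]
    have h2 := hdrop n (Pi.single 1 1) (hn ▸ Submodule.mem_top)
    rw [← he1] at h2
    haveI : CharP (MonoidAlgebra (ResField M) G) p :=
      charP_of_injective_algebraMap (algebraMap (ResField M) _).injective p
    have h3 : (single g (1 : ResField M) - 1) ^ p ^ n * e = 0 := by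
      rw [← Nat.sub_add_cancel (Nat.lt_pow_self hp.out.one_lt).le, pow_add, mul_assoc, h2, mul_zero]
    rw [sub_pow_char_pow_of_commute p n (Commute.one_right _), one_pow, sub_mul, one_mul,
      sub_eq_zero, single_pow, one_pow] at h3
    exact h3
  refine ⟨K, hKn, hKp, fun g hg => ?_⟩
  obtain ⟨m, hm⟩ := exists_pow_eq_self_of_coprime
    (((Nat.Prime.coprime_iff_not_dvd hM.1).2 hg).pow_left n)
  rw [← hm]
  exact pow_mem (hpow g) m

end Cfsg.Agent.Lib.Blocks
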