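import Cfsg.Agent.Lib.Blocks.PrincipalFull
import Cfsg.Agent.Lib.Blocks.Covering2
import Cfsg.Agent.Lib.Blocks.Transport
import Cfsg.Agent.Lib.Characters.Gallagher
import Cfsg.Agent.Lib.Characters.DegreeRatio
import Cfsg.Agent.Lib.Characters.BrauerMain
import Cfsg.Agent.S0901

/-!
# Restriction of the principal block to a normal subgroup of index prime to `p` supplemented by the
centralizer of a Sylow subgroup
-/

set_option autoImplicit false
set_option linter.unusedSectionVars false
set_option linter.unusedVariables false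
set_option linter.style.haveILetI false

namespace Cfsg.Agent.Lib.Blocks

open Cfsg Cfsg.Agent.Lib.Characters
open scoped ComplexConjugate

universe u

section

variable {G : Type u} [Group G] [Fintype G] {M : Ideal AlgInt} [hMp : M.IsPrime] {p : ℕ}
  [hp : Fact p.Prime]

theorem sylow_le_of_not_dvd_index (N : Subgroup G) [N.Normal] (hidx : ¬ p ∣ N.index)
    (P : Sylow p G) : (P : Subgroup G) ≤ N := by
  intro a ha
  rw [← QuotientGroup.eq_one_iff, ← orderOf_eq_one_iff]
  obtain ⟨k, hk⟩ := P.isPGroup'.exists_card_eq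
  have h1 : orderOf (a : G ⧸ N) ∣ p ^ k :=
    (orderOf_map_dvd (QuotientGroup.mk' N) a).trans
      (hk ▸ Subgroup.orderOf_dvd_natCard (P : Subgroup G) ha)
  obtain ⟨j, -, hj⟩ := (Nat.dvd_prime_pow hp.out).1 h1
  rcases Nat.eq_zero_or_pos j with rfl | hj0
  · simpa using hj
  · exact absurd ((dvd_pow_self p hj0.ne').trans (hj ▸ orderOf_dvd_natCard (a : G ⧸ N))) hidx

/-- The criterion for the principal block in a block of full defect. -/
theorem mem_principalBlock_iff_ratio (hM : IsPModular p M) (P : Sylow p G) (χ : IrrCharacter G)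
    (hfull : ∃ ψ ∈ blockOf M (χ : G → ℂ), ¬ p ∣ charDegree (ψ : G → ℂ)) :
    χ ∈ principalBlock M G ↔ ∀ x ∈ Subgroup.centralizer ((P : Subgroup G) : Set G), ¬ p ∣ orderOf x →
      MemLocalIdeal M ((χ : G → ℂ) x / (χ : G → ℂ) 1 - 1) := by
  classical
  obtain ⟨ψ, hψ, hd⟩ := hfull
  have hdef : blockDefect p (blockOf M (χ : G → ℂ)) = (Nat.card G).factorization p := by
    rw [blockDefect]
    suffices h : sInf ((fun ψ : IrrCharacter G => (charDegree (ψ : G → ℂ)).factorization p) ''
        blockOf M (χ : G → ℂ)) = 0 by rw [h, Nat.sub_zero]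
    exact Nat.sInf_eq_zero.2 (Or.inl ⟨ψ, hψ, Nat.factorization_eq_zero_of_not_dvd hd⟩)
  have h1 : ¬ p ∣ charDegree ((trivIrr G : IrrCharacter G) : G → ℂ) := by
    intro h
    have h2 : (charDegree ((trivIrr G : IrrCharacter G) : G → ℂ) : ℂ) = 1 := by
      rw [charDegree_eq, trivIrr_apply]
    rw [Nat.cast_eq_one.1 h2, Nat.dvd_one] at h
    exact hp.out.ne_one h
  have hkey := Cfsg.Agent.Lib.BlockHeights.sameBlock_iff_classes hM
    (blockDefect_of_not_dvd (M := M) h1) hdef
  have hmem : χ ∈ principalBlock M G ↔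
      SameBlock M ((trivIrr G : IrrCharacter G) : G → ℂ) (χ : G → ℂ) := Iff.rfl
  rw [hmem, hkey]
  constructor
  · intro h x hx hxr
    have hPx : (P : Subgroup G) ≤ Subgroup.centralizer ({x} : Set G) := fun a ha =>
      Subgroup.mem_centralizer_singleton_iff.2 (Subgroup.mem_centralizer_iff.1 hx a ha)
    have hfull : (Nat.card (Subgroup.centralizer ({x} : Set G))).factorization p =
        (Nat.card G).factorization p := by
      refine le_antisymm ?_ ?_
      · exact (Nat.factorization_le_iff_dvd Nat.card_pos.ne' Nat.card_pos.ne').2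
          (Subgroup.card_subgroup_dvd_card _) p
      · refine (hp.out.pow_dvd_iff_le_factorization Nat.card_pos.ne').1 ?_
        rw [← Sylow.card_eq_multiplicity P]
        exact Subgroup.card_dvd_of_le hPx
    have hidx : ¬ p ∣ (Subgroup.centralizer ({x} : Set G)).index := fun h' =>
      Sylow.not_dvd_index P (h'.trans (Subgroup.index_dvd_of_le hPx))
    have h2 := h x hxr hfull
    simp only [centralChar, trivIrr_apply, mul_one, div_one] at h2
    have h3 := memLocalIdeal_mul_right (memLocalIdeal_neg h2) (memLocalRing_inv_natCast hM hidx)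
    have hi0 : ((Subgroup.centralizer ({x} : Set G)).index : ℂ) ≠ 0 :=
      Nat.cast_ne_zero.2 fun h0 => hidx (h0 ▸ dvd_zero p)
    convert h3 using 1
    field_simp
    ring
  · intro h x hxr hfull
    obtain ⟨c, hc⟩ := exists_conj_mem_centralizer_sylow P hfull
    have h2 := h _ hc (by rwa [show c * x * c⁻¹ = MulAut.conj c x from rfl, MulEquiv.orderOf_eq])
    rw [irr_isClassFunction χ] at h2
    have h3 := memLocalIdeal_neg
      (memLocalIdeal_mul_left (memLocalRing_natCast (M := M) (Subgroup.centralizer ({x} : Set G)).index) h2)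
    simp only [centralChar, trivIrr_apply, mul_one, div_one]
    convert h3 using 1
    ring

/-- A linear twist moves blocks to blocks. -/
theorem sameBlock_twist {χ χ' : G → ℂ} (h : SameBlock M χ χ') (l : G → ℂ) (hl1 : l 1 = 1)
    (hl : ∀ g, MemLocalRing M (l g)) :
    SameBlock M (fun g => l g * χ g) (fun g => l g * χ' g) := fun g => by
  have h2 := memLocalIdeal_mul_left (hl g) (h g)
  simp only [centralChar, hl1, one_mul] at h2 ⊢
  convert h2 using 1
  ring

/-- A character whose values at unit norm. -/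
theorem isIrr_linear_mul {l χ : G → ℂ} (hl : IsCharacter G l) (hl1 : l 1 = 1)
    (hχ : IsIrrCharacter G χ) : IsIrrCharacter G (fun g => l g * χ g) := by
  have hc : IsCharacter G (fun g => l g * χ g) := IsCharacter.mul hl (IsIrrCharacter.isCharacter hχ)
  obtain ⟨lam, hlam⟩ := IsCharacter.exists_hom_of_apply_one hl hl1
  rw [IsCharacter.isIrr_iff hc, classInner_eq_sum_inv hc, ← IsIrrCharacter.classInner_self hχ,
    classInner_eq_sum_inv (IsIrrCharacter.isCharacter hχ)]
  refine congrArg _ (Finset.sum_congr rfl fun g _ => ?_)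
  rw [hlam]
  simp only
  rw [map_inv, mul_mul_mul_comm, Units.mul_inv, one_mul]

variable (N : Subgroup G) [N.Normal] [Fintype N]

/-- Constituents of a character trivial on `N` have degree prime to `p` when the index is. -/
theorem not_dvd_degree_of_trivial_on (hidx : ¬ p ∣ N.index) (χ : IrrCharacter G)
    (h : ∀ n ∈ N, (χ : G → ℂ) n = (χ : G → ℂ) 1) : ¬ p ∣ charDegree (χ : G → ℂ) := by
  obtain ⟨e, he, hdvd⟩ := degree_ratio_dvd_index N χ.2 (trivIrr N).2
    ((classInner_trivIrr_ne_zero_iff N χ).2 h)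
  rw [trivIrr_apply, mul_one, ← charDegree_eq, Nat.cast_inj] at he
  exact fun hd => hidx ((he ▸ hd).trans hdvd)

/-- A block over the principal block of `N` contains a character trivial on `N`. -/
theorem exists_trivial_on_in_block (hM : IsPModular p M) {χ : IrrCharacter G} {θ : IrrCharacter N}
    (hθ : θ ∈ principalBlock M N)
    (h : classInner (fun n : N => (χ : G → ℂ) n) (θ : N → ℂ) ≠ 0) :
    ∃ ψ ∈ blockOf M (χ : G → ℂ), ∀ n ∈ N, (ψ : G → ℂ) n = (ψ : G → ℂ) 1 := by
  obtain ⟨ψ, hψ, hne⟩ := exists_over_in_block N hM (B := blockOf M (χ : G → ℂ)) ⟨χ, rfl⟩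
    isPBlock_principalBlock ⟨χ, self_mem_blockOf χ, θ, hθ, h⟩ (θ := trivIrr N)
    (self_mem_blockOf (trivIrr N))
  exact ⟨ψ, hψ, (classInner_trivIrr_ne_zero_iff N ψ).1 hne⟩

theorem full_of_over (hM : IsPModular p M) (hidx : ¬ p ∣ N.index) {χ : IrrCharacter G}
    {θ : IrrCharacter N} (hθ : θ ∈ principalBlock M N)
    (h : classInner (fun n : N => (χ : G → ℂ) n) (θ : N → ℂ) ≠ 0) :
    ∃ ψ ∈ blockOf M (χ : G → ℂ), ¬ p ∣ charDegree (ψ : G → ℂ) := by
  obtain ⟨ψ, hψ, htr⟩ := exists_trivial_on_in_block N hM hθ h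
  exact ⟨ψ, hψ, not_dvd_degree_of_trivial_on N hidx ψ htr⟩

/-- The principal block of `G` lies over the principal block of `N` only. -/
theorem constituent_mem_principal (hM : IsPModular p M) {χ : IrrCharacter G}
    (hχ : χ ∈ principalBlock M G) {θ : IrrCharacter N}
    (h : classInner (fun n : N => (χ : G → ℂ) n) (θ : N → ℂ) ≠ 0) : θ ∈ principalBlock M N := by
  have hb : IsPBlock M (principalBlock M N) := isPBlock_principalBlock
  obtain ⟨g, φ, hφ, rfl⟩ := constituent_mem_conjClosure N hM (IsPBlock.blockOf_subset hb)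
    (χ := trivIrr G) (χ' := χ) hχ (θ := trivIrr N) (self_mem_blockOf (trivIrr N))
    ((classInner_trivIrr_ne_zero_iff N (trivIrr G)).2 fun n _ => by simp) h
  have h2 := sameBlock_conjFun N (θ := trivIrr N) hφ g
  have h3 : conjIrrN N g (trivIrr N) = trivIrr N := Subtype.ext (funext fun n => rfl)
  rw [h3] at h2
  exact h2

/-- A character of the principal block extending `θ` is the only one over `θ`. -/
theorem principal_over_unique (hM : IsPModular p M) (hidx : ¬ p ∣ N.index) (P : Sylow p G)
    (hsup : N ⊔ Subgroup.centralizer ((P : Subgroup G) : Set G) = ⊤) {χ₀ χ : IrrCharacter G}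
    (hχ₀ : χ₀ ∈ principalBlock M G) (hχ : χ ∈ principalBlock M G) {θ : IrrCharacter N}
    (hres : ∀ n : N, (χ₀ : G → ℂ) n = (θ : N → ℂ) n)
    (hover : classInner (fun n : N => (χ : G → ℂ) n) (θ : N → ℂ) ≠ 0) : χ = χ₀ := by
  classical
  have heq : (fun n : N => (χ₀ : G → ℂ) n) = (θ : N → ℂ) := funext hres
  have hθ : θ ∈ principalBlock M N := constituent_mem_principal N hM hχ hover
  have hover₀ : classInner (fun n : N => (χ₀ : G → ℂ) n) (θ : N → ℂ) ≠ 0 := by
    rw [heq, IsIrrCharacter.classInner_self θ.2]; exact one_ne_zero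
  obtain ⟨hη, hprod⟩ := (gallagher_avg N χ₀.2 (heq ▸ θ.2) χ.2).1 (by rw [heq]; exact hover)
  set η : IrrCharacter G :=
    ⟨Characters.avgN N ((χ : G → ℂ) * fun g => conj ((χ₀ : G → ℂ) g)), hη⟩ with hηdef
  have hηv : ∀ g, (χ : G → ℂ) g = (η : G → ℂ) g * (χ₀ : G → ℂ) g := fun g => congrFun hprod g
  have hηN : ∀ n ∈ N, (η : G → ℂ) n = (η : G → ℂ) 1 := fun n hn => avgN_apply_coe N _ ⟨n, hn⟩
  have hdη := not_dvd_degree_of_trivial_on N hidx η hηN
  have hη1 : (η : G → ℂ) 1 ≠ 0 := IsIrrCharacter.apply_one_ne_zero η.2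
  have h01 : (χ₀ : G → ℂ) 1 ≠ 0 := IsIrrCharacter.apply_one_ne_zero χ₀.2
  have hr := (mem_principalBlock_iff_ratio hM P χ (full_of_over N hM hidx hθ hover)).1 hχ
  have hr₀ := (mem_principalBlock_iff_ratio hM P χ₀ (full_of_over N hM hidx hθ hover₀)).1 hχ₀
  have hcong : ∀ x ∈ Subgroup.centralizer ((P : Subgroup G) : Set G), ¬ p ∣ orderOf x →
      MemLocalIdeal M ((η : G → ℂ) x - (η : G → ℂ) 1) := by
    intro x hx hxr
    have h1 := hr x hx hxr
    have h2 := hr₀ x hx hxr
    have hqR : MemLocalRing M ((η : G → ℂ) x / (η : G → ℂ) 1) := by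
      rw [← charDegree_eq η, div_eq_mul_inv]
      exact memLocalRing_mul (memLocalRing_of_isIntegral' (isIntegral_char η x))
        (memLocalRing_inv_natCast hM hdη)
    have h3 := memLocalIdeal_sub h1 (memLocalIdeal_mul_left hqR h2)
    have h4 := memLocalIdeal_mul_left (memLocalRing_of_isIntegral' (M := M) (isIntegral_char η 1)) h3
    convert h4 using 1
    rw [hηv, hηv]
    field_simp
    ring
  -- the inflation to the quotient
  obtain ⟨β, hβ, hβη⟩ := IsIrrCharacter.exists_quotient η.2 N hηN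
  haveI := Fintype.ofFinite (G ⧸ N)
  have hQ : ¬ p ∣ Nat.card (G ⧸ N) := hidx
  have hβ1 : (⟨β, hβ⟩ : IrrCharacter (G ⧸ N)) = trivIrr (G ⧸ N) := by
    have hmem : (⟨β, hβ⟩ : IrrCharacter (G ⧸ N)) ∈
        blockOf M ((trivIrr (G ⧸ N) : IrrCharacter (G ⧸ N)) : G ⧸ N → ℂ) := by
      intro q
      obtain ⟨g, rfl⟩ := QuotientGroup.mk_surjective q
      obtain ⟨a, ha, c, hc, rfl⟩ := Subgroup.mem_sup_of_normal_left.1 (hsup ▸ Subgroup.mem_top g)
      -- a regular power of `c` with the same image
      have hP1 : Nat.Coprime (p ^ (Nat.card G).factorization p) N.index :=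
        (hp.out.coprime_iff_not_dvd.2 hidx).pow_left _
      obtain ⟨k, hk1, hk2⟩ := Nat.chineseRemainder hP1 0 1
      have hxr : ¬ p ∣ orderOf (c ^ k) := by
        intro hd
        obtain ⟨w, hw⟩ := Nat.modEq_zero_iff_dvd.1 hk1
        have h2 : (c ^ k) ^ (Nat.card G / p ^ (Nat.card G).factorization p) = 1 := by
          rw [← pow_mul, hw, mul_comm (p ^ (Nat.card G).factorization p) w, mul_assoc,
            Nat.ordProj_mul_ordCompl_eq_self, mul_comm, pow_mul, pow_card_eq_one', one_pow]
        exact Nat.not_dvd_ordCompl hp.out Nat.card_pos.ne' (hd.trans (orderOf_dvd_of_pow_eq_one h2))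
      have himg : ((a * c : G) : G ⧸ N) = ((c ^ k : G) : G ⧸ N) := by
        rw [QuotientGroup.mk_mul, (QuotientGroup.eq_one_iff a).2 ha, one_mul, QuotientGroup.mk_pow]
        exact ((pow_eq_pow_of_modEq hk2 (pow_card_eq_one' (x := (c : G ⧸ N)))).trans (pow_one _)).symm
      have h := hcong _ (Subgroup.pow_mem _ hc k) hxr
      rw [hβη] at h
      simp only [Function.comp_apply, QuotientGroup.mk'_apply, QuotientGroup.mk_one] at h
      rw [himg]
      simp only [centralChar, trivIrr_apply, mul_one, div_one]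
      have hβd : (β 1)⁻¹ = ((charDegree (η : G → ℂ) : ℂ))⁻¹ := by
        rw [charDegree_eq η, hβη]; simp
      have h2 := memLocalIdeal_neg (memLocalIdeal_mul_right (memLocalIdeal_mul_left
        (memLocalRing_natCast (M := M) (Subgroup.centralizer ({((c ^ k : G) : G ⧸ N)} : Set (G ⧸ N))).index) h)
        (memLocalRing_inv_natCast hM hdη))
      rw [← hβd] at h2
      convert h2 using 1
      have hβ0 : β 1 ≠ 0 := IsIrrCharacter.apply_one_ne_zero hβ
      field_simp
      ring
    rw [blockOf_eq_singleton_of_not_dvd hM hQ (trivIrr (G ⧸ N))] at hmem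
    exact hmem
  refine Subtype.ext (funext fun g => ?_)
  rw [hηv g, hβη, show β = fun _ => 1 from congrArg Subtype.val hβ1]
  simp

/-- Every member of the principal block of `N` extends to one of `G`. -/
def ExtendsPrincipal (M : Ideal AlgInt) (N : Subgroup G) : Prop :=
  ∀ θ ∈ principalBlock M N, ∃ χ ∈ principalBlock M G, ∀ n : N, (χ : G → ℂ) n = (θ : N → ℂ) n

/-- The abelian case. -/
theorem extendsPrincipal_of_comm (hM : IsPModular p M) (hidx : ¬ p ∣ N.index) (P : Sylow p G)
    (hsup : N ⊔ Subgroup.centralizer ((P : Subgroup G) : Set G) = ⊤)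
    (hab : ∀ a b : G ⧸ N, a * b = b * a) : ExtendsPrincipal M N := by
  classical
  intro θ hθ
  obtain ⟨χ, hχ⟩ := exists_over N θ
  obtain ⟨ψ, hψ, htr⟩ := exists_trivial_on_in_block N hM hθ hχ
  -- `ψ` is linear
  obtain ⟨β, hβ, hβψ⟩ := IsIrrCharacter.exists_quotient ψ.2 N htr
  have hψ1 : (ψ : G → ℂ) 1 = 1 := by
    rw [hβψ]; simp [IsIrrCharacter.apply_one_of_comm hab hβ]
  let l : G → ℂ := fun g => conj ((ψ : G → ℂ) g)
  have hl : IsCharacter G l := IsCharacter.conjugate (irr_isCharacter ψ)
  have hl1 : l 1 = 1 := by simp [l, hψ1]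
  let χ' : IrrCharacter G := ⟨fun g => l g * (χ : G → ℂ) g, isIrr_linear_mul hl hl1 χ.2⟩
  obtain ⟨lam, hlam⟩ := IsCharacter.exists_hom_of_apply_one (irr_isCharacter ψ) hψ1
  have hlψ : ∀ g, l g * (ψ : G → ℂ) g = 1 := by
    intro g
    show conj ((ψ : G → ℂ) g) * _ = 1
    rw [← IsCharacter.apply_inv (irr_isCharacter ψ), hlam]
    simp only
    rw [map_inv, Units.inv_mul]
  have hlR : ∀ g, MemLocalRing M (l g) := fun g => by
    show MemLocalRing M (conj _)
    rw [← IsCharacter.apply_inv (irr_isCharacter ψ)]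
    exact memLocalRing_of_isIntegral' (isIntegral_char ψ _)
  have hχ' : χ' ∈ principalBlock M G := by
    have h2 := sameBlock_twist hψ l hl1 hlR
    simp only [hlψ] at h2
    intro g
    have h3 := memLocalIdeal_neg (h2 g)
    rw [neg_sub] at h3
    exact h3
  have hlN : ∀ n ∈ N, l n = 1 := fun n hn => by
    show conj _ = 1
    rw [htr n hn, hψ1, map_one]
  have hres : ∀ n : N, (χ' : G → ℂ) n = (χ : G → ℂ) n := fun n => by
    show l n * _ = _
    rw [hlN n n.2, one_mul]
  -- the restriction is irreducible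
  haveI := Fintype.ofFinite (G ⧸ N)
  haveI := Fintype.ofFinite (IrrCharacter (G ⧸ N))
  have hirr : IsIrrCharacter N (fun n : N => (χ' : G → ℂ) n) := by
    have hcN : IsCharacter N (fun n : N => (χ' : G → ℂ) n) := IsCharacter.restrict (irr_isCharacter χ') N
    rw [IsCharacter.isIrr_iff hcN, classInner_eq_sum_inv hcN]
    let tw : IrrCharacter (G ⧸ N) → IrrCharacter G := fun β => ⟨fun g => (β : G ⧸ N → ℂ) g * (χ' : G → ℂ) g,
      isIrr_linear_mul (IsCharacter.comp (irr_isCharacter β) (QuotientGroup.mk' N))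
        (by simp [IsIrrCharacter.apply_one_of_comm hab β.2]) χ'.2⟩
    have htw : ∀ β, tw β = χ' → β = trivIrr (G ⧸ N) := by
      intro β hβ'
      let η : IrrCharacter G := ⟨_, IsIrrCharacter.comp_surjective β.2 (QuotientGroup.mk' N)
        (QuotientGroup.mk'_surjective N)⟩
      have hηmem : η ∈ principalBlock M G := by
        have h2 := sameBlock_twist hχ' (η : G → ℂ)
          (by simp [η, IsIrrCharacter.apply_one_of_comm hab β.2])
          (fun g => memLocalRing_of_isIntegral' (isIntegral_char η g))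
        intro g
        have h3 := h2 g
        have h4 := hχ' g
        simp only [mul_one] at h3
        rw [show (fun g => (η : G → ℂ) g * (χ' : G → ℂ) g) = (χ' : G → ℂ) from
          congrArg Subtype.val hβ'] at h3
        have h5 := memLocalIdeal_sub h4 h3
        rwa [sub_sub_sub_cancel_right] at h5
      have htriv : η = trivIrr G := by
        refine principal_over_unique N hM hidx P hsup (θ := trivIrr N) (self_mem_blockOf (trivIrr G)) hηmem
          (fun n => by simp) ?_
        refine (classInner_trivIrr_ne_zero_iff N η).2 fun n hn => ?_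
        show (β : G ⧸ N → ℂ) (n : G ⧸ N) = (β : G ⧸ N → ℂ) ((1 : G) : G ⧸ N)
        rw [(QuotientGroup.eq_one_iff n).2 hn, QuotientGroup.mk_one]
      refine Subtype.ext (funext fun q => ?_)
      obtain ⟨g, rfl⟩ := QuotientGroup.mk_surjective q
      exact congrFun (congrArg Subtype.val htriv) g
    have hind : ∀ g : G, ∑ β : IrrCharacter (G ⧸ N), (β : G ⧸ N → ℂ) g =
        if g ∈ N then (N.index : ℂ) else 0 := by
      intro g
      have h := sum_irr_mul_conj (g : G ⧸ N) 1
      simp only [IsIrrCharacter.apply_one_of_comm hab (Subtype.prop _), map_one, mul_one] at h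
      rw [h]
      by_cases hg : g ∈ N
      · rw [if_pos hg, if_pos (by rw [(QuotientGroup.eq_one_iff g).2 hg]), (QuotientGroup.eq_one_iff g).2 hg,
          show Subgroup.centralizer ({(1 : G ⧸ N)} : Set (G ⧸ N)) = ⊤ from
            eq_top_iff.2 fun x _ => Subgroup.mem_centralizer_singleton_iff.2 (by simp),
          Subgroup.card_top]
        rfl
      · rw [if_neg hg, if_neg fun h' => hg ((QuotientGroup.eq_one_iff g).1 (isConj_one_left.1 h'))]
    have hsum : ∑ β : IrrCharacter (G ⧸ N), classInner (tw β : G → ℂ) (χ' : G → ℂ) = 1 := by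
      rw [Finset.sum_eq_single (trivIrr (G ⧸ N))]
      · rw [show tw (trivIrr (G ⧸ N)) = χ' from Subtype.ext (funext fun g => by simp [tw]),
          IsIrrCharacter.classInner_self χ'.2]
      · intro β _ hne
        exact IsIrrCharacter.classInner_ne (tw β).2 χ'.2 fun h => hne (htw β (Subtype.ext h))
      · simp
    rw [← hsum]
    simp only [classInner_eq_sum_inv (irr_isCharacter _), ← Finset.mul_sum]
    rw [Finset.sum_comm, Finset.sum_congr rfl fun (g : G) _ =>
      show (∑ β : IrrCharacter (G ⧸ N), (tw β : G → ℂ) g * (χ' : G → ℂ) g⁻¹) =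
        if g ∈ N then (N.index : ℂ) * ((χ' : G → ℂ) g * (χ' : G → ℂ) g⁻¹) else 0 by
      rw [Finset.sum_congr rfl fun (β : IrrCharacter (G ⧸ N)) _ =>
        show (tw β : G → ℂ) g * (χ' : G → ℂ) g⁻¹ =
          (β : G ⧸ N → ℂ) g * ((χ' : G → ℂ) g * (χ' : G → ℂ) g⁻¹) from mul_assoc _ _ _,
        ← Finset.sum_mul, hind, ite_mul, zero_mul],
      ← Finset.sum_filter, Finset.sum_subtype (p := fun g => g ∈ N)
        (Finset.univ.filter fun g => g ∈ N) (fun x => by simp)
        (fun g => (N.index : ℂ) * ((χ' : G → ℂ) g * (χ' : G → ℂ) g⁻¹)), ← Finset.mul_sum,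
      show (Nat.card G : ℂ) = (N.index : ℂ) * (Nat.card N : ℂ) by
        rw [← Nat.cast_mul, N.index_mul_card]]
    have hi0 : (N.index : ℂ) ≠ 0 := Nat.cast_ne_zero.2 Subgroup.index_ne_zero_of_finite
    simp only [Subgroup.coe_inv]
    field_simp
  have hne' : classInner (fun n : N => (χ' : G → ℂ) n) (θ : N → ℂ) ≠ 0 := by simpa only [hres] using hχ
  refine ⟨χ', hχ', fun n => ?_⟩
  by_contra hn
  exact hne' (IsIrrCharacter.classInner_ne hirr θ.2 fun h => hn (congrFun h n))

/-- A character with irreducible restriction is irreducible. -/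
theorem isIrr_of_restrict {φ : G → ℂ} (hφ : IsCharacter G φ)
    (hN : IsIrrCharacter N (fun n : N => φ n)) : IsIrrCharacter G φ := by
  classical
  obtain ⟨ξ, hξ⟩ := IsCharacter.exists_constituent hφ fun h =>
    IsIrrCharacter.apply_one_ne_zero hN (by simpa using congrFun h (1 : G))
  obtain ⟨ρ, hρ, hsum⟩ := IsCharacter.exists_add_of_classInner_ne_zero hφ ξ.2 hξ
  by_cases h0 : ρ = 0
  · rw [hsum, h0, add_zero]; exact ξ.2
  · exfalso
    obtain ⟨σ, hσ⟩ := IsCharacter.exists_constituent hρ h0
    obtain ⟨a, ha⟩ := exists_constituent_restrict N ξ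
    obtain ⟨b, hb⟩ := exists_constituent_restrict N σ
    obtain ⟨ρ', hρ', hsum'⟩ := IsCharacter.exists_add_of_classInner_ne_zero hρ σ.2 hσ
    have key : ∀ θ' : IrrCharacter N, classInner (fun n : N => φ n) (θ' : N → ℂ) =
        classInner (fun n : N => (ξ : G → ℂ) n) (θ' : N → ℂ) +
          (classInner (fun n : N => (σ : G → ℂ) n) (θ' : N → ℂ) +
            classInner (fun n : N => ρ' n) (θ' : N → ℂ)) := by
      intro θ'
      rw [← classInner_add_left, ← classInner_add_left]
      congr 1
      funext n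
      rw [hsum, hsum']
      rfl
    have hc := irr_isCharacter (G := N)
    obtain ⟨k1, hk1⟩ := IsCharacter.exists_classInner_nat (IsCharacter.restrict (irr_isCharacter ξ) N) (hc a)
    obtain ⟨k2, hk2⟩ := IsCharacter.exists_classInner_nat (IsCharacter.restrict (irr_isCharacter σ) N) (hc a)
    obtain ⟨k3, hk3⟩ := IsCharacter.exists_classInner_nat (IsCharacter.restrict hρ' N) (hc a)
    obtain ⟨l1, hl1⟩ := IsCharacter.exists_classInner_nat (IsCharacter.restrict (irr_isCharacter ξ) N) (hc b)
    obtain ⟨l2, hl2⟩ := IsCharacter.exists_classInner_nat (IsCharacter.restrict (irr_isCharacter σ) N) (hc b)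
    obtain ⟨l3, hl3⟩ := IsCharacter.exists_classInner_nat (IsCharacter.restrict hρ' N) (hc b)
    have hk0 : k1 ≠ 0 := fun h => ha (by rw [hk1, h, Nat.cast_zero])
    have hl0 : l2 ≠ 0 := fun h => hb (by rw [hl2, h, Nat.cast_zero])
    let φN : IrrCharacter N := ⟨fun n : N => φ n, hN⟩
    have e1 := key a
    have e2 := key b
    rw [hk1, hk2, hk3] at e1
    rw [hl1, hl2, hl3] at e2
    have haφ : φN = a := by
      by_contra h
      rw [show classInner (fun n : N => φ n) (a : N → ℂ) = 0 from
        IsIrrCharacter.classInner_ne hN a.2 fun h' => h (Subtype.ext h')] at e1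
      have : (0 : ℕ) = k1 + (k2 + k3) := by exact_mod_cast e1
      omega
    have hbφ : φN = b := by
      by_contra h
      rw [show classInner (fun n : N => φ n) (b : N → ℂ) = 0 from
        IsIrrCharacter.classInner_ne hN b.2 fun h' => h (Subtype.ext h')] at e2
      have : (0 : ℕ) = l1 + (l2 + l3) := by exact_mod_cast e2
      omega
    rw [← hbφ, haφ] at hl2
    rw [show classInner (fun n : N => φ n) (a : N → ℂ) = 1 by
      rw [← haφ]; exact IsIrrCharacter.classInner_self hN] at e1
    have h1 : (1 : ℕ) = k1 + (k2 + k3) := by exact_mod_cast e1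
    have h2 : k2 = l2 := Nat.cast_injective (hk2.symm.trans hl2)
    omega

end

end Cfsg.Agent.Lib.Blocks
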