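import Cfsg.Agent.Lib.Blocks.Principal
import Cfsg.Agent.Lib.Blocks.Covering
import Cfsg.Agent.Lib.Blocks.MainTheorems

/-!
# Blocks and quotients by normal `p`-subgroups
-/

set_option autoImplicit false
set_option linter.unusedSectionVars false
set_option linter.style.haveILetI false

namespace Cfsg.Agent.Lib.Blocks

open Cfsg Cfsg.Agent.Lib.Characters

universe u

variable {G : Type u} [Group G] [Fintype G] {M : Ideal AlgInt} [hMp : M.IsPrime] {p : ℕ}
variable (P : Subgroup G) [P.Normal] [Fintype (G ⧸ P)]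

/-- Summation over the cosets of `P`. -/
noncomputable def push (f : G → ℂ) : G ⧸ P → ℂ :=
  fun c => ∑ x : G, Set.indicator {x : G | QuotientGroup.mk' P x = c} f x

theorem omega_comp_mk' (η : G ⧸ P → ℂ) (f : G → ℂ) :
    omega (η ∘ QuotientGroup.mk' P) f = omega η (push P f) := by
  classical
  rw [omega, omega, Function.comp_apply, map_one]
  congr 1
  simp only [push, Set.indicator_apply, Set.mem_ofPred_eq, Finset.sum_mul, ite_mul, zero_mul]
  rw [Finset.sum_comm]
  refine Finset.sum_congr rfl fun x _ => ?_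
  rw [Finset.sum_ite_eq (Finset.univ : Finset (G ⧸ P)) (QuotientGroup.mk' P x)
    (fun c => f x * η c), if_pos (Finset.mem_univ _)]
  rfl

theorem isRCentral_push {f : G → ℂ} (hf : IsRCentral M f) : IsRCentral M (push P f) := by
  classical
  refine ⟨fun c d => ?_, fun c => memLocalRing_sum _ fun x _ => ?_⟩
  · obtain ⟨e, rfl⟩ := QuotientGroup.mk'_surjective P d
    simp only [push, Set.indicator_apply, Set.mem_ofPred_eq]
    rw [← Equiv.sum_comp (MulAut.conj e).toEquiv]
    refine Finset.sum_congr rfl fun x _ => ?_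
    simp only [MulEquiv.toEquiv_eq_coe, MulEquiv.coe_toEquiv, MulAut.conj_apply, map_mul, map_inv,
      hf.1 x e, mul_left_inj, mul_right_inj]
  · rw [Set.indicator_apply]
    split_ifs
    exacts [hf.2 x, memLocalRing_zero]

/-- A `p`-regular element centralising `P` is the only regular element of its coset. -/
theorem eq_of_regular_of_commute (hp : p.Prime) (hP : IsPGroup p P) {y x : G}
    (hy : ¬ p ∣ orderOf y) (hyC : y ∈ Subgroup.centralizer (P : Set G)) (hx : ¬ p ∣ orderOf x)
    (he : QuotientGroup.mk' P x = QuotientGroup.mk' P y) : x = y := by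
  haveI := Fact.mk hp
  have hu : y⁻¹ * x ∈ P := QuotientGroup.eq.1 he.symm
  obtain ⟨k, hk⟩ := IsPGroup.iff_orderOf.1 hP ⟨_, hu⟩
  rw [Subgroup.orderOf_mk] at hk
  have hcm : Commute (y⁻¹ * x) y := mem_centralizer_subgroup_iff.1 hyC _ hu
  have h1 : IsPPart p x (y⁻¹ * x) := ⟨y, by rw [hcm.eq, mul_inv_cancel_left], hcm, ⟨k, hk⟩, hy⟩
  exact (inv_mul_eq_one.1 (isPPart_unique hp h1 (isPPart_one_of_not_dvd hx))).symm

/-- Every block contains a character trivial on a normal `p`-subgroup. -/
theorem exists_inflated_mem (hM : IsPModular p M) (hP : IsPGroup p P) {B : Set (IrrCharacter G)}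
    (hB : IsPBlock M B) :
    ∃ χ : IrrCharacter (G ⧸ P), ∃ θ ∈ B,
      (θ : G → ℂ) = (χ : G ⧸ P → ℂ) ∘ QuotientGroup.mk' P := by
  classical
  haveI := Fact.mk hM.1
  obtain ⟨c, hc⟩ := exists_isDefectClass hM hB
  obtain ⟨S⟩ : Nonempty (Sylow p (Subgroup.centralizer ({c} : Set G))) := inferInstance
  have hPS := le_of_isDefectGroup hM hP hB ⟨c, hc, S, rfl⟩
  have hcC : c ∈ Subgroup.centralizer (P : Set G) :=
    le_centralizer_singleton_iff.1 (hPS.trans (sylowSub_le S))
  by_contra hcon
  have hval : push P (blockCoeff B) (QuotientGroup.mk' P c) = blockCoeff B c := by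
    rw [push, Finset.sum_eq_single c]
    · exact Set.indicator_of_mem (s := {x : G | QuotientGroup.mk' P x = QuotientGroup.mk' P c}) rfl _
    · intro x _ hxc
      rw [Set.indicator_apply]
      split_ifs with hx
      · refine blockCoeff_eq_zero_of_dvd hM hB (by_contra fun hreg => hxc ?_)
        exact eq_of_regular_of_commute P hM.1 hP (IsDefectClass.regular hM hB hc) hcC hreg hx
      · rfl
    · simp
  have hzero : push P (blockCoeff B) = 0 := by
    refine ext_omega (isRCentral_push P (isRCentral_blockCoeff hM hB)).1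
      (IsRCentral.zero (M := M)).1 fun η => ?_
    rw [omega_zero, ← omega_comp_mk']
    let θ : IrrCharacter G := ⟨_, IsIrrCharacter.comp_surjective η.2 (QuotientGroup.mk' P)
      (QuotientGroup.mk'_surjective P)⟩
    show omega (θ : G → ℂ) (blockCoeff B) = 0
    rw [omega_blockCoeff, if_neg fun h => hcon ⟨η, θ, h, rfl⟩]
  apply hc.2.1
  rw [← hval, hzero]
  exact memLocalIdeal_zero

/-- Blocks of `G/P` and `G` agree when `C(P)` contains all `p`-regular elements. -/
theorem sameBlock_comp_mk_iff (hM : IsPModular p M) (hP : IsPGroup p P)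
    (hC : ∀ x : G, ¬ p ∣ orderOf x → x ∈ Subgroup.centralizer (P : Set G))
    (χ ψ : IrrCharacter (G ⧸ P)) :
    SameBlock M (χ : G ⧸ P → ℂ) (ψ : G ⧸ P → ℂ) ↔
      SameBlock M ((χ : G ⧸ P → ℂ) ∘ QuotientGroup.mk' P)
        ((ψ : G ⧸ P → ℂ) ∘ QuotientGroup.mk' P) := by
  classical
  let χ₀ : IrrCharacter G := ⟨_, IsIrrCharacter.comp_surjective χ.2 (QuotientGroup.mk' P)
    (QuotientGroup.mk'_surjective P)⟩
  let ψ₀ : IrrCharacter G := ⟨_, IsIrrCharacter.comp_surjective ψ.2 (QuotientGroup.mk' P)
    (QuotientGroup.mk'_surjective P)⟩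
  show _ ↔ SameBlock M (χ₀ : G → ℂ) (ψ₀ : G → ℂ)
  constructor
  · intro h g
    rw [← omega_classIndicator (irr_isClassFunction χ₀),
      ← omega_classIndicator (irr_isClassFunction ψ₀)]
    show MemLocalIdeal M (omega ((χ : G ⧸ P → ℂ) ∘ QuotientGroup.mk' P) _ -
      omega ((ψ : G ⧸ P → ℂ) ∘ QuotientGroup.mk' P) _)
    rw [omega_comp_mk', omega_comp_mk']
    exact omega_congr_of_sameBlock h (isRCentral_push P (isRCentral_classIndicator g))
  · intro h
    have hB := isPBlock_blockOf (M := M) χ
    set E := blockCoeff (blockOf M (χ : G ⧸ P → ℂ))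
    have hE : IsRCentral M E := isRCentral_blockCoeff hM hB
    let L : G → ℂ := fun x => if p ∣ orderOf x then 0 else E (QuotientGroup.mk' P x)
    have hL : IsRCentral M L := by
      refine ⟨fun x g => ?_, fun x => ?_⟩
      · have ho : orderOf (g * x * g⁻¹) = orderOf x :=
          orderOf_injective (MulAut.conj g).toMonoidHom (MulAut.conj g).injective x
        simp only [L, ho, map_mul, map_inv, hE.1 _]
      · simp only [L]
        split_ifs
        exacts [memLocalRing_zero, hE.2 _]
    have hpush : push P L = E := by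
      funext c
      simp only [push, Set.indicator_apply, Set.mem_ofPred_eq, L]
      by_cases hc : p ∣ orderOf c
      · rw [show E c = 0 from blockCoeff_eq_zero_of_dvd hM hB hc]
        refine Finset.sum_eq_zero fun x _ => ?_
        split_ifs with hx hd
        · rfl
        · rw [hx]; exact blockCoeff_eq_zero_of_dvd hM hB hc
        · rfl
      · obtain ⟨x₀, rfl⟩ := QuotientGroup.mk'_surjective P c
        obtain ⟨u, hu⟩ := exists_isPPart hM.1 x₀
        obtain ⟨y, hxy, hcm, ⟨k, hk⟩, hy⟩ := hu
        have hu1 : QuotientGroup.mk' P u = 1 := by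
          refine isPPart_unique hM.1 ⟨QuotientGroup.mk' P y, by rw [← map_mul, hxy], hcm.map _,
            ?_, fun hd => hy (hd.trans (orderOf_map_dvd _ y))⟩ (isPPart_one_of_not_dvd hc)
          obtain ⟨i, -, hi⟩ := (Nat.dvd_prime_pow hM.1).1
            (hk ▸ orderOf_map_dvd (QuotientGroup.mk' P) u)
          exact ⟨i, hi⟩
        have hmk : QuotientGroup.mk' P x₀ = QuotientGroup.mk' P y := by
          rw [← hxy, map_mul, hu1, one_mul]
        rw [Finset.sum_eq_single y]
        · rw [if_pos hmk.symm, if_neg hy, hmk]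
        · intro x _ hxy'
          split_ifs with hx hd
          · rfl
          · exact absurd (eq_of_regular_of_commute P hM.1 hP hy (hC y hy) hd (hx.trans hmk)) hxy'
          · rfl
        · simp
    have hc := omega_congr_of_sameBlock h hL
    change MemLocalIdeal M (omega ((χ : G ⧸ P → ℂ) ∘ QuotientGroup.mk' P) L -
      omega ((ψ : G ⧸ P → ℂ) ∘ QuotientGroup.mk' P) L) at hc
    rw [omega_comp_mk', omega_comp_mk', hpush, omega_blockCoeff, omega_blockCoeff,
      if_pos (self_mem_blockOf χ)] at hc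
    by_contra hne
    rw [if_neg (fun hh : ψ ∈ blockOf M (χ : G ⧸ P → ℂ) => hne hh), sub_zero] at hc
    exact not_memLocalIdeal_one hc

end Cfsg.Agent.Lib.Blocks
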