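import Cfsg.Agent.Lib.Blocks.HomocyclicTwo
import Cfsg.Agent.Lib.Characters.Ortho
import Cfsg.Prelude.Def_BlockRank

/-!
# The regular rank of a block from the dimension of its space of relations
-/

set_option autoImplicit false
set_option linter.unusedSectionVars false
set_option linter.unusedVariables false

namespace Cfsg.Agent.Lib.Blocks

open Cfsg Cfsg.Agent.Lib.Characters

universe u

variable {G : Type u} [Group G] [Fintype G]

theorem blockRank_add_finrank_ker {p : ℕ} (B : Finset (IrrCharacter G)) :
    blockRank p (↑B : Set (IrrCharacter G)) +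
      Module.finrank ℂ (LinearMap.ker (Fintype.linearCombination ℂ
        (fun χ : B => pRegularPart p ((χ : IrrCharacter G) : G → ℂ)))) = B.card := by
  have h := LinearMap.finrank_range_add_finrank_ker
    (Fintype.linearCombination ℂ (fun χ : B => pRegularPart p ((χ : IrrCharacter G) : G → ℂ)))
  rw [Fintype.range_linearCombination, Module.finrank_fintype_fun_eq_card, Fintype.card_coe] at h
  rw [blockRank, ← h, Set.image_eq_range]
  rfl

/-- A relation on the regular elements is determined by its values at representatives of the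
singular sections. -/
theorem finrank_ker_le {p : ℕ} (hp : p.Prime) (B : Finset (IrrCharacter G)) {ι : Type*} [Fintype ι]
    (y : ι → G)
    (hrep : ∀ z : G, p ∣ orderOf z → ∃ (i : ι) (g : G), IsPPart p (g * z * g⁻¹) (y i))
    (hsec : ∀ χ ∈ B, ∀ (i : ι) (z : G), IsPPart p z (y i) → (χ : G → ℂ) z = (χ : G → ℂ) (y i)) :
    Module.finrank ℂ (LinearMap.ker (Fintype.linearCombination ℂ
        (fun χ : B => pRegularPart p ((χ : IrrCharacter G) : G → ℂ)))) ≤ Fintype.card ι := by
  classical
  let Φ := Fintype.linearCombination ℂ (fun χ : B => pRegularPart p ((χ : IrrCharacter G) : G → ℂ))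
  let E : LinearMap.ker Φ →ₗ[ℂ] (ι → ℂ) :=
    (Fintype.linearCombination ℂ (fun χ : B => fun i => ((χ : IrrCharacter G) : G → ℂ) (y i))).comp
      (LinearMap.ker Φ).subtype
  have hE : Function.Injective E := by
    rw [injective_iff_map_eq_zero]
    rintro ⟨c, hc⟩ hEc
    have hreg : ∀ z : G, ¬ p ∣ orderOf z → ∑ χ : B, c χ * ((χ : IrrCharacter G) : G → ℂ) z = 0 := by
      intro z hz
      have h := congrFun (LinearMap.mem_ker.1 hc) z
      simp only [Φ, Fintype.linearCombination_apply, Finset.sum_apply, Pi.smul_apply, smul_eq_mul,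
        Pi.zero_apply] at h
      rw [← h]
      refine Finset.sum_congr rfl fun χ _ => ?_
      unfold pRegularPart
      rw [if_pos]
      exact hz
    have hsing : ∀ i : ι, ∑ χ : B, c χ * ((χ : IrrCharacter G) : G → ℂ) (y i) = 0 := by
      intro i
      have h := congrFun hEc i
      simp only [E, LinearMap.comp_apply, Submodule.subtype_apply, Fintype.linearCombination_apply,
        Finset.sum_apply, Pi.smul_apply, smul_eq_mul, Pi.zero_apply] at h
      exact h
    have hall : (fun z => ∑ χ : B, c χ * ((χ : IrrCharacter G) : G → ℂ) z) = 0 := by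
      funext z
      by_cases hz : p ∣ orderOf z
      · obtain ⟨i, g, hg⟩ := hrep z hz
        show ∑ χ : B, c χ * ((χ : IrrCharacter G) : G → ℂ) z = 0
        rw [← hsing i]
        refine Finset.sum_congr rfl fun χ _ => ?_
        rw [← hsec χ χ.2 i _ hg, irr_isClassFunction]
      · exact hreg z hz
    let c' : IrrCharacter G → ℂ := fun χ => if h : χ ∈ B then c ⟨χ, h⟩ else 0
    haveI := Fintype.ofFinite (IrrCharacter G)
    have h0 : ∑ χ : IrrCharacter G, c' χ • (χ : G → ℂ) = 0 := by
      funext z
      simp only [Finset.sum_apply, Pi.smul_apply, smul_eq_mul, Pi.zero_apply]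
      rw [← Finset.sum_subset (Finset.subset_univ B) fun χ _ hχ => by simp [c', hχ],
        ← Finset.sum_coe_sort]
      refine Eq.trans (Finset.sum_congr rfl fun χ _ => ?_) (congrFun hall z)
      simp [c']
    have := Fintype.linearIndependent_iff.mp irr_linearIndependent c' h0
    refine Subtype.ext (funext fun χ => ?_)
    simpa [c'] using this (χ : IrrCharacter G)
  simpa using LinearMap.finrank_le_finrank_of_injective hE

theorem one_le_finrank_ker {p : ℕ} (B : Finset (IrrCharacter G)) (c : IrrCharacter G → ℂ)
    (hc : ∀ z : G, IsPRegular p z → ∑ χ ∈ B, c χ * (χ : G → ℂ) z = 0)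
    (χ₀ : IrrCharacter G) (hχ₀ : χ₀ ∈ B) (h0 : c χ₀ ≠ 0) :
    1 ≤ Module.finrank ℂ (LinearMap.ker (Fintype.linearCombination ℂ
        (fun χ : B => pRegularPart p ((χ : IrrCharacter G) : G → ℂ)))) := by
  classical
  rw [Submodule.one_le_finrank_iff]
  refine fun h => h0 ?_
  have hmem : (fun χ : B => c χ) ∈ LinearMap.ker (Fintype.linearCombination ℂ
        (fun χ : B => pRegularPart p ((χ : IrrCharacter G) : G → ℂ))) := by
    rw [LinearMap.mem_ker]
    funext z
    simp only [Fintype.linearCombination_apply, Finset.sum_apply, Pi.smul_apply, smul_eq_mul,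
      Pi.zero_apply]
    unfold pRegularPart
    by_cases hz : IsPRegular p z
    · simp only [if_pos hz]
      rw [Finset.sum_coe_sort B (fun χ => c χ * (χ : G → ℂ) z)]
      exact hc z hz
    · simp [hz]
  rw [h, Submodule.mem_bot] at hmem
  exact congrFun hmem ⟨χ₀, hχ₀⟩

end Cfsg.Agent.Lib.Blocks
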