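import Cfsg.Agent.Lib.Blocks.EssentialTorus
import Cfsg.Agent.Lib.Blocks.MaxClassDegree

/-!
A `p`-group of maximal class of order at least `p ^ 5` has no elementary abelian essential subgroup
of order `p ^ 3`, for `p` at least five.
-/

set_option autoImplicit false
set_option linter.unusedSectionVars false
set_option linter.style.haveILetI false

namespace Cfsg.Agent.Lib.RankThree

open scoped commutatorElement
open Cfsg Cfsg.FusionSystem Cfsg.Agent.Lib.Fusion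
open Cfsg.Agent.Lib.MaxClassPower Cfsg.Agent.Lib.MaxClassUniform Cfsg.Agent.Lib.MaxClassDegree

universe u

section Commutators

variable {X : Type*} [Group X]

theorem comm_zpow_left {x b : X} (h : Commute x ⁅x, b⁆) (r : ℤ) : ⁅x ^ r, b⁆ = ⁅x, b⁆ ^ r := by
  have e : b * x * b⁻¹ = ⁅x, b⁆⁻¹ * x := by simp only [commutatorElement_def]; group
  have e2 : b * (x ^ r)⁻¹ * b⁻¹ = ((⁅x, b⁆⁻¹ * x) ^ r)⁻¹ := by
    rw [← e, conj_zpow]; group
  calc ⁅x ^ r, b⁆ = x ^ r * (b * (x ^ r)⁻¹ * b⁻¹) := by simp only [commutatorElement_def]; group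
    _ = ⁅x, b⁆ ^ r := by
      rw [e2, h.symm.inv_left.mul_zpow, mul_inv_rev, inv_zpow, inv_inv, mul_inv_cancel_left]

theorem comm_zpow_right {x b : X} (h : Commute b ⁅x, b⁆) (r : ℤ) : ⁅x, b ^ r⁆ = ⁅x, b⁆ ^ r := by
  rw [← commutatorElement_inv, comm_zpow_left (by rw [← commutatorElement_inv]; exact h.inv_right),
    ← inv_zpow, commutatorElement_inv]

theorem comm_mul_left (x y b : X) : ⁅x * y, b⁆ = x * ⁅y, b⁆ * x⁻¹ * ⁅x, b⁆ := by
  simp only [commutatorElement_def]; group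

theorem comm_mul_right (x a b : X) : ⁅x, a * b⁆ = ⁅x, a⁆ * (a * ⁅x, b⁆ * a⁻¹) := by
  simp only [commutatorElement_def]; group

theorem comm_eq_one_of_mem {Z : Subgroup X} {x y : X} (hZ : ∀ z ∈ Z, Commute z y) (hx : x ∈ Z) :
    ⁅x, y⁆ = 1 := commutatorElement_eq_one_iff_mul_comm.2 (hZ x hx).eq

end Commutators

variable {p : ℕ} [hp : Fact p.Prime] {Ω : Type u} [Group Ω] {S : Subgroup Ω} [Finite S]

theorem map_le_S (H : Subgroup ↥S) : H.map S.subtype ≤ S := Subgroup.map_subtype_le H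

/-- A map of the system between subgroups of `S`, seen inside `S`. -/
def IsHom (F : FusionSystem S) (H : Subgroup ↥S) (φ : ↥H →* ↥S) : Prop :=
  ∃ ψ ∈ F.Hom (H.map S.subtype), ∀ x : ↥H, ψ ⟨x, Subgroup.mem_map_of_mem _ x.2⟩ = φ x

variable {F : FusionSystem S}

theorem IsHom.injective {H : Subgroup ↥S} {φ : ↥H →* ↥S} (h : IsHom F H φ) : Function.Injective φ := by
  obtain ⟨ψ, hψ, he⟩ := h
  intro a b hab
  have := F.injective_of_mem hψ ((he a).trans ((congrArg Subtype.val hab).trans (he b).symm))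
  exact Subtype.ext (Subtype.ext (congrArg (fun z : ↥(H.map S.subtype) => (z : Ω)) this))

theorem isHom_of_mem {H : Subgroup ↥S} {ψ : ↥(H.map S.subtype) →* Ω} (hψ : ψ ∈ F.Hom _) :
    ∃ φ : ↥H →* ↥S, IsHom F H φ ∧ ∀ x : ↥H, (φ x : Ω) = ψ ⟨x, Subgroup.mem_map_of_mem _ x.2⟩ :=
  ⟨{ toFun := fun x => ⟨ψ ⟨x, Subgroup.mem_map_of_mem _ x.2⟩, apply_mem hψ _⟩
     map_one' := Subtype.ext (map_one ψ)
     map_mul' := fun a b => Subtype.ext (map_mul ψ ⟨_, Subgroup.mem_map_of_mem _ a.2⟩ ⟨_, Subgroup.mem_map_of_mem _ b.2⟩) }, ⟨ψ, hψ, fun _ => rfl⟩, fun _ => rfl⟩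

theorem card_normalizer (E₀ : Subgroup ↥S) :
    (Subgroup.normalizer (E₀ : Set ↥S)).map S.subtype = normalizerIn S (E₀.map S.subtype) := by
  haveI : Finite ↥(E₀.map S.subtype) := finite_of_le (map_le_S E₀)
  ext g
  constructor
  · rintro ⟨g, hg, rfl⟩
    refine ⟨g.2, mem_normalizer_of_finite ?_⟩
    rintro _ ⟨e, he, rfl⟩
    exact ⟨g * e * g⁻¹, (Subgroup.mem_normalizer_iff.1 hg e).1 he, rfl⟩
  · rintro ⟨hgS, hg⟩
    refine ⟨⟨g, hgS⟩, mem_normalizer_of_finite fun e he => ?_, rfl⟩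
    obtain ⟨e', he', ee⟩ := conj_mem_of_mem_normalizer hg (Subgroup.mem_map_of_mem S.subtype he)
    exact (show e' = ⟨g, hgS⟩ * e * ⟨g, hgS⟩⁻¹ from Subtype.ext ee) ▸ he'

theorem isFullyNormalized_of_normal (A : Subgroup ↥S) [A.Normal] : F.IsFullyNormalized (A.map S.subtype) := by
  refine ⟨map_le_S A, fun Q _ => ?_⟩
  haveI : Finite ↥(normalizerIn S (A.map S.subtype)) := finite_of_le (normalizerIn_le _ _)
  refine Subgroup.card_le_of_le fun g hg => ?_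
  rw [← card_normalizer, Subgroup.normalizer_eq_top, ← MonoidHom.range_eq_map, Subgroup.range_subtype]
  exact hg.1

/-- Extending an automorphism of a normal subgroup. -/
theorem extend (hS : IsPGroup p S) (hF : F.IsSaturated p) (A K : Subgroup ↥S) [A.Normal] (hAK : A ≤ K)
    (φ : ↥A →* ↥S) (hφ : IsHom F A φ) (hφA : ∀ a, φ a ∈ A)
    (hK : ∀ g ∈ K, ∃ k : ↥S, ∀ (a : ↥A) (ha : g * a * g⁻¹ ∈ A), φ ⟨g * a * g⁻¹, ha⟩ = k * φ a * k⁻¹) :
    ∃ δ : ↥K →* ↥S, IsHom F K δ ∧ ∀ a : ↥A, δ ⟨a, hAK a.2⟩ = φ a := by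
  obtain ⟨ψ, hψ, he⟩ := hφ
  haveI : Finite ↥(A.map S.subtype) := finite_of_le (map_le_S A)
  have hr : ψ.range = (A.map S.subtype) := by
    refine Subgroup.eq_of_le_of_card_ge ?_ (card_range_eq (F.injective_of_mem hψ)).ge
    rintro _ ⟨⟨_, x, hx, rfl⟩, rfl⟩
    exact ⟨φ ⟨x, hx⟩, hφA _, (he ⟨x, hx⟩).symm⟩
  obtain ⟨ψ', hψ', hext, -⟩ := IsReceptive.extend
    (IsSaturated.automized_receptive hS hF (isFullyNormalized_of_normal A)).2 hψ hr
  have hle : K.map S.subtype ≤ extender S (A.map S.subtype) ψ := by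
    rintro _ ⟨g, hg, rfl⟩
    obtain ⟨k, hk⟩ := hK g hg
    refine mem_extender.2 ⟨g.2, mem_normalizer_of_finite ?_, k, k.2, ?_⟩
    · rintro _ ⟨a, ha, rfl⟩
      exact ⟨g * a * g⁻¹, Subgroup.Normal.conj_mem ‹_› a ha g, rfl⟩
    · rintro ⟨_, a, ha, rfl⟩ hx
      have hga : g * a * g⁻¹ ∈ A := Subgroup.Normal.conj_mem ‹_› a ha g
      have h1 := (he ⟨_, hga⟩).trans (congrArg Subtype.val (hk ⟨a, ha⟩ hga))
      refine h1.trans ?_
      have h2 := he ⟨a, ha⟩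
      rw [Subgroup.coe_mul, Subgroup.coe_mul, Subgroup.coe_inv, ← h2]
      rfl
  obtain ⟨δ, hδ, hδv⟩ := isHom_of_mem (restr_mem F hψ' hle)
  exact ⟨δ, hδ, fun a => Subtype.ext ((hδv _).trans ((hext _ (Subgroup.mem_map_of_mem _ a.2) _).trans (he a)))⟩

/-- The configuration of an elementary abelian essential subgroup with a transvection. -/
structure Data (F : FusionSystem S) (p : ℕ) (E₀ : Subgroup ↥S) (m v u w : ↥S) : Prop where
  card : Nat.card E₀ = p ^ 3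
  comm : ∀ x ∈ E₀, ∀ y ∈ E₀, Commute x y
  pow : ∀ x ∈ E₀, x ^ p = 1
  centric : ∀ g, (∀ e ∈ E₀, Commute g e) → g ∈ E₀
  cardN : Nat.card (Subgroup.normalizer (E₀ : Set ↥S)) ≤ p ^ 4
  hm : m ∈ Subgroup.normalizer (E₀ : Set ↥S)
  hmE : m ∉ E₀
  hv : v ∈ E₀
  hu : u ∈ E₀
  hw : w ∈ E₀
  hD : ∀ e ∈ E₀, ⁅m, e⁆ ∈ Subgroup.zpowers v
  mv : Commute m v
  mu : Commute m u
  huv : u ∉ Subgroup.zpowers v
  mw : ⁅m, w⁆ ≠ 1
  torus : ∀ c c' : ℕ, (c : ZMod p) * c' = 1 →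
    ∃ β : ↥(Subgroup.normalizer (E₀ : Set ↥S)) →* ↥S, IsHom F _ β ∧
      (∀ x, β x ∈ Subgroup.normalizer (E₀ : Set ↥S)) ∧
      ∀ x : ↥(Subgroup.normalizer (E₀ : Set ↥S)), ((x : ↥S) = v → β x = v ^ c) ∧
        ((x : ↥S) = u → β x = u) ∧ ((x : ↥S) = w → β x = w ^ c') ∧ ((x : ↥S) ∈ E₀ → β x ∈ E₀) ∧
        ((x : ↥S) = m → (m ^ (c * c))⁻¹ * β x ∈ E₀)
  noConj : ∀ A : Subgroup ↥S, A.Normal → ∀ (D : Subgroup ↥S) (β : ↥D →* ↥S), IsHom F D β → A ≤ D →
    ∀ g : ↥S, (A.subgroupOf D).map β = E₀.map (MulAut.conj g).toMonoidHom → False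

theorem mk_data (hS : IsPGroup p S) (hF : F.IsSaturated p) {E : Subgroup Ω} (hE : F.IsEssential p E)
    (hea : IsElementaryAbelian p E) (hc : Nat.card E = p ^ 3) {n : ℕ} (hn : Nat.card S = p ^ n) (h5 : 5 ≤ n)
    {m v : ↥S} (hm : m ∈ Subgroup.normalizer (E.subgroupOf S : Set ↥S)) (hmE : m ∉ E.subgroupOf S)
    (hv : v ∈ E.subgroupOf S) (hD : ∀ e ∈ E.subgroupOf S, ⁅m, e⁆ ∈ Subgroup.zpowers v) :
    ∃ u w, Data F p (E.subgroupOf S) m v u w := by
  set E₀ := E.subgroupOf S with hE₀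
  have hES : E ≤ S := hE.1.1
  have hmap : E₀.map S.subtype = E := Subgroup.map_subgroupOf_eq_of_le hES
  have hN : (Subgroup.normalizer (E₀ : Set ↥S)).map S.subtype = normalizerIn S E := by
    rw [card_normalizer, hmap]
  have hD' : ∀ e ∈ E, (m : Ω) * e * (m : Ω)⁻¹ * e⁻¹ ∈ Subgroup.zpowers (v : Ω) := by
    intro e he
    obtain ⟨i, hi⟩ := Subgroup.mem_zpowers_iff.1 (hD ⟨e, hES he⟩ he)
    exact ⟨i, by simpa [commutatorElement_def] using congrArg Subtype.val hi⟩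
  obtain ⟨hcard, hmv, u, hu, w, hw, hmu, huv, hmw, htor⟩ := EssentialTorus.torus hS hF hE hea hc
    (m := (m : Ω)) (hN ▸ Subgroup.mem_map_of_mem _ hm) hmE (v := (v : Ω)) hv hD'
  have hcN : Nat.card (Subgroup.normalizer (E₀ : Set ↥S)) = Nat.card (normalizerIn S E) := by
    rw [← hN, Subgroup.card_map_of_injective S.subtype_injective]
  refine ⟨⟨u, hES hu⟩, ⟨w, hES hw⟩,
    ⟨(Nat.card_congr (Subgroup.subgroupOfEquivOfLe hES).toEquiv).trans hc, ?_, fun x hx => Subtype.ext (by simpa using hea.2 _ hx),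
      fun g hg => hE.1.2 E (isConj_refl F hES) (mem_centralizerIn.2 ⟨g.2, fun x hx =>
        (congrArg Subtype.val (hg ⟨x, hES hx⟩ hx).symm.eq)⟩), hcN ▸ hcard, hm, hmE, hv, hu, hw, hD, Subtype.ext hmv.eq,
      Subtype.ext hmu.eq, fun h => ?_, fun h => hmw (by simpa [commutatorElement_def] using congrArg Subtype.val h),
      fun c c' hcc => ?_, ?_⟩⟩
  · intro x hx y hy
    have h := congrArg Subtype.val (hea.1.is_comm.comm (⟨x, hx⟩ : E) ⟨y, hy⟩)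
    exact Subtype.ext h
  · obtain ⟨i, hi⟩ := Subgroup.mem_zpowers_iff.1 h
    exact huv ⟨i, by simpa using congrArg Subtype.val hi⟩
  · obtain ⟨ψ, hψ, hval, hψv⟩ := htor c c' hcc
    let ψ' : ↥((Subgroup.normalizer (E₀ : Set ↥S)).map S.subtype) →* Ω := restr hN.le ψ
    obtain ⟨β, hβ, hβv⟩ := isHom_of_mem (restr_mem F hψ hN.le)
    refine ⟨β, hβ, fun x => ?_, fun x => ?_⟩
    · have h1 := hN.ge (hval ⟨x, hN.le (Subgroup.mem_map_of_mem _ x.2)⟩)
      obtain ⟨y, hy, e⟩ := h1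
      rwa [show β x = y from Subtype.ext ((hβv x).trans e.symm)]
    · obtain ⟨a1, a2, a3, a4, a5⟩ := hψv ⟨x, hN.le (Subgroup.mem_map_of_mem _ x.2)⟩
      refine ⟨fun e => Subtype.ext ((hβv x).trans (a1 (congrArg Subtype.val e))),
        fun e => Subtype.ext ((hβv x).trans (a2 (congrArg Subtype.val e))),
        fun e => Subtype.ext ((hβv x).trans (a3 (congrArg Subtype.val e))),
        fun e => ?_, fun e => ?_⟩
      · show ((β x : ↥S) : Ω) ∈ E
        rw [hβv x]; exact a4 e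
      · show (((m ^ (c * c))⁻¹ * β x : ↥S) : Ω) ∈ E
        rw [Subgroup.coe_mul, Subgroup.coe_inv, SubmonoidClass.coe_pow, hβv x]
        exact a5 (congrArg Subtype.val e)
  · intro A hA D β hβ hAD g himg
    obtain ⟨ψ, hψ, he⟩ := hβ
    haveI : A.Normal := hA
    -- conjugating back
    let φ : ↥(A.map S.subtype) →* Ω :=
      (MulAut.conj (g : Ω)⁻¹).toMonoidHom.comp (restr (Subgroup.map_mono hAD) ψ)
    have hψA : img ψ (A.map S.subtype) ≤ S := (img_le_range ψ _).trans (range_le hψ)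
    have hφ : φ ∈ F.Hom (A.map S.subtype) := by
      refine mem_of_comp F (restr_mem F hψ (Subgroup.map_mono hAD)) (F.conj_mem le_rfl (S.inv_mem g.2))
        (fun x => apply_mem hψ _) fun x => ?_
      rfl
    have hrange : φ.range = E := by
      rw [← hmap]
      apply le_antisymm
      · rintro _ ⟨⟨_, a, ha, rfl⟩, rfl⟩
        obtain ⟨e, he', ee⟩ := himg.le ⟨⟨a, hAD ha⟩, ha, rfl⟩
        refine ⟨e, he', ?_⟩
        show (e : Ω) = (g : Ω)⁻¹ * ψ _ * (g : Ω)⁻¹⁻¹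
        have h1 : ψ (Subgroup.inclusion (Subgroup.map_mono hAD) ⟨S.subtype a, Subgroup.mem_map_of_mem _ ha⟩) =
            ((β ⟨a, hAD ha⟩ : ↥S) : Ω) := he ⟨a, hAD ha⟩
        rw [h1, ← ee]
        simp [mul_assoc]
      · rintro _ ⟨e, he', rfl⟩
        obtain ⟨⟨a, haD⟩, ha, ee⟩ := himg.ge ⟨e, he', rfl⟩
        refine ⟨⟨_, Subgroup.mem_map_of_mem _ (show a ∈ A from ha)⟩, ?_⟩
        show (g : Ω)⁻¹ * ψ _ * (g : Ω)⁻¹⁻¹ = (e : Ω)
        have h1 : ψ (Subgroup.inclusion (Subgroup.map_mono hAD) ⟨S.subtype a, Subgroup.mem_map_of_mem _ ha⟩) =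
            ((β ⟨a, haD⟩ : ↥S) : Ω) := he ⟨a, haD⟩
        rw [h1, ee]
        simp [mul_assoc]
    have hc1 := hE.2.1.2 _ (isConj_symm ⟨φ, hφ, hrange⟩)
    rw [← card_normalizer, Subgroup.normalizer_eq_top, ← MonoidHom.range_eq_map, Subgroup.range_subtype, hn] at hc1
    have := (Nat.pow_le_pow_iff_right hp.out.one_lt).1 (hc1.trans hcard)
    omega

namespace Data

variable {E₀ : Subgroup ↥S} {m v u w : ↥S} {n : ℕ}

set_option quotPrecheck false in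
local notation "𝒩" => Subgroup.normalizer (E₀ : Set (Subtype (· ∈ S)))

theorem le_N (_d : Data F p E₀ m v u w) : E₀ ≤ 𝒩 := Subgroup.le_normalizer

theorem mem_N (_d : Data F p E₀ m v u w) {g : ↥S} (h : ∀ e ∈ E₀, ⁅g, e⁆ ∈ E₀) : g ∈ 𝒩 := by
  refine mem_normalizer_of_finite fun e he => ?_
  have := E₀.mul_mem (h e he) he
  rwa [commutatorElement_def, inv_mul_cancel_right] at this

theorem conj_mem (_d : Data F p E₀ m v u w) {g e : ↥S} (hg : g ∈ 𝒩) (he : e ∈ E₀) : g * e * g⁻¹ ∈ E₀ :=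
  (Subgroup.mem_normalizer_iff.1 hg e).1 he

theorem v_ne (d : Data F p E₀ m v u w) : v ≠ 1 := by
  intro e
  have := d.hD w d.hw
  rw [e, Subgroup.zpowers_one_eq_bot, Subgroup.mem_bot] at this
  exact d.mw this

theorem card_closure (d : Data F p E₀ m v u w) :
    Nat.card (Subgroup.closure ({v, u} : Set ↥S)) = p ^ 2 ∧ Subgroup.closure ({v, u} : Set ↥S) ≤ E₀ ∧
      ∀ e ∈ E₀, Commute m e → e ∈ Subgroup.closure ({v, u} : Set ↥S) := by
  set H := Subgroup.closure ({v, u} : Set ↥S)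
  have hle : H ≤ E₀ := (Subgroup.closure_le _).2 (by rintro _ (rfl | rfl); exacts [d.hv, d.hu])
  set C := E₀ ⊓ Subgroup.centralizer ({m} : Set ↥S)
  have hHC : H ≤ C := le_inf hle ((Subgroup.closure_le _).2 (by
    rintro _ (rfl | rfl)
    exacts [Subgroup.mem_centralizer_singleton_iff.2 d.mv.eq.symm, Subgroup.mem_centralizer_singleton_iff.2 d.mu.eq.symm]))
  have hCE : C < E₀ := lt_of_le_of_ne inf_le_left fun e => d.mw (commutatorElement_eq_one_iff_mul_comm.2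
    (Subgroup.mem_centralizer_singleton_iff.1 (e.ge d.hw).2).symm)
  have hv : Subgroup.zpowers v < H := lt_of_le_of_ne (Subgroup.zpowers_le.2 (Subgroup.subset_closure (by simp)))
    fun e => d.huv (e ▸ Subgroup.subset_closure (by simp))
  have h1 := PGroups.card_mul_le_of_lt (p := p) (IsPGroup.of_card (n := 3) d.card) hCE
  have h2 : Nat.card (Subgroup.zpowers v) * p ≤ Nat.card H :=
    PGroups.card_mul_le_of_lt (IsPGroup.of_card (n := 3) d.card |>.to_le hle) hv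
  rw [Nat.card_zpowers, orderOf_eq_prime (d.pow v d.hv) d.v_ne] at h2
  rw [d.card, pow_succ] at h1
  have h3 := Nat.le_of_mul_le_mul_right h1 hp.out.pos
  have h4 := Subgroup.card_le_of_le hHC
  have hH : Nat.card H = p ^ 2 := le_antisymm (h4.trans h3) (by rw [pow_two]; exact h2)
  refine ⟨hH, hle, fun e he hc => ?_⟩
  rw [Subgroup.eq_of_le_of_card_ge hHC (by rw [hH]; exact h3)]
  exact ⟨he, Subgroup.mem_centralizer_singleton_iff.2 hc.eq.symm⟩

/-- A normal subgroup of order `p ^ 3` in the normalizer. -/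
theorem frame (d : Data F p E₀ m v u w) (h5 : 5 ≤ n) (hn : Nat.card ↥S = p ^ n) {A : Subgroup ↥S} [A.Normal]
    (hA : A ≤ 𝒩) (hAc : Nat.card A = p ^ 3) (hAab : ∀ x ∈ A, ∀ y ∈ A, Commute x y) :
    A ⊔ E₀ = 𝒩 ∧ Nat.card 𝒩 = p ^ 4 ∧
      A ⊓ E₀ = Subgroup.closure ({v, u} : Set ↥S) ∧ w ∉ A ∧
      ∀ g ∈ 𝒩, ∃ a ∈ A, ∃ e ∈ E₀, g = a * e := by
  have hAE : A ≠ E₀ := fun e => by
    have htop : 𝒩 = ⊤ := Subgroup.normalizer_eq_top (H := E₀) (h := e ▸ ‹A.Normal›)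
    have := d.cardN
    rw [htop, Subgroup.card_top, hn, Nat.pow_le_pow_iff_right hp.out.one_lt] at this
    omega
  have hsup : A ⊔ E₀ ≤ 𝒩 := sup_le hA d.le_N
  have hlt : E₀ < A ⊔ E₀ := lt_of_le_of_ne le_sup_right fun e => hAE
    (Subgroup.eq_of_le_of_card_ge (e ▸ le_sup_left) (by rw [hAc, d.card]))
  have hS : IsPGroup p ↥S := IsPGroup.of_card hn
  have h1 := PGroups.card_mul_le_of_lt (p := p) (hS.to_subgroup _) hlt
  rw [d.card, ← pow_succ] at h1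
  have heq : A ⊔ E₀ = 𝒩 := Subgroup.eq_of_le_of_card_ge hsup (d.cardN.trans h1)
  have hN : Nat.card 𝒩 = p ^ 4 := le_antisymm d.cardN (h1.trans_eq (by rw [heq]))
  have hinfc : Nat.card (A ⊓ E₀ : Subgroup ↥S) = p ^ 2 := by
    have e1 := Subgroup.relIndex_mul_relIndex ⊥ A (A ⊔ E₀) bot_le le_sup_left
    have e2 := Subgroup.relIndex_mul_relIndex ⊥ (A ⊓ E₀) E₀ bot_le inf_le_right
    rw [Subgroup.relIndex_bot_left, Subgroup.relIndex_bot_left] at e1 e2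
    rw [sup_comm, Subgroup.relIndex_sup_right, hAc, sup_comm, heq, hN] at e1
    rw [Subgroup.inf_relIndex_right, d.card] at e2
    have hr : A.relIndex E₀ = p := Nat.eq_of_mul_eq_mul_left (pow_pos hp.out.pos 3) (e1.trans (pow_succ p 3))
    rw [hr] at e2
    exact Nat.eq_of_mul_eq_mul_right hp.out.pos (e2.trans (pow_succ p 2))
  have hdec : ∀ g ∈ 𝒩, ∃ a ∈ A, ∃ e ∈ E₀, g = a * e := fun g hg => by
    rw [← heq] at hg
    obtain ⟨a, ha, e, he, rfl⟩ := Subgroup.mem_sup_of_normal_left.1 hg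
    exact ⟨a, ha, e, he, rfl⟩
  obtain ⟨hHc, hHle, hHm⟩ := d.card_closure
  have hinfle : A ⊓ E₀ ≤ Subgroup.closure ({v, u} : Set ↥S) := by
    intro x hx
    obtain ⟨a, ha, e, he, ee⟩ := hdec m d.hm
    refine hHm x hx.2 ?_
    rw [ee]
    exact (hAab a ha x hx.1).mul_left (d.comm e he x hx.2)
  refine ⟨heq, hN, Subgroup.eq_of_le_of_card_ge hinfle (by rw [hHc, hinfc]), fun hwA => d.mw ?_, hdec⟩
  have hwH := hinfle ⟨hwA, d.hw⟩
  have : Commute m w := by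
    have hle : Subgroup.closure ({v, u} : Set ↥S) ≤ Subgroup.centralizer ({m} : Set ↥S) :=
      (Subgroup.closure_le _).2 (by
        rintro _ (rfl | rfl)
        exacts [Subgroup.mem_centralizer_singleton_iff.2 d.mv.eq.symm, Subgroup.mem_centralizer_singleton_iff.2 d.mu.eq.symm])
    exact (Subgroup.mem_centralizer_singleton_iff.1 (hle hwH)).symm
  exact commutatorElement_eq_one_iff_mul_comm.2 this.eq

theorem m_pow_v (d : Data F p E₀ m v u w) (i : ℕ) : ⁅m ^ i, w⁆ ∈ Subgroup.zpowers v := by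
  induction i with
  | zero => simp
  | succ i ih =>
    obtain ⟨j, hj⟩ := Subgroup.mem_zpowers_iff.1 ih
    rw [pow_succ', comm_mul_left, ← hj, (d.mv.zpow_right j).eq, mul_inv_cancel_right, hj]
    exact mul_mem ih (d.hD w d.hw)

/-- The elements of the normalizer, as products. -/
theorem gen_N (d : Data F p E₀ m v u w) (hN : Nat.card 𝒩 = p ^ 4) :
    (∀ g ∈ 𝒩, ∃ i : ℕ, ∃ e ∈ E₀, g = m ^ i * e) ∧ m ^ p ∈ E₀ := by
  haveI hEn : (E₀.subgroupOf 𝒩).Normal := Subgroup.normal_in_normalizer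
  have hidx : (E₀.subgroupOf 𝒩).index = p := by
    have e := Subgroup.card_mul_index (E₀.subgroupOf 𝒩)
    rw [Nat.card_congr (Subgroup.subgroupOfEquivOfLe d.le_N).toEquiv, d.card, hN, pow_succ p 3] at e
    exact Nat.eq_of_mul_eq_mul_left (pow_pos hp.out.pos 3) e
  refine ⟨fun g hg => ?_, ?_⟩
  · set q : ↥𝒩 ⧸ E₀.subgroupOf 𝒩 := QuotientGroup.mk ⟨m, d.hm⟩
    have hq : q ≠ 1 := fun e => d.hmE ((QuotientGroup.eq_one_iff (⟨m, d.hm⟩ : ↥𝒩)).1 e)
    have hcard : Nat.card (↥𝒩 ⧸ E₀.subgroupOf 𝒩) = p := by rw [← Subgroup.index_eq_card, hidx]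
    have hmem : (QuotientGroup.mk ⟨g, hg⟩ : ↥𝒩 ⧸ E₀.subgroupOf 𝒩) ∈ Subgroup.zpowers q := by
      rw [zpowers_eq_top_of_prime_card hcard hq]; trivial
    obtain ⟨i, hi⟩ := mem_powers_iff_mem_zpowers.2 hmem
    have h2 := (QuotientGroup.eq (s := E₀.subgroupOf 𝒩)).1 (show (QuotientGroup.mk ((⟨m, d.hm⟩ : ↥𝒩) ^ i) :
      ↥𝒩 ⧸ E₀.subgroupOf 𝒩) = QuotientGroup.mk ⟨g, hg⟩ from hi)
    exact ⟨i, (m ^ i)⁻¹ * g, h2, by group⟩
  · have := hidx ▸ Subgroup.pow_index_mem (E₀.subgroupOf 𝒩) (⟨m, d.hm⟩ : ↥𝒩)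
    exact this

end Data

end Cfsg.Agent.Lib.RankThree
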