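import Cfsg.Agent.Lib.Blocks.RankThreeLast

/-!
Elementary abelian essential subgroups of order `p ^ 3` avoiding the second centre, and the theorem.
-/

set_option autoImplicit false
set_option linter.unusedSectionVars false
set_option linter.style.haveILetI false

namespace Cfsg.Agent.Lib.RankThree

open scoped commutatorElement
open Cfsg Cfsg.FusionSystem Cfsg.Agent.Lib.Fusion
open Cfsg.Agent.Lib.MaxClassPower Cfsg.Agent.Lib.MaxClassUniform Cfsg.Agent.Lib.MaxClassDegree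

universe u

variable {p : ℕ} [hp : Fact p.Prime] {Ω : Type u} [Group Ω] {S : Subgroup Ω} [Finite S] {F : FusionSystem S}

namespace Data

variable {E₀ : Subgroup ↥S} {m v u w : ↥S} {n : ℕ}

set_option quotPrecheck false in
local notation "𝒩" => Subgroup.normalizer (E₀ : Set (Subtype (· ∈ S)))

theorem centre_facts (d : Data F p E₀ m v u w) (h : MaxClass ↥S p n) (h6 : 6 ≤ n)
    (hE : E₀ ≤ twoStep ↥S 1) (hmZ : m ∈ L ↥S (n - 3)) (hvZ : v ∈ L ↥S (n - 2))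
    (hZ : ¬ L ↥S (n - 3) ≤ E₀) :
    w ∉ twoStep ↥S (n - 3) ∧ L ↥S (n - 4) ≤ 𝒩 ∧
      Subgroup.closure ({v, u} : Set ↥S) ≤ L ↥S (n - 4) ∧ u ∉ L ↥S (n - 3) ∧
      Subgroup.zpowers v = L ↥S (n - 2) := by
  have hA : L ↥S (n - 4) ≤ 𝒩 := fun g hg => d.mem_N fun e he => by
    have hC : e ∈ twoStep ↥S (n - 4) := by rw [twoStep_eq_one h (by omega) (by omega)]; exact hE he
    have h1 := mem_twoStep.1 hC g hg
    rw [show n - 4 + 2 = n - 2 by omega] at h1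
    have hcard : Nat.card (L ↥S (n - 2)) = p := by
      rw [cardL h (by omega) (by omega), show n - 1 - (n - 2) = 1 by omega, pow_one]
    rw [← zpowers_eq_of_card hcard hvZ d.v_ne] at h1
    exact Subgroup.zpowers_le.2 d.hv h1
  have hAc : Nat.card (L ↥S (n - 4)) = p ^ 3 := by
    rw [cardL h (by omega) (by omega), show n - 1 - (n - 4) = 3 by omega]
  obtain ⟨-, -, hinf, -, -⟩ := d.frame (n := n) (by omega) h.card hA hAc (commute_L_sub_four h (by omega))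
  have hzv : Subgroup.zpowers v = L ↥S (n - 2) := zpowers_eq_of_card (by
    rw [cardL h (by omega) (by omega), show n - 1 - (n - 2) = 1 by omega, pow_one]) hvZ d.v_ne
  refine ⟨fun hwK => d.mw ?_, hA, hinf ▸ inf_le_left, fun hu => ?_, hzv⟩
  · exact Subgroup.mem_bot.1 (L_eq_bot h (show n - 1 ≤ n - 3 + 2 by omega) ▸ mem_twoStep.1 hwK m hmZ)
  · by_cases hu' : u ∈ L ↥S (n - 3 + 1)
    · refine d.huv (hzv ▸ ?_)
      rwa [show n - 3 + 1 = n - 2 by omega] at hu'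
    · refine hZ ?_
      rw [← gen_step h (by omega) (by omega) hu hu', show n - 3 + 1 = n - 2 by omega, ← hzv]
      exact sup_le (Subgroup.zpowers_le.2 d.hu) (Subgroup.zpowers_le.2 d.hv)

/-- Order at least `p ^ 8`: a count of commutators. -/
theorem case_centre_large (d : Data F p E₀ m v u w) (h : MaxClass ↥S p n) (h8 : 8 ≤ n)
    (hE : E₀ ≤ twoStep ↥S 1) (hmZ : m ∈ L ↥S (n - 3)) (hvZ : v ∈ L ↥S (n - 2))
    (hZ : ¬ L ↥S (n - 3) ≤ E₀) : False := by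
  obtain ⟨hwK, hA, hHA, hu3, hzv⟩ := d.centre_facts h (by omega) hE hmZ hvZ hZ
  set A := L ↥S (n - 4)
  have hAc : Nat.card A = p ^ 3 := by
    rw [cardL h (by omega) (by omega), show n - 1 - (n - 4) = 3 by omega]
  have hAab := commute_L_sub_four h (show 5 ≤ n by omega)
  obtain ⟨-, -, hinf, -, hdec⟩ := d.frame (n := n) (by omega) h.card hA hAc hAab
  obtain ⟨hHc, hHE, -⟩ := d.card_closure
  set H := Subgroup.closure ({v, u} : Set ↥S)
  have hw1 : w ∉ L ↥S 1 := fun e => hwK (L_one_le_twoStep _ e)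
  have hH2 : H ≤ L ↥S 2 := hHA.trans (L_mono (by omega))
  have hu4 : u ∈ L ↥S 4 := L_mono (by omega) (hHA (Subgroup.subset_closure (by simp)))
  have hw4 : ∀ g ∈ L ↥S 2, ⁅g, w⁆ ∈ L ↥S 4 := fun g hg => by
    have hC : w ∈ twoStep ↥S 2 := by rw [twoStep_eq_one h (by omega) (by omega)]; exact hE d.hw
    exact mem_twoStep.1 hC g hg
  have hL2A : ∀ x ∈ L ↥S 2, ∀ a ∈ A, Commute x a := fun x hx a ha => commutatorElement_eq_one_iff_mul_comm.1
    (Subgroup.mem_bot.1 (L_eq_bot h (show n - 1 ≤ 2 + (n - 4) + 1 by omega) ▸ L_comm hx ha))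
  have key : ∀ x ∈ L ↥S 2, ∀ t : ℤ, ⁅x, w⁆ = u ^ t → x ∈ H ∧ (p : ℤ) ∣ t := by
    intro x hx t ht
    have hxN : x ∈ 𝒩 := mem_normalizer_of_finite fun e he => by
      obtain ⟨i, k, hk, rfl⟩ := d.E_decomp he d.w_notMem
      rw [show x * (w ^ i * k) * x⁻¹ = (x * w * x⁻¹) ^ i * (x * k * x⁻¹) by rw [conj_pow]; group,
        show x * w * x⁻¹ = ⁅x, w⁆ * w by simp only [commutatorElement_def]; group, ht,
        (hL2A x hx k (hHA hk)).eq, mul_inv_cancel_right]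
      exact E₀.mul_mem (E₀.pow_mem (E₀.mul_mem (E₀.zpow_mem d.hu t) d.hw) i) (hHE hk)
    obtain ⟨a, ha, e, he, rfl⟩ := hdec x hxN
    have he1 : e ∈ L ↥S 1 := by
      have := mul_mem (inv_mem (show a ∈ L ↥S 1 from L_mono (by omega) ha)) (L_mono (show 1 ≤ 2 by omega) hx)
      rwa [inv_mul_cancel_left] at this
    have heH := d.inter_eq (hHA.trans (L_mono (by omega))) hw1 he he1
    obtain ⟨j, k, hk, hak⟩ := decomp hHA hAab (by rw [hHc, hAc, ← pow_succ]) (L_mono (by omega) hmZ)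
      (fun hm => d.hmE (hHE hm)) (mul_mem ha (hHA heH))
    rw [hak] at ht ⊢
    have hmp : m ^ p ∈ H := by
      have hi : (H.subgroupOf A).index = p := by
        have e := Subgroup.card_mul_index (H.subgroupOf A)
        rw [Nat.card_congr (Subgroup.subgroupOfEquivOfLe hHA).toEquiv, hHc, hAc] at e
        exact Nat.eq_of_mul_eq_mul_left (pow_pos hp.out.pos 2) (e.trans (pow_succ p 2))
      haveI : (H.subgroupOf A).Normal := ⟨fun a ha b => by
        rwa [show b * a * b⁻¹ = a from Subtype.ext (by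
          show (b : ↥S) * a * (b : ↥S)⁻¹ = a
          rw [(hAab b b.2 a a.2).eq, mul_inv_cancel_right])]⟩
      exact hi ▸ Subgroup.pow_index_mem (H.subgroupOf A) ⟨m, L_mono (by omega) hmZ⟩
    rw [comm_mul_left, commutatorElement_eq_one_iff_mul_comm.2 (d.comm k (hHE hk) w d.hw).eq, mul_one,
      mul_inv_cancel, one_mul] at ht
    have h1 : u ^ t ∈ Subgroup.zpowers v := ht ▸ d.m_pow_v j
    have htd := dvd_of_zpow_mem (p := p) (by rw [d.pow u d.hu]; exact one_mem _) d.huv h1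
    refine ⟨?_, htd⟩
    rw [zpow_congr (j := 0) (d.pow u d.hu) (by rwa [sub_zero]), zpow_zero] at ht
    suffices hj : (p : ℤ) ∣ (j : ℤ) by
      obtain ⟨s', rfl⟩ := Int.natCast_dvd_natCast.1 hj
      rw [pow_mul]
      exact H.mul_mem (H.pow_mem hmp s') hk
    have hz : Commute m ⁅m, w⁆ := by
      obtain ⟨i, hi⟩ := Subgroup.mem_zpowers_iff.1 (d.hD w d.hw)
      rw [← hi]; exact d.mv.zpow_right i
    rw [← zpow_natCast, comm_zpow_left hz] at ht
    refine dvd_of_zpow_eq_one ?_ d.mw ht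
    obtain ⟨i, hi⟩ := Subgroup.mem_zpowers_iff.1 (d.hD w d.hw)
    rw [← hi]
    exact d.pow _ (E₀.zpow_mem d.hv i)
  set L2 := L ↥S 2
  set D := H.subgroupOf L2
  let f : (↥L2 ⧸ D) × ZMod p → ↥(L ↥S 4) := fun q =>
    ⟨⁅((Quotient.out q.1 : ↥L2) : ↥S), w⁆ * u ^ (q.2.val : ℤ),
      mul_mem (hw4 _ (Quotient.out q.1).2) (zpow_mem hu4 _)⟩
  have hf : Function.Injective f := by
    rintro ⟨a, i⟩ ⟨a', i'⟩ hq
    set g := ((Quotient.out a : ↥L2) : ↥S) with hgdef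
    set g' := ((Quotient.out a' : ↥L2) : ↥S) with hgdef'
    have hq' : ⁅g, w⁆ * u ^ (i.val : ℤ) = ⁅g', w⁆ * u ^ (i'.val : ℤ) := congrArg Subtype.val hq
    have hg : g ∈ L2 := (Quotient.out a).2
    have hg' : g' ∈ L2 := (Quotient.out a').2
    have hx : g⁻¹ * g' ∈ L2 := mul_mem (inv_mem hg) hg'
    have huA : u ∈ A := hHA (Subgroup.subset_closure (by simp))
    have hcu : ∀ z ∈ L2, Commute z (u ^ ((i.val : ℤ) - i'.val)) := fun z hz => (hL2A z hz u huA).zpow_right _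
    have e1 : ⁅g', w⁆ = ⁅g, w⁆ * u ^ ((i.val : ℤ) - i'.val) := by
      rw [zpow_sub, ← mul_assoc, hq', mul_inv_cancel_right]
    have hk := key _ hx ((i.val : ℤ) - i'.val) (by
      have e2 : g' * w * g'⁻¹ = u ^ ((i.val : ℤ) - i'.val) * (g * w * g⁻¹) := by
        rw [show g' * w * g'⁻¹ = ⁅g', w⁆ * w by simp only [commutatorElement_def]; group, e1,
          (hcu _ (L_mono (by omega) (hw4 g hg))).eq]
        simp only [commutatorElement_def]; group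
      calc ⁅g⁻¹ * g', w⁆ = g⁻¹ * (g' * w * g'⁻¹) * g * w⁻¹ := by simp only [commutatorElement_def]; group
        _ = g⁻¹ * u ^ ((i.val : ℤ) - i'.val) * g := by rw [e2]; group
        _ = _ := by rw [(hcu g⁻¹ (inv_mem hg)).eq, inv_mul_cancel_right])
    have ea : a = a' := by
      rw [← QuotientGroup.out_eq' a, ← QuotientGroup.out_eq' a']
      exact QuotientGroup.eq.2 (show ((Quotient.out a)⁻¹ * Quotient.out a' : ↥L2) ∈ D from hk.1)
    have ei : i = i' := by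
      have h1 := (ZMod.intCast_zmod_eq_zero_iff_dvd _ p).2 hk.2
      push_cast at h1
      rw [ZMod.natCast_zmod_val, ZMod.natCast_zmod_val] at h1
      exact sub_eq_zero.1 h1
    rw [ea, ei]
  have hle := Nat.card_le_card_of_injective f hf
  have hD : Nat.card (↥L2 ⧸ D) = p ^ (n - 5) := by
    rw [← Subgroup.index_eq_card]
    have e := Subgroup.card_mul_index D
    rw [Nat.card_congr (Subgroup.subgroupOfEquivOfLe hH2).toEquiv, hHc, cardL h (by omega) (by omega),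
      show n - 1 - 2 = 2 + (n - 5) by omega, pow_add] at e
    exact Nat.eq_of_mul_eq_mul_left (pow_pos hp.out.pos 2) e
  rw [Nat.card_prod, Nat.card_zmod, hD, cardL h (by omega) (by omega), show n - 1 - 4 = n - 5 by omega,
    ← pow_succ, Nat.pow_le_pow_iff_right hp.out.one_lt] at hle
  omega

set_option maxHeartbeats 800000 in
/-- Order `p ^ 6`. -/
theorem case_centre_six (d : Data F p E₀ m v u w) (hS : IsPGroup p S) (hF : F.IsSaturated p) (hp5 : 5 ≤ p)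
    (h : MaxClass ↥S p n) (h6 : n = 6) (hE : E₀ ≤ twoStep ↥S 1) (hmZ : m ∈ L ↥S (n - 3))
    (hvZ : v ∈ L ↥S (n - 2)) (hZ : ¬ L ↥S (n - 3) ≤ E₀) : False := by
  obtain ⟨hwK, hA, hHA, hu3, hzv⟩ := d.centre_facts h h6.ge hE hmZ hvZ hZ
  subst h6
  have hex : twoStep ↥S 3 ≠ twoStep ↥S 1 := fun e => hwK (by
    show w ∈ twoStep ↥S 3
    rw [e]; exact hE d.hw)
  obtain ⟨-, -, hpair⟩ := exceptional h (by omega) hex
  set A := L ↥S 2
  have hAc : Nat.card A = p ^ 3 := cardL h (by omega) (by omega)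
  have hAab := commute_L_sub_four h (show 5 ≤ 6 by omega)
  obtain ⟨-, -, hinf, -, -⟩ := d.frame (n := 6) (by omega) h.card hA hAc hAab
  obtain ⟨hHc, hHE, -⟩ := d.card_closure
  set H := Subgroup.closure ({v, u} : Set ↥S)
  set M := twoStep ↥S 1
  have hwM : w ∈ M := hE d.hw
  have hw1 : w ∉ L ↥S 1 := fun e => hwK (L_one_le_twoStep _ e)
  have huA : u ∈ A := hHA (Subgroup.subset_closure (by simp))
  have hvA : v ∈ A := hHA (Subgroup.subset_closure (by simp))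
  have hmA : m ∈ A := L_mono (show 2 ≤ 3 by omega) hmZ
  have hAM : A ≤ M := (L_mono (show 1 ≤ 2 by omega)).trans (L_one_le_twoStep _)
  have hC2 : twoStep ↥S 2 = M := twoStep_eq_one h (by omega) (by omega)
  have hZ4 : ∀ z ∈ L ↥S 4, ∀ g : ↥S, Commute z g := fun z hz g => commutatorElement_eq_one_iff_mul_comm.1
    (Subgroup.mem_bot.1 (L_eq_bot h (show 6 - 1 ≤ 4 + 0 + 1 by omega) ▸ L_comm (i := _) (j := 0) hz (Subgroup.mem_top g)))
  have hZc : Nat.card (L ↥S 4) = p := by rw [cardL h (by omega) (by omega)]; simp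
  have hval : ∀ {a}, a ∈ A → ∀ {g}, g ∈ M → ⁅g, a⁆ ∈ L ↥S 4 := fun {a} ha {g} hg => by
    rw [← commutatorElement_inv]; exact inv_mem (mem_twoStep.1 (hC2.symm ▸ hg) a ha)
  obtain ⟨y, hy, hy'⟩ := exists_step h (j := 1) (by omega)
  have hyM : y ∈ M := L_one_le_twoStep 1 hy
  have hyN : y ∉ 𝒩 := d.notMem_N (n := 6) (by omega) h.card hA hAc hAab (L_mono (by omega)) hw1 hy hy'
  obtain ⟨c', hc'⟩ : ∃ c' : ℕ, ((2 : ℕ) : ZMod p) * c' = 1 := ⟨((2 : ZMod p)⁻¹).val, by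
    rw [ZMod.natCast_zmod_val]; push_cast; exact mul_inv_cancel₀ (two_ne_zero' (by omega))⟩
  obtain ⟨β, hβ, -, hβA, hv', hmod⟩ := d.setup (n := 6) (by omega) h.card hA hAc hAab (y := y)
    (fun e _ => L_mono (by omega) (L_comm (i := 0) (Subgroup.mem_top e) hy))
    (fun a ha => by
      have h1 : ⁅a, y⁆ ∈ L ↥S 4 := L_comm (i := 2) (j := 1) ha hy
      rw [← zpowers_eq_of_card hZc hvZ d.v_ne] at h1
      exact Subgroup.zpowers_le.2 d.hv h1) hyN 2 c' hc'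
  let φ : ↥A →* ↥S := β.comp (Subgroup.inclusion hA)
  have hφ : IsHom F A φ := hβ.restrict hA
  have hφA : ∀ a, φ a ∈ A := fun a => hβA _ a.2
  have hφZ : ∀ (j : ℤ) (hx : v ^ j ∈ A), φ ⟨v ^ j, hx⟩ = v ^ (2 * j) := fun j hx => by
    rw [show (⟨v ^ j, hx⟩ : ↥A) = ⟨v, hvA⟩ ^ j from Subtype.ext rfl, map_zpow,
      show φ ⟨v, hvA⟩ = v ^ 2 from (hv' ⟨v, hA hvA⟩).1 rfl, ← zpow_natCast, ← zpow_mul, Nat.cast_ofNat]
  have hφu : φ ⟨u, huA⟩ = u := (hv' ⟨u, hA huA⟩).2.1 rfl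
  set φm := φ ⟨m, hmA⟩
  have hφm : (m ^ 4)⁻¹ * φm ∈ H := hmod ⟨m, hA hmA⟩ hmA
  have hzy : ⁅y, u⁆ ≠ 1 := hpair y hy hy' u huA hu3
  have hzy4 : ⁅y, u⁆ ∈ L ↥S 4 := hval huA hyM
  have hwu : ⁅w, u⁆ = 1 := commutatorElement_eq_one_iff_mul_comm.2 (d.comm w d.hw u d.hu).eq
  let ψ : ↥A → ↥M →* ↥S := fun a => MonoidHom.mk' (fun g => ⁅(g : ↥S), (a : ↥S)⁆) fun g g' => by
    show ⁅(g : ↥S) * g', (a : ↥S)⁆ = _
    rw [comm_mul_left, ((hZ4 _ (hval a.2 g'.2) g).symm).eq, mul_inv_cancel_right]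
    exact (hZ4 _ (hval a.2 g'.2) _).eq
  have hzm : ⁅w, φm⁆ ≠ 1 := by
    obtain ⟨k, hk, e⟩ : ∃ k ∈ H, φm = m ^ 4 * k := ⟨_, hφm, by group⟩
    rw [e, comm_mul_right, commutatorElement_eq_one_iff_mul_comm.2 (d.comm w d.hw k (hHE hk)).eq, mul_one,
      mul_inv_cancel, mul_one, ← commutatorElement_inv, inv_ne_one, ← zpow_natCast,
      comm_zpow_left ((hZ4 _ (by rw [← commutatorElement_inv]; exact inv_mem (hval hmA hwM)) m).symm)]
    intro e4
    obtain ⟨i, hi⟩ := Subgroup.mem_zpowers_iff.1 (d.hD w d.hw)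
    have h4 := dvd_of_zpow_eq_one (p := p) (by rw [← hi]; exact d.pow _ (E₀.zpow_mem d.hv i)) d.mw e4
    have := Nat.le_of_dvd (by omega) (Int.natCast_dvd_natCast.1 h4)
    omega
  have hzm4 : ⁅w, φm⁆ ∈ L ↥S 4 := hval (hφA _) hwM
  obtain ⟨δ, hδ, hδA⟩ := extend hS hF A M hAM φ hφ hφA (by
    intro g hg
    have hga : ∀ a : ↥A, g * a * g⁻¹ ∈ A := fun a => Subgroup.Normal.conj_mem inferInstance _ a.2 g
    have hφ4 : ∀ {z} (hz : z ∈ L ↥S 4) (hzA : z ∈ A), φ ⟨z, hzA⟩ ∈ L ↥S 4 := fun {z} hz hzA => by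
      obtain ⟨j, hj⟩ := Subgroup.mem_zpowers_iff.1 ((zpowers_eq_of_card hZc hvZ d.v_ne).ge hz)
      rw [show (⟨z, hzA⟩ : ↥A) = ⟨v ^ j, hj ▸ hzA⟩ from Subtype.ext hj.symm, hφZ]
      exact zpow_mem hvZ _
    have hL4A : L ↥S 4 ≤ A := L_mono (by omega)
    obtain ⟨i, hi⟩ := Subgroup.mem_zpowers_iff.1
      ((zpowers_eq_of_card hZc hzy4 hzy).ge (hφ4 (hval huA hg) (hL4A (hval huA hg))))
    have hyi : ⁅y ^ i, φm⁆ ∈ L ↥S 4 := hval (hφA _) (zpow_mem hyM i)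
    obtain ⟨j, hj⟩ := Subgroup.mem_zpowers_iff.1 ((zpowers_eq_of_card hZc hzm4 hzm).ge
      (mul_mem (inv_mem hyi) (hφ4 (hval hmA hg) (hL4A (hval hmA hg)))))
    set k : ↥M := ⟨y, hyM⟩ ^ i * ⟨w, hwM⟩ ^ j
    have hku : ⁅(k : ↥S), u⁆ = φ ⟨⁅g, u⁆, hL4A (hval huA hg)⟩ := by
      have : ψ ⟨u, huA⟩ k = ⁅y, u⁆ ^ i * ⁅w, u⁆ ^ j := by
        rw [map_mul, map_zpow, map_zpow]; rfl
      show ψ ⟨u, huA⟩ k = _
      rw [this, hwu, one_zpow, mul_one, hi]
    have hkm : ⁅(k : ↥S), φm⁆ = φ ⟨⁅g, m⁆, hL4A (hval hmA hg)⟩ := by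
      have h1 : ψ ⟨φm, hφA _⟩ k = ⁅y ^ i, φm⁆ * ⁅w, φm⁆ ^ j := by
        rw [map_mul, map_zpow _ (⟨w, hwM⟩ : ↥M)]; rfl
      show ψ ⟨φm, hφA _⟩ k = _
      rw [h1, hj, mul_inv_cancel_left]
    let f1 : ↥A →* ↥S :=
      { toFun := fun a => φ ⟨g * a * g⁻¹, hga a⟩
        map_one' := by
          rw [show (⟨g * ((1 : ↥A) : ↥S) * g⁻¹, hga 1⟩ : ↥A) = 1 from Subtype.ext (by simp), map_one]
        map_mul' := fun a b => by
          rw [← map_mul]; congr 1; exact Subtype.ext (by simp [mul_assoc]) }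
    let f2 : ↥A →* ↥S := (MulAut.conj (k : ↥S)).toMonoidHom.comp φ
    have hf2 : ∀ a, f2 a = (k : ↥S) * φ a * (k : ↥S)⁻¹ := fun _ => rfl
    have hgen : ∀ (a : ↥S) (ha : a ∈ A), ⁅(k : ↥S), φ ⟨a, ha⟩⁆ = φ ⟨⁅g, a⁆, hL4A (hval ha hg)⟩ →
        f1 ⟨a, ha⟩ = f2 ⟨a, ha⟩ := fun a ha e => by
      rw [hf2, show (k : ↥S) * φ ⟨a, ha⟩ * (k : ↥S)⁻¹ = ⁅(k : ↥S), φ ⟨a, ha⟩⁆ * φ ⟨a, ha⟩ by
        simp only [commutatorElement_def]; group, e, ← map_mul]
      show φ ⟨g * a * g⁻¹, hga ⟨a, ha⟩⟩ = _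
      congr 1
      exact Subtype.ext (by simp [commutatorElement_def])
    refine ⟨k, fun a ha => ?_⟩
    show f1 a = _
    rw [← hf2]
    have hle : A ≤ (MonoidHom.eqLocus f1 f2).map A.subtype := by
      intro x hx
      obtain ⟨r, x', hx', rfl⟩ := decomp hHA hAab (by rw [hHc, hAc, ← pow_succ]) hmA
        (fun hm => d.hmE (hHE hm)) hx
      have hm' : m ∈ (MonoidHom.eqLocus f1 f2).map A.subtype := ⟨⟨m, hmA⟩, hgen m hmA hkm, rfl⟩
      refine mul_mem (pow_mem hm' r) ?_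
      refine ((Subgroup.closure_le _).2 ?_ : H ≤ _) hx'
      rintro t (rfl | rfl)
      · refine ⟨⟨t, hvA⟩, hgen t hvA ?_, rfl⟩
        have ev : φ ⟨t, hvA⟩ ∈ L ↥S 4 := hφ4 hvZ hvA
        rw [commutatorElement_eq_one_iff_mul_comm.2 ((hZ4 _ ev (k : ↥S)).symm.eq),
          show (⟨⁅g, t⁆, hL4A (hval hvA hg)⟩ : ↥A) = 1 from
            Subtype.ext (commutatorElement_eq_one_iff_mul_comm.2 ((hZ4 _ hvZ g).symm.eq)), map_one]
      · refine ⟨⟨t, huA⟩, hgen t huA ?_, rfl⟩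
        rw [hφu]; exact hku
    obtain ⟨a', ha', e⟩ := hle a.2
    exact Subtype.ext (a1 := a') (a2 := a) e ▸ ha')
  have hδ4 : ∀ x : ↥M, (x : ↥S) ∈ L ↥S 4 → δ x ∈ L ↥S 4 ∧ δ x = (x : ↥S) ^ 2 := fun x hx => by
    obtain ⟨j, hj⟩ := Subgroup.mem_zpowers_iff.1 ((zpowers_eq_of_card hZc hvZ d.v_ne).ge hx)
    have hxA : (x : ↥S) ∈ A := L_mono (by omega) hx
    have e : δ x = v ^ (2 * j) := by
      rw [show x = (⟨(x : ↥S), hAM hxA⟩ : ↥M) from rfl, hδA ⟨x, hxA⟩,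
        show (⟨(x : ↥S), hxA⟩ : ↥A) = ⟨v ^ j, hj ▸ hxA⟩ from Subtype.ext hj.symm, hφZ]
    exact ⟨e ▸ zpow_mem hvZ _, by rw [e, ← hj, ← zpow_natCast, ← zpow_mul, Nat.cast_ofNat, mul_comm]⟩
  have hδM : ∀ x : ↥M, δ x ∈ M := fun x => by
    refine (SetLike.ext_iff.1 hC2 _).1 (mem_twoStep_of_gen h (by omega) (by omega) huA hu3 ?_)
    have e : δ ⟨u, hAM huA⟩ = u := (hδA ⟨u, huA⟩).trans hφu
    have e2 : ⁅u, δ x⁆ = δ ⁅(⟨u, hAM huA⟩ : ↥M), x⁆ := by rw [map_commutatorElement, e]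
    rw [e2]
    exact (hδ4 _ (mem_twoStep.1 ((SetLike.ext_iff.1 hC2 _).2 x.2) u huA)).1
  have hMM : ∀ a ∈ M, ∀ b ∈ M, ⁅a, b⁆ ∈ L ↥S 3 := fun a ha b hb => comm_twoStep_one h (by omega) ha hb
  have hwy3 : ⁅w, y⁆ ∈ L ↥S 3 := hMM w hwM y hyM
  have hwy4 : ⁅w, y⁆ ∉ L ↥S 4 := fun hc => hyN (mem_normalizer_of_finite fun e he => by
    obtain ⟨i, k, hk, rfl⟩ := d.E_decomp he d.w_notMem
    have hz : ∀ z ∈ L ↥S 4, z ∈ E₀ := fun z hz =>
      Subgroup.zpowers_le.2 d.hv ((zpowers_eq_of_card hZc hvZ d.v_ne).ge hz)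
    rw [show y * (w ^ i * k) * y⁻¹ = (⁅w, y⁆⁻¹ * w) ^ i * (⁅y, k⁆ * k) by
      rw [show ⁅w, y⁆⁻¹ * w = y * w * y⁻¹ by simp only [commutatorElement_def]; group, conj_pow]
      simp only [commutatorElement_def]; group]
    exact E₀.mul_mem (E₀.pow_mem (E₀.mul_mem (E₀.inv_mem (hz _ hc)) d.hw) i)
      (E₀.mul_mem (hz _ (hval (hHA hk) hyM)) (hHE hk)))
  have hL3M : L ↥S 3 ≤ M := (L_mono (show 2 ≤ 3 by omega)).trans hAM
  have hδ3 : ∀ x : ↥M, (x : ↥S) ∈ L ↥S 3 → δ x ∈ L ↥S 3 := by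
    have hle : L ↥S 3 ≤ ((L ↥S 3).comap δ).map M.subtype := by
      refine (gen_step h (by omega) (by omega) hwy3 hwy4).ge.trans ?_
      refine sup_le (Subgroup.zpowers_le.2 ⟨⁅(⟨w, hwM⟩ : ↥M), (⟨y, hyM⟩ : ↥M)⁆, ?_, rfl⟩) fun z hz =>
        ⟨⟨z, hL3M (L_mono (by omega) hz)⟩, L_mono (show 3 ≤ 4 by omega) (hδ4 ⟨z, _⟩ hz).1, rfl⟩
      show δ _ ∈ L ↥S 3
      rw [map_commutatorElement]
      exact hMM _ (hδM _) _ (hδM _)
    intro x hx
    obtain ⟨x', hx', e⟩ := hle hx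
    exact Subtype.ext (a1 := x') (a2 := x) e ▸ hx'
  have hδy1 : δ ⟨y, hyM⟩ ∈ L ↥S 1 := by
    refine twoStep_inf h (i := 3) (j := 1) (by omega) (by omega) le_rfl (by omega) hex ?_ (hδM _)
    refine mem_twoStep.2 fun z hz => ?_
    obtain ⟨z', hz', rfl⟩ := hδ.surjOn hL3M hδ3 hz
    rw [← map_commutatorElement,
      show ⁅z', (⟨y, hyM⟩ : ↥M)⁆ = 1 from Subtype.ext (Subgroup.mem_bot.1
        (L_eq_bot h (show 6 - 1 ≤ 3 + 1 + 1 by omega) ▸ L_comm hz' hy)), map_one]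
    exact one_mem _
  obtain ⟨r, l, hl, hδw⟩ := twoStep_decomp h (j := 1) le_rfl (by omega) hwM hw1 (hδM ⟨w, hwM⟩)
  obtain ⟨b, l2, hl2, hδy⟩ := step_decomp h le_rfl (by omega) hy hy' hδy1
  obtain ⟨k, hk, hδm⟩ : ∃ k ∈ L ↥S 4, δ ⟨m, hAM hmA⟩ = m ^ 4 * k := by
    refine ⟨_, ?_, (mul_inv_cancel_left (m ^ 4) _).symm⟩
    have hmem : (m ^ 4)⁻¹ * δ ⟨m, hAM hmA⟩ ∈ H := by rw [hδA ⟨m, hmA⟩]; exact hφm
    have h3 : (m ^ 4)⁻¹ * δ ⟨m, hAM hmA⟩ ∈ L ↥S 3 := mul_mem (inv_mem (pow_mem hmZ 4)) (hδ3 ⟨m, hAM hmA⟩ hmZ)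
    by_contra hc
    refine hZ ?_
    show L ↥S 3 ≤ E₀
    rw [← gen_step h (by omega) (by omega) h3 hc, ← zpowers_eq_of_card hZc hvZ d.v_ne]
    exact sup_le (Subgroup.zpowers_le.2 (hHE hmem)) (Subgroup.zpowers_le.2 d.hv)
  have hl13 : ∀ l ∈ L ↥S 1, ∀ x ∈ L ↥S 3, ⁅l, x⁆ = 1 := fun l hl x hx =>
    Subgroup.mem_bot.1 (L_eq_bot h (show 6 - 1 ≤ 1 + 3 + 1 by omega) ▸ L_comm hl hx)
  have hzwm : ⁅w, m⁆ ≠ 1 := by rw [← commutatorElement_inv, inv_ne_one]; exact d.mw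
  have hzp : ∀ {z}, z ∈ L ↥S 4 → z ^ p = 1 := fun {z} hz =>
    d.pow _ (Subgroup.zpowers_le.2 d.hv ((zpowers_eq_of_card hZc hvZ d.v_ne).ge hz))
  have h4r : (p : ℤ) ∣ 4 * r - 2 := by
    have hz4 : ⁅w, m⁆ ∈ L ↥S 4 := hval hmA hwM
    refine dvd_of_zpow_eq_one (hzp hz4) hzwm ?_
    have h1 := (hδ4 ⁅(⟨w, hwM⟩ : ↥M), (⟨m, hAM hmA⟩ : ↥M)⁆ hz4).2
    rw [map_commutatorElement, hδw, hδm, comm_mul_right,
      commutatorElement_eq_one_iff_mul_comm.2 ((hZ4 k hk (w ^ r * l)).symm.eq), mul_one, mul_inv_cancel, mul_one,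
      comm_mul_left, hl13 l hl (m ^ 4) (pow_mem hmZ 4), mul_one, mul_inv_cancel, one_mul,
      comm_zpow_left ((hZ4 _ (hval (pow_mem hmA 4) hwM) w).symm), ← zpow_natCast m 4,
      comm_zpow_right ((hZ4 _ hz4 m).symm), ← zpow_mul] at h1
    change ⁅w, m⁆ ^ ((4 : ℤ) * r) = ⁅w, m⁆ ^ 2 at h1
    rw [← zpow_natCast ⁅w, m⁆ 2] at h1
    rw [zpow_sub, h1]
    simp
  have hb2 : (p : ℤ) ∣ b - 2 := by
    refine dvd_of_zpow_eq_one (hzp hzy4) hzy ?_
    have h1 := (hδ4 ⁅(⟨y, hyM⟩ : ↥M), (⟨u, hAM huA⟩ : ↥M)⁆ hzy4).2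
    rw [map_commutatorElement, hδy, show δ ⟨u, hAM huA⟩ = u from (hδA ⟨u, huA⟩).trans hφu, comm_mul_left,
      show ⁅l2, u⁆ = 1 from Subgroup.mem_bot.1 (L_eq_bot h (show 6 - 1 ≤ 2 + 2 + 1 by omega) ▸ L_comm hl2 huA),
      mul_one, mul_inv_cancel, one_mul, comm_zpow_left ((hZ4 _ hzy4 y).symm)] at h1
    change ⁅y, u⁆ ^ b = ⁅y, u⁆ ^ 2 at h1
    rw [← zpow_natCast ⁅y, u⁆ 2] at h1
    rw [zpow_sub, h1]
    simp
  obtain ⟨q, x3, hx3, hwy⟩ := step_decomp h (by omega) (by omega) hmZ (fun e => d.hmE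
    (Subgroup.zpowers_le.2 d.hv ((zpowers_eq_of_card hZc hvZ d.v_ne).ge e))) hwy3
  set π := QuotientGroup.mk' (L ↥S 4)
  have one : ∀ {z : ↥S}, z ∈ L ↥S 4 → π z = 1 := fun hz => (QuotientGroup.eq_one_iff _).2 hz
  set C := π ⁅w, y⁆
  have hC : C ≠ 1 := fun e => hwy4 ((QuotientGroup.eq_one_iff _).1 e)
  have hCp : C ^ p = 1 := by
    rw [← map_pow]; exact one (step_pow h (by omega) (by omega) hwy3)
  have hrb : (p : ℤ) ∣ r * b - 4 := by
    refine dvd_of_zpow_eq_one hCp hC ?_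
    have hx3M : x3 ∈ M := hL3M (L_mono (by omega) hx3)
    have e0 : ⁅(⟨w, hwM⟩ : ↥M), (⟨y, hyM⟩ : ↥M)⁆ = ⟨m, hAM hmA⟩ ^ q * ⟨x3, hx3M⟩ :=
      Subtype.ext (by simpa [commutatorElement_def] using hwy)
    have h1 := congrArg (fun z => π (δ z)) e0
    simp only [map_mul, map_zpow, map_commutatorElement, hδw, hδy, hδm, one (hδ4 ⟨x3, hx3M⟩ hx3).1, one hk,
      mul_one, map_pow] at h1
    have hCm : C = π m ^ q := by
      show π ⁅w, y⁆ = _
      rw [hwy, map_mul, one hx3, mul_one, map_zpow]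
    have hcC : ∀ g, Commute ⁅π w, π y⁆ (π g) := fun g => by
      show _ * _ = _ * _
      rw [← map_commutatorElement, ← commutatorElement_eq_one_iff_mul_comm, ← map_commutatorElement]
      exact one (L_comm (j := 0) hwy3 (Subgroup.mem_top g))
    have hly : Commute (π l) (π y) := by
      obtain ⟨i, l', hl', rfl⟩ := step_decomp h le_rfl (by omega) hy hy' hl
      rw [map_mul, map_zpow]
      refine ((Commute.refl _).zpow_left i).mul_left ?_
      show _ * _ = _ * _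
      rw [← commutatorElement_eq_one_iff_mul_comm, ← map_commutatorElement]
      exact one (L_comm (i := 2) (j := 1) hl' hy)
    have hl2c : ∀ {g}, g ∈ M → Commute (π g) (π l2) := fun {g} hg => by
      show _ * _ = _ * _
      rw [← commutatorElement_eq_one_iff_mul_comm, ← map_commutatorElement]
      exact one (hval (show l2 ∈ L ↥S 2 from hl2) hg)
    have hr1 : ⁅(π w) ^ r, π y⁆ = ⁅π w, π y⁆ ^ r := comm_zpow_left (hcC w).symm r
    rw [comm_mul_right, commutatorElement_eq_one_iff_mul_comm.2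
        (((hl2c hwM).zpow_left r).mul_left (hl2c (L_one_le_twoStep 1 hl))).eq, mul_one, mul_inv_cancel, mul_one,
      comm_mul_left, commutatorElement_eq_one_iff_mul_comm.2 (hly.zpow_right b).eq, mul_one, mul_inv_cancel,
      one_mul, comm_zpow_right (by rw [hr1]; exact (hcC y).symm.zpow_right r), hr1, ← zpow_mul,
      ← map_commutatorElement, ← zpow_natCast, ← zpow_mul] at h1
    change C ^ (r * b) = π m ^ ((4 : ℤ) * q) at h1
    rw [mul_comm (4 : ℤ), zpow_mul (π m), ← hCm] at h1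
    exact (zpow_sub C _ _).trans ((congrArg (· * (C ^ (4 : ℤ))⁻¹) h1).trans (mul_inv_cancel _))
  obtain ⟨t1, h1⟩ := h4r
  obtain ⟨t2, h2⟩ := hb2
  obtain ⟨t3, h3⟩ := hrb
  have h12 : (p : ℤ) ∣ ((12 : ℕ) : ℤ) :=
    ⟨t1 * b + 2 * t2 - 4 * t3, by push_cast; linear_combination b * h1 + 2 * h2 - 4 * h3⟩
  have hd : p ∣ 2 * 2 * 3 := Int.natCast_dvd_natCast.1 h12
  rcases (hp.out.dvd_mul.1 hd) with hd | hd
  · rcases hp.out.dvd_mul.1 hd with hd | hd <;> (have := Nat.le_of_dvd (by omega) hd; omega)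
  · have := Nat.le_of_dvd (by omega) hd
    omega

end Data

variable {n : ℕ}

/-- The centralizer of the second centre is the last two-step centralizer. -/
theorem le_last (h : MaxClass ↥S p n) (hn : 4 ≤ n) {E₀ : Subgroup ↥S} (hZ : L ↥S (n - 3) ≤ E₀)
    (hab : ∀ x ∈ E₀, ∀ y ∈ E₀, Commute x y) : E₀ ≤ twoStep ↥S (n - 3) := fun e he =>
  mem_twoStep.2 fun z hz => by
    rw [commutatorElement_eq_one_iff_mul_comm.2 (hab z (hZ hz) e he).eq]
    exact one_mem _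

set_option maxHeartbeats 800000 in
/-- There is no elementary abelian essential subgroup of order `p ^ 3`. -/
theorem no_rank_three (hS : IsPGroup p S) (hF : F.IsSaturated p) (hp5 : 5 ≤ p) (h : MaxClass ↥S p n)
    (h5 : 5 ≤ n) {E : Subgroup Ω} (hE : F.IsEssential p E) (hea : IsElementaryAbelian p E)
    (hc : Nat.card E = p ^ 3) : False := by
  have hES : E ≤ S := hE.1.1
  set E₀ := E.subgroupOf S
  have hc0 : Nat.card E₀ = p ^ 3 := (Nat.card_congr (Subgroup.subgroupOfEquivOfLe hES).toEquiv).trans hc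
  have hab : ∀ x ∈ E₀, ∀ y ∈ E₀, Commute x y := fun x hx y hy => by
    have e := congrArg Subtype.val (hea.1.is_comm.comm (⟨x, hx⟩ : E) ⟨y, hy⟩)
    exact Subtype.ext e
  have hcen : ∀ g, (∀ e ∈ E₀, Commute g e) → g ∈ E₀ := fun g hg =>
    hE.1.2 E (isConj_refl F hES) (mem_centralizerIn.2 ⟨g.2, fun x hx =>
      congrArg Subtype.val (hg ⟨x, hES hx⟩ hx).symm.eq⟩)
  have hmem : ∀ e ∈ E₀, e ∈ twoStep ↥S 1 ∨ e ∈ twoStep ↥S (n - 3) := fun e he => by
    refine mem_or_of_not_small h (by omega) fun hs => ?_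
    have hle : E₀ ≤ Subgroup.centralizer ({e} : Set ↥S) := fun x hx =>
      Subgroup.mem_centralizer_singleton_iff.2 (hab x hx e he).eq
    have := Subgroup.card_le_of_le hle
    rw [hc0, hs, Nat.pow_le_pow_iff_right hp.out.one_lt] at this
    omega
  by_cases hZ : L ↥S (n - 3) ≤ E₀
  · have hK := le_last h (by omega) hZ hab
    -- an element of the normalizer centralizing the second centre
    obtain ⟨m, hm, hmE, hmK⟩ : ∃ m, m ∈ Subgroup.normalizer (E₀ : Set ↥S) ∧ m ∉ E₀ ∧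
        m ∈ twoStep ↥S (n - 3) := by
      set K := twoStep ↥S (n - 3)
      haveI : Group.IsNilpotent ↥K := (hS.to_subgroup K).isNilpotent
      have hlt : E₀.subgroupOf K < ⊤ := lt_top_iff_ne_top.2 fun e => by
        have h1 := Subgroup.card_le_of_le (Subgroup.subgroupOf_eq_top.1 e)
        have h2 := K.card_mul_index
        rw [index_twoStep h (by omega) (by omega), h.card] at h2
        have h3 : p ^ n ≤ p ^ 3 * p := h2 ▸ Nat.mul_le_mul_right p (h1.trans hc0.le)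
        rw [← pow_succ, Nat.pow_le_pow_iff_right hp.out.one_lt] at h3
        omega
      obtain ⟨x, hx, hx'⟩ := SetLike.exists_of_lt (Group.normalizerCondition_of_isNilpotent _ hlt)
      refine ⟨x, mem_normalizer_of_finite fun e he => ?_, hx', x.2⟩
      exact (Subgroup.mem_normalizer_iff.1 hx ⟨e, hK he⟩).1 he
    have hconj : ∀ e ∈ E₀, ⁅m, e⁆ ∈ E₀ := fun e he => by
      rw [commutatorElement_def]
      exact E₀.mul_mem ((Subgroup.mem_normalizer_iff.1 hm e).1 he) (E₀.inv_mem he)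
    let D : ↥E₀ →* ↥S := MonoidHom.mk' (fun e => ⁅m, (e : ↥S)⁆) fun a b => by
      show ⁅m, (a : ↥S) * b⁆ = _
      rw [comm_mul_right, (hab a a.2 _ (hconj b b.2)).eq, mul_inv_cancel_right]
    have hker : (L ↥S (n - 3)).subgroupOf E₀ ≤ D.ker := fun z hz => by
      show ⁅m, (z : ↥S)⁆ = 1
      rw [← commutatorElement_inv, inv_eq_one]
      exact Subgroup.mem_bot.1 (L_eq_bot h (show n - 1 ≤ n - 3 + 2 by omega) ▸ mem_twoStep.1 hmK _ hz)
    have hRd : Nat.card D.range ∣ p := by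
      rw [← Subgroup.index_ker]
      refine (Subgroup.index_dvd_of_le hker).trans (dvd_of_eq ?_)
      have e := Subgroup.card_mul_index ((L ↥S (n - 3)).subgroupOf E₀)
      rw [Nat.card_congr (Subgroup.subgroupOfEquivOfLe hZ).toEquiv, cardL h (by omega) (by omega),
        show n - 1 - (n - 3) = 2 by omega, hc0, pow_succ p 2] at e
      exact Nat.eq_of_mul_eq_mul_left (pow_pos hp.out.pos 2) e
    obtain ⟨v, hv, hD⟩ : ∃ v ∈ E₀, ∀ e ∈ E₀, ⁅m, e⁆ ∈ Subgroup.zpowers v := by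
      rcases (Nat.dvd_prime hp.out).1 hRd with e | e
      · refine ⟨1, one_mem _, fun x hx => ?_⟩
        have : ⁅m, x⁆ ∈ D.range := ⟨⟨x, hx⟩, rfl⟩
        rw [Subgroup.card_eq_one.1 e, Subgroup.mem_bot] at this
        rw [this]; exact one_mem _
      · haveI : IsCyclic ↥D.range := isCyclic_of_prime_card e
        obtain ⟨⟨_, e', rfl⟩, hg⟩ := IsCyclic.exists_generator (α := ↥D.range)
        refine ⟨D e', hconj e' e'.2, fun x hx => ?_⟩
        obtain ⟨i, hi⟩ := Subgroup.mem_zpowers_iff.1 (hg ⟨⁅m, x⁆, ⟨⟨x, hx⟩, rfl⟩⟩)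
        exact ⟨i, by simpa using congrArg Subtype.val hi⟩
    obtain ⟨u, w, d⟩ := mk_data hS hF hE hea hc h.card h5 hm hmE hv hD
    by_cases hEM : E₀ ≤ twoStep ↥S 1
    · rcases Nat.eq_or_lt_of_le h5 with h5' | h6
      · exact d.case_five hS hF (by omega) h h5'.symm hEM (by
          have := hZ; rwa [show n - 3 = 2 by omega] at this)
      · have hN5 : L ↥S (n - 5) ≤ Subgroup.normalizer (E₀ : Set ↥S) := fun g hg => d.mem_N fun e he => by
          have hC : e ∈ twoStep ↥S (n - 5) := by rw [twoStep_eq_one h (by omega) (by omega)]; exact hEM he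
          have := mem_twoStep.1 hC g hg
          rw [show n - 5 + 2 = n - 3 by omega] at this
          exact hZ this
        have heq : L ↥S (n - 5) = Subgroup.normalizer (E₀ : Set ↥S) :=
          Subgroup.eq_of_le_of_card_ge hN5 (d.cardN.trans (by
            rw [cardL h (by omega) (by omega), show n - 1 - (n - 5) = 4 by omega]))
        have hMN : twoStep ↥S 1 ≤ Subgroup.normalizer (E₀ : Set ↥S) := fun g hg => d.mem_N fun e he => by
          have hC : g ∈ twoStep ↥S (n - 5) := by rw [twoStep_eq_one h (by omega) (by omega)]; exact hg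
          have := mem_twoStep.1 hC e (heq ▸ d.le_N he)
          rw [show n - 5 + 2 = n - 3 by omega] at this
          rw [← commutatorElement_inv]
          exact E₀.inv_mem (hZ this)
        have h1 := (Subgroup.card_le_of_le hMN).trans d.cardN
        have h2 := (twoStep ↥S 1).card_mul_index
        rw [index_twoStep h le_rfl (by omega), h.card] at h2
        have h3 : p ^ n ≤ p ^ 4 * p := h2 ▸ Nat.mul_le_mul_right p h1
        rw [← pow_succ, Nat.pow_le_pow_iff_right hp.out.one_lt] at h3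
        omega
    · have hex : twoStep ↥S (n - 3) ≠ twoStep ↥S 1 := fun e => hEM (e ▸ hK)
      exact d.case_last hS hF (by omega) h (exceptional h h5 hex).1 hK hEM hZ
  · obtain ⟨m, hmZ, hmE⟩ := SetLike.not_le_iff_exists.1 hZ
    have hcentral : ∀ z ∈ L ↥S (n - 2), ∀ g : ↥S, Commute z g := fun z hz g =>
      commutatorElement_eq_one_iff_mul_comm.1 (Subgroup.mem_bot.1
        (L_eq_bot h (show n - 1 ≤ n - 2 + 0 + 1 by omega) ▸ L_comm (i := _) (j := 0) hz (Subgroup.mem_top g)))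
    have hZE : L ↥S (n - 2) ≤ E₀ := fun z hz => hcen z fun e _ => hcentral z hz e
    obtain ⟨v, hvZ, hv'⟩ := exists_step h (j := n - 2) (by omega)
    have hzv : Subgroup.zpowers v = L ↥S (n - 2) := zpowers_eq_of_card (by
      rw [cardL h (by omega) (by omega), show n - 1 - (n - 2) = 1 by omega, pow_one]) hvZ fun e => hv' (e ▸ one_mem _)
    have hD : ∀ e ∈ E₀, ⁅m, e⁆ ∈ Subgroup.zpowers v := fun e _ => by
      rw [hzv]
      exact L_mono (by omega) (L_comm (j := 0) hmZ (Subgroup.mem_top e))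
    have hm : m ∈ Subgroup.normalizer (E₀ : Set ↥S) := mem_normalizer_of_finite fun e he => by
      have := E₀.mul_mem (hZE (hzv ▸ hD e he)) he
      rwa [commutatorElement_def, inv_mul_cancel_right] at this
    obtain ⟨u, w, d⟩ := mk_data hS hF hE hea hc h.card h5 hm hmE (hZE hvZ) hD
    have hnK : ¬ E₀ ≤ twoStep ↥S (n - 3) := fun hK => d.mw (Subgroup.mem_bot.1
      (L_eq_bot h (show n - 1 ≤ n - 3 + 2 by omega) ▸ mem_twoStep.1 (hK d.hw) m hmZ))
    have hM : E₀ ≤ twoStep ↥S 1 := by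
      by_contra hM
      obtain ⟨a, ha, haM⟩ := SetLike.not_le_iff_exists.1 hM
      obtain ⟨b, hb, hbK⟩ := SetLike.not_le_iff_exists.1 hnK
      have haK := (hmem a ha).resolve_left haM
      have hbM := (hmem b hb).resolve_right hbK
      rcases hmem _ (E₀.mul_mem ha hb) with e | e
      · exact haM (by simpa using mul_mem e (inv_mem hbM))
      · exact hbK (by simpa using mul_mem (inv_mem haK) e)
    have hex : twoStep ↥S (n - 3) ≠ twoStep ↥S 1 := fun e => hnK (e.symm ▸ hM)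
    obtain ⟨h6, heven, -⟩ := exceptional h h5 hex
    rcases Nat.eq_or_lt_of_le h6 with e | h7
    · exact d.case_centre_six hS hF hp5 h e.symm hM hmZ hvZ hZ
    · obtain ⟨k, hk⟩ := heven
      exact d.case_centre_large h (by omega) hM hmZ hvZ hZ

end Cfsg.Agent.Lib.RankThree
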