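import Cfsg.Agent.Lib.Blocks.RankThreeSmall

/-!
Elementary abelian essential subgroups of order `p ^ 3` in a two-step centralizer.
-/

set_option autoImplicit false
set_option linter.unusedSectionVars false
set_option linter.style.haveILetI false

namespace Cfsg.Agent.Lib.RankThree

open scoped commutatorElement
open Cfsg Cfsg.FusionSystem Cfsg.Agent.Lib.Fusion
open Cfsg.Agent.Lib.MaxClassPower Cfsg.Agent.Lib.MaxClassUniform Cfsg.Agent.Lib.MaxClassDegree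

universe u

section Basic

variable {G : Type u} [Group G] [Finite G] {p : ℕ} [hp : Fact p.Prime] {n : ℕ}

theorem dvd_of_zpow_mem {K : Subgroup G} {x : G} (hx : x ^ p ∈ K) (hxK : x ∉ K) {i : ℤ} (hi : x ^ i ∈ K) :
    (p : ℤ) ∣ i := by
  by_contra hd
  obtain ⟨a, b, hab⟩ := ((Nat.prime_iff_prime_int.1 hp.out).coprime_iff_not_dvd.2 hd)
  refine hxK ?_
  have e : x = (x ^ (p : ℤ)) ^ a * (x ^ i) ^ b := by
    rw [← zpow_mul, ← zpow_mul, ← zpow_add, mul_comm (p : ℤ), mul_comm i, hab, zpow_one]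
  rw [e, zpow_natCast]
  exact K.mul_mem (K.zpow_mem hx a) (K.zpow_mem hi b)

theorem dvd_of_zpow_eq_one {x : G} (hx : x ^ p = 1) (hx1 : x ≠ 1) {i : ℤ} (hi : x ^ i = 1) : (p : ℤ) ∣ i :=
  dvd_of_zpow_mem (K := ⊥) (Subgroup.mem_bot.2 hx) (fun e => hx1 (Subgroup.mem_bot.1 e)) (Subgroup.mem_bot.2 hi)

theorem zpow_congr {x : G} (hx : x ^ p = 1) {i j : ℤ} (h : (p : ℤ) ∣ i - j) : x ^ i = x ^ j := by
  obtain ⟨t, ht⟩ := h
  rw [show i = p * t + j by omega, zpow_add, zpow_mul, zpow_natCast, hx, one_zpow, one_mul]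

theorem zpowers_eq_of_card {H : Subgroup G} (hc : Nat.card H = p) {x : G} (hx : x ∈ H) (hx1 : x ≠ 1) :
    Subgroup.zpowers x = H := by
  refine Subgroup.eq_of_le_of_card_ge (Subgroup.zpowers_le.2 hx) ?_
  have h1 := Subgroup.card_dvd_of_le (Subgroup.zpowers_le.2 hx)
  rw [hc] at h1
  rcases (Nat.dvd_prime hp.out).1 h1 with e | e
  · exact absurd (Subgroup.zpowers_eq_bot.1 (Subgroup.card_eq_one.1 e)) hx1
  · rw [hc, e]

theorem step_pow (h : MaxClass G p n) {j : ℕ} (h1 : 1 ≤ j) (hj : j + 2 ≤ n) {g : G} (hg : g ∈ L G j) :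
    g ^ p ∈ L G (j + 1) := by
  have hi : ((L G (j + 1)).subgroupOf (L G j)).index = p := by
    have e := Subgroup.card_mul_index ((L G (j + 1)).subgroupOf (L G j))
    rw [Nat.card_congr (Subgroup.subgroupOfEquivOfLe (L_mono (by omega))).toEquiv, cardL h (by omega) (by omega),
      cardL h h1 (by omega), show n - 1 - j = n - 1 - (j + 1) + 1 by omega, pow_succ] at e
    exact Nat.eq_of_mul_eq_mul_left (pow_pos hp.out.pos _) e
  exact hi ▸ Subgroup.pow_index_mem ((L G (j + 1)).subgroupOf (L G j)) ⟨g, hg⟩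

theorem step_decomp (h : MaxClass G p n) {j : ℕ} (h1 : 1 ≤ j) (hj : j + 2 ≤ n) {g x : G} (hg : g ∈ L G j)
    (hg' : g ∉ L G (j + 1)) (hx : x ∈ L G j) : ∃ r : ℤ, ∃ l ∈ L G (j + 1), x = g ^ r * l := by
  rw [← gen_step h h1 hj hg hg'] at hx
  obtain ⟨y, hy, l, hl, rfl⟩ := Subgroup.mem_sup_of_normal_right.1 hx
  obtain ⟨r, rfl⟩ := Subgroup.mem_zpowers_iff.1 hy
  exact ⟨r, l, hl, rfl⟩

theorem twoStep_inf (h : MaxClass G p n) {i j : ℕ} (hi : 1 ≤ i) (hin : i + 3 ≤ n) (hj : 1 ≤ j) (hjn : j + 3 ≤ n)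
    (hne : twoStep G i ≠ twoStep G j) {x : G} (hxi : x ∈ twoStep G i) (hxj : x ∈ twoStep G j) : x ∈ L G 1 := by
  by_contra hx
  exact hne ((sup_eq_twoStep h hi hin hxi hx).symm.trans (sup_eq_twoStep h hj hjn hxj hx))

end Basic

variable {p : ℕ} [hp : Fact p.Prime] {Ω : Type u} [Group Ω] {S : Subgroup Ω} [Finite S] {F : FusionSystem S}

theorem IsHom.restrict {K K' : Subgroup ↥S} {φ : ↥K →* ↥S} (h : IsHom F K φ) (hle : K' ≤ K) :
    IsHom F K' (φ.comp (Subgroup.inclusion hle)) := by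
  obtain ⟨ψ, hψ, he⟩ := h
  exact ⟨restr (Subgroup.map_mono hle) ψ, restr_mem F hψ _, fun x => he (Subgroup.inclusion hle x)⟩

theorem IsHom.surjOn {K : Subgroup ↥S} {φ : ↥K →* ↥S} (h : IsHom F K φ) {X : Subgroup ↥S} (hX : X ≤ K)
    (hinv : ∀ x : ↥K, (x : ↥S) ∈ X → φ x ∈ X) {z : ↥S} (hz : z ∈ X) : ∃ x : ↥K, (x : ↥S) ∈ X ∧ φ x = z := by
  have hb : Function.Bijective fun a : ↥X => (⟨φ ⟨a, hX a.2⟩, hinv ⟨a, hX a.2⟩ a.2⟩ : ↥X) :=
    Finite.injective_iff_bijective.1 fun a b e => by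
      have h1 := h.injective (congrArg Subtype.val e)
      exact Subtype.ext (congrArg (fun t : ↥K => (t : ↥S)) h1)
  obtain ⟨a, ha⟩ := hb.2 ⟨z, hz⟩
  exact ⟨⟨a, hX a.2⟩, a.2, congrArg Subtype.val ha⟩

namespace Data

variable {E₀ : Subgroup ↥S} {m v u w : ↥S} {n : ℕ}

set_option quotPrecheck false in
local notation "𝒩" => Subgroup.normalizer (E₀ : Set (Subtype (· ∈ S)))

theorem inter_eq (d : Data F p E₀ m v u w) {K : Subgroup ↥S} (hK : Subgroup.closure ({v, u} : Set ↥S) ≤ K)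
    (hw : w ∉ K) {e : ↥S} (he : e ∈ E₀) (heK : e ∈ K) : e ∈ Subgroup.closure ({v, u} : Set ↥S) := by
  obtain ⟨i, k, hk, rfl⟩ := d.E_decomp he d.w_notMem
  have h1 : w ^ (i : ℤ) ∈ K := by
    rw [zpow_natCast]
    have := K.mul_mem heK (K.inv_mem (hK hk))
    rwa [mul_inv_cancel_right] at this
  obtain ⟨t, rfl⟩ := Int.natCast_dvd_natCast.1 (dvd_of_zpow_mem (p := p) (by rw [d.pow w d.hw]; exact one_mem _) hw h1)
  rw [pow_mul, d.pow w d.hw, one_pow, one_mul]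
  exact hk

theorem notMem_N (d : Data F p E₀ m v u w) (h5 : 5 ≤ n) (hn : Nat.card ↥S = p ^ n) {A K : Subgroup ↥S} [A.Normal]
    (hA : A ≤ 𝒩) (hAc : Nat.card A = p ^ 3) (hAab : ∀ x ∈ A, ∀ y ∈ A, Commute x y) (hAK : A ≤ K) (hw : w ∉ K)
    {y : ↥S} (hy : y ∈ K) (hyA : y ∉ A) : y ∉ 𝒩 := by
  obtain ⟨-, -, hinf, -, hdec⟩ := d.frame h5 hn hA hAc hAab
  intro hyN
  obtain ⟨a, ha, e, he, rfl⟩ := hdec y hyN
  have heK : e ∈ K := by
    have := K.mul_mem (K.inv_mem (hAK ha)) hy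
    rwa [inv_mul_cancel_left] at this
  have := d.inter_eq ((hinf ▸ inf_le_left).trans hAK) hw he heK
  exact hyA (A.mul_mem ha ((hinf ▸ inf_le_left : Subgroup.closure ({v, u} : Set ↥S) ≤ A) this))

set_option maxHeartbeats 800000 in
/-- The exceptional last two-step centralizer. -/
theorem case_last (d : Data F p E₀ m v u w) (hS : IsPGroup p S) (hF : F.IsSaturated p) (hp2 : p ≠ 2)
    (h : MaxClass ↥S p n) (h6 : 6 ≤ n) (hE : E₀ ≤ twoStep ↥S (n - 3)) (hEM : ¬ E₀ ≤ twoStep ↥S 1)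
    (hZ : L ↥S (n - 3) ≤ E₀) : False := by
  set K := twoStep ↥S (n - 3)
  set A := L ↥S (n - 4)
  have hC4 : twoStep ↥S (n - 4) = twoStep ↥S 1 := twoStep_eq_one h (by omega) (by omega)
  have hA : A ≤ 𝒩 := fun g hg => d.mem_N fun e _ =>
    hZ (L_mono (by omega) (L_comm (j := 0) hg (Subgroup.mem_top e)))
  have hAc : Nat.card A = p ^ 3 := by
    rw [cardL h (by omega) (by omega), show n - 1 - (n - 4) = 3 by omega]
  have hAab := commute_L_sub_four h (by omega)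
  obtain ⟨-, hN4, hinf, -, -⟩ := d.frame (n := n) (by omega) h.card hA hAc hAab
  obtain ⟨hHc, hHE, -⟩ := d.card_closure
  set H := Subgroup.closure ({v, u} : Set ↥S)
  have hH2 : H = L ↥S (n - 3) := by
    refine (Subgroup.eq_of_le_of_card_ge (hinf ▸ le_inf (L_mono (by omega)) hZ) ?_).symm
    rw [hHc, cardL h (by omega) (by omega), show n - 1 - (n - 3) = 2 by omega]
  have hA1 : A ≤ L ↥S 1 := L_mono (by omega)
  have hwM : w ∉ twoStep ↥S 1 := fun hw => hEM fun e he => by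
    obtain ⟨i, k, hk, rfl⟩ := d.E_decomp he d.w_notMem
    exact mul_mem (pow_mem hw i) (L_one_le_twoStep 1 (hA1 ((hinf ▸ inf_le_left : H ≤ A) hk)))
  have hwK : w ∈ K := hE d.hw
  have hw1 : w ∉ L ↥S 1 := fun e => hwM (L_one_le_twoStep 1 e)
  have hex : twoStep ↥S (n - 3) ≠ twoStep ↥S 1 := fun e => hwM (e ▸ hwK)
  obtain ⟨-, heven, hpair⟩ := exceptional h (by omega) hex
  have hAK : A ≤ K := hA1.trans (L_one_le_twoStep _)
  -- the torus
  obtain ⟨y, hy, hy'⟩ := exists_step h (j := n - 5) (by omega)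
  rw [show n - 5 + 1 = n - 4 by omega] at hy'
  have hyN : y ∉ 𝒩 := d.notMem_N (n := n) (by omega) h.card hA hAc hAab hA1 hw1
    (L_mono (by omega) hy) hy'
  obtain ⟨β, hβ, -, hβA, hval, hmod⟩ := d.setup (n := n) (by omega) h.card hA hAc hAab (y := y)
    (fun e _ => L_mono (by omega) (L_comm (i := 0) (Subgroup.mem_top e) hy))
    (fun a ha => hZ (L_mono (by omega) (L_comm ha hy))) hyN (p - 1) (p - 1) (by
      rw [Nat.cast_sub hp.out.one_le, ZMod.natCast_self]; simp)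
  let φ : ↥A →* ↥S := β.comp (Subgroup.inclusion hA)
  have hφ : IsHom F A φ := hβ.restrict hA
  have hφA : ∀ a, φ a ∈ A := fun a => hβA _ a.2
  have hv1 : v ^ (p - 1) = v⁻¹ :=
    eq_inv_of_mul_eq_one_left (by rw [← pow_succ, Nat.sub_add_cancel hp.out.one_le, d.pow v d.hv])
  have hφmod : ∀ a : ↥A, (a : ↥S)⁻¹ * φ a ∈ L ↥S (n - 3) := fun a => by
    have h1 : ((a : ↥S) ^ ((p - 1) * (p - 1)))⁻¹ * φ a ∈ L ↥S (n - 3) := hH2.le (hmod (Subgroup.inclusion hA a) a.2)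
    obtain ⟨t, ht⟩ : ∃ t, (p - 1) * (p - 1) = p * t + 1 := by
      refine ⟨p - 2, ?_⟩
      have := hp.out.two_le
      rw [Nat.mul_sub, Nat.sub_mul, Nat.mul_sub]
      have : p * 2 ≤ p * p := Nat.mul_le_mul_left p this
      omega
    rw [ht, pow_succ', pow_mul, mul_inv_rev, mul_assoc] at h1
    have h2 : ((a : ↥S) ^ p) ^ t ∈ L ↥S (n - 3) := pow_mem (by
      have := step_pow h (j := n - 4) (by omega) (by omega) a.2
      rwa [show n - 4 + 1 = n - 3 by omega] at this) t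
    have := mul_mem h2 h1
    rwa [mul_inv_cancel_left] at this
  have hφH : ∀ a : ↥A, (a : ↥S) ∈ L ↥S (n - 3) → φ a ∈ L ↥S (n - 3) := fun a ha => by
    have := mul_mem ha (hφmod a)
    rwa [mul_inv_cancel_left] at this
  have hAZ : L ↥S (n - 3) ≤ A := L_mono (by omega)
  have hKc : ∀ z ∈ L ↥S (n - 3), ∀ k ∈ K, Commute z k := fun z hz k hk =>
    commutatorElement_eq_one_iff_mul_comm.1
      (Subgroup.mem_bot.1 (L_eq_bot h (show n - 1 ≤ n - 3 + 2 by omega) ▸ mem_twoStep.1 hk z hz))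
  obtain ⟨a0, ha0, ha0'⟩ := exists_step h (j := n - 4) (by omega)
  rw [show n - 4 + 1 = n - 3 by omega] at ha0'
  obtain ⟨g1, hg1, hg1'⟩ := exists_step h (j := 1) (by omega)
  have hval0 : ∀ k : ↥S, ⁅k, a0⁆ ∈ L ↥S (n - 3) := fun k =>
    L_mono (by omega) (L_comm (i := 0) (Subgroup.mem_top k) ha0)
  let ψ0 : ↥K →* ↥S := MonoidHom.mk' (fun k => ⁅(k : ↥S), a0⁆) fun k k' => by
    show ⁅(k : ↥S) * k', a0⁆ = ⁅(k : ↥S), a0⁆ * ⁅(k' : ↥S), a0⁆
    rw [comm_mul_left, ← ((hKc _ (hval0 k')) k k.2).eq, mul_inv_cancel_right]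
    exact (hKc _ (hval0 k') _ (L_one_le_twoStep _ (L_mono (by omega) (hval0 k)))).eq
  set z1 := ⁅g1, a0⁆
  set c0 := ⁅w, a0⁆
  have hz1 : z1 ∈ L ↥S (n - 2) := L_mono (by omega) (L_comm hg1 ha0)
  have hz1' : z1 ≠ 1 := hpair g1 hg1 hg1' a0 ha0 ha0'
  have hc0 : c0 ∉ L ↥S (n - 2) := fun hc => by
    have := comm_step h (j := n - 4) (by omega) (by omega) (s := w) (fun e => hwM (hC4 ▸ e)) ha0
      (by rwa [show n - 4 + 1 = n - 3 by omega])
    refine this.2 ?_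
    rw [show n - 4 + 2 = n - 2 by omega, ← commutatorElement_inv]
    exact inv_mem hc
  have hR : ∀ z ∈ L ↥S (n - 3), ∃ k : ↥K, ψ0 k = z := by
    intro z hz
    have hle2 : L ↥S (n - 2) ≤ ψ0.range := by
      have e := gen_step h (j := n - 2) (by omega) (by omega) hz1 (fun e => hz1' (by
        rwa [L_eq_bot h (show n - 1 ≤ n - 2 + 1 by omega), Subgroup.mem_bot] at e))
      rw [L_eq_bot h (show n - 1 ≤ n - 2 + 1 by omega), sup_bot_eq] at e
      rw [← e]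
      exact Subgroup.zpowers_le.2 ⟨⟨g1, L_one_le_twoStep _ hg1⟩, rfl⟩
    have e := gen_step h (j := n - 3) (by omega) (by omega) (hval0 w)
      (by rwa [show n - 3 + 1 = n - 2 by omega])
    rw [show n - 3 + 1 = n - 2 by omega] at e
    exact (e ▸ sup_le (Subgroup.zpowers_le.2 ⟨⟨w, hwK⟩, rfl⟩) hle2 : L ↥S (n - 3) ≤ ψ0.range) hz
  have hgenA : ∀ a ∈ A, ∃ r : ℤ, ∃ l ∈ L ↥S (n - 3), a = a0 ^ r * l := fun a ha => by
    obtain ⟨r, l, hl, e⟩ := step_decomp h (by omega) (by omega) ha0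
      (by rwa [show n - 4 + 1 = n - 3 by omega]) ha
    exact ⟨r, l, by rwa [show n - 4 + 1 = n - 3 by omega] at hl, e⟩
  -- the extension
  obtain ⟨δ, hδ, hδA⟩ := extend hS hF A K hAK φ hφ hφA (by
    intro g hg
    have hga : ∀ a : ↥A, g * a * g⁻¹ ∈ A := fun a => Subgroup.Normal.conj_mem inferInstance _ a.2 g
    have hca : ⁅g, a0⁆ ∈ A := hAZ (hval0 g)
    obtain ⟨k, hk⟩ := hR (φ ⟨⁅g, a0⁆, hca⟩) (hφH _ (hval0 g))
    let f1 : ↥A →* ↥S :=
      { toFun := fun a => φ ⟨g * a * g⁻¹, hga a⟩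
        map_one' := by
          rw [show (⟨g * ((1 : ↥A) : ↥S) * g⁻¹, hga 1⟩ : ↥A) = 1 from Subtype.ext (by simp), map_one]
        map_mul' := fun a b => by
          rw [← map_mul]; congr 1; exact Subtype.ext (by simp [mul_assoc]) }
    let f2 : ↥A →* ↥S := (MulAut.conj (k : ↥S)).toMonoidHom.comp φ
    have hf2 : ∀ a, f2 a = (k : ↥S) * φ a * (k : ↥S)⁻¹ := fun _ => rfl
    have hZeq : ∀ a : ↥A, (a : ↥S) ∈ L ↥S (n - 3) → f1 a = f2 a := fun a ha => by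
      rw [hf2, ← (hKc _ (hφH a ha) k k.2).eq, mul_inv_cancel_right]
      show φ ⟨g * a * g⁻¹, hga a⟩ = φ a
      congr 1
      exact Subtype.ext (by show g * (a : ↥S) * g⁻¹ = a; rw [← (hKc _ ha g hg).eq, mul_inv_cancel_right])
    have ha0eq : f1 ⟨a0, ha0⟩ = f2 ⟨a0, ha0⟩ := by
      rw [hf2]
      show φ ⟨g * a0 * g⁻¹, hga ⟨a0, ha0⟩⟩ = _
      rw [show (⟨g * a0 * g⁻¹, hga ⟨a0, ha0⟩⟩ : ↥A) = ⟨⁅g, a0⁆, hca⟩ * ⟨a0, ha0⟩ from
        Subtype.ext (by simp [commutatorElement_def]), map_mul, ← hk]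
      show ⁅(k : ↥S), a0⁆ * φ ⟨a0, ha0⟩ = _
      obtain ⟨h0, hh0, e⟩ : ∃ h0 ∈ L ↥S (n - 3), φ ⟨a0, ha0⟩ = a0 * h0 := ⟨_, hφmod ⟨a0, ha0⟩, by group⟩
      rw [e, show ⁅(k : ↥S), a0⁆ * (a0 * h0) = (k : ↥S) * a0 * (k : ↥S)⁻¹ * h0 by
        simp only [commutatorElement_def]; group,
        mul_assoc _ (k : ↥S)⁻¹, ← ((hKc _ hh0 k k.2).inv_right).eq]
      group
    refine ⟨k, fun a ha => ?_⟩
    obtain ⟨r, l, hl, e⟩ := hgenA a a.2
    have ea : a = ⟨a0, ha0⟩ ^ r * ⟨l, hAZ hl⟩ := Subtype.ext (by simpa using e)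
    show f1 a = _
    rw [← hf2, ea, map_mul, map_mul, map_zpow, map_zpow, ha0eq, hZeq ⟨l, hAZ hl⟩ hl])
  have hδinj := hδ.injective
  have hδZ : ∀ x : ↥K, (x : ↥S) ∈ L ↥S (n - 3) → δ x ∈ L ↥S (n - 3) := fun x hx => by
    have := hδA ⟨x, hAZ hx⟩
    rw [show x = (⟨(x : ↥S), hAK (hAZ hx)⟩ : ↥K) from rfl, this]
    exact hφH _ hx
  have hδK : ∀ x : ↥K, δ x ∈ K := fun x => by
    refine mem_twoStep.2 fun z hz => ?_
    obtain ⟨z', hz', rfl⟩ := hδ.surjOn ((hAZ.trans hAK)) hδZ hz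
    rw [← map_commutatorElement, show ⁅z', x⁆ = 1 from Subtype.ext (commutatorElement_eq_one_iff_mul_comm.2
      (hKc _ hz' x x.2).eq), map_one]
    exact one_mem _
  -- commutators in `K`
  have hKK : ∀ a ∈ K, ∀ b ∈ K, ⁅a, b⁆ ∈ L ↥S 2 := fun a ha b hb => by
    obtain ⟨r, l, hl, rfl⟩ := twoStep_decomp h (j := n - 3) (by omega) (by omega) hwK hw1 ha
    obtain ⟨r', l', hl', rfl⟩ := twoStep_decomp h (j := n - 3) (by omega) (by omega) hwK hw1 hb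
    set π := QuotientGroup.mk' (L ↥S 2)
    have hc : ∀ l ∈ L ↥S 1, ∀ x : ↥S, Commute (π l) (π x) := fun l hl x => by
      show _ * _ = _ * _
      rw [← commutatorElement_eq_one_iff_mul_comm, ← map_commutatorElement]
      exact (QuotientGroup.eq_one_iff _).mpr (L_comm (j := 0) hl (Subgroup.mem_top x))
    refine (QuotientGroup.eq_one_iff _).1 ?_
    show π _ = 1
    rw [map_commutatorElement, commutatorElement_eq_one_iff_mul_comm, map_mul, map_mul, map_zpow, map_zpow]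
    exact (((Commute.refl (π w)).zpow_zpow r r').mul_right ((hc l' hl' w).symm.zpow_left r)).mul_left
      (((hc l hl w).zpow_right r').mul_right (hc l hl l')) |>.eq
  have hgam : ∀ i j, j + i = n - 4 → 1 ≤ j → L ↥S (j + 1) ≤ ⁅L ↥S j, K⁆ := by
    intro i
    induction i with
    | zero =>
      intro j hj _
      rw [show j = n - 4 by omega, show n - 4 + 1 = n - 3 by omega]
      intro z hz
      obtain ⟨k, rfl⟩ := hR z hz
      show ⁅(k : ↥S), a0⁆ ∈ _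
      rw [← commutatorElement_inv]
      exact inv_mem (Subgroup.commutator_mem_commutator ha0 k.2)
    | succ i ih =>
      intro j hj hj1
      obtain ⟨g, hg, hg'⟩ := exists_step h (j := j) (by omega)
      obtain ⟨e1, e2⟩ := comm_step h hj1 (by omega) (s := w) (fun e => hwM (by
        rwa [twoStep_eq_one h hj1 (by omega)] at e)) hg hg'
      rw [← gen_step h (by omega) (by omega) e1 e2]
      exact sup_le (Subgroup.zpowers_le.2 (Subgroup.commutator_mem_commutator hg hwK))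
        ((ih (j + 1) (by omega) (by omega)).trans (Subgroup.commutator_mono (L_mono (by omega)) le_rfl))
  have hP2 : ∀ (j : ℕ), 1 ≤ j → j + 4 ≤ n →
      (∀ (a : ↥S) (ha : a ∈ L ↥S j) (k : ↥S) (hk : k ∈ K),
        1 ≤ j → ∀ h' : a ∈ K, ⁅δ ⟨a, h'⟩, δ ⟨k, hk⟩⁆ ∈ L ↥S (j + 1)) →
      ∀ x : ↥K, (x : ↥S) ∈ L ↥S (j + 1) → δ x ∈ L ↥S (j + 1) := by
    intro j hj hjn hcomm x hx
    have hle : L ↥S (j + 1) ≤ ((L ↥S (j + 1)).comap δ).map K.subtype := by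
      refine (hgam (n - 4 - j) j (by omega) hj).trans (Subgroup.commutator_le.2 fun a ha k hk => ?_)
      have haK : a ∈ K := L_one_le_twoStep _ (L_mono hj ha)
      refine ⟨⁅(⟨a, haK⟩ : ↥K), (⟨k, hk⟩ : ↥K)⁆, ?_, rfl⟩
      show δ _ ∈ L ↥S (j + 1)
      rw [map_commutatorElement]
      exact hcomm a ha k hk hj haK
    obtain ⟨x', hx', e⟩ := hle hx
    exact Subtype.ext (a1 := x') (a2 := x) e ▸ hx'
  have hL2 : ∀ x : ↥K, (x : ↥S) ∈ L ↥S 2 → δ x ∈ L ↥S 2 :=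
    hP2 1 le_rfl (by omega) fun a ha k hk _ _ => hKK _ (hδK _) _ (hδK _)
  have hLge : ∀ j, 2 ≤ j → j + 3 ≤ n → ∀ x : ↥K, (x : ↥S) ∈ L ↥S j → δ x ∈ L ↥S j := by
    intro j hj
    induction j, hj using Nat.le_induction with
    | base => exact fun _ => hL2
    | succ j hj ih =>
      exact fun hjn => hP2 j (by omega) (by omega) fun a ha k hk _ h' =>
        L_comm (j := 0) (ih (by omega) ⟨a, h'⟩ ha) (Subgroup.mem_top _)
  obtain ⟨h0, hh0, ha0δ⟩ : ∃ h0 ∈ L ↥S (n - 3), δ ⟨a0, hAK ha0⟩ = a0 * h0 :=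
    ⟨_, hφmod ⟨a0, ha0⟩, by rw [mul_inv_cancel_left]; exact hδA ⟨a0, ha0⟩⟩
  have hδψ : ∀ x : ↥K, δ ⁅x, ⟨a0, hAK ha0⟩⁆ = ψ0 ⟨δ x, hδK x⟩ := fun x => by
    rw [map_commutatorElement, ha0δ]
    show _ = ⁅δ x, a0⁆
    rw [comm_mul_right, commutatorElement_eq_one_iff_mul_comm.2 ((hKc _ hh0 _ (hδK x)).symm.eq), mul_one,
      mul_inv_cancel, mul_one]
  -- the last commutator lies on the centre of the transvection
  obtain ⟨cv, hcv⟩ : ∃ j : ℤ, c0 = v ^ j := by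
    obtain ⟨i, e, he, hae⟩ := (d.gen_N hN4).1 a0 (hA ha0)
    have h1 : ⁅a0, w⁆ ∈ Subgroup.zpowers v := by
      rw [hae, comm_mul_left, commutatorElement_eq_one_iff_mul_comm.2 (d.comm e he w d.hw).eq, mul_one,
        mul_inv_cancel, one_mul]
      exact d.m_pow_v i
    have h2 : c0 ∈ Subgroup.zpowers v := by
      show ⁅w, a0⁆ ∈ _
      rw [← commutatorElement_inv]
      exact inv_mem h1
    obtain ⟨j, hj⟩ := Subgroup.mem_zpowers_iff.1 h2
    exact ⟨j, hj.symm⟩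
  have hc0p : c0 ^ p = 1 := d.pow _ (hcv ▸ E₀.zpow_mem d.hv cv)
  have hc01 : c0 ≠ 1 := fun e => hc0 (e ▸ one_mem _)
  have hvA : v ∈ A := (hinf ▸ inf_le_left : H ≤ A) (Subgroup.subset_closure (by simp))
  have huA : u ∈ A := (hinf ▸ inf_le_left : H ≤ A) (Subgroup.subset_closure (by simp))
  have hφv : ∀ (j : ℤ) (hx : v ^ j ∈ A), φ ⟨v ^ j, hx⟩ = v ^ (-j) := fun j hx => by
    rw [show (⟨v ^ j, hx⟩ : ↥A) = ⟨v, hvA⟩ ^ j from Subtype.ext rfl, map_zpow,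
      show φ ⟨v, hvA⟩ = v⁻¹ from ((hval ⟨v, hA hvA⟩).1 rfl).trans hv1, zpow_neg, inv_zpow]
  have hφu : ∀ (j : ℤ) (hx : u ^ j ∈ A), φ ⟨u ^ j, hx⟩ = u ^ j := fun j hx => by
    rw [show (⟨u ^ j, hx⟩ : ↥A) = ⟨u, huA⟩ ^ j from Subtype.ext rfl, map_zpow,
      show φ ⟨u, huA⟩ = u from (hval ⟨u, hA huA⟩).2.1 rfl]
  -- the image of `w`
  obtain ⟨r0, l0, hl0, hδw⟩ := twoStep_decomp h (j := n - 3) (by omega) (by omega) hwK hw1 (hδK ⟨w, hwK⟩)
  have hψw : ∀ (r : ℤ) (l : ↥S) (hl : w ^ r * l ∈ K) (hl' : l ∈ K),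
      ψ0 ⟨w ^ r * l, hl⟩ = c0 ^ r * ⁅l, a0⁆ := fun r l hl hl' => by
    rw [show (⟨w ^ r * l, hl⟩ : ↥K) = ⟨w, hwK⟩ ^ r * ⟨l, hl'⟩ from Subtype.ext (by simp), map_mul, map_zpow]
    rfl
  have hl0K : l0 ∈ K := L_one_le_twoStep _ hl0
  have hc0δ : c0 ^ (-1 : ℤ) = c0 ^ r0 * ⁅l0, a0⁆ := by
    have h1 := hδψ ⟨w, hwK⟩
    have e0 : (⟨δ ⟨w, hwK⟩, hδK _⟩ : ↥K) = ⟨w ^ r0 * l0, hδw ▸ hδK _⟩ := Subtype.ext hδw
    rw [e0, hψw r0 l0 _ hl0K] at h1
    rw [← h1]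
    have hc0A : c0 ∈ A := hAZ (hval0 w)
    have e1 : ⁅(⟨w, hwK⟩ : ↥K), (⟨a0, hAK ha0⟩ : ↥K)⁆ = ⟨c0, hAK hc0A⟩ := Subtype.ext rfl
    rw [e1, hδA ⟨c0, hc0A⟩]
    have e2 : (⟨c0, hc0A⟩ : ↥A) = ⟨v ^ cv, hcv ▸ hc0A⟩ := Subtype.ext hcv
    rw [e2, hφv, hcv, ← zpow_mul, mul_neg, mul_one]
  have hl0a : ⁅l0, a0⁆ ∈ L ↥S (n - 2) := L_mono (by omega) (L_comm hl0 ha0)
  have hr0 : (p : ℤ) ∣ -1 - r0 := by
    refine dvd_of_zpow_mem (p := p) (K := L ↥S (n - 2)) (x := c0) (by rw [hc0p]; exact one_mem _) hc0 ?_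
    rw [sub_eq_add_neg (-1 : ℤ) r0, add_comm, zpow_add, hc0δ, zpow_neg, inv_mul_cancel_left]
    exact hl0a
  have hl01 : ⁅l0, a0⁆ = 1 := by
    have := hc0δ
    rw [zpow_congr hc0p hr0, left_eq_mul] at this
    exact this
  have hl02 : l0 ∈ L ↥S 2 := by
    by_contra hc
    exact hpair l0 hl0 hc a0 ha0 ha0' hl01
  have hδw' : δ ⟨w, hwK⟩ = w⁻¹ * l0 := by
    rw [hδw, ← zpow_congr (d.pow w d.hw) hr0, zpow_neg_one]
  -- the weights
  have hweight : ∀ i j, j + i = n - 4 → 2 ≤ j → ∀ x : ↥K, (x : ↥S) ∈ L ↥S j →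
      ((x : ↥S) ^ ((-1 : ℤ) ^ i))⁻¹ * δ x ∈ L ↥S (j + 1) := by
    intro i
    induction i with
    | zero =>
      intro j hj _ x hx
      rw [pow_zero, zpow_one, show j + 1 = n - 3 by omega]
      have hxA : (x : ↥S) ∈ A := by rwa [show j = n - 4 by omega] at hx
      rw [show x = (⟨(x : ↥S), hAK hxA⟩ : ↥K) from rfl, hδA ⟨x, hxA⟩]
      exact hφmod ⟨x, hxA⟩
    | succ i ih =>
      intro j hj hj2 x hx
      have hjK : L ↥S j ≤ K := (L_mono (by omega)).trans (L_one_le_twoStep _)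
      obtain ⟨g, hg, hg'⟩ := exists_step h (j := j) (by omega)
      have hδg := hLge j hj2 (by omega) ⟨g, hjK hg⟩ hg
      obtain ⟨r, x', hx', hgr⟩ := step_decomp h (by omega) (by omega) hg hg' hδg
      set π := QuotientGroup.mk' (L ↥S (j + 2))
      have one : ∀ {z : ↥S}, z ∈ L ↥S (j + 2) → π z = 1 := fun hz => (QuotientGroup.eq_one_iff _).2 hz
      have cen : ∀ {z : ↥S}, z ∈ L ↥S (j + 1) → ∀ b : ↥S, Commute (π z) (π b) := fun hz b => by
        show _ * _ = _ * _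
        rw [← commutatorElement_eq_one_iff_mul_comm, ← map_commutatorElement]
        exact one (L_comm (j := 0) hz (Subgroup.mem_top b))
      have hgl : Commute (π g) (π l0) := by
        show _ * _ = _ * _
        rw [← commutatorElement_eq_one_iff_mul_comm, ← map_commutatorElement]
        exact one (L_comm hg hl0)
      have hgw : ⁅g, w⁆ ∈ L ↥S (j + 1) := L_comm (j := 0) hg (Subgroup.mem_top w)
      set C := π ⁅g, w⁆
      have hC : C ≠ 1 := fun e => (comm_step h (by omega) (by omega) (fun e => hwM (by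
        rwa [twoStep_eq_one h (show 1 ≤ j by omega) (by omega)] at e)) hg hg').2 ((QuotientGroup.eq_one_iff _).1 e)
      have hCp : C ^ p = 1 := by
        rw [← map_pow]; exact one (step_pow h (by omega) (by omega) hgw)
      have e1 : δ ⁅(⟨g, hjK hg⟩ : ↥K), ⟨w, hwK⟩⁆ = ⁅g ^ r * x', w⁻¹ * l0⁆ := by
        rw [map_commutatorElement, hgr, hδw']
      have e2 : π ⁅g ^ r * x', w⁻¹ * l0⁆ = C ^ (-r) := by
        simp only [C, map_commutatorElement, map_mul, map_inv, map_zpow]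
        have hc : ∀ b, Commute ⁅π g, π w⁆ (π b) := fun b => by rw [← map_commutatorElement]; exact cen hgw b
        have hr1 : ⁅(π g) ^ r, π w⁆ = ⁅π g, π w⁆ ^ r := comm_zpow_left (hc g).symm r
        have hr2 : ⁅(π g) ^ r, (π w)⁻¹⁆ = ⁅π g, π w⁆ ^ (-r) := by
          rw [← zpow_neg_one (π w), comm_zpow_right (by rw [hr1]; exact (hc w).symm.zpow_right r), hr1,
            ← zpow_mul, mul_neg_one]
        rw [comm_mul_left, commutatorElement_eq_one_iff_mul_comm.2 (by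
            rw [← map_inv, ← map_mul]; exact (cen hx' _).eq), mul_one, mul_inv_cancel, one_mul,
          comm_mul_right, commutatorElement_eq_one_iff_mul_comm.2 (hgl.zpow_left r).eq, mul_one,
          mul_inv_cancel, mul_one, hr2]
      have h1 := ih (j + 1) (by omega) (by omega) ⁅(⟨g, hjK hg⟩ : ↥K), ⟨w, hwK⟩⁆ hgw
      rw [e1, show j + 1 + 1 = j + 2 from rfl] at h1
      have h2 : C ^ ((-1 : ℤ) ^ i) = C ^ (-r) := by
        rw [← e2, ← map_zpow]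
        exact QuotientGroup.eq.2 h1
      have hdvd : (p : ℤ) ∣ r - (-1 : ℤ) ^ (i + 1) := by
        have : (p : ℤ) ∣ (-1 : ℤ) ^ i - -r := dvd_of_zpow_eq_one hCp hC (by rw [zpow_sub, h2, mul_inv_cancel])
        rw [pow_succ]
        rwa [show r - (-1 : ℤ) ^ i * -1 = (-1 : ℤ) ^ i - -r by ring]
      obtain ⟨k, y', hy', hxk⟩ := step_decomp h (by omega) (by omega) hg hg' hx
      set π1 := QuotientGroup.mk' (L ↥S (j + 1))
      have one1 : ∀ {z : ↥S}, z ∈ L ↥S (j + 1) → π1 z = 1 := fun hz => (QuotientGroup.eq_one_iff _).2 hz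
      refine (QuotientGroup.eq_one_iff _).1 ?_
      show π1 _ = 1
      have hjK1 : L ↥S (j + 1) ≤ K := (L_mono (by omega)).trans (L_one_le_twoStep _)
      have ex : x = ⟨g, hjK hg⟩ ^ k * ⟨y', hjK1 hy'⟩ := Subtype.ext (by rw [hxk]; simp)
      rw [map_mul, map_inv, map_zpow, inv_mul_eq_one, ex, map_mul δ, map_zpow δ, hgr, Subgroup.coe_mul,
        SubgroupClass.coe_zpow, map_mul π1, map_zpow π1, map_mul π1 ((g ^ r * x') ^ k), map_zpow π1, map_mul π1,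
        map_zpow π1, one1 hy', one1 hx', one1 (hLge (j + 1) (by omega) (by omega) _ hy'), mul_one, mul_one,
        mul_one, ← zpow_mul, ← zpow_mul]
      refine zpow_congr (by rw [← map_pow]; exact one1 (step_pow h (by omega) (by omega) hg)) ?_
      rw [show k * (-1 : ℤ) ^ (i + 1) - r * k = -((r - (-1 : ℤ) ^ (i + 1)) * k) by ring]
      exact (dvd_mul_of_dvd_left hdvd _).neg_right
  -- the image of `g1`
  obtain ⟨i1, l1, hl1, hδg1⟩ := twoStep_decomp h (j := n - 3) (by omega) (by omega) hwK hw1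
    (hδK ⟨g1, L_one_le_twoStep _ hg1⟩)
  obtain ⟨r, x', hx', hl1r⟩ := step_decomp h le_rfl (by omega) hg1 hg1' hl1
  set π3 := QuotientGroup.mk' (L ↥S 3)
  have cen3 : ∀ {z : ↥S}, z ∈ L ↥S 2 → ∀ b : ↥S, Commute (π3 z) (π3 b) := fun hz b => by
    show _ * _ = _ * _
    rw [← commutatorElement_eq_one_iff_mul_comm, ← map_commutatorElement]
    exact (QuotientGroup.eq_one_iff _).2 (L_comm (j := 0) hz (Subgroup.mem_top b))
  have hg1w : ⁅g1, w⁆ ∈ L ↥S 2 := L_comm (j := 0) hg1 (Subgroup.mem_top w)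
  set C := π3 ⁅g1, w⁆
  have hC : C ≠ 1 := fun e => (comm_step h le_rfl (by omega) (j := 1) hwM hg1 hg1').2
    ((QuotientGroup.eq_one_iff _).1 e)
  have hCp : C ^ p = 1 := by
    rw [← map_pow]; exact (QuotientGroup.eq_one_iff _).2 (step_pow h (by omega) (by omega) hg1w)
  have hr : (p : ℤ) ∣ r + 1 := by
    have e1 : δ ⁅(⟨g1, L_one_le_twoStep _ hg1⟩ : ↥K), ⟨w, hwK⟩⁆ = ⁅w ^ i1 * (g1 ^ r * x'), w⁻¹ * l0⁆ := by
      rw [map_commutatorElement, hδg1, hl1r, hδw']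
    have e2 : π3 ⁅w ^ i1 * (g1 ^ r * x'), w⁻¹ * l0⁆ = C ^ (-r) := by
      simp only [C, map_commutatorElement, map_mul, map_inv, map_zpow]
      have hc : ∀ b, Commute ⁅π3 g1, π3 w⁆ (π3 b) := fun b => by rw [← map_commutatorElement]; exact cen3 hg1w b
      have hr1 : ⁅(π3 g1) ^ r, π3 w⁆ = ⁅π3 g1, π3 w⁆ ^ r := comm_zpow_left (hc g1).symm r
      have hr2 : ⁅(π3 g1) ^ r, (π3 w)⁻¹⁆ = ⁅π3 g1, π3 w⁆ ^ (-r) := by
        rw [← zpow_neg_one (π3 w), comm_zpow_right (by rw [hr1]; exact (hc w).symm.zpow_right r), hr1,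
          ← zpow_mul, mul_neg_one]
      have hl0c : ∀ a, ⁅a, π3 l0⁆ = 1 := fun a => by
        obtain ⟨a', rfl⟩ := QuotientGroup.mk'_surjective (L ↥S 3) a
        exact commutatorElement_eq_one_iff_mul_comm.2 (cen3 hl02 a').symm.eq
      rw [comm_mul_right, hl0c, mul_one, mul_inv_cancel, mul_one, comm_mul_left,
        commutatorElement_eq_one_iff_mul_comm.2 ((Commute.refl (π3 w)).inv_right.zpow_left i1).eq, mul_one,
        comm_mul_left, commutatorElement_eq_one_iff_mul_comm.2 (by rw [← map_inv]; exact (cen3 hx' _).eq),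
        mul_one, mul_inv_cancel, one_mul, hr2, ((hc w).zpow_zpow (-r) i1).symm.eq, mul_inv_cancel_right]
    have h1 := hweight (n - 6) 2 (by omega) le_rfl ⁅(⟨g1, L_one_le_twoStep _ hg1⟩ : ↥K), ⟨w, hwK⟩⁆ hg1w
    obtain ⟨e, he⟩ := heven
    rw [e1, Even.neg_one_pow ⟨e - 3, by omega⟩, zpow_one] at h1
    have h2 : C = C ^ (-r) := by
      rw [← e2]
      exact QuotientGroup.eq.2 h1
    refine dvd_of_zpow_eq_one hCp hC ?_
    rw [zpow_add, zpow_one]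
    nth_rw 2 [h2]
    rw [zpow_neg, mul_inv_cancel]
  -- the contradiction
  have hx'a : ⁅x', a0⁆ = 1 :=
    Subgroup.mem_bot.1 (L_eq_bot h (show n - 1 ≤ 2 + (n - 4) + 1 by omega) ▸ L_comm hx' ha0)
  have hx'K : x' ∈ K := L_one_le_twoStep _ (L_mono (by omega) hx')
  have hz1p : z1 ^ p = 1 := d.pow _ (hHE (hH2.ge (L_mono (by omega) hz1)))
  have hz1A : z1 ∈ A := L_mono (by omega) hz1
  have hδz1 : φ ⟨z1, hz1A⟩ = c0 ^ i1 * z1 ^ (-1 : ℤ) := by
    have h1 := hδψ ⟨g1, L_one_le_twoStep _ hg1⟩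
    have hgK : g1 ^ r * x' ∈ K := mul_mem (zpow_mem (L_one_le_twoStep _ hg1) r) hx'K
    have e0 : (⟨δ ⟨g1, L_one_le_twoStep _ hg1⟩, hδK _⟩ : ↥K) =
        ⟨w ^ i1 * (g1 ^ r * x'), mul_mem (zpow_mem hwK i1) hgK⟩ := Subtype.ext (show δ _ = _ by rw [hδg1, hl1r])
    rw [e0, hψw i1 _ _ hgK] at h1
    have e1 : ⁅(⟨g1, L_one_le_twoStep _ hg1⟩ : ↥K), (⟨a0, hAK ha0⟩ : ↥K)⁆ = ⟨z1, hAK hz1A⟩ := Subtype.ext rfl
    rw [e1, hδA ⟨z1, hz1A⟩] at h1
    rw [h1]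
    congr 1
    rw [comm_mul_left, hx'a, mul_one, mul_inv_cancel, one_mul,
      show ⁅g1 ^ r, a0⁆ = z1 ^ r from comm_zpow_left
        ((hKc z1 (L_mono (by omega) hz1) g1 (L_one_le_twoStep _ hg1)).symm) r]
    exact zpow_congr hz1p (by rwa [sub_neg_eq_add])
  have hz1H : z1 ∈ H := hH2.ge (L_mono (by omega) hz1)
  have hvH : Subgroup.zpowers v ≤ H := Subgroup.zpowers_le.2 (Subgroup.subset_closure (by simp))
  obtain ⟨b, v', hv', hz1e⟩ := decomp hvH (fun a ha b hb => d.comm a (hHE ha) b (hHE hb))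
    (by rw [Nat.card_zpowers, orderOf_eq_prime (d.pow v d.hv) d.v_ne, hHc, pow_two])
    (Subgroup.subset_closure (by simp)) d.huv hz1H
  obtain ⟨a, rfl⟩ := Subgroup.mem_zpowers_iff.1 hv'
  have hφz1 : φ ⟨z1, hz1A⟩ = u ^ (b : ℤ) * v ^ (-a) := by
    have e : (⟨z1, hz1A⟩ : ↥A) = ⟨u ^ (b : ℤ), A.zpow_mem huA _⟩ * ⟨v ^ a, A.zpow_mem hvA _⟩ :=
      Subtype.ext (by simpa using hz1e)
    rw [e, map_mul, hφu, hφv]
  have hcom : Commute u v := d.comm u d.hu v d.hv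
  have h2b : u ^ (2 * (b : ℤ)) ∈ Subgroup.zpowers v := by
    refine ⟨cv * i1, ?_⟩
    show v ^ (cv * i1) = u ^ (2 * (b : ℤ))
    have h1 := hφz1.symm.trans hδz1
    rw [hz1e, ← zpow_natCast, hcv, ← zpow_mul, zpow_neg_one, mul_inv_rev, ← zpow_neg, ← zpow_neg,
      ← mul_assoc, ← zpow_add] at h1
    calc v ^ (cv * i1) = v ^ (cv * i1 + -a) * u ^ (-(b : ℤ)) * (v ^ (-a) * u ^ (-(b : ℤ)))⁻¹ := by
          rw [zpow_add]; group
      _ = u ^ (b : ℤ) * v ^ (-a) * (v ^ (-a) * u ^ (-(b : ℤ)))⁻¹ := by rw [h1]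
      _ = _ := by
        rw [mul_inv_rev, ← zpow_neg, ← zpow_neg, neg_neg, neg_neg, ← mul_assoc, mul_assoc (u ^ (b : ℤ)),
          (hcom.symm.zpow_zpow (-a) (b : ℤ)).eq]
        group
  have hb : (p : ℤ) ∣ 2 * (b : ℤ) := dvd_of_zpow_mem (p := p) (by rw [d.pow u d.hu]; exact one_mem _) d.huv h2b
  have hb' : (p : ℤ) ∣ (b : ℤ) := ((Nat.prime_iff_prime_int.1 hp.out).dvd_mul.1 hb).resolve_left fun e => hp2
    ((Nat.prime_dvd_prime_iff_eq hp.out Nat.prime_two).1 (Int.natCast_dvd_natCast.1 e))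
  have hz1v : z1 ∈ Subgroup.zpowers v := by
    rw [hz1e, ← zpow_natCast, zpow_congr (j := 0) (d.pow u d.hu) (by rwa [sub_zero]), zpow_zero, one_mul]
    exact ⟨a, rfl⟩
  have hc0z : c0 ∈ Subgroup.zpowers z1 := by
    rw [zpowers_eq_of_card (H := Subgroup.zpowers v)
      (by rw [Nat.card_zpowers, orderOf_eq_prime (d.pow v d.hv) d.v_ne]) hz1v hz1']
    exact ⟨cv, hcv.symm⟩
  exact hc0 (Subgroup.zpowers_le.2 hz1 hc0z)

end Data

end Cfsg.Agent.Lib.RankThree
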