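import Cfsg.Agent.Lib.Blocks.RankThree

/-!
Maps of the system on the normalizer fix the normal line.
-/

set_option autoImplicit false
set_option linter.unusedSectionVars false
set_option linter.style.haveILetI false

namespace Cfsg.Agent.Lib.RankThree

open scoped commutatorElement
open Cfsg Cfsg.FusionSystem Cfsg.Agent.Lib.Fusion
open Cfsg.Agent.Lib.MaxClassPower Cfsg.Agent.Lib.MaxClassUniform Cfsg.Agent.Lib.MaxClassDegree

universe u

variable {p : ℕ} [hp : Fact p.Prime]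

/-- An abelian group over a subgroup of index `p`. -/
theorem decomp {X : Type*} [Group X] [Finite X] {H K : Subgroup X} (hHK : H ≤ K)
    (hK : ∀ a ∈ K, ∀ b ∈ K, Commute a b) (hc : Nat.card H * p = Nat.card K) {x : X} (hx : x ∈ K) (hxH : x ∉ H)
    {k : X} (hk : k ∈ K) : ∃ i : ℕ, ∃ h ∈ H, k = x ^ i * h := by
  haveI : (H.subgroupOf K).Normal := ⟨fun a ha b => by
    rwa [show b * a * b⁻¹ = a from Subtype.ext (by
      show (b : X) * a * (b : X)⁻¹ = a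
      rw [(hK b b.2 a a.2).eq, mul_inv_cancel_right])]⟩
  have hidx : (H.subgroupOf K).index = p := by
    have e := Subgroup.card_mul_index (H.subgroupOf K)
    rw [Nat.card_congr (Subgroup.subgroupOfEquivOfLe hHK).toEquiv, ← hc] at e
    exact Nat.eq_of_mul_eq_mul_left Nat.card_pos e
  have hq : (QuotientGroup.mk ⟨x, hx⟩ : ↥K ⧸ H.subgroupOf K) ≠ 1 := fun e =>
    hxH ((QuotientGroup.eq_one_iff (⟨x, hx⟩ : ↥K)).1 e)
  have hcard : Nat.card (↥K ⧸ H.subgroupOf K) = p := by rw [← Subgroup.index_eq_card, hidx]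
  have hmem : (QuotientGroup.mk ⟨k, hk⟩ : ↥K ⧸ H.subgroupOf K) ∈
      Subgroup.zpowers (QuotientGroup.mk ⟨x, hx⟩ : ↥K ⧸ H.subgroupOf K) := by
    rw [zpowers_eq_top_of_prime_card hcard hq]; trivial
  obtain ⟨i, hi⟩ := mem_powers_iff_mem_zpowers.2 hmem
  have h2 := (QuotientGroup.eq (s := H.subgroupOf K)).1 (show (QuotientGroup.mk ((⟨x, hx⟩ : ↥K) ^ i) :
    ↥K ⧸ H.subgroupOf K) = QuotientGroup.mk ⟨k, hk⟩ from hi)
  exact ⟨i, (x ^ i)⁻¹ * k, h2, by group⟩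

variable {Ω : Type u} [Group Ω] {S : Subgroup Ω} [Finite S] {F : FusionSystem S}

namespace Data

variable {E₀ : Subgroup ↥S} {m v u w : ↥S} {n : ℕ}

set_option quotPrecheck false in
local notation "𝒩" => Subgroup.normalizer (E₀ : Set (Subtype (· ∈ S)))

theorem E_decomp (d : Data F p E₀ m v u w) {e : ↥S} (he : e ∈ E₀)
    (hw : w ∉ Subgroup.closure ({v, u} : Set ↥S)) :
    ∃ i : ℕ, ∃ h ∈ Subgroup.closure ({v, u} : Set ↥S), e = w ^ i * h := by
  obtain ⟨hc, hle, -⟩ := d.card_closure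
  exact decomp hle d.comm (by rw [hc, d.card, ← pow_succ]) d.hw hw he

theorem w_notMem (d : Data F p E₀ m v u w) : w ∉ Subgroup.closure ({v, u} : Set ↥S) := by
  intro hw
  have hle : Subgroup.closure ({v, u} : Set ↥S) ≤ Subgroup.centralizer ({m} : Set ↥S) :=
    (Subgroup.closure_le _).2 (by
      rintro _ (rfl | rfl)
      exacts [Subgroup.mem_centralizer_singleton_iff.2 d.mv.eq.symm, Subgroup.mem_centralizer_singleton_iff.2 d.mu.eq.symm])
  exact d.mw (commutatorElement_eq_one_iff_mul_comm.2 (Subgroup.mem_centralizer_singleton_iff.1 (hle hw)).symm)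

/-- Every map of the system on the normalizer that preserves the axis fixes a normal abelian
subgroup of order `p ^ 3` of the normalizer. -/
theorem line (d : Data F p E₀ m v u w) (h5 : 5 ≤ n) (hn : Nat.card ↥S = p ^ n) {A : Subgroup ↥S} [A.Normal]
    (hA : A ≤ 𝒩) (hAc : Nat.card A = p ^ 3) (hAab : ∀ x ∈ A, ∀ y ∈ A, Commute x y) {y : ↥S}
    (hEy : ∀ e ∈ E₀, ⁅e, y⁆ ∈ A) (hAy : ∀ a ∈ A, ⁅a, y⁆ ∈ E₀) (hy : y ∉ 𝒩)
    {β : ↥𝒩 →* ↥S} (hβ : IsHom F 𝒩 β) (hβN : ∀ x, β x ∈ 𝒩)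
    (hH : ∀ x : ↥𝒩, (x : ↥S) ∈ Subgroup.closure ({v, u} : Set ↥S) →
      β x ∈ Subgroup.closure ({v, u} : Set ↥S))
    (x : ↥𝒩) (hx : (x : ↥S) ∈ A) : β x ∈ A := by
  obtain ⟨-, hN4, hinf, hwA, hdec⟩ := d.frame h5 hn hA hAc hAab
  obtain ⟨hHc, hHE, -⟩ := d.card_closure
  set H := Subgroup.closure ({v, u} : Set ↥S)
  have hHA : H ≤ A := hinf ▸ inf_le_left
  have hinv : ∀ {a g : ↥S}, a ∈ A → g * a * g⁻¹ ∈ A := fun ha => Subgroup.Normal.conj_mem ‹_› _ ha _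
  have hyH : ∀ k ∈ H, y * k * y⁻¹ ∈ H := fun k hk => by
    have h1 : ⁅k, y⁆ ∈ E₀ := hAy k (hHA hk)
    have e : y * k * y⁻¹ = ⁅k, y⁆⁻¹ * k := by simp only [commutatorElement_def]; group
    rw [← hinf]
    exact ⟨hinv (hHA hk), e ▸ E₀.mul_mem (E₀.inv_mem h1) (hHE hk)⟩
  set x1 := ⁅y, w⁆ with hx1def
  have hx1 : x1 ∈ A := by rw [hx1def, ← commutatorElement_inv]; exact inv_mem (hEy w d.hw)
  have hx1H : x1 ∉ H := fun hc => hy (mem_normalizer_of_finite fun e he => by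
    obtain ⟨i, k, hk, rfl⟩ := d.E_decomp he d.w_notMem
    rw [show y * (w ^ i * k) * y⁻¹ = (x1 * w) ^ i * (y * k * y⁻¹) by
      rw [show x1 * w = y * w * y⁻¹ by simp only [hx1def, commutatorElement_def]; group, conj_pow]; group]
    exact E₀.mul_mem (E₀.pow_mem (E₀.mul_mem (hHE hc) d.hw) i) (hHE (hyH k hk)))
  have horb : ∀ i : ℕ, ∃ k ∈ H, y ^ i * w * (y ^ i)⁻¹ = x1 ^ i * w * k := by
    intro i
    induction i with
    | zero => exact ⟨1, one_mem _, by simp⟩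
    | succ i ih =>
      obtain ⟨k, hk, e⟩ := ih
      set l := ⁅y, x1⁆
      have hl : l ∈ H := by
        rw [← hinf]
        refine ⟨?_, by show ⁅y, x1⁆ ∈ E₀; rw [← commutatorElement_inv]; exact E₀.inv_mem (hAy x1 hx1)⟩
        exact A.mul_mem (hinv hx1) (A.inv_mem hx1)
      have hlx : Commute l x1 := hAab l (hHA hl) x1 hx1
      have hlw : Commute (l ^ i) w := d.comm _ (E₀.pow_mem (hHE hl) i) w d.hw
      refine ⟨l ^ i * (y * k * y⁻¹), H.mul_mem (H.pow_mem hl i) (hyH k hk), ?_⟩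
      calc y ^ (i + 1) * w * (y ^ (i + 1))⁻¹ = y * (y ^ i * w * (y ^ i)⁻¹) * y⁻¹ := by
            rw [pow_succ']; group
        _ = (y * x1 * y⁻¹) ^ i * (y * w * y⁻¹) * (y * k * y⁻¹) := by rw [e, conj_pow]; group
        _ = (l * x1) ^ i * (x1 * w) * (y * k * y⁻¹) := by
            simp only [l, hx1def, commutatorElement_def]; group
        _ = _ := by
            rw [hlx.mul_pow, (hlx.pow_pow i i).eq, pow_succ]
            calc x1 ^ i * l ^ i * (x1 * w) * (y * k * y⁻¹) = x1 ^ i * (l ^ i * x1) * w * (y * k * y⁻¹) := by group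
              _ = x1 ^ i * x1 * (l ^ i * w) * (y * k * y⁻¹) := by rw [(hlx.pow_left i).eq]; group
              _ = _ := by rw [hlw.eq]; group
  by_contra hcon
  haveI hHn : (H.subgroupOf 𝒩).Normal := ⟨fun a ha b => by
    show ((b * a * b⁻¹ : ↥𝒩) : ↥S) ∈ H
    rw [← hinf]
    exact ⟨hinv (hHA ha), d.conj_mem b.2 (hHE ha)⟩⟩
  set A' := (A.subgroupOf 𝒩).map β with hA'
  have hinj := hβ.injective
  have hA'c : Nat.card A' = p ^ 3 := by
    rw [hA', Subgroup.card_map_of_injective hinj, Nat.card_congr (Subgroup.subgroupOfEquivOfLe hA).toEquiv, hAc]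
  have hH' : (H.subgroupOf 𝒩).map β = H := by
    refine Subgroup.eq_of_le_of_card_ge ?_ ?_
    · rintro _ ⟨a, ha, rfl⟩; exact hH a ha
    · rw [Subgroup.card_map_of_injective hinj, Nat.card_congr (Subgroup.subgroupOfEquivOfLe (hHE.trans d.le_N)).toEquiv]
  have hHA' : H ≤ A' := hH' ▸ Subgroup.map_mono (fun a ha => hHA ha)
  have hqA : β x ∈ A' := ⟨x, hx, rfl⟩
  obtain ⟨a, ha, e, he, hae⟩ := hdec (β x) (hβN x)
  obtain ⟨r, k, hk, rfl⟩ := d.E_decomp he d.w_notMem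
  obtain ⟨j, k', hk', rfl⟩ := decomp hHA hAab (by rw [hHc, hAc, ← pow_succ]) hx1 hx1H ha
  have hr : ¬ p ∣ r := by
    rintro ⟨t, rfl⟩
    refine hcon ?_
    rw [hae, pow_mul, d.pow w d.hw, one_pow, one_mul]
    exact A.mul_mem ha (hHA hk)
  -- in the quotient by the axis
  let π := QuotientGroup.mk' (H.subgroupOf 𝒩)
  have hQc : Nat.card (↥𝒩 ⧸ H.subgroupOf 𝒩) = p ^ 2 := by
    rw [← Subgroup.index_eq_card]
    have e := Subgroup.card_mul_index (H.subgroupOf 𝒩)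
    rw [Nat.card_congr (Subgroup.subgroupOfEquivOfLe (hHE.trans d.le_N)).toEquiv, hHc, hN4,
      show p ^ 4 = p ^ 2 * p ^ 2 by ring] at e
    exact Nat.eq_of_mul_eq_mul_left (pow_pos hp.out.pos 2) e
  obtain ⟨r', hr'⟩ : ∃ r', r * r' ≡ 1 [MOD p] := by
    refine ⟨((r : ZMod p)⁻¹).val, (ZMod.natCast_eq_natCast_iff _ _ p).1 ?_⟩
    rw [Nat.cast_mul, ZMod.natCast_zmod_val, Nat.cast_one,
      mul_inv_cancel₀ (fun e => hr ((ZMod.natCast_eq_zero_iff r p).1 e))]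
  obtain ⟨l, hl, hli⟩ := horb (j * r')
  set g := y ^ (j * r')
  let X1 : ↥𝒩 := ⟨x1, hA hx1⟩
  let W : ↥𝒩 := ⟨w, d.le_N d.hw⟩
  have hH1 : ∀ {z : ↥𝒩}, (z : ↥S) ∈ H → π z = 1 := fun hz => (QuotientGroup.eq_one_iff _).2 hz
  have hcq : ∀ a b : ↥𝒩, Commute (π a) (π b) := fun a b => IsPGroup.commutative_of_card_eq_prime_sq hQc _ _
  set q : ↥𝒩 := ⟨β x, hβN x⟩
  have hq : π q = π X1 ^ j * π W ^ r := by
    have eq1 : q = X1 ^ j * ⟨k', d.le_N (hHE hk')⟩ * (W ^ r * ⟨k, d.le_N (hHE hk)⟩) := Subtype.ext hae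
    rw [eq1, map_mul, map_mul, map_mul, map_pow, map_pow, hH1 (z := ⟨k', d.le_N (hHE hk')⟩) hk',
      hH1 (z := ⟨k, d.le_N (hHE hk)⟩) hk, mul_one, mul_one]
  have hWp : π W ^ p = 1 := by
    rw [← map_pow, show W ^ p = 1 from Subtype.ext (d.pow w d.hw), map_one]
  have hmem : g * w * g⁻¹ ∈ A' := by
    have h1 : g * w * g⁻¹ ∈ 𝒩 := by
      rw [hli]
      exact mul_mem (mul_mem (pow_mem (hA hx1) _) (d.le_N d.hw)) (d.le_N (hHE hl))
    have h2 : π ⟨g * w * g⁻¹, h1⟩ = π (q ^ r') := by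
      have eq1 : (⟨g * w * g⁻¹, h1⟩ : ↥𝒩) = X1 ^ (j * r') * W * ⟨l, d.le_N (hHE hl)⟩ := Subtype.ext hli
      rw [eq1, map_mul, map_mul, map_pow, hH1 (z := ⟨l, d.le_N (hHE hl)⟩) hl, mul_one, map_pow, hq,
        ((hcq X1 W).pow_pow j r).mul_pow, ← pow_mul, ← pow_mul,
        show π W ^ (r * r') = π W ^ 1 from pow_eq_pow_iff_modEq.2 (hr'.of_dvd (orderOf_dvd_of_pow_eq_one hWp)),
        pow_one]
    have h3 := (QuotientGroup.eq (s := H.subgroupOf 𝒩)).1 h2.symm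
    have := A'.mul_mem (A'.pow_mem hqA r') (hHA' h3)
    simpa [q] using this
  refine d.noConj A ‹_› 𝒩 β hβ hA g (Eq.symm (Subgroup.eq_of_le_of_card_ge ?_ ?_))
  · rintro _ ⟨e', he', rfl⟩
    obtain ⟨i, k'', hk'', rfl⟩ := d.E_decomp he' d.w_notMem
    show g * (w ^ i * k'') * g⁻¹ ∈ A'
    rw [show g * (w ^ i * k'') * g⁻¹ = (g * w * g⁻¹) ^ i * (g * k'' * g⁻¹) by rw [conj_pow]; group]
    refine A'.mul_mem (A'.pow_mem hmem i) (hHA' ?_)
    have : ∀ i : ℕ, ∀ z ∈ H, y ^ i * z * (y ^ i)⁻¹ ∈ H := by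
      intro i
      induction i with
      | zero => intro z hz; simpa using hz
      | succ i ih =>
        intro z hz
        have := hyH _ (ih z hz)
        rwa [show y * (y ^ i * z * (y ^ i)⁻¹) * y⁻¹ = y ^ (i + 1) * z * (y ^ (i + 1))⁻¹ by rw [pow_succ']; group] at this
    exact this _ k'' hk''
  · rw [hA'c, Subgroup.card_map_of_injective (MulEquiv.injective _), d.card]

end Data

end Cfsg.Agent.Lib.RankThree
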