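import Cfsg.Agent.Lib.Blocks.RankThreeLine
import Cfsg.Agent.Lib.Fusion.ModelBasic

/-!
Elementary abelian essential subgroups of order `p ^ 3`: the torus, and the case of order `p ^ 5`.
-/

set_option autoImplicit false
set_option linter.unusedSectionVars false
set_option linter.style.haveILetI false

namespace Cfsg.Agent.Lib.RankThree

open scoped commutatorElement
open Cfsg Cfsg.FusionSystem Cfsg.Agent.Lib.Fusion
open Cfsg.Agent.Lib.MaxClassPower Cfsg.Agent.Lib.MaxClassUniform Cfsg.Agent.Lib.MaxClassDegree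

universe u

section MaxClass

variable {G : Type u} [Group G] [Finite G] {p : ℕ} [hp : Fact p.Prime] {n : ℕ}

theorem normal_of_L_one_le {K : Subgroup G} (hK : L G 1 ≤ K) : K.Normal := ⟨fun k hk g => by
  have h1 : ⁅g, k⁆ ∈ K := hK (L_comm (i := 0) (j := 0) (Subgroup.mem_top g) (Subgroup.mem_top k))
  have := K.mul_mem h1 hk
  rwa [commutatorElement_def, inv_mul_cancel_right] at this⟩

instance twoStep_normal (j : ℕ) : (twoStep G j).Normal := normal_of_L_one_le (L_one_le_twoStep j)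

theorem sup_eq_twoStep (h : MaxClass G p n) {j : ℕ} (h1 : 1 ≤ j) (hj : j + 3 ≤ n) {x : G} (hx : x ∈ twoStep G j)
    (hxL : x ∉ L G 1) : Subgroup.zpowers x ⊔ L G 1 = twoStep G j := by
  have hle : Subgroup.zpowers x ⊔ L G 1 ≤ twoStep G j :=
    sup_le (Subgroup.zpowers_le.mpr hx) (L_one_le_twoStep j)
  refine Subgroup.eq_of_le_of_card_ge hle ?_
  have hlt : L G 1 < Subgroup.zpowers x ⊔ L G 1 :=
    lt_of_le_of_ne le_sup_right fun e => hxL (by rw [e]; exact Subgroup.mem_sup_left (Subgroup.mem_zpowers x))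
  have e1 := PGroups.card_mul_le_of_lt ((isPGroup h).to_subgroup _) hlt
  have e2 := (twoStep G j).card_mul_index
  rw [index_twoStep h h1 hj, h.card] at e2
  rw [cardL h le_rfl (by omega), ← pow_succ, show n - 1 - 1 + 1 = n - 1 by omega] at e1
  have e3 : Nat.card (twoStep G j) = p ^ (n - 1) := Nat.eq_of_mul_eq_mul_right hp.out.pos
    (by rw [e2, ← pow_succ, show n - 1 + 1 = n by omega])
  rw [e3]; exact e1

theorem twoStep_decomp (h : MaxClass G p n) {j : ℕ} (h1 : 1 ≤ j) (hj : j + 3 ≤ n) {x : G} (hx : x ∈ twoStep G j)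
    (hxL : x ∉ L G 1) {g : G} (hg : g ∈ twoStep G j) : ∃ r : ℤ, ∃ l ∈ L G 1, g = x ^ r * l := by
  rw [← sup_eq_twoStep h h1 hj hx hxL] at hg
  obtain ⟨y, hy, l, hl, rfl⟩ := Subgroup.mem_sup_of_normal_right.1 hg
  obtain ⟨r, rfl⟩ := Subgroup.mem_zpowers_iff.1 hy
  exact ⟨r, l, hl, rfl⟩

theorem comm_twoStep_one (h : MaxClass G p n) (h4 : 4 ≤ n) {x y : G} (hx : x ∈ twoStep G 1)
    (hy : y ∈ twoStep G 1) : ⁅x, y⁆ ∈ L G 3 := by
  obtain ⟨a, ha, ha'⟩ := exists_twoStep_notMem h (j := 1) le_rfl (by omega)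
  set π := QuotientGroup.mk' (L G 3)
  have hL : ∀ l ∈ L G 1, ∀ z ∈ twoStep G 1, Commute (π l) (π z) := fun l hl z hz => by
    show _ * _ = _ * _
    rw [← commutatorElement_eq_one_iff_mul_comm, ← map_commutatorElement]
    exact (QuotientGroup.eq_one_iff _).mpr (mem_twoStep.mp hz l hl)
  obtain ⟨r, l, hl, rfl⟩ := twoStep_decomp h le_rfl (by omega) ha ha' hx
  obtain ⟨r', l', hl', rfl⟩ := twoStep_decomp h le_rfl (by omega) ha ha' hy
  refine (QuotientGroup.eq_one_iff _).mp ?_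
  show π _ = 1
  rw [map_commutatorElement, commutatorElement_eq_one_iff_mul_comm, map_mul, map_mul, map_zpow, map_zpow]
  exact (((Commute.refl (π a)).zpow_zpow r r').mul_right ((hL l' hl' a ha).symm.zpow_left r)).mul_left
    (((hL l hl a ha).zpow_right r').mul_right (hL l hl l' (L_one_le_twoStep 1 hl'))) |>.eq

theorem commute_L_sub_four (h : MaxClass G p n) (h5 : 5 ≤ n) :
    ∀ x ∈ L G (n - 4), ∀ y ∈ L G (n - 4), Commute x y := by
  obtain ⟨g, hg, hg'⟩ := exists_step h (j := n - 4) (by omega)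
  have h3 : ∀ a ∈ L G (n - 3), ∀ b ∈ L G (n - 4), Commute a b := fun a ha b hb =>
    commutatorElement_eq_one_iff_mul_comm.mp
      (Subgroup.mem_bot.mp (L_eq_bot h (show n - 1 ≤ n - 3 + (n - 4) + 1 by omega) ▸ L_comm ha hb))
  have hdec : ∀ x ∈ L G (n - 4), ∃ r : ℤ, ∃ l ∈ L G (n - 3), x = g ^ r * l := fun x hx => by
    rw [← gen_step h (by omega) (by omega) hg hg', show n - 4 + 1 = n - 3 by omega] at hx
    obtain ⟨y, hy, l, hl, rfl⟩ := Subgroup.mem_sup_of_normal_right.1 hx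
    obtain ⟨r, rfl⟩ := Subgroup.mem_zpowers_iff.1 hy
    exact ⟨r, l, hl, rfl⟩
  intro x hx y hy
  obtain ⟨r, l, hl, rfl⟩ := hdec x hx
  obtain ⟨r', l', hl', rfl⟩ := hdec y hy
  exact (((Commute.refl g).zpow_zpow r r').mul_right ((h3 l' hl' g hg).symm.zpow_left r)).mul_left
    (((h3 l hl g hg).zpow_right r').mul_right (h3 l hl l' (L_mono (by omega) hl')))

end MaxClass

variable {p : ℕ} [hp : Fact p.Prime] {Ω : Type u} [Group Ω] {S : Subgroup Ω} [Finite S] {F : FusionSystem S}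

/-- An automorphism in the system from a map with image in its source. -/
theorem IsHom.exists_aut {K : Subgroup ↥S} {φ : ↥K →* ↥S} (h : IsHom F K φ) (hK : ∀ x, φ x ∈ K) :
    ∃ b ∈ F.autGroup (K.map S.subtype), ∀ x : ↥K,
      ((b ⟨(x : ↥S), Subgroup.mem_map_of_mem _ x.2⟩ : ↥(K.map S.subtype)) : Ω) = φ x := by
  obtain ⟨ψ, hψ, he⟩ := h
  haveI : Finite ↥(K.map S.subtype) := finite_of_le (map_le_S K)
  have hr : ψ.range = K.map S.subtype := by
    refine Subgroup.eq_of_le_of_card_ge ?_ (card_range_eq (F.injective_of_mem hψ)).ge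
    rintro _ ⟨⟨_, x, hx, rfl⟩, rfl⟩
    exact ⟨φ ⟨x, hx⟩, hK _, (he ⟨x, hx⟩).symm⟩
  refine ⟨isoOf ψ (F.injective_of_mem hψ) hr, mem_autGroup_of_hom F ?_, fun x => he x⟩
  rw [show autHom (isoOf ψ (F.injective_of_mem hψ) hr) = ψ from MonoidHom.ext fun _ => rfl]
  exact hψ

namespace Data

variable {E₀ : Subgroup ↥S} {m v u w : ↥S} {n : ℕ}

set_option quotPrecheck false in
local notation "𝒩" => Subgroup.normalizer (E₀ : Set (Subtype (· ∈ S)))

/-- The torus acting on a normal abelian subgroup of order `p ^ 3` of the normalizer. -/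
theorem setup (d : Data F p E₀ m v u w) (h5 : 5 ≤ n) (hn : Nat.card ↥S = p ^ n) {A : Subgroup ↥S} [A.Normal]
    (hA : A ≤ 𝒩) (hAc : Nat.card A = p ^ 3) (hAab : ∀ x ∈ A, ∀ y ∈ A, Commute x y) {y : ↥S}
    (hEy : ∀ e ∈ E₀, ⁅e, y⁆ ∈ A) (hAy : ∀ a ∈ A, ⁅a, y⁆ ∈ E₀) (hy : y ∉ 𝒩) (c c' : ℕ)
    (hcc : (c : ZMod p) * c' = 1) :
    ∃ β : ↥𝒩 →* ↥S, IsHom F 𝒩 β ∧ (∀ x, β x ∈ 𝒩) ∧ (∀ x : ↥𝒩, (x : ↥S) ∈ A → β x ∈ A) ∧
      (∀ x : ↥𝒩, ((x : ↥S) = v → β x = v ^ c) ∧ ((x : ↥S) = u → β x = u) ∧ ((x : ↥S) = w → β x = w ^ c')) ∧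
      ∀ x : ↥𝒩, (x : ↥S) ∈ A → ((x : ↥S) ^ (c * c))⁻¹ * β x ∈ Subgroup.closure ({v, u} : Set ↥S) := by
  obtain ⟨β, hβ, hβN, hval⟩ := d.torus c c' hcc
  obtain ⟨-, hN4, hinf, -, -⟩ := d.frame h5 hn hA hAc hAab
  obtain ⟨-, hHE, -⟩ := d.card_closure
  set H := Subgroup.closure ({v, u} : Set ↥S)
  have hH : ∀ x : ↥𝒩, (x : ↥S) ∈ H → β x ∈ H := by
    have hle : H ≤ (H.comap β).map (𝒩).subtype := by
      refine (Subgroup.closure_le _).2 ?_
      rintro _ (rfl | rfl)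
      · refine ⟨⟨_, d.le_N d.hv⟩, ?_, rfl⟩
        show β _ ∈ H
        rw [(hval ⟨_, d.le_N d.hv⟩).1 rfl]
        exact pow_mem (Subgroup.subset_closure (by simp)) _
      · refine ⟨⟨_, d.le_N d.hu⟩, ?_, rfl⟩
        show β _ ∈ H
        rw [(hval ⟨_, d.le_N d.hu⟩).2.1 rfl]
        exact Subgroup.subset_closure (by simp)
    intro x hx
    obtain ⟨x', hx', e⟩ := hle hx
    exact Subtype.ext (a1 := x') (a2 := x) e ▸ hx'
  have hA' := d.line h5 hn hA hAc hAab hEy hAy hy hβ hβN hH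
  refine ⟨β, hβ, hβN, hA', fun x => ⟨(hval x).1, (hval x).2.1, (hval x).2.2.1⟩, fun x hx => ?_⟩
  rw [← hinf]
  refine ⟨A.mul_mem (A.inv_mem (A.pow_mem hx _)) (hA' x hx), ?_⟩
  haveI hEn : (E₀.subgroupOf 𝒩).Normal := Subgroup.normal_in_normalizer
  obtain ⟨i, e, he, hxe⟩ := (d.gen_N hN4).1 x x.2
  set π := QuotientGroup.mk' (E₀.subgroupOf 𝒩)
  let M : ↥𝒩 := ⟨m, d.hm⟩
  have h1 : ∀ {z : ↥𝒩}, (z : ↥S) ∈ E₀ → π z = 1 := fun hz => (QuotientGroup.eq_one_iff _).2 hz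
  have hxM : x = M ^ i * ⟨e, d.le_N he⟩ := Subtype.ext hxe
  have hM : π ⟨β M, hβN M⟩ = π M ^ (c * c) := by
    rw [← map_pow]
    exact (QuotientGroup.eq.2 (show ((M ^ (c * c))⁻¹ * ⟨β M, hβN M⟩ : ↥𝒩) ∈ E₀.subgroupOf 𝒩 from
      (hval M).2.2.2.2 rfl)).symm
  have hx1 : π ⟨β x, hβN x⟩ = π x ^ (c * c) := by
    have e1 : (⟨β x, hβN x⟩ : ↥𝒩) = ⟨β M, hβN M⟩ ^ i * ⟨β ⟨e, d.le_N he⟩, hβN _⟩ :=
      Subtype.ext (by rw [hxM]; simp)
    rw [e1, map_mul, map_pow, hM, h1 (z := ⟨β _, hβN _⟩) ((hval _).2.2.2.1 he), mul_one, hxM, map_mul, map_pow,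
      h1 (z := ⟨e, d.le_N he⟩) he, mul_one, ← pow_mul, ← pow_mul, mul_comm]
  rw [← map_pow] at hx1
  exact (QuotientGroup.eq (s := E₀.subgroupOf 𝒩)).1 hx1.symm

set_option maxHeartbeats 800000 in
/-- Groups of order `p ^ 5`. -/
theorem case_five (d : Data F p E₀ m v u w) (hS : IsPGroup p S) (hF : F.IsSaturated p) (hp2 : p ≠ 2)
    (h : MaxClass ↥S p n) (h5 : n = 5) (hE : E₀ ≤ twoStep ↥S 1) (hZ : L ↥S 2 ≤ E₀) : False := by
  subst h5
  have hMN : twoStep ↥S 1 ≤ 𝒩 := fun g hg => d.mem_N fun e he =>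
    hZ (L_mono (by omega) (comm_twoStep_one h (by omega) hg (hE he)))
  have hM4 : Nat.card (twoStep ↥S 1) = p ^ 4 := by
    have e := (twoStep ↥S 1).card_mul_index
    rw [index_twoStep h le_rfl (by omega), h.card, pow_succ p 4] at e
    exact Nat.eq_of_mul_eq_mul_right hp.out.pos e
  have hN : twoStep ↥S 1 = 𝒩 := Subgroup.eq_of_le_of_card_ge hMN (d.cardN.trans hM4.ge)
  set A := L ↥S 1
  have hA : A ≤ 𝒩 := (L_one_le_twoStep 1).trans hMN
  have hAc : Nat.card A = p ^ 3 := cardL h le_rfl (by omega)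
  have hAab := commute_L_sub_four h (by omega)
  obtain ⟨-, -, hinf, hwA, -⟩ := d.frame le_rfl h.card hA hAc hAab
  obtain ⟨hHc, hHE, -⟩ := d.card_closure
  set H := Subgroup.closure ({v, u} : Set ↥S)
  have hH2 : H = L ↥S 2 := by
    refine (Subgroup.eq_of_le_of_card_ge (hinf ▸ le_inf (L_mono (by omega)) hZ) ?_).symm
    rw [hHc, cardL h (by omega) (by omega)]
  obtain ⟨s, hs, hsm⟩ := exists_small h (twoStep ↥S 1) (twoStep_ne_top h (by omega))
  obtain ⟨c', hc'⟩ : ∃ c' : ℕ, ((p - 1 : ℕ) : ZMod p) * c' = 1 := ⟨p - 1, by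
    rw [Nat.cast_sub hp.out.one_le, ZMod.natCast_self]; simp⟩
  obtain ⟨β, hβ, hβN, hβA, hval, hmod⟩ := d.setup le_rfl h.card hA hAc hAab (y := s)
    (fun e _ => L_comm (i := 0) (j := 0) (Subgroup.mem_top e) (Subgroup.mem_top s))
    (fun a ha => hZ (L_comm (j := 0) ha (Subgroup.mem_top s))) (fun e => hs (hN ▸ e)) (p - 1) c' hc'
  -- facts about `v`
  have hvL : v ∈ L ↥S 3 := by
    obtain ⟨i, hi⟩ := Subgroup.mem_zpowers_iff.1 (d.hD w d.hw)
    have h1 : v ^ i ∈ L ↥S 3 := hi ▸ comm_twoStep_one h (by omega) (hN ▸ d.hm) (hE d.hw)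
    have hcop : IsCoprime i (p : ℤ) := by
      rw [Int.isCoprime_iff_gcd_eq_one]
      refine (Nat.Prime.coprime_iff_not_dvd hp.out).2 (fun hd => d.mw ?_) |>.symm
      obtain ⟨t, ht⟩ := Int.natCast_dvd.2 hd
      rw [← hi, ht, zpow_mul, zpow_natCast, d.pow v d.hv, one_zpow]
    obtain ⟨a, b, hab⟩ := hcop
    have e : v = (v ^ i) ^ a * (v ^ (p : ℤ)) ^ b := by
      rw [← zpow_mul, ← zpow_mul, ← zpow_add, mul_comm i a, mul_comm (p : ℤ) b, hab, zpow_one]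
    rw [zpow_natCast, d.pow v d.hv, one_zpow, mul_one] at e
    rw [e]; exact zpow_mem h1 a
  have hv1 : v ^ (p - 1) = v⁻¹ :=
    eq_inv_of_mul_eq_one_left (by rw [← pow_succ, Nat.sub_add_cancel hp.out.one_le, d.pow v d.hv])
  have hw1 : ∀ x : ↥𝒩, (x : ↥S) = w → β x = w⁻¹ := by
    intro x hx
    rw [(hval x).2.2 hx]
    refine eq_inv_of_mul_eq_one_left ?_
    rw [← pow_succ]
    obtain ⟨t, ht⟩ : p ∣ c' + 1 := by
      rw [← ZMod.natCast_eq_zero_iff, Nat.cast_succ]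
      rw [Nat.cast_sub hp.out.one_le, ZMod.natCast_self] at hc'
      push_cast at hc'
      linear_combination -hc'
    rw [ht, pow_mul, d.pow w d.hw, one_pow]
  have hcc1 : ∀ {g : ↥S}, g ∈ A → (g ^ ((p - 1) * (p - 1)))⁻¹ * g ∈ L ↥S 2 := fun {g} hg => by
    have hgp : g ^ p ∈ L ↥S 2 := by
      have hi : ((L ↥S 2).subgroupOf A).index = p := by
        have e := Subgroup.card_mul_index ((L ↥S 2).subgroupOf A)
        rw [Nat.card_congr (Subgroup.subgroupOfEquivOfLe (L_mono (by omega))).toEquiv, cardL h (by omega) (by omega),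
          hAc] at e
        exact Nat.eq_of_mul_eq_mul_left (pow_pos hp.out.pos 2) (e.trans (pow_succ p 2))
      have := hi ▸ Subgroup.pow_index_mem ((L ↥S 2).subgroupOf A) ⟨g, hg⟩
      exact this
    obtain ⟨t, ht⟩ : ∃ t, (p - 1) * (p - 1) = p * t + 1 := by
      refine ⟨p - 2, ?_⟩
      have := hp.out.two_le
      rw [Nat.mul_sub, Nat.sub_mul, Nat.mul_sub]
      have : p * 2 ≤ p * p := Nat.mul_le_mul_left p this
      omega
    rw [ht, pow_succ, pow_mul, mul_inv_rev, mul_assoc]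
    rw [← mul_assoc]
    exact Subgroup.Normal.conj_mem' inferInstance _ (inv_mem (pow_mem hgp t)) g
  have hβA1 : ∀ x : ↥𝒩, (x : ↥S) ∈ A → (x : ↥S)⁻¹ * β x ∈ L ↥S 2 := fun x hx => by
    have := mul_mem (inv_mem (hcc1 hx)) (hH2.le (hmod x hx))
    rwa [mul_inv_rev, inv_inv, mul_assoc, mul_inv_cancel_left] at this
  -- the automorphisms of the normalizer
  set No := (𝒩).map S.subtype
  haveI : Finite ↥No := finite_of_le (map_le_S _)
  obtain ⟨b, hb, hbv⟩ := hβ.exists_aut hβN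
  have hNn : (𝒩).Normal := hN ▸ twoStep_normal 1
  have hsN : (s : Ω) ∈ Subgroup.normalizer (No : Set Ω) := mem_normalizer_of_finite (by
    rintro _ ⟨g, hg, rfl⟩
    exact ⟨s * g * s⁻¹, hNn.conj_mem g hg s, rfl⟩)
  let γ : MulAut ↥No := conjAut hsN
  have hγ : γ ∈ F.autGroup No := conjAut_mem_autGroup F (map_le_S _) s.2 hsN
  let ι : ↥No →* ↥S := Subgroup.inclusion (map_le_S (𝒩))
  have hιinj : Function.Injective ι := Subgroup.inclusion_injective _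
  have hιN : ∀ z, ι z ∈ 𝒩 := fun z => by
    obtain ⟨g, hg, e⟩ := z.2
    rwa [show ι z = g from Subtype.ext e.symm]
  let el : ↥𝒩 → ↥No := fun x => ⟨(x : ↥S), Subgroup.mem_map_of_mem _ x.2⟩
  have hιel : ∀ x, ι (el x) = (x : ↥S) := fun _ => rfl
  have hel : ∀ z, ∃ x, el x = z := fun z => ⟨⟨ι z, hιN z⟩, Subtype.ext rfl⟩
  have hιb : ∀ x : ↥𝒩, ι (b (el x)) = β x := fun x => Subtype.ext (hbv x)
  have hιγ : ∀ z, ι (γ z) = s * ι z * s⁻¹ := fun z => Subtype.ext rfl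
  -- the invariant series
  have hMM : ∀ x ∈ 𝒩, ∀ y ∈ 𝒩, ⁅x, y⁆ ∈ L ↥S 3 := fun x hx y hy =>
    comm_twoStep_one h (by omega) (hN ▸ hx) (hN ▸ hy)
  have hcen : ∀ z : ↥No, z ∈ Subgroup.center ↥No ↔ ι z ∈ L ↥S 2 := by
    intro z
    rw [Subgroup.mem_center_iff]
    constructor
    · intro hz
      have hcomm : ∀ g ∈ 𝒩, Commute (ι z) g := fun g hg => by
        have := congrArg ι (hz (el ⟨g, hg⟩))
        rw [map_mul, map_mul, hιel] at this
        exact this.symm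
      rw [← hH2]
      exact d.card_closure.2.2 _ (d.centric _ fun e he => hcomm e (d.le_N he)) (hcomm m d.hm).symm
    · intro hz g
      refine hιinj ?_
      rw [map_mul, map_mul]
      refine (commutatorElement_eq_one_iff_mul_comm.1 ?_).symm
      have h1 := mem_twoStep.1 (show ι g ∈ twoStep ↥S 1 from hN ▸ hιN g)
      have h2 : L ↥S 2 ≤ Subgroup.centralizer ({ι g} : Set ↥S) := fun l hl =>
        Subgroup.mem_centralizer_singleton_iff.2 (by
          have hk : ι g ∈ twoStep ↥S 1 := hN ▸ hιN g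
          obtain ⟨r, e', he', hg'⟩ := (show ∃ i : ℕ, ∃ e ∈ E₀, ι g = m ^ i * e from
            (d.gen_N (by rw [← hN, hM4])).1 _ (hιN g))
          have h3 := hH2 ▸ hl
          have hcl : H ≤ Subgroup.centralizer ({m} : Set ↥S) := (Subgroup.closure_le _).2 (by
            rintro _ (rfl | rfl)
            exacts [Subgroup.mem_centralizer_singleton_iff.2 d.mv.eq.symm, Subgroup.mem_centralizer_singleton_iff.2 d.mu.eq.symm])
          rw [hg']
          exact (((show Commute l m from Subgroup.mem_centralizer_singleton_iff.1 (hcl h3)).pow_right r).mul_right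
            (d.comm l (hHE h3) e' he')).eq)
      exact commutatorElement_eq_one_iff_mul_comm.2 (Subgroup.mem_centralizer_singleton_iff.1 (h2 hz))
  have hcom : ∀ z : ↥No, z ∈ commutator ↥No ↔ ι z ∈ L ↥S 3 := by
    have hle : commutator ↥No ≤ (L ↥S 3).comap ι := by
      rw [commutator_def, Subgroup.commutator_le]
      intro a _ b _
      rw [Subgroup.mem_comap, map_commutatorElement]
      exact hMM _ (hιN a) _ (hιN b)
    refine fun z => ⟨fun hz => hle hz, fun hz => ?_⟩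
    have hne : (commutator ↥No).map ι ≠ ⊥ := fun e => d.mw (by
      have h1 : ι ⁅el ⟨m, d.hm⟩, el ⟨w, d.le_N d.hw⟩⁆ ∈ (commutator ↥No).map ι :=
        Subgroup.mem_map_of_mem _ (Subgroup.commutator_mem_commutator (Subgroup.mem_top _) (Subgroup.mem_top _))
      rw [e, Subgroup.mem_bot, map_commutatorElement] at h1
      exact h1)
    have heq : (commutator ↥No).map ι = L ↥S 3 := by
      have hmle : (commutator ↥No).map ι ≤ L ↥S 3 := Subgroup.map_le_iff_le_comap.2 hle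
      have h3c : Nat.card (L ↥S 3) = p := by rw [cardL h (by omega) (by omega)]; simp
      refine Subgroup.eq_of_le_of_card_ge hmle ?_
      rw [h3c]
      have h1 := Subgroup.card_dvd_of_le hmle
      rw [h3c] at h1
      rcases (Nat.dvd_prime hp.out).1 h1 with e | e
      · exact absurd (Subgroup.card_eq_one.1 e) hne
      · exact e.ge
    obtain ⟨z', hz', e⟩ := heq.ge hz
    rwa [hιinj e] at hz'
  have hinvA : ∀ α ∈ F.autGroup No, ∀ z, ι z ∈ A → ι (α z) ∈ A := by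
    intro α hα z hz
    obtain ⟨φ, hφ, hφv⟩ := isHom_of_mem (H := 𝒩) (autHom_mem F (map_le_S _) hα)
    obtain ⟨x, rfl⟩ := hel z
    have hφx : ∀ x, φ x = ι (α (el x)) := fun x => Subtype.ext (hφv x)
    rw [← hφx]
    refine d.line le_rfl h.card hA hAc hAab (y := s)
      (fun e _ => L_comm (i := 0) (j := 0) (Subgroup.mem_top e) (Subgroup.mem_top s))
      (fun a ha => hZ (L_comm (j := 0) ha (Subgroup.mem_top s))) (fun e => hs (hN ▸ e)) hφ
      (fun x => hφx x ▸ hιN _) (fun x hx => ?_) x hz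
    refine hH2.ge ?_
    have hx : (x : ↥S) ∈ L ↥S 2 := hH2.le hx
    rw [hφx, ← hcen, Subgroup.mem_center_iff]
    intro g
    obtain ⟨g', rfl⟩ := α.surjective g
    rw [← map_mul, ← map_mul, Subgroup.mem_center_iff.1 ((hcen (el x)).2 hx) g']
  let W : ℕ → Subgroup ↥No := fun i => if i = 0 then ⊥ else if i = 1 then commutator ↥No
    else if i = 2 then Subgroup.center ↥No else if i = 3 then A.comap ι else ⊤
  have hW : ∀ α ∈ F.autGroup No, ∀ i, ∀ x ∈ W i, α x ∈ W i := by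
    intro α hα i x hx
    simp only [W] at hx ⊢
    split_ifs at hx ⊢
    · rw [Subgroup.mem_bot] at hx ⊢; rw [hx, map_one]
    · exact (Subgroup.characteristic_iff_le_comap.1 inferInstance α) hx
    · exact (Subgroup.characteristic_iff_le_comap.1 inferInstance α) hx
    · exact hinvA α hα x hx
    · trivial
  have hVv : ∀ z, ι z ∈ L ↥S 3 → ∃ i : ℤ, ι z = v ^ i := by
    intro z hz
    have h1 := gen_step h (j := 3) (by omega) (by omega) hvL (fun e => d.v_ne (by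
      rwa [L_eq_bot h (show 5 - 1 ≤ 3 + 1 by omega), Subgroup.mem_bot] at e))
    rw [L_eq_bot h (show 5 - 1 ≤ 3 + 1 by omega), sup_bot_eq] at h1
    obtain ⟨i, hi⟩ := Subgroup.mem_zpowers_iff.1 (h1.ge hz)
    exact ⟨i, hi.symm⟩
  set δ : MulAut ↥No := b⁻¹ * γ * b * γ with hδ
  have hδA : δ ∈ F.autGroup No :=
    Subgroup.mul_mem _ (Subgroup.mul_mem _ (Subgroup.mul_mem _ (Subgroup.inv_mem _ hb) hγ) hb) hγ
  have hbinv : ∀ z, b⁻¹ (b z) = z := fun z => by rw [MulAut.inv_apply, MulEquiv.symm_apply_apply]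
  -- conjugation by `s` is trivial on every factor
  have hkey : ∀ i < 4, ∀ z ∈ W (i + 1), (b z)⁻¹ * γ (b (γ z)) ∈ W i := by
    intro i hi z hz
    have htriv : ∀ z ∈ W (i + 1), z⁻¹ * γ z ∈ W i := by
      intro z hz
      have e : ι (z⁻¹ * γ z) = ⁅(ι z)⁻¹, s⁆ := by
        rw [map_mul, map_inv, hιγ, commutatorElement_def]; group
      interval_cases i
      · norm_num [W] at hz ⊢
        refine hιinj ?_
        rw [e, map_one, ← Subgroup.mem_bot, ← L_eq_bot h (show 5 - 1 ≤ 3 + 0 + 1 by omega)]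
        exact L_comm (i := 3) (j := 0) (inv_mem ((hcom z).1 hz)) (Subgroup.mem_top s)
      · norm_num [W] at hz ⊢
        rw [hcom, e]
        exact L_comm (i := 2) (j := 0) (inv_mem ((hcen z).1 hz)) (Subgroup.mem_top s)
      · norm_num [W] at hz ⊢
        rw [hcen, e]
        exact L_comm (i := 1) (j := 0) (inv_mem hz) (Subgroup.mem_top s)
      · norm_num [W] at hz ⊢
        rw [← map_inv, ← map_mul, e]
        exact L_comm (i := 0) (j := 0) (Subgroup.mem_top _) (Subgroup.mem_top s)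
    have h1 := htriv z hz
    have hz' : γ z ∈ W (i + 1) := hW γ hγ _ z hz
    have h2 := htriv _ (hW b hb _ _ hz')
    have h3 := hW b hb _ _ h1
    rw [map_mul, map_inv] at h3
    have := (W i).mul_mem h3 h2
    rwa [mul_assoc, mul_inv_cancel_left] at this
  have hstab : ∀ i < 4, ∀ z ∈ W (i + 1), z⁻¹ * δ z ∈ W i := fun i hi z hz => by
    have := hW _ (Subgroup.inv_mem _ hb) i _ (hkey i hi z hz)
    rwa [map_mul, map_inv, hbinv] at this
  obtain ⟨δ', hδ', hδe⟩ := stab_mem_pCore (hS.to_le (map_le_S _)) (F.autGroup No) W 4 rfl rfl hW hδA hstab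
  haveI := finite_mulAut (map_le_S (S := S) 𝒩)
  have hfa := (IsSaturated.automized_receptive hS hF (isFullyNormalized_of_normal (F := F) 𝒩)).1
  obtain ⟨-, R, hR⟩ := hfa
  have hδS : δ ∈ autInducedBy S No := by
    have : δ' ∈ (R : Subgroup ↥(F.autGroup No)) := pCore_le_sylow R hδ'
    rw [hR, Subgroup.mem_subgroupOf] at this
    exact hδe ▸ this
  obtain ⟨g₀, hg₀, hgv⟩ := mem_autInducedBy.1 hδS
  set g : ↥S := ⟨g₀, hg₀⟩
  have hιδ : ∀ z, ι (δ z) = g * ι z * g⁻¹ := fun z => Subtype.ext (hgv z)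
  -- compare on `w` and `[s, w]`
  have hmain : ∀ x : ↥𝒩, ∀ (hgx : g * x * g⁻¹ ∈ 𝒩) (hsx : s * x * s⁻¹ ∈ 𝒩),
      β ⟨g * x * g⁻¹, hgx⟩ = s * β ⟨s * x * s⁻¹, hsx⟩ * s⁻¹ := by
    intro x hgx hsx
    have e1 : el ⟨g * x * g⁻¹, hgx⟩ = δ (el x) := hιinj (by rw [hιδ, hιel, hιel])
    have e2 : el ⟨s * x * s⁻¹, hsx⟩ = γ (el x) := hιinj (by rw [hιγ, hιel, hιel])
    rw [← hιb, ← hιb, e1, e2, ← hιγ]
    congr 1
    show b ((b⁻¹ * γ * b * γ) (el x)) = _
    simp [MulAut.mul_apply]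
  have hconjN : ∀ (t x : ↥S), x ∈ 𝒩 → t * x * t⁻¹ ∈ 𝒩 := fun t x hx => hNn.conj_mem x hx t
  -- modulo `L 2`
  set π2 := QuotientGroup.mk' (L ↥S 2)
  have one2 : ∀ {z : ↥S}, z ∈ L ↥S 2 → π2 z = 1 := fun hz => (QuotientGroup.eq_one_iff _).2 hz
  have c2 : ∀ x ∈ 𝒩, ∀ y ∈ 𝒩, Commute (π2 x) (π2 y) := fun x hx y hy => by
    show _ * _ = _ * _
    rw [← commutatorElement_eq_one_iff_mul_comm, ← map_commutatorElement]
    exact one2 (L_mono (by omega) (hMM x hx y hy))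
  set x1 := ⁅s, w⁆ with hx1def
  have hx1 : x1 ∈ A := L_comm (i := 0) (j := 0) (Subgroup.mem_top s) (Subgroup.mem_top w)
  have hwN : w ∈ 𝒩 := d.le_N d.hw
  have hsw : s * w * s⁻¹ = x1 * w := by simp only [hx1def, commutatorElement_def]; group
  have hx1H : x1 ∉ L ↥S 2 := fun hc => hs (hN.ge (d.mem_N fun e he => by
    obtain ⟨i, k, hk, rfl⟩ := d.E_decomp he d.w_notMem
    have hk' : s * k * s⁻¹ ∈ E₀ := hZ (Subgroup.Normal.conj_mem inferInstance _ (hH2 ▸ hk) s)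
    have : s * (w ^ i * k) * s⁻¹ ∈ E₀ := by
      rw [show s * (w ^ i * k) * s⁻¹ = (s * w * s⁻¹) ^ i * (s * k * s⁻¹) by rw [conj_pow]; group, hsw]
      exact E₀.mul_mem (E₀.pow_mem (E₀.mul_mem (hZ hc) d.hw) i) hk'
    exact E₀.mul_mem this (E₀.inv_mem he)))
  have hβx1 := hβA1 ⟨x1, hA hx1⟩ hx1
  have hgw := hmain ⟨w, hwN⟩ (hconjN g w hwN) (hconjN s w hwN)
  have hsw' : β ⟨s * w * s⁻¹, hconjN s w hwN⟩ = β ⟨x1, hA hx1⟩ * w⁻¹ := by
    rw [← hw1 ⟨w, hwN⟩ rfl, ← map_mul]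
    exact congrArg β (Subtype.ext hsw)
  have hπx1 : π2 (β ⟨x1, hA hx1⟩) = π2 x1 := (QuotientGroup.eq.2 hβx1).symm
  have hπsx1 : π2 s * π2 x1 * (π2 s)⁻¹ = π2 x1 := by
    rw [← map_mul, ← map_inv, ← map_mul]
    refine QuotientGroup.eq.2 ?_
    rw [show (s * x1 * s⁻¹)⁻¹ * x1 = ⁅s, x1⁻¹⁆ by simp only [commutatorElement_def]; group]
    exact L_comm (i := 0) (j := 1) (Subgroup.mem_top s) (inv_mem hx1)
  have hgwE : g ∈ 𝒩 := by
    -- `g` normalizes `E₀`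
    have h1 : π2 (β ⟨g * w * g⁻¹, hconjN g w hwN⟩) = π2 (β ⟨w, hwN⟩) := by
      rw [hgw, hsw', map_mul, map_mul, map_mul, map_inv, map_inv, hπx1, hw1 ⟨w, hwN⟩ rfl, map_inv]
      have e1 : π2 s * π2 w * (π2 s)⁻¹ = π2 x1 * π2 w := by
        rw [← map_inv, ← map_mul, ← map_mul, hsw, map_mul]
      have e2 : π2 s * (π2 w)⁻¹ * (π2 s)⁻¹ = (π2 x1 * π2 w)⁻¹ := by rw [← e1]; group
      calc π2 s * (π2 x1 * (π2 w)⁻¹) * (π2 s)⁻¹
          = (π2 s * π2 x1 * (π2 s)⁻¹) * (π2 s * (π2 w)⁻¹ * (π2 s)⁻¹) := by group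
        _ = π2 x1 * ((π2 w)⁻¹ * (π2 x1)⁻¹) := by rw [hπsx1, e2, mul_inv_rev]
        _ = (π2 w)⁻¹ := by
          rw [((c2 w hwN x1 (hA hx1)).inv_inv).eq, mul_inv_cancel_left]
    have h2 : (((⟨g * w * g⁻¹, hconjN g w hwN⟩ : ↥𝒩)⁻¹ * (⟨w, hwN⟩ : ↥𝒩) : ↥𝒩) : ↥S) ∈ L ↥S 2 := by
      have h3 := QuotientGroup.eq.1 h1
      rw [← map_inv, ← map_mul] at h3
      set z : ↥𝒩 := (⟨g * w * g⁻¹, hconjN g w hwN⟩ : ↥𝒩)⁻¹ * ⟨w, hwN⟩
      obtain ⟨z', hz', hzz⟩ : ∃ z' : ↥No, z' ∈ Subgroup.center ↥No ∧ el z = z' := by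
        refine ⟨b⁻¹ (b (el z)), (Subgroup.characteristic_iff_le_comap.1 inferInstance (b⁻¹ : MulAut ↥No))
          ((hcen (b (el z))).2 ?_), (hbinv _).symm⟩
        rw [hιb]; exact h3
      exact (hcen z').1 hz' |> fun e => by rw [← hzz, hιel] at e; exact e
    refine d.mem_N fun e he => ?_
    obtain ⟨i, k, hk, rfl⟩ := d.E_decomp he d.w_notMem
    have hk' : g * k * g⁻¹ ∈ E₀ := hZ (Subgroup.Normal.conj_mem inferInstance _ (hH2 ▸ hk) g)
    have hg' : g * w * g⁻¹ ∈ E₀ := by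
      have := E₀.mul_mem d.hw (E₀.inv_mem (hZ h2))
      simpa [mul_assoc] using this
    have : g * (w ^ i * k) * g⁻¹ ∈ E₀ := by
      rw [show g * (w ^ i * k) * g⁻¹ = (g * w * g⁻¹) ^ i * (g * k * g⁻¹) by rw [conj_pow]; group]
      exact E₀.mul_mem (E₀.pow_mem hg' i) hk'
    exact E₀.mul_mem this (E₀.inv_mem he)
  -- modulo `L 3`
  set π3 := QuotientGroup.mk' (L ↥S 3)
  have one3 : ∀ {z : ↥S}, z ∈ L ↥S 3 → π3 z = 1 := fun hz => (QuotientGroup.eq_one_iff _).2 hz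
  have hfix : ∀ z ∈ L ↥S 2, π3 s * π3 z * (π3 s)⁻¹ = π3 z := fun z hz => by
    rw [← map_inv, ← map_mul, ← map_mul]
    refine QuotientGroup.eq.2 ?_
    rw [show (s * z * s⁻¹)⁻¹ * z = ⁅s, z⁻¹⁆ by simp only [commutatorElement_def]; group]
    exact L_comm (i := 0) (j := 2) (Subgroup.mem_top s) (inv_mem hz)
  have hβH : ∀ x : ↥𝒩, (x : ↥S) ∈ H → π3 (β x) = π3 x := by
    intro x hx
    have hle : H ≤ Subgroup.map (𝒩).subtype (MonoidHom.eqLocus (π3.comp β) (π3.comp (𝒩).subtype)) := by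
      refine (Subgroup.closure_le _).2 ?_
      rintro t (rfl | rfl)
      · refine ⟨⟨_, d.le_N d.hv⟩, ?_, rfl⟩
        show π3 (β _) = π3 _
        rw [(hval ⟨_, d.le_N d.hv⟩).1 rfl, map_pow]
        show π3 t ^ (p - 1) = π3 t
        rw [one3 hvL, one_pow]
      · refine ⟨⟨_, d.le_N d.hu⟩, ?_, rfl⟩
        show π3 (β _) = π3 _
        rw [(hval ⟨_, d.le_N d.hu⟩).2.1 rfl]
        rfl
    obtain ⟨x', hx', e⟩ := hle hx
    exact Subtype.ext (a1 := x') (a2 := x) e ▸ hx'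
  set h1 := ⁅s, x1⁆ with hh1def
  have hh1 : h1 ∈ L ↥S 2 := L_comm (i := 0) (j := 1) (Subgroup.mem_top s) hx1
  have hh1' : h1 ∉ L ↥S 3 := fun hc => (comm_step h le_rfl (by omega) (j := 1) hs hx1 hx1H).2 (by
    rw [hh1def, ← commutatorElement_inv, inv_mem_iff] at hc
    exact hc)
  have hsx : s * x1 * s⁻¹ = h1 * x1 := by simp only [hh1def, commutatorElement_def]; group
  have hgx := hmain ⟨x1, hA hx1⟩ (hconjN g x1 (hA hx1)) (hconjN s x1 (hA hx1))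
  obtain ⟨h0, hh0, hx0⟩ : ∃ h0 ∈ L ↥S 2, β ⟨x1, hA hx1⟩ = x1 * h0 := ⟨_, hβx1, by group⟩
  have hL : π3 (β ⟨g * x1 * g⁻¹, hconjN g x1 (hA hx1)⟩) = π3 (x1 * h0) := by
    rw [← hx0]
    have e : (⟨g * x1 * g⁻¹, hconjN g x1 (hA hx1)⟩ : ↥𝒩) = ⟨⁅g, x1⁆, d.le_N (hZ (L_mono (by omega)
        (hMM g hgwE x1 (hA hx1))))⟩ * ⟨x1, hA hx1⟩ :=
      Subtype.ext (by simp [commutatorElement_def])
    rw [e, map_mul, map_mul, hβH _ (show ⁅g, x1⁆ ∈ H from hH2 ▸ L_mono (by omega) (hMM g hgwE x1 (hA hx1)))]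
    show π3 ⁅g, x1⁆ * _ = _
    rw [one3 (hMM g hgwE x1 (hA hx1)), one_mul]
  have hR' : π3 (s * β ⟨s * x1 * s⁻¹, hconjN s x1 (hA hx1)⟩ * s⁻¹) = π3 h1 * (π3 h1 * π3 x1) * π3 h0 := by
    have e : (⟨s * x1 * s⁻¹, hconjN s x1 (hA hx1)⟩ : ↥𝒩) =
        ⟨h1, d.le_N (hZ hh1)⟩ * ⟨x1, hA hx1⟩ := Subtype.ext hsx
    rw [e, map_mul β, hx0, map_mul, map_mul, map_mul, map_inv, hβH _ (show h1 ∈ H from hH2 ▸ hh1), map_mul]
    show π3 s * (π3 h1 * (π3 x1 * π3 h0)) * (π3 s)⁻¹ = _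
    calc π3 s * (π3 h1 * (π3 x1 * π3 h0)) * (π3 s)⁻¹
        = (π3 s * π3 h1 * (π3 s)⁻¹) * (π3 s * π3 x1 * (π3 s)⁻¹) * (π3 s * π3 h0 * (π3 s)⁻¹) := by group
      _ = _ := by
        rw [hfix h1 hh1, hfix h0 hh0, show π3 s * π3 x1 * (π3 s)⁻¹ = π3 h1 * π3 x1 by
          rw [← map_inv, ← map_mul, ← map_mul, hsx, map_mul]]
  rw [hgx, hR', map_mul, ← mul_assoc] at hL
  have h2 : π3 h1 * π3 h1 = 1 := mul_right_cancel (b := π3 x1)
    ((mul_right_cancel hL).trans (one_mul _).symm)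
  have hodd : π3 h1 = 1 := by
    have hpow : (π3 h1) ^ p = 1 := by rw [← map_pow, d.pow h1 (hZ hh1), map_one]
    obtain ⟨k, hk⟩ := hp.out.odd_of_ne_two hp2
    rw [hk, pow_succ, pow_mul, pow_two, h2, one_pow, one_mul] at hpow
    exact hpow
  exact hh1' ((QuotientGroup.eq_one_iff _).1 hodd)

end Data

end Cfsg.Agent.Lib.RankThree
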