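import Cfsg.Agent.Lib.Blocks.SLBlocks

/-!
The three blocks of `SL_2` over a field of odd characteristic.
-/

set_option autoImplicit false
set_option linter.unusedSectionVars false
set_option linter.style.haveILetI false

namespace Cfsg.Agent.Lib.Blocks.SLBlk

open Matrix
open Cfsg Cfsg.Agent.Lib.Classical Cfsg.Agent.Lib.Classical.AutPSL Cfsg.Agent.Lib.Blocks
open Cfsg.Agent.Lib.Characters
open scoped _root_.Classical

variable {F : Type*} [Field F] [Fintype F]

local notation "G2" => Matrix.SpecialLinearGroup (Fin 2) F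

noncomputable local instance : Fintype G2 := Fintype.ofFinite _

theorem sl2_blocks (p : ℕ) [hp : Fact p.Prime] [CharP F p] (hp2 : p ≠ 2) (M : Ideal AlgInt)
    (hM : IsPModular p M) :
    (∀ B : Set (IrrCharacter G2), IsPBlock M B ↔
      (B = {χ : IrrCharacter G2 | (χ : G2 → ℂ) 1 = (Fintype.card F : ℂ)} ∨
       B = {χ : IrrCharacter G2 | (χ : G2 → ℂ) (-1) = (χ : G2 → ℂ) 1 ∧
         (χ : G2 → ℂ) 1 ≠ (Fintype.card F : ℂ)} ∨
       B = {χ : IrrCharacter G2 | (χ : G2 → ℂ) (-1) = -(χ : G2 → ℂ) 1})) ∧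
    Nat.card {B : Set (IrrCharacter G2) // IsPBlock M B} = 3 ∧
    ∀ P : Sylow p G2,
      IsDefectGroup p M {χ : IrrCharacter G2 | (χ : G2 → ℂ) (-1) = (χ : G2 → ℂ) 1 ∧
        (χ : G2 → ℂ) 1 ≠ (Fintype.card F : ℂ)} (P : Subgroup G2) ∧
      IsDefectGroup p M {χ : IrrCharacter G2 | (χ : G2 → ℂ) (-1) = -(χ : G2 → ℂ) 1}
        (P : Subgroup G2) := by
  haveI := isPrime_of_isPModular hM
  obtain ⟨χ₀, hχ1, hχz, hsing, hd0, huniq⟩ := exists_defect_zero (n := 2) (F := F) p le_rfl hM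
  set v := (Nat.card G2).factorization p with hv
  have hv0 : 0 < v := fac_pos (F := F) p le_rfl
  -- the order of a Sylow subgroup
  have hq : p ^ v = Fintype.card F := by
    have h := Sylow.card_eq_multiplicity (uniSyl (n := 2) (F := F) p (by norm_num))
    rw [hv, ← h]
    show Nat.card (upperUni 2 F) = _
    rw [card_upperUni, Fin.prod_univ_two]
    simp
  have hχ0 : (χ₀ : G2 → ℂ) 1 = (Fintype.card F : ℂ) := by rw [hχ1, hq]
  have hst : ∀ χ : IrrCharacter G2, (χ : G2 → ℂ) 1 = (Fintype.card F : ℂ) ↔ χ = χ₀ := by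
    refine fun χ => ⟨fun h => Subtype.ext ?_, fun h => h ▸ hχ0⟩
    have hd : charDegree (χ : G2 → ℂ) = Fintype.card F := by
      have h1 := charDegree_eq χ
      rw [h] at h1
      exact_mod_cast h1
    exact SLDefectZero.eq_of_defect_zero p (by norm_num) χ.2 χ₀.2 (charDegree_eq χ).symm hχ1
      (hd ▸ hq ▸ dvd_rfl) dvd_rfl
  -- the centre
  have hneg : (-1 : G2) ∈ Subgroup.center G2 := Subgroup.mem_center_iff.2 fun g => by
    refine sl_ext ?_
    simp [Matrix.SpecialLinearGroup.coe_mul, Matrix.SpecialLinearGroup.coe_neg]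
  have hodd : Odd (Fintype.card F) := by
    obtain ⟨k, hk, hk'⟩ := FiniteField.card F p
    rw [hk']
    exact (hp.out.odd_of_ne_two hp2).pow
  have hne1 : (-1 : G2) ≠ 1 := fun h => by
    have h1 := congrArg (fun s : G2 => (s : Matrix (Fin 2) (Fin 2) F) 0 0) h
    simp [Matrix.SpecialLinearGroup.coe_neg] at h1
    have : (2 : F) = 0 := by linear_combination -h1
    exact hp2 ((Nat.prime_dvd_prime_iff_eq hp.out Nat.prime_two).1
      ((CharP.cast_eq_zero_iff F p 2).1 (by exact_mod_cast this)))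
  have hcent : ∀ z ∈ Subgroup.center G2, z = 1 ∨ z = -1 := by
    intro z hz
    obtain ⟨r, hr, hr'⟩ := Matrix.SpecialLinearGroup.mem_center_iff.1 hz
    rw [Fintype.card_fin, sq_eq_one_iff] at hr
    rcases hr with rfl | rfl
    · exact Or.inl (sl_ext (by rw [← hr', map_one]; rfl))
    · exact Or.inr (sl_ext (by rw [← hr', map_neg, map_one, Matrix.SpecialLinearGroup.coe_neg]; rfl))
  have hsign : ∀ χ : IrrCharacter G2,
      (χ : G2 → ℂ) (-1) = (χ : G2 → ℂ) 1 ∨ (χ : G2 → ℂ) (-1) = -(χ : G2 → ℂ) 1 := by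
    intro χ
    obtain ⟨ω, hω⟩ := BlockHeights.exists_central_scalar χ
    have h0 := IsIrrCharacter.apply_one_ne_zero χ.2
    have h1 := (hω _ hneg).1 1
    rw [mul_one] at h1
    have h2 := (hω _ hneg).1 (-1)
    rw [show (-1 : G2) * -1 = 1 from sl_ext (by
      simp [Matrix.SpecialLinearGroup.coe_mul, Matrix.SpecialLinearGroup.coe_neg]), h1] at h2
    have h3 : ω (-1) * ω (-1) = 1 := mul_right_cancel₀ h0 (by linear_combination -h2)
    rcases mul_self_eq_one_iff.1 h3 with h | h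
    · exact Or.inl (by rw [h1, h, one_mul])
    · exact Or.inr (by rw [h1, h, neg_one_mul])
  set Bp : Set (IrrCharacter G2) := {χ | (χ : G2 → ℂ) (-1) = (χ : G2 → ℂ) 1 ∧
    (χ : G2 → ℂ) 1 ≠ (Fintype.card F : ℂ)} with hBp
  set Bm : Set (IrrCharacter G2) := {χ | (χ : G2 → ℂ) (-1) = -(χ : G2 → ℂ) 1} with hBm
  have hB0 : {χ : IrrCharacter G2 | (χ : G2 → ℂ) 1 = (Fintype.card F : ℂ)} =
      blockOf M (χ₀ : G2 → ℂ) := by
    rw [hsing]; ext χ; exact hst χ
  have hblock : ∀ χ : IrrCharacter G2, χ ≠ χ₀ →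
      blockDefect p (blockOf M (χ : G2 → ℂ)) = v ∧
      (((χ : G2 → ℂ) (-1) = (χ : G2 → ℂ) 1 → blockOf M (χ : G2 → ℂ) = Bp) ∧
       ((χ : G2 → ℂ) (-1) = -(χ : G2 → ℂ) 1 → blockOf M (χ : G2 → ℂ) = Bm)) := by
    intro χ hχ
    have hfull : ∀ ψ : IrrCharacter G2, ψ ≠ χ₀ →
        blockDefect p (blockOf M (ψ : G2 → ℂ)) = v := fun ψ hψ =>
      full_of_ne_zero p (by norm_num) hM (isPBlock_blockOf ψ) fun h0 =>
        hψ (Set.mem_singleton_iff.1 (huniq _ (isPBlock_blockOf ψ) h0 ▸ self_mem_blockOf ψ))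
    have h1 := IsIrrCharacter.apply_one_ne_zero χ.2
    have hmem : ∀ ψ : IrrCharacter G2, ψ ∈ blockOf M (χ : G2 → ℂ) ↔ ψ ≠ χ₀ ∧
        (ψ : G2 → ℂ) (-1) / (ψ : G2 → ℂ) 1 = (χ : G2 → ℂ) (-1) / (χ : G2 → ℂ) 1 := by
      refine fun ψ => ⟨fun hψ => ⟨fun e => hχ ?_, ?_⟩, fun ⟨hψ, hr⟩ => ?_⟩
      · have h2 := IsPBlock.eq_blockOf (isPBlock_blockOf (M := M) χ) hψ
        rw [e, hsing] at h2
        exact Set.mem_singleton_iff.1 (h2 ▸ self_mem_blockOf χ)
      · exact center_ratio_eq hM (not_dvd_center p)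
          (IsPBlock.sameBlock (isPBlock_blockOf (M := M) χ) hψ (self_mem_blockOf χ)) hneg
      · refine sameBlock_full p le_rfl hM (hfull χ hχ) (hfull ψ hψ) fun z hz => ?_
        rcases hcent z hz with rfl | rfl
        · rw [div_self h1, div_self (IsIrrCharacter.apply_one_ne_zero ψ.2)]
        · exact hr.symm
    refine ⟨hfull χ hχ, fun hs => ?_, fun hs => ?_⟩
    · ext ψ
      have h2 := IsIrrCharacter.apply_one_ne_zero ψ.2
      rw [hmem, hs, div_self h1, div_eq_one_iff_eq h2, hBp, Set.mem_setOf_eq, ne_eq, ne_eq, hst,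
        and_comm]
    · ext ψ
      have h2 := IsIrrCharacter.apply_one_ne_zero ψ.2
      rw [hmem, hs, neg_div, div_self h1, div_eq_iff h2, neg_one_mul, hBm, Set.mem_setOf_eq]
      refine ⟨fun h => h.2, fun h => ⟨fun e => h2 ?_, h⟩⟩
      subst e
      rw [hχz _ hneg] at h
      linear_combination h / 2
  have hcase : ∀ χ : IrrCharacter G2, χ ≠ χ₀ →
      blockDefect p (blockOf M (χ : G2 → ℂ)) = v ∧
        (blockOf M (χ : G2 → ℂ) = Bp ∨ blockOf M (χ : G2 → ℂ) = Bm) := fun χ hχ =>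
    ⟨(hblock χ hχ).1, (hsign χ).imp (hblock χ hχ).2.1 (hblock χ hχ).2.2⟩
  have hp1 : trivIrr G2 ≠ χ₀ := fun e => by
    have h := hχ0
    rw [← e, trivIrr_apply] at h
    have h2 : Fintype.card F = 1 := by exact_mod_cast h.symm
    exact absurd h2 (Fintype.one_lt_card).ne'
  have hP : IsPBlock M Bp ∧ blockDefect p Bp = v := by
    obtain ⟨hd, he, -⟩ := hblock _ hp1
    rw [← he (by simp)]
    exact ⟨isPBlock_blockOf _, hd⟩
  have hcard2 : Nat.card (Subgroup.center G2) = 2 := by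
    rw [card_center_SL, Fintype.card_fin]
    obtain ⟨j, hj⟩ := hodd
    rw [hj, Nat.add_sub_cancel]
    exact Nat.gcd_eq_left (dvd_mul_right 2 j)
  have hm : IsPBlock M Bm ∧ blockDefect p Bm = v := by
    by_contra hcon
    have h1 : Nat.card {B : Set (IrrCharacter G2) // IsPBlock M B ∧ blockDefect p B = v} ≤ 1 := by
      refine (Finite.card_le_one_iff_subsingleton).2 ⟨fun a b => ?_⟩
      have : ∀ B : Set (IrrCharacter G2), IsPBlock M B → blockDefect p B = v → B = Bp := by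
        intro B hB hd
        obtain ⟨χ, hχ⟩ := IsPBlock.nonempty hB
        have hne : χ ≠ χ₀ := fun e => by
          rw [IsPBlock.eq_blockOf hB hχ, e, hd0] at hd
          omega
        have he := IsPBlock.eq_blockOf hB hχ
        rcases (hcase χ hne).2 with h | h
        · rw [he, h]
        · rw [he, h] at hB hd
          exact absurd ⟨hB, hd⟩ hcon
      exact Subtype.ext ((this _ a.2.1 a.2.2).trans (this _ b.2.1 b.2.2).symm)
    rw [card_full (F := F) p le_rfl hM, hcard2] at h1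
    omega
  refine ⟨fun B => ⟨fun hB => ?_, ?_⟩, ?_, fun P => ⟨?_, ?_⟩⟩
  · obtain ⟨χ, hχ⟩ := IsPBlock.nonempty hB
    rw [IsPBlock.eq_blockOf hB hχ, hB0]
    by_cases hne : χ = χ₀
    · exact Or.inl (by rw [hne])
    · exact Or.inr (hcase χ hne).2
  · rintro (rfl | rfl | rfl)
    · rw [hB0]; exact isPBlock_blockOf _
    · exact hP.1
    · exact hm.1
  · rw [card_blocks (F := F) p le_rfl hM, hcard2]
  · exact isDefectGroup_sylow p hM hP.1 hP.2 P
  · exact isDefectGroup_sylow p hM hm.1 hm.2 P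

end Cfsg.Agent.Lib.Blocks.SLBlk
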