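import Cfsg.Agent.Lib.Blocks.SLDefectZero
import Cfsg.Agent.Lib.OddChar.SteinbergSLn
import Cfsg.Agent.Lib.BrauerPairs.MaximalCriterion
import Cfsg.Agent.Lib.BrauerPairs.DefectPairs
import Cfsg.Agent.Lib.BrauerPairs.FirstMain
import Cfsg.Agent.Lib.BlockHeights.DefectClasses
import Cfsg.Agent.Lib.BlockHeights.CentralRank
import Cfsg.Agent.Lib.Blocks.NormalP

/-!
The blocks of `SL_n` in its own characteristic: one of defect zero, and one of full defect for
each character of the centre.
-/

set_option autoImplicit false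
set_option linter.unusedSectionVars false
set_option linter.style.haveILetI false

namespace Cfsg.Agent.Lib.Blocks.SLBlk

open Matrix
open Cfsg Cfsg.Agent.Lib.Classical Cfsg.Agent.Lib.Classical.AutPSL Cfsg.Agent.Lib.Blocks
open Cfsg.Agent.Lib.Characters Cfsg.Agent.Lib.BrauerPairs Cfsg.Agent.Lib.BlockHeights
open scoped ComplexConjugate
open scoped _root_.Classical

section general

variable {G : Type*} [Group G] [Fintype G] {M : Ideal AlgInt} [M.IsPrime] {p : ℕ}

theorem centralChar_center (χ : G → ℂ) {z : G} (hz : z ∈ Subgroup.center G) :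
    centralChar χ z = χ z / χ 1 := by
  have h : Subgroup.centralizer ({z} : Set G) = ⊤ :=
    eq_top_iff.2 fun x _ =>
      Subgroup.mem_centralizer_singleton_iff.2 (Subgroup.mem_center_iff.1 hz x)
  rw [centralChar, h, Subgroup.index_top, Nat.cast_one, one_mul]

/-- A root of unity of `p'`-order congruent to one is one. -/
theorem root_eq_one (hM : IsPModular p M) {ζ : ℂ} {N : ℕ} (hζ : ζ ^ N = 1) (hN : ¬ p ∣ N)
    (hint : MemLocalRing M ζ) (h : MemLocalIdeal M (ζ - 1)) : ζ = 1 := by
  by_contra hne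
  have hpow : ∀ i : ℕ, MemLocalIdeal M (ζ ^ i - 1) := by
    intro i
    induction i with
    | zero => simpa using memLocalIdeal_zero (M := M)
    | succ i ih =>
      have h1 := memLocalIdeal_add (memLocalIdeal_mul_left hint ih) h
      convert h1 using 1
      ring
  have hsum : ∑ i ∈ Finset.range N, ζ ^ i = 0 := by
    rw [geom_sum_eq hne, hζ, sub_self, zero_div]
  have h2 := memLocalIdeal_sum (M := M) (Finset.range N) (f := fun i => ζ ^ i - 1) fun i _ => hpow i
  rw [Finset.sum_sub_distrib, hsum, Finset.sum_const, Finset.card_range, nsmul_eq_mul, mul_one,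
    zero_sub] at h2
  have h3 := memLocalIdeal_sub (memLocalIdeal_zero (M := M)) h2
  rw [sub_neg_eq_add, zero_add] at h3
  exact hN ((memLocalIdeal_natCast_iff hM N).1 h3)

/-- Members of one block have the same character on the centre, a `p'`-group. -/
theorem center_ratio_eq (hM : IsPModular p M) (hZ : ¬ p ∣ Nat.card (Subgroup.center G))
    {χ ψ : IrrCharacter G} (h : SameBlock M (χ : G → ℂ) (ψ : G → ℂ)) {z : G}
    (hz : z ∈ Subgroup.center G) :
    (χ : G → ℂ) z / (χ : G → ℂ) 1 = (ψ : G → ℂ) z / (ψ : G → ℂ) 1 := by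
  set N := Nat.card (Subgroup.center G) with hNdef
  have key : ∀ ξ : IrrCharacter G, ∃ ω : ℂ, (ξ : G → ℂ) z / (ξ : G → ℂ) 1 = ω ∧ ω ^ N = 1 ∧
      MemLocalRing M ω := by
    intro ξ
    obtain ⟨w, hw⟩ := exists_central_scalar ξ
    have h0 := IsIrrCharacter.apply_one_ne_zero ξ.2
    have h1 := (hw z hz).1 1
    rw [mul_one] at h1
    have hone : w 1 = 1 := by
      have h2 := (hw 1 (one_mem _)).1 1
      rw [mul_one] at h2
      exact mul_right_cancel₀ h0 (h2.symm.trans (one_mul _).symm)
    refine ⟨w z, by rw [h1, mul_div_cancel_right₀ _ h0], ?_, ?_⟩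
    · have hpw : ∀ i : ℕ, w (z ^ i) = w z ^ i := by
        intro i
        induction i with
        | zero => rw [pow_zero, pow_zero, hone]
        | succ i ih => rw [pow_succ', (hw z hz).2 _ (pow_mem hz i), ih, pow_succ']
      rw [← hpw, hNdef, show z ^ Nat.card (Subgroup.center G) = 1 from
        congrArg Subtype.val (pow_card_eq_one' (x := (⟨z, hz⟩ : Subgroup.center G))), hone]
    · have := memLocalRing_centralChar (M := M) ξ z
      rwa [centralChar_center _ hz, h1, mul_div_cancel_right₀ _ h0] at this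
  obtain ⟨a, ha, haN, hai⟩ := key χ
  obtain ⟨b, hb, hbN, hbi⟩ := key ψ
  have hcong := h z
  rw [centralChar_center _ hz, centralChar_center _ hz, ha, hb] at hcong
  have hN0 : N ≠ 0 := Nat.card_pos.ne'
  have hb0 : b ≠ 0 := fun h0 => by simp [h0, zero_pow hN0] at hbN
  have hbinv : b⁻¹ = b ^ (N - 1) := by
    apply inv_eq_of_mul_eq_one_right
    rw [← pow_succ', Nat.sub_add_cancel (Nat.pos_of_ne_zero hN0), hbN]
  have hbir : MemLocalRing M b⁻¹ := by
    rw [hbinv]
    clear hbinv
    induction N - 1 with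
    | zero => rw [pow_zero]; exact memLocalRing_one
    | succ i ih => rw [pow_succ]; exact memLocalRing_mul ih hbi
  have h1 := root_eq_one hM (ζ := a * b⁻¹) (N := N) (by rw [mul_pow, inv_pow, haN, hbN]; simp) hZ
    (memLocalRing_mul hai hbir) (by
      have := memLocalIdeal_mul_left hbir hcong
      convert this using 1
      field_simp)
  rw [ha, hb]
  exact eq_of_div_eq_one (by rw [div_eq_mul_inv, h1])

/-- If every regular element is central, the characters of a block are given by the centre. -/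
theorem sameBlock_of_regular_central (hM : IsPModular p M)
    (hreg : ∀ x : G, ¬ p ∣ orderOf x → x ∈ Subgroup.center G) {χ ψ : IrrCharacter G}
    (h : ∀ z ∈ Subgroup.center G,
      (χ : G → ℂ) z / (χ : G → ℂ) 1 = (ψ : G → ℂ) z / (ψ : G → ℂ) 1) :
    ψ ∈ blockOf M (χ : G → ℂ) := by
  have hB := isPBlock_blockOf (M := M) χ
  have key : omega (χ : G → ℂ) (blockCoeff (blockOf M (χ : G → ℂ))) =
      omega (ψ : G → ℂ) (blockCoeff (blockOf M (χ : G → ℂ))) := by
    rw [omega, omega, Finset.sum_div, Finset.sum_div]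
    refine Finset.sum_congr rfl fun x _ => ?_
    by_cases hx : p ∣ orderOf x
    · rw [blockCoeff_eq_zero_of_dvd hM hB hx, zero_mul, zero_mul, zero_div, zero_div]
    · rw [mul_div_assoc, mul_div_assoc, h x (hreg x hx)]
  rw [omega_blockCoeff, omega_blockCoeff, if_pos (self_mem_blockOf χ)] at key
  by_contra hne
  rw [if_neg hne] at key
  exact one_ne_zero key

/-- A constituent of the restriction to the centre is the central character. -/
theorem ratio_of_constituent [Fintype (Subgroup.center G)] {χ : IrrCharacter G}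
    {θ : IrrCharacter (Subgroup.center G)}
    (hχ : classInner (fun z : Subgroup.center G => (χ : G → ℂ) z)
      (θ : Subgroup.center G → ℂ) ≠ 0) (w : Subgroup.center G) :
    (χ : G → ℂ) w / (χ : G → ℂ) 1 =
      (θ : Subgroup.center G → ℂ) w / (θ : Subgroup.center G → ℂ) 1 := by
  obtain ⟨ω, hω⟩ := exists_central_scalar χ
  obtain ⟨ω', hω'⟩ := exists_central_scalar θ
  have h0 := IsIrrCharacter.apply_one_ne_zero χ.2
  have h0' := IsIrrCharacter.apply_one_ne_zero θ.2
  have hc : ∀ x : Subgroup.center G, x ∈ Subgroup.center (Subgroup.center G) := fun x =>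
    Subgroup.mem_center_iff.2 fun y => Subtype.ext (Subgroup.mem_center_iff.1 x.2 y)
  set S := ∑ z : Subgroup.center G, (χ : G → ℂ) z * conj ((θ : Subgroup.center G → ℂ) z) with hS
  have hS0 : S ≠ 0 := by
    intro hz
    apply hχ
    simp only [classInner]
    rw [← hS, hz, mul_zero]
  have h1 : ω w * S = ω' w * S := by
    have e1 : ω w * S =
        ∑ z : Subgroup.center G, (χ : G → ℂ) ↑(w * z) * conj ((θ : Subgroup.center G → ℂ) z) := by
      rw [hS, Finset.mul_sum]
      refine Finset.sum_congr rfl fun z _ => ?_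
      rw [Subgroup.coe_mul, (hω w w.2).1, mul_assoc]
    rw [e1, hS, Finset.mul_sum]
    refine Fintype.sum_equiv (Equiv.mulLeft w) _ _ fun z => ?_
    rw [Equiv.coe_mulLeft]
    have hθ : ∀ x, conj ((θ : Subgroup.center G → ℂ) x) = (θ : Subgroup.center G → ℂ) x⁻¹ :=
      fun x => (IsCharacter.apply_inv (irr_isCharacter θ) x).symm
    rw [hθ, hθ, show (w * z)⁻¹ = w⁻¹ * z⁻¹ by
      rw [_root_.mul_inv_rev, Subgroup.mem_center_iff.1 (hc w⁻¹) z⁻¹], (hω' w⁻¹ (hc _)).1]
    have e2 : ω' w * ω' w⁻¹ = 1 := by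
      have h2 := (hω' w (hc _)).2 w⁻¹ (hc _)
      rw [mul_inv_cancel] at h2
      have h3 := (hω' 1 (hc _)).1 1
      rw [mul_one] at h3
      rw [← h2]
      exact mul_right_cancel₀ h0' (h3.symm.trans (one_mul _).symm)
    linear_combination -((χ : G → ℂ) ↑(w * z) * (θ : Subgroup.center G → ℂ) z⁻¹) * e2
  have hw := (hω w w.2).1 1
  have hw' := (hω' w (hc _)).1 1
  rw [mul_one] at hw hw'
  rw [hw, hw', mul_div_cancel_right₀ _ h0, mul_div_cancel_right₀ _ h0',
    mul_right_cancel₀ hS0 h1]

/-- Every character of the centre is the central character of a character of the group. -/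
theorem exists_char_over_center (θ : IrrCharacter (Subgroup.center G)) :
    ∃ χ : IrrCharacter G, ∀ z : Subgroup.center G,
      (χ : G → ℂ) z / (χ : G → ℂ) 1 =
        (θ : Subgroup.center G → ℂ) z / (θ : Subgroup.center G → ℂ) 1 := by
  haveI := Fintype.ofFinite (Subgroup.center G)
  obtain ⟨χ, hχ⟩ := exists_over (G := G) (N := Subgroup.center G) θ
  exact ⟨χ, ratio_of_constituent hχ⟩

/-- An irreducible character of an abelian group is determined by its normalisation. -/
theorem irr_ext_of_comm {H : Type*} [Group H] [Fintype H]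
    (hcomm : ∀ a b : H, a * b = b * a) {θ θ' : IrrCharacter H}
    (h : ∀ z, (θ : H → ℂ) z / (θ : H → ℂ) 1 = (θ' : H → ℂ) z / (θ' : H → ℂ) 1) : θ = θ' := by
  by_contra hne
  have h0 := IsIrrCharacter.apply_one_ne_zero θ.2
  have h0' := IsIrrCharacter.apply_one_ne_zero θ'.2
  have hz := IsIrrCharacter.classInner_ne θ.2 θ'.2 fun e => hne (Subtype.ext e)
  have heq : (θ' : H → ℂ) = fun z => ((θ' : H → ℂ) 1 / (θ : H → ℂ) 1) * (θ : H → ℂ) z := by
    funext z
    have := h z
    field_simp at this ⊢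
    linear_combination -this
  have hs : classInner (θ : H → ℂ) (θ : H → ℂ) = 1 := IsIrrCharacter.classInner_self θ.2
  rw [heq, show (fun z => ((θ' : H → ℂ) 1 / (θ : H → ℂ) 1) * (θ : H → ℂ) z) =
    ((θ' : H → ℂ) 1 / (θ : H → ℂ) 1) • (θ : H → ℂ) from rfl, classInner_smul_right, hs, mul_one,
    map_eq_zero, div_eq_zero_iff] at hz
  tauto

end general

variable {n : ℕ} {F : Type*} [Field F] [Fintype F]

local notation "SLn" => Matrix.SpecialLinearGroup (Fin n) F
local notation "Mat" => Matrix (Fin n) (Fin n) F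

noncomputable local instance : Fintype SLn := Fintype.ofFinite _

variable (p : ℕ) [hp : Fact p.Prime] [CharP F p]

include hp in
theorem center_eq_one {z : SLn} (hz : z ∈ Subgroup.center SLn) {k : ℕ} (h : z ^ p ^ k = 1) :
    z = 1 := by
  rcases isEmpty_or_nonempty (Fin n) with hn | ⟨⟨i⟩⟩
  · exact sl_ext (Matrix.ext fun i => hn.elim i)
  obtain ⟨r, -, hr⟩ := Matrix.SpecialLinearGroup.mem_center_iff.mp hz
  have h1 := congrArg (fun M : SLn => (M : Mat) i i) h
  simp only [Matrix.SpecialLinearGroup.coe_pow, ← hr, Matrix.SpecialLinearGroup.coe_one,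
    Matrix.scalar_apply, Matrix.diagonal_pow, Matrix.diagonal_apply_eq, Matrix.one_apply_eq,
    Pi.pow_apply] at h1
  have h0 : (r - 1) ^ p ^ k = 0 := by rw [sub_pow_char_pow, h1, one_pow, sub_self]
  exact sl_ext (by rw [← hr, sub_eq_zero.mp (eq_zero_of_pow_eq_zero h0), map_one]; rfl)

include hp in
theorem not_dvd_center : ¬ p ∣ Nat.card (Subgroup.center SLn) := by
  intro h
  obtain ⟨z, hz⟩ := exists_prime_orderOf_dvd_card' p h
  have h1 : (z : SLn) ^ p ^ 1 = 1 := by
    rw [pow_one, ← Subgroup.coe_pow, ← hz, pow_orderOf_eq_one, Subgroup.coe_one]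
  rw [← Subgroup.orderOf_coe, center_eq_one p z.2 h1, orderOf_one] at hz
  exact hp.out.ne_one hz.symm

/-- The unitriangular Sylow subgroup of `SL_n`. -/
noncomputable def uniSyl (hn : 1 ≤ n) : Sylow p SLn :=
  IsPGroup.toSylow (isPGroup_upperUni (n := n) (F := F) p) (not_dvd_index_upperUni (F := F) p hn)

/-! ### The flag of a `p`-subgroup -/

/-- The iterated fixed spaces of a subgroup. -/
noncomputable def W (D : Subgroup (Matrix.SpecialLinearGroup (Fin n) F)) :
    ℕ → Submodule F (Fin n → F)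
  | 0 => ⊥
  | i + 1 => ⨅ d : D, (W D i).comap (((d : Matrix.SpecialLinearGroup (Fin n) F) :
      Matrix (Fin n) (Fin n) F).mulVecLin - LinearMap.id)

theorem mem_W_succ {D : Subgroup SLn} {i : ℕ} {v : Fin n → F} :
    v ∈ W D (i + 1) ↔ ∀ d ∈ D, (d : Mat) *ᵥ v - v ∈ W D i := by
  simp only [W, Submodule.mem_iInf, Submodule.mem_comap, LinearMap.sub_apply,
    Matrix.mulVecLin_apply, LinearMap.id_coe, id_eq, Subtype.forall]

theorem W_zero (D : Subgroup SLn) : W D 0 = ⊥ := by rw [W]

theorem W_le_succ (D : Subgroup SLn) (i : ℕ) : W D i ≤ W D (i + 1) := by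
  induction i with
  | zero => rw [W_zero]; exact bot_le
  | succ i ih =>
    intro v hv
    rw [mem_W_succ] at hv ⊢
    exact fun d hd => ih (hv d hd)

theorem W_mono (D : Subgroup SLn) {i j : ℕ} (h : i ≤ j) : W D i ≤ W D j :=
  monotone_nat_of_le_succ (W_le_succ D) h

theorem mulVec_mem_W {D : Subgroup SLn} {g : SLn}
    (hg : ∀ d ∈ D, g⁻¹ * d * g ∈ D) (i : ℕ) {v : Fin n → F} (hv : v ∈ W D i) :
    (g : Mat) *ᵥ v ∈ W D i := by
  induction i generalizing v with
  | zero => rw [W_zero, Submodule.mem_bot] at hv ⊢; rw [hv, Matrix.mulVec_zero]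
  | succ i ih =>
    rw [mem_W_succ] at hv ⊢
    intro d hd
    have h1 := ih (hv _ (hg d hd))
    rwa [Matrix.mulVec_sub, Matrix.mulVec_mulVec, ← Matrix.SpecialLinearGroup.coe_mul,
      show g * (g⁻¹ * d * g) = d * g by group, Matrix.SpecialLinearGroup.coe_mul,
      ← Matrix.mulVec_mulVec] at h1

include hp in
theorem exists_conj_le_uni (hn : 1 ≤ n) {D : Subgroup SLn} (hD : IsPGroup p D) :
    ∃ g : SLn, ∀ d ∈ D, g⁻¹ * d * g ∈ upperUni n F := by
  obtain ⟨P, hP⟩ := hD.exists_le_sylow
  obtain ⟨g, hg⟩ := MulAction.exists_smul_eq SLn (uniSyl (F := F) p hn) P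
  refine ⟨g, fun d hd => ?_⟩
  have h1 : d ∈ ((g • uniSyl (F := F) p hn : Sylow p SLn) : Subgroup SLn) := hg ▸ hP hd
  rw [Sylow.coe_subgroup_smul, Subgroup.mem_pointwise_smul_iff_inv_smul_mem] at h1
  simpa [uniSyl, MulAut.smul_def] using h1

include hp in
theorem W_top (hn : 1 ≤ n) {D : Subgroup SLn} (hD : IsPGroup p D) : W D n = ⊤ := by
  obtain ⟨g, hg⟩ := exists_conj_le_uni p hn hD
  suffices h : ∀ (i : ℕ) (v : Fin n → F),
      (∀ l : Fin n, i ≤ l → (((g⁻¹ : SLn) : Mat) *ᵥ v) l = 0) → v ∈ W D i from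
    eq_top_iff.2 fun v _ => h n v fun l hl => absurd l.2 (not_lt.2 hl)
  intro i
  induction i with
  | zero =>
    intro v hv
    have h1 : ((g⁻¹ : SLn) : Mat) *ᵥ v = 0 := funext fun l => hv l (Nat.zero_le _)
    have h2 := congrArg (fun x => (g : Mat) *ᵥ x) h1
    simp only [Matrix.mulVec_mulVec, Matrix.mulVec_zero, ← Matrix.SpecialLinearGroup.coe_mul,
      mul_inv_cancel, Matrix.SpecialLinearGroup.coe_one, Matrix.one_mulVec] at h2
    rw [h2, W_zero]
    exact zero_mem _
  | succ i ih =>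
    intro v hv
    rw [mem_W_succ]
    intro d hd
    refine ih _ fun l hl => ?_
    set x := ((g⁻¹ : SLn) : Mat) *ᵥ v with hx
    have e : ((g⁻¹ : SLn) : Mat) *ᵥ ((d : Mat) *ᵥ v - v) =
        (((g⁻¹ * d * g : SLn) : Mat) - 1) *ᵥ x := by
      rw [Matrix.mulVec_sub, hx, Matrix.sub_mulVec, Matrix.one_mulVec, Matrix.mulVec_mulVec,
        Matrix.mulVec_mulVec, ← Matrix.SpecialLinearGroup.coe_mul,
        ← Matrix.SpecialLinearGroup.coe_mul]
      congr 3
      rw [mul_assoc (g⁻¹ * d), mul_inv_cancel, mul_one]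
    rw [e]
    show ∑ m, (((g⁻¹ * d * g : SLn) : Mat) - 1) l m * x m = 0
    refine Finset.sum_eq_zero fun m _ => ?_
    by_cases hml : m ≤ l
    · rw [Matrix.sub_apply, hg d hd l m hml, Matrix.one_apply, sub_self, zero_mul]
    · rw [show x m = 0 from hv m (by rw [Fin.le_def] at hml; omega), mul_zero]

/-- The elements acting trivially on the quotients of the flag. -/
noncomputable def radical (D : Subgroup (Matrix.SpecialLinearGroup (Fin n) F)) :
    Subgroup (Matrix.SpecialLinearGroup (Fin n) F) where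
  carrier := {g | ∀ (i : ℕ), ∀ v ∈ W D (i + 1),
    (g : Matrix (Fin n) (Fin n) F) *ᵥ v - v ∈ W D i}
  one_mem' i v _ := by
    rw [Matrix.SpecialLinearGroup.coe_one, Matrix.one_mulVec, sub_self]
    exact zero_mem _
  mul_mem' {g h} hg hh i v hv := by
    have h1 := hh i v hv
    have h2 : (h : Matrix (Fin n) (Fin n) F) *ᵥ v ∈ W D (i + 1) := by
      have := add_mem (W_le_succ D i h1) hv
      rwa [sub_add_cancel] at this
    have h3 := add_mem (hg i _ h2) h1
    rwa [sub_add_sub_cancel, Matrix.mulVec_mulVec, ← Matrix.SpecialLinearGroup.coe_mul] at h3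
  inv_mem' {g} hg := by
    have hpow : ∀ k : ℕ, ∀ (i : ℕ), ∀ v ∈ W D (i + 1),
        ((g ^ k : Matrix.SpecialLinearGroup (Fin n) F) : Matrix (Fin n) (Fin n) F) *ᵥ v - v ∈
          W D i := by
      intro k
      induction k with
      | zero =>
        intro i v _
        rw [pow_zero, Matrix.SpecialLinearGroup.coe_one, Matrix.one_mulVec, sub_self]
        exact zero_mem _
      | succ k ih =>
        intro i v hv
        have h1 := hg i v hv
        have h2 : (g : Matrix (Fin n) (Fin n) F) *ᵥ v ∈ W D (i + 1) := by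
          have := add_mem (W_le_succ D i h1) hv
          rwa [sub_add_cancel] at this
        have h3 := add_mem (ih i _ h2) h1
        rwa [sub_add_sub_cancel, Matrix.mulVec_mulVec, ← Matrix.SpecialLinearGroup.coe_mul,
          ← pow_succ] at h3
    have h : g⁻¹ = g ^ (orderOf g - 1) := by
      refine inv_eq_of_mul_eq_one_right ?_
      rw [← pow_succ', Nat.sub_add_cancel (orderOf_pos g), pow_orderOf_eq_one]
    rw [h]
    exact hpow _

theorem le_radical (D : Subgroup SLn) : D ≤ radical D := fun d hd _ _ hv =>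
  mem_W_succ.1 hv d hd

theorem radical_conj {D : Subgroup SLn} {g r : SLn} (hr : r ∈ radical D)
    (hg : g ∈ Subgroup.normalizer (D : Set SLn)) : g * r * g⁻¹ ∈ radical D := by
  intro i v hv
  have h1 : ∀ d ∈ D, g⁻¹ * d * g ∈ D := fun d hd => by
    have := (Subgroup.mem_normalizer_iff.1 (inv_mem hg) d).1 hd
    simpa using this
  have h2 : ∀ d ∈ D, (g⁻¹)⁻¹ * d * g⁻¹ ∈ D := fun d hd => by
    have := (Subgroup.mem_normalizer_iff.1 hg d).1 hd
    simpa using this
  have h3 := mulVec_mem_W h1 i (hr i _ (mulVec_mem_W h2 (i + 1) hv))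
  show ((g * r * g⁻¹ : SLn) : Mat) *ᵥ v - v ∈ W D i
  simp only [Matrix.mulVec_sub, Matrix.mulVec_mulVec, ← Matrix.SpecialLinearGroup.coe_mul,
    mul_assoc, mul_inv_cancel, Matrix.SpecialLinearGroup.coe_one, Matrix.one_mulVec] at h3 ⊢
  exact h3

include hp in
theorem isPGroup_radical (hn : 1 ≤ n) {D : Subgroup SLn} (hD : IsPGroup p D) :
    IsPGroup p (radical D) := by
  haveI : Nonempty (Fin n) := ⟨⟨0, hn⟩⟩
  intro g
  refine ⟨n, Subtype.ext (sl_ext ?_)⟩
  rw [Subgroup.coe_pow, Subgroup.coe_one, Matrix.SpecialLinearGroup.coe_pow,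
    Matrix.SpecialLinearGroup.coe_one]
  set A : Mat := ((g : SLn) : Mat)
  have hnil : ∀ i, ∀ v ∈ W D i, ((A - 1) ^ i) *ᵥ v = 0 := by
    intro i
    induction i with
    | zero =>
      intro v hv
      rw [W_zero, Submodule.mem_bot] at hv
      rw [hv, Matrix.mulVec_zero]
    | succ i ih =>
      intro v hv
      rw [pow_succ, ← Matrix.mulVec_mulVec, Matrix.sub_mulVec, Matrix.one_mulVec]
      exact ih _ (g.2 i v hv)
  have h0 : (A - 1) ^ n = 0 := Matrix.ext_of_mulVec_single fun k => by
    rw [hnil n _ (by rw [W_top p hn hD]; trivial), Matrix.zero_mulVec]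
  have h1 : (A - 1) ^ p ^ n = 0 :=
    pow_eq_zero_of_le (Nat.lt_pow_self hp.out.one_lt).le h0
  rwa [sub_pow_char_pow_of_commute _ _ (Commute.one_right A), one_pow, sub_eq_zero] at h1

theorem exists_annihilator {S : Submodule F (Fin n → F)} {y : Fin n → F} (hy : y ∉ S) :
    ∃ a : Fin n → F, a ⬝ᵥ y ≠ 0 ∧ ∀ x ∈ S, a ⬝ᵥ x = 0 := by
  obtain ⟨f, hf, hfS⟩ := Submodule.exists_dual_map_eq_bot_of_notMem hy inferInstance
  have hdot : ∀ x, (fun k => f (Pi.single k 1)) ⬝ᵥ x = f x := by
    intro x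
    conv_rhs => rw [pi_eq_sum_univ' x, map_sum]
    simp only [dotProduct, map_smul, smul_eq_mul, mul_comm]
  refine ⟨fun k => f (Pi.single k 1), by rwa [hdot], fun x hx => ?_⟩
  rw [hdot]
  have : f x ∈ S.map f := ⟨x, hx, rfl⟩
  rwa [hfS, Submodule.mem_bot] at this

include hp in
/-- The centraliser of a non-trivial radical `p`-subgroup. -/
theorem centralizer_le_center_sup (hn : 1 ≤ n) {D : Subgroup SLn} (hD : IsPGroup p D)
    (hne : D ≠ ⊥) (hrad : radical D = D) :
    Subgroup.centralizer (D : Set SLn) ≤ Subgroup.center SLn ⊔ D := by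
  intro g hg
  have hex : ∃ m, W D m = ⊤ := ⟨n, W_top p hn hD⟩
  set m := Nat.find hex with hm
  have hmtop : W D m = ⊤ := Nat.find_spec hex
  haveI : Nontrivial (Fin n → F) := by
    haveI : Nonempty (Fin n) := ⟨⟨0, hn⟩⟩
    infer_instance
  have hm2 : 2 ≤ m := by
    by_contra hlt
    have h1 : W D 1 = ⊤ := eq_top_iff.2 (hmtop ▸ W_mono D (show m ≤ 1 by omega))
    refine hne ((Subgroup.eq_bot_iff_forall _).2 fun d hd => sl_ext ?_)
    rw [Matrix.SpecialLinearGroup.coe_one]
    refine Matrix.ext_of_mulVec_single fun k => ?_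
    have h2 := mem_W_succ.1 (show (Pi.single k 1 : Fin n → F) ∈ W D (0 + 1) by
      rw [zero_add, h1]; trivial) d hd
    rw [W_zero, Submodule.mem_bot, sub_eq_zero] at h2
    rw [h2, Matrix.one_mulVec]
  obtain ⟨v₁, hv₁, hv₁0⟩ : ∃ v ∈ W D 1, v ≠ (0 : Fin n → F) := by
    by_contra hcon
    push Not at hcon
    have hall : ∀ i, W D i = ⊥ := by
      intro i
      induction i with
      | zero => exact W_zero D
      | succ i ih =>
        refine eq_bot_iff.2 fun v hv => ?_
        rw [Submodule.mem_bot]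
        refine hcon v (mem_W_succ.2 fun d hd => ?_)
        have := mem_W_succ.1 hv d hd
        rwa [ih, ← W_zero D] at this
    exact bot_ne_top ((hall m).symm.trans hmtop)
  have hlast : W D (m - 1) ≠ ⊤ := Nat.find_min hex (show m - 1 < m by omega)
  obtain ⟨y, hy⟩ : ∃ y, y ∉ W D (m - 1) := by
    by_contra hcon
    push Not at hcon
    exact hlast (eq_top_iff.2 fun x _ => hcon x)
  obtain ⟨a₁, ha₁y, ha₁⟩ := exists_annihilator hy
  have hW1 : W D 1 ≤ W D (m - 1) := W_mono D (by omega)
  -- commutation with the transvections of the radical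
  have hcomm : ∀ (i : ℕ) (v a : Fin n → F), v ∈ W D i → (∀ x ∈ W D i, a ⬝ᵥ x = 0) →
      ∀ r s, ((g : Mat) *ᵥ v) r * a s = v r * (a ᵥ* (g : Mat)) s := by
    intro i v a hv ha r s
    have hav : a ⬝ᵥ v = 0 := ha v hv
    have hT : tv v a hav ∈ radical D := by
      intro j x hx
      rw [tv_coe, Matrix.add_mulVec, Matrix.one_mulVec, add_sub_cancel_left,
        Matrix.vecMulVec_mulVec]
      rcases le_or_gt (j + 1) i with hji | hji
      · rw [ha x (W_mono D hji hx)]
        simp
      · rw [op_smul_eq_smul]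
        exact Submodule.smul_mem _ _ (W_mono D (show i ≤ j by omega) hv)
    rw [hrad] at hT
    have h1 := congrArg (fun X : SLn => (X : Mat)) (Subgroup.mem_centralizer_iff.1 hg _ hT)
    simp only [Matrix.SpecialLinearGroup.coe_mul, tv_coe, add_mul, mul_add, one_mul, mul_one] at h1
    have h2 := congrFun (congrFun (add_left_cancel (G := Mat) h1) r) s
    rw [Matrix.mul_vecMulVec, Matrix.vecMulVec_mul] at h2
    simpa [Matrix.vecMulVec_apply] using h2.symm
  obtain ⟨s₁, hs₁⟩ : ∃ s, a₁ s ≠ 0 := by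
    by_contra hcon
    push Not at hcon
    exact ha₁y (by simp [dotProduct, hcon])
  obtain ⟨r₁, hr₁⟩ : ∃ r, v₁ r ≠ 0 := by
    by_contra hcon
    push Not at hcon
    exact hv₁0 (funext hcon)
  set c := (a₁ ᵥ* (g : Mat)) s₁ / a₁ s₁ with hc
  have hgv₁ : ∀ r, ((g : Mat) *ᵥ v₁) r = c * v₁ r := by
    intro r
    have h := hcomm 1 v₁ a₁ hv₁ (fun x hx => ha₁ x (hW1 hx)) r s₁
    rw [hc]
    field_simp
    linear_combination h
  have ha₁g : ∀ s, (a₁ ᵥ* (g : Mat)) s = c * a₁ s := by
    intro s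
    have h := hcomm 1 v₁ a₁ hv₁ (fun x hx => ha₁ x (hW1 hx)) r₁ s
    rw [hgv₁] at h
    apply mul_left_cancel₀ hr₁
    linear_combination -h
  have hlow : ∀ v ∈ W D (m - 1), (g : Mat) *ᵥ v = c • v := by
    intro v hv
    funext r
    have h := hcomm (m - 1) v a₁ hv ha₁ r s₁
    rw [ha₁g] at h
    apply mul_right_cancel₀ hs₁
    rw [h, Pi.smul_apply, smul_eq_mul]
    ring
  have hhigh : ∀ x : Fin n → F, (g : Mat) *ᵥ x - c • x ∈ W D 1 := by
    intro x
    by_contra hx
    obtain ⟨a, hax, ha⟩ := exists_annihilator hx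
    apply hax
    have hag : a ᵥ* (g : Mat) = c • a := by
      funext s
      have h := hcomm 1 v₁ a hv₁ ha r₁ s
      rw [hgv₁] at h
      apply mul_left_cancel₀ hr₁
      rw [← h, Pi.smul_apply, smul_eq_mul]
      ring
    rw [dotProduct_sub, Matrix.dotProduct_mulVec, hag, smul_dotProduct, dotProduct_smul, sub_self]
  have hc0 : c ≠ 0 := by
    intro h0
    have h1 := hlow v₁ (hW1 hv₁)
    rw [h0, zero_smul] at h1
    have h2 := congrArg (fun x => ((g⁻¹ : SLn) : Mat) *ᵥ x) h1
    simp only [Matrix.mulVec_mulVec, Matrix.mulVec_zero, ← Matrix.SpecialLinearGroup.coe_mul,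
      inv_mul_cancel, Matrix.SpecialLinearGroup.coe_one, Matrix.one_mulVec] at h2
    exact hv₁0 h2
  set u : Mat := c⁻¹ • (g : Mat) with hu
  have hu1 : ∀ x, (u - 1) *ᵥ x = c⁻¹ • ((g : Mat) *ᵥ x - c • x) := by
    intro x
    rw [Matrix.sub_mulVec, Matrix.one_mulVec, hu, Matrix.smul_mulVec, smul_sub, smul_smul,
      inv_mul_cancel₀ hc0, one_smul]
  have husq : (u - 1) ^ 2 = 0 := Matrix.ext_of_mulVec_single fun k => by
    rw [pow_two, ← Matrix.mulVec_mulVec, hu1 ((u - 1) *ᵥ Pi.single k 1), hu1,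
      hlow _ (hW1 (Submodule.smul_mem _ _ (hhigh _))), sub_self, smul_zero, Matrix.zero_mulVec]
  haveI : Nonempty (Fin n) := ⟨⟨0, hn⟩⟩
  have hup : u ^ p = 1 := by
    have h1 : (u - 1) ^ p = 0 := pow_eq_zero_of_le hp.out.two_le husq
    rwa [sub_pow_char_of_commute _ (Commute.one_right u), one_pow, sub_eq_zero] at h1
  have hdet : u.det = 1 := by
    have h1 := congrArg Matrix.det hup
    rw [Matrix.det_pow, Matrix.det_one] at h1
    have h2 : (u.det - 1) ^ p = 0 := by rw [sub_pow_char, h1, one_pow, sub_self]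
    exact sub_eq_zero.1 (eq_zero_of_pow_eq_zero h2)
  have hmem : (⟨u, hdet⟩ : SLn) ∈ radical D := by
    intro j x hx
    show u *ᵥ x - x ∈ W D j
    rw [show u *ᵥ x - x = (u - 1) *ᵥ x by rw [Matrix.sub_mulVec, Matrix.one_mulVec], hu1]
    refine Submodule.smul_mem _ _ ?_
    rcases le_or_gt (j + 1) (m - 1) with hj | hj
    · rw [hlow x (W_mono D hj hx), sub_self]
      exact zero_mem _
    · exact W_mono D (show 1 ≤ j by omega) (hhigh x)
  rw [hrad] at hmem
  set uS : SLn := ⟨u, hdet⟩ with huS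
  have hzc : g * uS⁻¹ ∈ Subgroup.center SLn := by
    refine Matrix.SpecialLinearGroup.mem_center_iff.2 ⟨c, ?_, ?_⟩
    · have h1 : (c • u).det = 1 := by
        rw [hu, smul_smul, mul_inv_cancel₀ hc0, one_smul, Matrix.SpecialLinearGroup.det_coe]
      rwa [Matrix.det_smul, hdet, mul_one] at h1
    · have h1 : (g : Mat) = c • u := by rw [hu, smul_smul, mul_inv_cancel₀ hc0, one_smul]
      rw [Matrix.SpecialLinearGroup.coe_mul, h1, Matrix.smul_mul, Matrix.scalar_apply,
        ← Matrix.smul_one_eq_diagonal c]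
      congr 1
      rw [show u * ((uS⁻¹ : SLn) : Mat) =
        ((uS * uS⁻¹ : SLn) : Mat) from
          (Matrix.SpecialLinearGroup.coe_mul uS uS⁻¹).symm, mul_inv_cancel]
      exact Matrix.SpecialLinearGroup.coe_one
  have := mul_mem (Subgroup.mem_sup_left (T := D) hzc) (Subgroup.mem_sup_right hmem)
  rwa [inv_mul_cancel_right] at this

include hp in
theorem regular_mem_center {D : Subgroup SLn} (hD : IsPGroup p D) {x : SLn}
    (hx : ¬ p ∣ orderOf x) (h : x ∈ Subgroup.center SLn ⊔ D) : x ∈ Subgroup.center SLn := by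
  rw [← SetLike.mem_coe, Subgroup.normal_mul] at h
  obtain ⟨z, hz, d, hd, rfl⟩ := h
  obtain ⟨k, hk⟩ := hD ⟨d, hd⟩
  have hk' : d ^ p ^ k = 1 := by simpa using congrArg Subtype.val hk
  set N := orderOf (z * d) * Nat.card (Subgroup.center SLn) with hN
  have hzN : z ^ N = 1 := by
    rw [hN, mul_comm, pow_mul, show z ^ Nat.card (Subgroup.center SLn) = 1 from
      congrArg Subtype.val (pow_card_eq_one' (x := (⟨z, hz⟩ : Subgroup.center SLn))), one_pow]
  have hdN : d ^ N = 1 := by
    have h1 : (z * d) ^ N = 1 := by rw [hN, pow_mul, pow_orderOf_eq_one, one_pow]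
    rwa [(show Commute z d from (Subgroup.mem_center_iff.1 hz d).symm).mul_pow, hzN, one_mul] at h1
  have hcop : Nat.Coprime (p ^ k) N := by
    refine Nat.Coprime.pow_left k ((Nat.Prime.coprime_iff_not_dvd hp.out).2 ?_)
    rw [hN, Nat.Prime.dvd_mul hp.out]
    exact not_or.2 ⟨hx, not_dvd_center p⟩
  have h1 : orderOf d = 1 := Nat.eq_one_of_dvd_coprimes hcop (orderOf_dvd_of_pow_eq_one hk')
    (orderOf_dvd_of_pow_eq_one hdN)
  show z * d ∈ _
  rw [orderOf_eq_one_iff.1 h1, mul_one]
  exact hz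

include hp in
theorem regular_centralizer_center (hn : 1 ≤ n) {D : Subgroup SLn} (hD : IsPGroup p D)
    (hne : D ≠ ⊥) (hrad : radical D = D) {x : SLn} (hx : ¬ p ∣ orderOf x)
    (hxC : x ∈ Subgroup.centralizer (D : Set SLn)) : x ∈ Subgroup.center SLn :=
  regular_mem_center p hD hx (centralizer_le_center_sup p hn hD hne hrad hxC)

variable {M : Ideal AlgInt} [M.IsPrime]

include hp in
/-- A defect group is trivial or equal to its radical. -/
theorem radical_eq (hn : 1 ≤ n) (hM : IsPModular p M) {B : Set (IrrCharacter SLn)}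
    (hB : IsPBlock M B) {D : Subgroup SLn} (hD : IsDefectGroup p M B D) : radical D = D := by
  have hDp : IsPGroup p D := IsDefectGroup.isPGroup hD
  refine ((le_radical D).eq_or_lt.resolve_right fun hlt => ?_).symm
  have h1 := lt_inf_normalizer (isPGroup_radical p hn hDp) hlt
  set N := Subgroup.normalizer (D : Set SLn) with hN
  haveI := Fintype.ofFinite N
  obtain ⟨b, hb, hbD, -⟩ := exists_correspondent_normalizer hM hB hD
  haveI : ((radical D).subgroupOf N).Normal := ⟨fun r hr a => radical_conj hr a.2⟩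
  haveI : (Subgroup.comap N.subtype (radical D)).Normal := ‹((radical D).subgroupOf N).Normal›
  have h2 := le_of_isDefectGroup hM ((isPGroup_radical p hn hDp).comap_of_injective N.subtype
    N.subtype_injective : IsPGroup p ((radical D).subgroupOf N)) hb.1 hbD
  refine h1.not_ge fun x hx => ?_
  exact Subgroup.mem_subgroupOf.1 (h2 (show (⟨x, hx.2⟩ : N) ∈ (radical D).subgroupOf N from hx.1))

include hp in
/-- **A block of positive defect has full defect.** -/
theorem full_of_ne_zero (hn : 1 ≤ n) (hM : IsPModular p M) {B : Set (IrrCharacter SLn)}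
    (hB : IsPBlock M B) (h0 : blockDefect p B ≠ 0) :
    blockDefect p B = (Nat.card SLn).factorization p := by
  obtain ⟨D, hD⟩ := exists_isDefectGroup hM hB
  have hcard := IsDefectGroup.card_eq hM hB hD
  have hDp : IsPGroup p D := IsDefectGroup.isPGroup hD
  have hne : D ≠ ⊥ := by
    intro hbot
    rw [hbot, Subgroup.card_bot] at hcard
    exact h0 ((Nat.pow_eq_one.1 hcard.symm).resolve_left hp.out.ne_one)
  have hrad := radical_eq p hn hM hB hD
  obtain ⟨e, hmax⟩ := exists_maximal_defect hM hB hD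
  haveI := Fintype.ofFinite (Subgroup.centralizer (D : Set SLn))
  obtain ⟨θ, hθe, -, -, hstab⟩ := (exists_isMaximal_iff hM hmax.1.1).1 ⟨B, hmax⟩
  -- every element of the normaliser fixes the block
  have hst : ∀ g ∈ Subgroup.normalizer (D : Set SLn),
      StabilizesBlock (Subgroup.centralizer (D : Set SLn)) e g := by
    intro g hg
    have hgC := normalizer_le_normalizer_centralizer D hg
    refine ⟨hgC, fun χ hχ => ?_⟩
    let φ : ↥(Subgroup.centralizer (D : Set SLn)) ≃* ↥(Subgroup.centralizer (D : Set SLn)) :=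
      { toFun := fun a => ⟨g * a * g⁻¹, (Subgroup.mem_normalizer_iff.1 hgC _).1 a.2⟩
        invFun := fun a => ⟨g⁻¹ * a * g, by
          have := (Subgroup.mem_normalizer_iff.1 (inv_mem hgC) _).1 a.2
          rwa [inv_inv] at this⟩
        left_inv := fun a => Subtype.ext (by show g⁻¹ * (g * (a : SLn) * g⁻¹) * g = a; group)
        right_inv := fun a => Subtype.ext (by show g * (g⁻¹ * (a : SLn) * g) * g⁻¹ = a; group)
        map_mul' := fun a b => Subtype.ext (by
          show g * ((a : SLn) * b) * g⁻¹ = g * (a : SLn) * g⁻¹ * (g * (b : SLn) * g⁻¹)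
          group) }
    set χ' : IrrCharacter ↥(Subgroup.centralizer (D : Set SLn)) := ⟨(χ : ↥(Subgroup.centralizer (D : Set SLn)) → ℂ) ∘ φ.symm, IsIrrCharacter.comp_equiv χ.2 φ.symm⟩ with hχ'
    refine ⟨χ', ?_, ?_⟩
    · have hreg : ∀ x : ↥(Subgroup.centralizer (D : Set SLn)), ¬ p ∣ orderOf x → x ∈ Subgroup.center ↥(Subgroup.centralizer (D : Set SLn)) := by
        intro x hx
        rw [← Subgroup.orderOf_coe] at hx
        have := regular_centralizer_center p hn hDp hne hrad hx x.2
        exact Subgroup.mem_center_iff.2 fun y => Subtype.ext (Subgroup.mem_center_iff.1 this y)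
      have key : omega (χ : ↥(Subgroup.centralizer (D : Set SLn)) → ℂ) (blockCoeff (blockOf M (χ : ↥(Subgroup.centralizer (D : Set SLn)) → ℂ))) =
          omega (χ' : ↥(Subgroup.centralizer (D : Set SLn)) → ℂ) (blockCoeff (blockOf M (χ : ↥(Subgroup.centralizer (D : Set SLn)) → ℂ))) := by
        rw [omega, omega, Finset.sum_div, Finset.sum_div]
        refine Finset.sum_congr rfl fun x _ => ?_
        by_cases hx : p ∣ orderOf x
        · rw [blockCoeff_eq_zero_of_dvd hM (isPBlock_blockOf χ) hx, zero_mul, zero_mul,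
            zero_div, zero_div]
        · rw [← Subgroup.orderOf_coe] at hx
          have hz := regular_centralizer_center p hn hDp hne hrad hx x.2
          have e1 : φ.symm x = x := Subtype.ext (by
            show g⁻¹ * (x : SLn) * g = x
            rw [mul_assoc, ← Subgroup.mem_center_iff.1 hz g, inv_mul_cancel_left])
          show _ = _ * (χ : ↥(Subgroup.centralizer (D : Set SLn)) → ℂ) (φ.symm x) / (χ : ↥(Subgroup.centralizer (D : Set SLn)) → ℂ) (φ.symm 1)
          rw [e1, map_one]
      rw [omega_blockCoeff, omega_blockCoeff, if_pos (self_mem_blockOf χ)] at key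
      rw [IsPBlock.eq_blockOf hmax.1.1.2 hχ]
      by_contra hne'
      split_ifs at key with hif
      · exact hne' hif
      · exact one_ne_zero key
    · intro a b hab
      have : φ.symm b = a := by
        rw [MulEquiv.symm_apply_eq]
        exact Subtype.ext (by show (b : SLn) = g * (a : SLn) * g⁻¹; exact hab)
      show (χ : ↥(Subgroup.centralizer (D : Set SLn)) → ℂ) (φ.symm b) = _
      rw [this]
  obtain ⟨P, hP⟩ := hDp.exists_le_sylow
  rcases hP.eq_or_lt with heq | hlt
  · have h1 := Sylow.card_eq_multiplicity P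
    rw [← heq, hcard] at h1
    exact Nat.pow_right_injective hp.out.two_le h1
  exfalso
  refine (lt_inf_normalizer P.isPGroup' hlt).not_ge fun x hx => ?_
  obtain ⟨hxP, hxN⟩ := Subgroup.mem_inf.1 hx
  obtain ⟨k, hk⟩ := P.isPGroup' ⟨x, hxP⟩
  have hk' : x ^ p ^ k = 1 := by simpa using congrArg Subtype.val hk
  obtain ⟨j, -, hj⟩ := (Nat.dvd_prime_pow hp.out).1 (orderOf_dvd_of_pow_eq_one hk')
  have h1 := hstab x hxN (hst x hxN) ⟨j, hj⟩
  have h2 : D ⊔ Subgroup.centralizer (D : Set SLn) ≤ Subgroup.center SLn ⊔ D :=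
    sup_le le_sup_right (centralizer_le_center_sup p hn hDp hne hrad)
  have h3 := h2 h1
  rw [← SetLike.mem_coe, Subgroup.normal_mul] at h3
  obtain ⟨z, hz, d, hd, rfl⟩ := h3
  have hzP : z ∈ (P : Subgroup SLn) := by simpa using mul_mem hxP (inv_mem (hP hd))
  obtain ⟨k', hk''⟩ := P.isPGroup' ⟨z, hzP⟩
  show z * d ∈ D
  rw [center_eq_one p hz (k := k') (by simpa using congrArg Subtype.val hk''), one_mul]
  exact hd

include hp in
/-- The regular classes of full defect are central. -/
theorem full_class_central (hn : 2 ≤ n) {x : SLn} (hx : ¬ p ∣ orderOf x)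
    (hd : (Nat.card (Subgroup.centralizer ({x} : Set SLn))).factorization p =
      (Nat.card SLn).factorization p) : x ∈ Subgroup.center SLn := by
  obtain ⟨Q⟩ : Nonempty (Sylow p (Subgroup.centralizer ({x} : Set SLn))) := inferInstance
  set P : Subgroup SLn := (Q : Subgroup _).map (Subgroup.centralizer ({x} : Set SLn)).subtype
  have hPp : IsPGroup p P := Q.isPGroup'.map _
  have hcard : Nat.card P = p ^ (Nat.card SLn).factorization p := by
    rw [show P = (Q : Subgroup (Subgroup.centralizer ({x} : Set SLn))).map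
        (Subgroup.centralizer ({x} : Set SLn)).subtype from rfl,
      Subgroup.card_map_of_injective (Subgroup.subtype_injective _), Sylow.card_eq_multiplicity, hd]
  have hne : P ≠ ⊥ := by
    intro hbot
    have h1 : Nat.card (upperUni n F) ∣ p ^ (Nat.card SLn).factorization p := by
      have h := Sylow.card_eq_multiplicity (uniSyl (F := F) p (show 1 ≤ n by omega))
      rw [← h]
      exact dvd_of_eq rfl
    rw [← hcard, hbot, Subgroup.card_bot, Nat.dvd_one, Subgroup.card_eq_one] at h1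
    have hlt : (⟨0, by omega⟩ : Fin n) < ⟨1, by omega⟩ := Nat.zero_lt_one
    have h2 : et _ _ hlt.ne (1 : F) ∈ (⊥ : Subgroup SLn) := h1 ▸ et_mem_upperUni hlt 1
    have h3 := congrArg (fun s : SLn => (s : Mat) ⟨0, by omega⟩ ⟨1, by omega⟩)
      (Subgroup.mem_bot.1 h2)
    simp [et_coe] at h3
  have hrad : radical P = P := by
    refine (Subgroup.eq_of_le_of_card_ge (le_radical P) ?_).symm
    obtain ⟨j, hj⟩ := (isPGroup_radical p (show 1 ≤ n by omega) hPp).exists_card_eq
    rw [hcard, hj]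
    refine Nat.pow_le_pow_right hp.out.pos ?_
    exact (hp.out.pow_dvd_iff_le_factorization Nat.card_pos.ne').1
      (hj ▸ Subgroup.card_subgroup_dvd_card _)
  refine regular_centralizer_center p (by omega) hPp hne hrad hx
    (Subgroup.mem_centralizer_iff.2 fun y hy => ?_)
  obtain ⟨q, -, rfl⟩ := hy
  exact Subgroup.mem_centralizer_singleton_iff.1 q.2

include hp in
theorem defect_pow_dvd {B : Set (IrrCharacter SLn)} (h0 : blockDefect p B = 0)
    {χ : IrrCharacter SLn} (hχ : χ ∈ B) :
    p ^ (Nat.card SLn).factorization p ∣ charDegree (χ : SLn → ℂ) := by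
  refine (hp.out.pow_dvd_iff_le_factorization (charDegree_pos χ).ne').2 ?_
  have h1 : sInf ((fun χ : IrrCharacter SLn => (charDegree (χ : SLn → ℂ)).factorization p) '' B) ≤
      (charDegree (χ : SLn → ℂ)).factorization p := Nat.sInf_le ⟨χ, hχ, rfl⟩
  have h2 : (Nat.card SLn).factorization p ≤
      sInf ((fun χ : IrrCharacter SLn => (charDegree (χ : SLn → ℂ)).factorization p) '' B) :=
    Nat.sub_eq_zero_iff_le.1 h0
  omega

include hp in
/-- The character of defect zero. -/
theorem exists_defect_zero (hn : 2 ≤ n) (hM : IsPModular p M) :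
    ∃ χ₀ : IrrCharacter SLn,
      (χ₀ : SLn → ℂ) 1 = ((p ^ (Nat.card SLn).factorization p : ℕ) : ℂ) ∧
      (∀ z ∈ Subgroup.center SLn, (χ₀ : SLn → ℂ) z = (χ₀ : SLn → ℂ) 1) ∧
      blockOf M (χ₀ : SLn → ℂ) = {χ₀} ∧ blockDefect p (blockOf M (χ₀ : SLn → ℂ)) = 0 ∧
      ∀ B : Set (IrrCharacter SLn), IsPBlock M B → blockDefect p B = 0 → B = {χ₀} := by
  have hn1 : 1 ≤ n := by omega
  set v := (Nat.card SLn).factorization p
  obtain ⟨ψ, hψ, hψP⟩ := OddChar.psl_steinberg (F := F) (n := n) p
  obtain ⟨P⟩ : Nonempty (Sylow p (Matrix.ProjectiveSpecialLinearGroup (Fin n) F)) := inferInstance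
  have hψ1 : ψ 1 = ((p ^ v : ℕ) : ℂ) := by
    rw [(hψP P).1, Sylow.card_eq_multiplicity]
    have h1 := Subgroup.card_eq_card_quotient_mul_card_subgroup (Subgroup.center SLn)
    have h2 : (Nat.card SLn).factorization p =
        (Nat.card (Matrix.ProjectiveSpecialLinearGroup (Fin n) F)).factorization p := by
      rw [h1, Nat.factorization_mul Nat.card_pos.ne' Nat.card_pos.ne', Finsupp.add_apply,
        Nat.factorization_eq_zero_of_not_dvd (not_dvd_center p), add_zero]
    rw [← h2]
  set χ₀ : IrrCharacter SLn := ⟨ψ ∘ proj, IsIrrCharacter.comp_surjective hψ proj proj_surjective⟩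
  have hχ1 : (χ₀ : SLn → ℂ) 1 = ((p ^ v : ℕ) : ℂ) := by
    show ψ (proj 1) = _
    rw [map_one, hψ1]
  have hdeg : charDegree (χ₀ : SLn → ℂ) = p ^ v := by
    have := charDegree_eq χ₀
    rw [hχ1] at this
    exact_mod_cast this
  have hsing : blockOf M (χ₀ : SLn → ℂ) = {χ₀} := by
    refine blockOf_eq_singleton hM χ₀ ?_
    rw [hdeg]
    exact Nat.not_dvd_ordCompl hp.out Nat.card_pos.ne'
  refine ⟨χ₀, hχ1, fun z hz => ?_, hsing, ?_, fun B hB h0 => ?_⟩
  · show ψ (proj z) = ψ (proj 1)
    rw [proj_eq_one.2 hz, map_one]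
  · rw [hsing, blockDefect, Set.image_singleton, csInf_singleton, hdeg,
      hp.out.factorization_pow, Finsupp.single_eq_same, Nat.sub_self]
  · obtain ⟨χ, hχ⟩ := IsPBlock.nonempty hB
    have hd := defect_pow_dvd p h0 hχ
    have h := SLDefectZero.eq_of_defect_zero p hn1 χ.2 χ₀.2 (charDegree_eq χ).symm hχ1 hd (dvd_refl _)
    rw [IsPBlock.eq_blockOf hB hχ, show χ = χ₀ from Subtype.ext h, hsing]

include hp in
theorem blockDefect_trivIrr :
    blockDefect p (blockOf M (trivIrr SLn : SLn → ℂ)) = (Nat.card SLn).factorization p := by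
  have h1 : charDegree (trivIrr SLn : SLn → ℂ) = 1 := by simp [charDegree]
  rw [blockDefect, Nat.sInf_eq_zero.2 (Or.inl (show 0 ∈ _ '' blockOf M (trivIrr SLn : SLn → ℂ) from
    ⟨trivIrr SLn, self_mem_blockOf _, by simp [h1]⟩)),
    Nat.sub_zero]

include hp in
theorem fac_pos (hn : 2 ≤ n) : 0 < (Nat.card SLn).factorization p := by
  refine hp.out.factorization_pos_of_dvd Nat.card_pos.ne' ?_
  have hlt : (⟨0, by omega⟩ : Fin n) < ⟨1, by omega⟩ := Nat.zero_lt_one
  have hne : et _ _ hlt.ne (1 : F) ≠ (1 : SLn) := fun h => by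
    have h3 := congrArg (fun s : SLn => (s : Mat) ⟨0, by omega⟩ ⟨1, by omega⟩) h
    simp [et_coe] at h3
  obtain ⟨k, hk⟩ := isPGroup_upperUni (n := n) (F := F) p ⟨_, et_mem_upperUni hlt (1 : F)⟩
  obtain ⟨j, -, hj⟩ := (Nat.dvd_prime_pow hp.out).1
    (orderOf_dvd_of_pow_eq_one (x := et _ _ hlt.ne (1 : F)) (by simpa using congrArg Subtype.val hk))
  refine (dvd_pow_self p fun h0 => hne ?_).trans (hj ▸ orderOf_dvd_natCard _)
  rw [h0, pow_zero] at hj
  exact orderOf_eq_one_iff.1 hj

include hp in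
/-- Full-defect blocks are given by the character of the centre. -/
theorem sameBlock_full (hn : 2 ≤ n) (hM : IsPModular p M) {χ ψ : IrrCharacter SLn}
    (hχ : blockDefect p (blockOf M (χ : SLn → ℂ)) = (Nat.card SLn).factorization p)
    (hψ : blockDefect p (blockOf M (ψ : SLn → ℂ)) = (Nat.card SLn).factorization p)
    (h : ∀ z ∈ Subgroup.center SLn,
      (χ : SLn → ℂ) z / (χ : SLn → ℂ) 1 = (ψ : SLn → ℂ) z / (ψ : SLn → ℂ) 1) :
    SameBlock M (χ : SLn → ℂ) (ψ : SLn → ℂ) :=
  (sameBlock_iff_classes hM hχ hψ).2 fun x hx hd => by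
    have hz := full_class_central p hn hx hd
    rw [centralChar_center _ hz, centralChar_center _ hz, h x hz, sub_self]
    exact memLocalIdeal_zero

include hp in
/-- The number of blocks of full defect. -/
theorem card_full (hn : 2 ≤ n) (hM : IsPModular p M) :
    Nat.card {B : Set (IrrCharacter SLn) //
        IsPBlock M B ∧ blockDefect p B = (Nat.card SLn).factorization p} =
      Nat.card (Subgroup.center SLn) := by
  obtain ⟨χ₀, -, hχ₀z, -, -, huniq⟩ := exists_defect_zero (F := F) p hn hM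
  haveI := Fintype.ofFinite (Subgroup.center SLn)
  have hZ := not_dvd_center (n := n) (F := F) p
  have key : ∀ θ : IrrCharacter (Subgroup.center SLn), ∃ χ : IrrCharacter SLn,
      blockDefect p (blockOf M (χ : SLn → ℂ)) = (Nat.card SLn).factorization p ∧
      ∀ z : Subgroup.center SLn, (χ : SLn → ℂ) z / (χ : SLn → ℂ) 1 =
        (θ : Subgroup.center SLn → ℂ) z / (θ : Subgroup.center SLn → ℂ) 1 := by
    intro θ
    by_cases htriv : ∀ z : Subgroup.center SLn,
        (θ : Subgroup.center SLn → ℂ) z = (θ : Subgroup.center SLn → ℂ) 1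
    · refine ⟨trivIrr SLn, blockDefect_trivIrr p, fun z => ?_⟩
      rw [htriv z, div_self (IsIrrCharacter.apply_one_ne_zero θ.2)]
      simp
    obtain ⟨χ, hχ⟩ := exists_char_over_center θ
    refine ⟨χ, full_of_ne_zero p (by omega) hM (isPBlock_blockOf χ) fun h0 => htriv fun z => ?_, hχ⟩
    have e : χ = χ₀ :=
      Set.mem_singleton_iff.1 (huniq _ (isPBlock_blockOf χ) h0 ▸ self_mem_blockOf χ)
    have h1 := hχ z
    rw [e, hχ₀z _ z.2, div_self (IsIrrCharacter.apply_one_ne_zero χ₀.2),
      eq_div_iff (IsIrrCharacter.apply_one_ne_zero θ.2), one_mul] at h1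
    exact h1.symm
  choose f hf hfz using key
  have hbij : Function.Bijective (fun θ : IrrCharacter (Subgroup.center SLn) =>
      (⟨blockOf M (f θ : SLn → ℂ), isPBlock_blockOf _, hf θ⟩ :
        {B : Set (IrrCharacter SLn) //
          IsPBlock M B ∧ blockDefect p B = (Nat.card SLn).factorization p})) := by
    constructor
    · intro θ θ' h
      have h1 : f θ' ∈ blockOf M (f θ : SLn → ℂ) := by
        rw [show blockOf M (f θ : SLn → ℂ) = blockOf M (f θ' : SLn → ℂ) from congrArg Subtype.val h]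
        exact self_mem_blockOf _
      have hsb := IsPBlock.sameBlock (isPBlock_blockOf (M := M) (f θ)) (self_mem_blockOf _) h1
      refine irr_ext_of_comm (fun a b => Subtype.ext (Subgroup.mem_center_iff.1 b.2 a)) fun z => ?_
      rw [← hfz, ← hfz, center_ratio_eq hM hZ hsb z.2]
    · rintro ⟨B, hB, hd⟩
      obtain ⟨χ, hχ⟩ := IsPBlock.nonempty hB
      obtain ⟨θ, hθ⟩ : ∃ θ : IrrCharacter (Subgroup.center SLn),
          classInner (fun z : Subgroup.center SLn => (χ : SLn → ℂ) z)
            (θ : Subgroup.center SLn → ℂ) ≠ 0 := by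
        obtain ⟨θ, hθ⟩ := IsCharacter.exists_constituent
          (IsCharacter.restrict (irr_isCharacter χ) (Subgroup.center SLn)) fun h0 => by
            have h1 := congrFun h0 1
            simp only [Pi.zero_apply, Subgroup.coe_one] at h1
            exact IsIrrCharacter.apply_one_ne_zero χ.2 h1
        exact ⟨θ, hθ⟩
      refine ⟨θ, Subtype.ext ?_⟩
      show blockOf M (f θ : SLn → ℂ) = B
      rw [IsPBlock.eq_blockOf hB hχ] at hd ⊢
      refine blockOf_eq_of_sameBlock (sameBlock_full p hn hM (hf θ) hd fun z hz => ?_)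
      rw [hfz θ ⟨z, hz⟩]
      exact (ratio_of_constituent hθ ⟨z, hz⟩).symm
  rw [← Nat.card_eq_of_bijective _ hbij, card_irrCharacter]
  exact Nat.card_congr (Equiv.ofBijective ConjClasses.mk
    ⟨fun a b h => by
      obtain ⟨c, hc⟩ := isConj_iff.1 (ConjClasses.mk_eq_mk_iff_isConj.1 h)
      rw [← hc]
      exact Subtype.ext (by
        show (a : SLn) = c * a * (c : SLn)⁻¹
        rw [Subgroup.mem_center_iff.1 a.2 c, mul_inv_cancel_right]),
      ConjClasses.mk_surjective⟩).symm

include hp in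
theorem card_defect_zero (hn : 2 ≤ n) (hM : IsPModular p M) :
    Nat.card {B : Set (IrrCharacter SLn) // IsPBlock M B ∧ blockDefect p B = 0} = 1 := by
  obtain ⟨χ₀, -, -, hsing, hd, huniq⟩ := exists_defect_zero (F := F) p hn hM
  rw [Nat.card_eq_one_iff_unique]
  exact ⟨⟨fun a b => Subtype.ext ((huniq _ a.2.1 a.2.2).trans (huniq _ b.2.1 b.2.2).symm)⟩,
    ⟨⟨_, isPBlock_blockOf χ₀, hd⟩⟩⟩

include hp in
/-- The number of blocks. -/
theorem card_blocks (hn : 2 ≤ n) (hM : IsPModular p M) :
    Nat.card {B : Set (IrrCharacter SLn) // IsPBlock M B} =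
      Nat.card (Subgroup.center SLn) + 1 := by
  rw [← card_full (F := F) p hn hM, ← card_defect_zero (F := F) p hn hM, ← Nat.card_sum]
  have hv := fac_pos (F := F) p hn
  refine Nat.card_congr
    { toFun := fun B => if h : blockDefect p B.1 = 0 then Sum.inr ⟨B.1, B.2, h⟩
        else Sum.inl ⟨B.1, B.2, full_of_ne_zero p (by omega) hM B.2 h⟩
      invFun := fun s => s.elim (fun B => ⟨B.1, B.2.1⟩) (fun B => ⟨B.1, B.2.1⟩)
      left_inv := fun B => by dsimp only; split_ifs <;> rfl
      right_inv := fun s => by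
        rcases s with ⟨B, hB, hd⟩ | ⟨B, hB, hd⟩
        · exact dif_neg (fun h => by simp only [Sum.elim_inl] at h; omega)
        · exact dif_pos hd }

include hp in
/-- Every Sylow subgroup is a defect group of a block of full defect. -/
theorem isDefectGroup_sylow (hM : IsPModular p M) {B : Set (IrrCharacter SLn)}
    (hB : IsPBlock M B) (hd : blockDefect p B = (Nat.card SLn).factorization p)
    (P : Sylow p SLn) : IsDefectGroup p M B (P : Subgroup SLn) := by
  obtain ⟨D, hD⟩ := exists_isDefectGroup hM hB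
  obtain ⟨Q, hQ⟩ := (IsDefectGroup.isPGroup hD).exists_le_sylow
  have hDQ : D = (Q : Subgroup SLn) := Subgroup.eq_of_le_of_card_ge hQ (le_of_eq (by
    rw [IsDefectGroup.card_eq hM hB hD, hd, Sylow.card_eq_multiplicity]))
  obtain ⟨g, hg⟩ := MulAction.exists_smul_eq SLn Q P
  have h := IsDefectGroup.map_conj hD g
  rw [hDQ] at h
  rw [← hg]
  exact h

end Cfsg.Agent.Lib.Blocks.SLBlk
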