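import Cfsg.Agent.Lib.Blocks.SLMatrix
import Cfsg.Agent.Lib.BNPair.DefectZero
import Cfsg.Agent.Lib.BNPair.DefectZeroModel

/-!
`SL_n` over a field of characteristic `p` has at most one character of `p`-defect zero.
-/

set_option autoImplicit false
set_option linter.unusedSectionVars false
set_option linter.style.haveILetI false

namespace Cfsg.Agent.Lib.Blocks.SLDefectZero

open Matrix
open Cfsg Cfsg.Agent.Lib.Classical Cfsg.Agent.Lib.Classical.AutPSL Cfsg.Agent.Lib.Blocks
open Cfsg.Agent.Lib.Blocks.SLMat Cfsg.Agent.Lib.Characters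
open Cfsg.Agent.Lib.BNPair.DefectZero (rho_mul rho_one sumOp sumOp_apply fix_sumOp sumOp_rho
  conj_sumOp sumOp_eq_zero_of_le sumOp_fixed sumOp_fixed_zero exists_fixed fixedSub cosetEquiv
  cosetEquiv_apply mem_fixedSub)
open scoped _root_.Classical

variable {n : ℕ} {F : Type*} [Field F] [Fintype F]

local notation "SLn" => Matrix.SpecialLinearGroup (Fin n) F
local notation "Mat" => Matrix (Fin n) (Fin n) F
local notation "U" => upperUni n F

noncomputable local instance : Fintype SLn := Fintype.ofFinite _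

variable (p : ℕ) [hp : Fact p.Prime] [CharP F p]

section modrep

variable {k : Type*} [Field k] [CharP k p] {V : Type*} [AddCommGroup V] [Module k V]
  (ρ : Matrix.SpecialLinearGroup (Fin n) F →* Module.End k V)

include p in
theorem sumU_mono_zero {m : SLn} {w : Equiv.Perm (Fin n)} {c : Fin n → F} (hm : IsMono w c m)
    {i j : Fin n} (hij : i < j) (hw : w i < w j) {x : V} (hx : x ∈ fixedSub ρ U) :
    sumOp ρ U (ρ m x) = (0 : V) := by
  have hU := isPGroup_upperUni (n := n) (F := F) p
  set K : Subgroup SLn := U ⊓ (upperUni n F).comap (MulAut.conj m⁻¹).toMonoidHom with hK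
  refine sumOp_eq_zero_of_le ρ (inf_le_left : K ≤ U) (sumOp_fixed_zero ρ (p := p)
    (hU.to_le inf_le_left) ?_ fun u hu => ?_)
  · intro hbot
    have hmem : et (w i) (w j) hw.ne 1 ∈ K := by
      refine Subgroup.mem_inf.2 ⟨et_mem_upperUni hw 1, ?_⟩
      rw [Subgroup.mem_comap, MulEquiv.toMonoidHom_eq_coe, MonoidHom.coe_coe, MulAut.conj_apply,
        inv_inv]
      have h := hm.conj_et hij.ne hw.ne (c j / c i)
      rw [show c i / c j * (c j / c i) = 1 by
        have := hm.ne_zero i; have := hm.ne_zero j; field_simp] at h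
      rw [mul_assoc, ← h, inv_mul_cancel_left]
      exact et_mem_upperUni hij _
    have h0 := Subgroup.mem_bot.1 ((le_of_eq hbot : K ≤ (⊥ : Subgroup SLn)) hmem)
    have h1 := congrArg (fun s : SLn => (s : Mat) (w i) (w j)) h0
    simp [et_coe, hw.ne] at h1
  · obtain ⟨-, hu⟩ := Subgroup.mem_inf.1 hu
    rw [Subgroup.mem_comap, MulEquiv.toMonoidHom_eq_coe, MonoidHom.coe_coe, MulAut.conj_apply,
      inv_inv] at hu
    calc ρ u (ρ m x) = ρ (m * (m⁻¹ * u * m)) x := by rw [← rho_mul]; group
      _ = ρ m x := by rw [rho_mul, hx _ hu]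

theorem rho_diag_mem_fixed {h : SLn} (hh : h ∈ diagSub n F) {x : V} (hx : x ∈ fixedSub ρ U) :
    ρ h x ∈ fixedSub ρ U := fun u hu => by
  have h1 := hx _ (diag_normalizes' (inv_mem hh) hu)
  rw [inv_inv] at h1
  calc ρ u (ρ h x) = ρ (h * (h⁻¹ * u * h)) x := by rw [← rho_mul]; group
    _ = ρ h x := by rw [rho_mul, h1]

include p in
theorem sumU_decomp {n₀ : SLn} {c₀ : Fin n → F} (hn₀ : IsMono Fin.revPerm c₀ n₀) {g u u' m : SLn}
    {w : Equiv.Perm (Fin n)} {c : Fin n → F} (hu : u ∈ U) (hu' : u' ∈ U) (hm : IsMono w c m)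
    (hg : g = u * m * u') {x : V} (hx : x ∈ fixedSub ρ U) :
    (w ≠ Fin.revPerm ∧ sumOp ρ U (ρ g x) = (0 : V)) ∨
      (w = Fin.revPerm ∧ n₀⁻¹ * m ∈ diagSub n F ∧
        sumOp ρ U (ρ g x) = sumOp ρ U (ρ n₀ (ρ (n₀⁻¹ * m) x))) := by
  have e : sumOp ρ U (ρ g x) = sumOp ρ U (ρ m x) := by
    rw [hg, rho_mul, rho_mul, sumOp_rho ρ hu, hx u' hu']
  by_cases hw : w = Fin.revPerm
  · subst hw
    refine Or.inr ⟨rfl, hn₀.eq_mul_diag hm, ?_⟩
    rw [e, ← rho_mul, mul_inv_cancel_left]
  · refine Or.inl ⟨hw, ?_⟩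
    rcases rev_or_exists_lt w with h | ⟨i, j, hij, hwij⟩
    · exact absurd (Equiv.ext fun i => by rw [h i, Fin.revPerm_apply]) hw
    · rw [e, sumU_mono_zero p ρ hm hij hwij hx]

variable [FiniteDimensional k V]

include p in
/-- In a module with the Schur relations the fixed vectors of `U` form a line. -/
theorem rankOne [Nontrivial V] {n₀ : SLn} {c₀ : Fin n → F} (hn₀ : IsMono Fin.revPerm c₀ n₀)
    {c : k} (hc : c ≠ 0)
    (hschur : ∀ (f : Module.Dual k V) (x v : V),
      ∑ g : SLn, f (ρ g⁻¹ x) • ρ g v = (c * f v) • x) :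
    ∃ v : V, v ≠ 0 ∧ v ∈ fixedSub ρ U ∧ (∀ x ∈ fixedSub ρ U, ∃ a : k, x = a • v) ∧
      sumOp ρ U (ρ n₀ v) ≠ (0 : V) := by
  set W := fixedSub ρ U with hW
  set T : Module.End k V := sumOp ρ U ∘ₗ ρ n₀ with hT
  set S : Submodule k (Module.End k V) :=
    Submodule.span k (Set.range fun h : diagSub n F => ρ (h : SLn)) with hS
  have hSW : ∀ A ∈ S, ∀ x ∈ W, A x ∈ W := by
    intro A hA
    induction hA using Submodule.span_induction with
    | mem A hA =>
      obtain ⟨h, rfl⟩ := hA
      exact fun x hx => rho_diag_mem_fixed ρ h.2 hx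
    | zero => exact fun x _ => zero_mem W
    | add A B _ _ hA hB => exact fun x hx => add_mem (hA x hx) (hB x hx)
    | smul a A _ hA => exact fun x hx => W.smul_mem a (hA x hx)
  have hcomm : ∀ A ∈ S, ∀ B ∈ S, A * B = B * A := by
    intro A hA B hB
    have h1 : ∀ h : diagSub n F, Commute (ρ (h : SLn)) B := by
      intro h
      induction hB using Submodule.span_induction with
      | mem B hB =>
        obtain ⟨h', rfl⟩ := hB
        show ρ _ * ρ _ = ρ _ * ρ _
        rw [← map_mul, ← map_mul, diag_comm h.2 h'.2]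
      | zero => exact Commute.zero_right _
      | add A B _ _ hA hB => exact hA.add_right hB
      | smul a A _ hA => exact hA.smul_right a
    suffices h : Commute A B from h
    induction hA using Submodule.span_induction with
    | mem A hA => obtain ⟨h, rfl⟩ := hA; exact h1 h
    | zero => exact Commute.zero_left _
    | add A B _ _ hA hB => exact hA.add_left hB
    | smul a A _ hA => exact hA.smul_left a
  have hop : ∀ g : SLn, ∃ A ∈ S, ∀ x ∈ W, sumOp ρ U (ρ g x) = T (A x) := by
    intro g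
    obtain ⟨u, u', m, w, cm, hu, hu', hm, hg⟩ := exists_bruhat_SL g
    by_cases hw : w = Fin.revPerm
    · subst hw
      refine ⟨ρ (n₀⁻¹ * m), Submodule.subset_span ⟨⟨_, hn₀.eq_mul_diag hm⟩, rfl⟩, fun x hx => ?_⟩
      exact ((sumU_decomp p ρ hn₀ hu hu' hm hg hx).resolve_left fun h => h.1 rfl).2.2
    · refine ⟨0, zero_mem S, fun x hx => ?_⟩
      rw [LinearMap.zero_apply, map_zero]
      exact ((sumU_decomp p ρ hn₀ hu hu' hm hg hx).resolve_right fun h => hw h.1).2
  have hrank : ∀ (f : Module.Dual k V), ∀ y ∈ W, ∃ A ∈ S, ∀ x ∈ W, T (A x) = f x • y := by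
    intro f y hy
    obtain ⟨y', hy'⟩ : ∃ y', sumOp ρ U y' = y := by
      by_cases hy0 : y = 0
      · exact ⟨0, by rw [map_zero, hy0]⟩
      obtain ⟨f', hf'⟩ : ∃ f' : Module.Dual k V, f' y ≠ 0 := by
        by_contra hcon
        push Not at hcon
        exact hy0 ((Module.forall_dual_apply_eq_zero_iff k y).1 hcon)
      have h := hschur f' y y
      set e := cosetEquiv (upperUni n F) with he
      refine ⟨(c * f' y)⁻¹ • ∑ r : SLn ⧸ upperUni n F, f' (ρ r.out y) • ρ r.out⁻¹ y, ?_⟩
      rw [map_smul, inv_smul_eq_iff₀ (mul_ne_zero hc hf'), ← h, map_sum,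
        ← Equiv.sum_comp (Equiv.inv SLn) (fun g => f' (ρ g⁻¹ y) • ρ g y), ← e.sum_comp,
        Fintype.sum_prod_type]
      refine Finset.sum_congr rfl fun r _ => ?_
      rw [map_smul, sumOp_apply, Finset.smul_sum]
      refine Fintype.sum_equiv (Equiv.inv (upperUni n F)) _ _ fun u => ?_
      have key : e (r, u⁻¹) = r.out * (u : SLn)⁻¹ := rfl
      simp only [Equiv.inv_apply, key, _root_.mul_inv_rev, inv_inv]
      rw [rho_mul ρ r.out, hy _ (inv_mem u.2), rho_mul ρ (u : SLn)]
    choose A hAS hA using hop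
    refine ⟨c⁻¹ • ∑ g, f (ρ g⁻¹ y') • A g,
      S.smul_mem _ (Submodule.sum_mem _ fun g _ => S.smul_mem _ (hAS g)), fun x hx => ?_⟩
    have h1 : ∑ g, f (ρ g⁻¹ y') • T (A g x) = (c * f x) • y := by
      rw [← hy', ← map_smul (sumOp ρ U), ← hschur f y' x, map_sum]
      exact Finset.sum_congr rfl fun g _ => by rw [map_smul, hA g x hx]
    simp only [LinearMap.smul_apply, LinearMap.sum_apply, map_smul, map_sum]
    rw [h1, smul_smul, ← mul_assoc, inv_mul_cancel₀ hc, one_mul]
  have hTW : ∀ x ∈ W, T x ∈ W := fun x _ u hu => fix_sumOp ρ hu _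
  obtain ⟨v, hv0, hvW⟩ := exists_fixed ρ (isPGroup_upperUni (n := n) (F := F) p) (p := p)
  obtain ⟨f₀, hf₀⟩ : ∃ f₀ : Module.Dual k V, f₀ v ≠ 0 := by
    by_contra hcon
    push Not at hcon
    exact hv0 ((Module.forall_dual_apply_eq_zero_iff k v).1 hcon)
  have hinj : ∀ x ∈ W, T x = 0 → x = 0 := by
    have hsurj : Function.Surjective (T.restrict hTW) := by
      rintro ⟨y, hy⟩
      obtain ⟨A, hA, hAy⟩ := hrank f₀ y hy
      refine ⟨(f₀ v)⁻¹ • ⟨A v, hSW A hA v hvW⟩, Subtype.ext ?_⟩
      show T ((f₀ v)⁻¹ • A v) = y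
      rw [map_smul, hAy v hvW, smul_smul, inv_mul_cancel₀ hf₀, one_smul]
    intro x hx hTx
    exact congrArg Subtype.val (LinearMap.injective_iff_surjective.2 hsurj
      (a₁ := ⟨x, hx⟩) (a₂ := 0) (Subtype.ext (by simpa using hTx)))
  have hone : ∀ (f : Module.Dual k V), ∀ y ∈ W, ∃ A ∈ S, ∀ x ∈ W, A x = f x • y := by
    intro f y hy
    obtain ⟨A, hA, hAy⟩ := hrank f (T y) (hTW y hy)
    refine ⟨A, hA, fun x hx => sub_eq_zero.1 (hinj _ (sub_mem (hSW A hA x hx) (W.smul_mem _ hy)) ?_)⟩
    rw [map_sub, map_smul, hAy x hx, sub_self]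
  refine ⟨v, hv0, hvW, fun x hx => ?_, fun h => hv0 (hinj v hvW h)⟩
  by_contra hcon
  push Not at hcon
  have hx' : x ∉ Submodule.span k {v} := fun h => by
    obtain ⟨a, ha⟩ := Submodule.mem_span_singleton.1 h
    exact hcon a ha.symm
  obtain ⟨f, hfx, hfv⟩ := Submodule.exists_dual_map_eq_bot_of_notMem hx' inferInstance
  have hfv' : f v = 0 := by
    have : f v ∈ (Submodule.span k {v}).map f := ⟨v, Submodule.mem_span_singleton_self v, rfl⟩
    rwa [hfv, Submodule.mem_bot] at this
  obtain ⟨A, hA, hAv⟩ := hone ((f x)⁻¹ • f) v hvW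
  obtain ⟨B, hB, hBx⟩ := hone ((f x)⁻¹ • f) x hx
  have h1 : A (B x) = B (A x) := LinearMap.congr_fun (hcomm A hA B hB) x
  rw [hBx x hx, hAv x hx, LinearMap.smul_apply, smul_eq_mul, inv_mul_cancel₀ hfx, one_smul,
    one_smul, hAv x hx, hBx v hvW] at h1
  simp [hfx, hfv'] at h1
  exact hv0 h1

include p in
/-- The torus acts trivially on the fixed line. -/
theorem diag_fix {n₀ : SLn} {c₀ : Fin n → F} (hn₀ : IsMono Fin.revPerm c₀ n₀) {v : V}
    (hv0 : v ≠ 0) (hvW : v ∈ fixedSub ρ U)
    (hline : ∀ x ∈ fixedSub ρ U, ∃ a : k, x = a • v) (hTv : sumOp ρ U (ρ n₀ v) ≠ (0 : V))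
    {h : SLn} (hh : h ∈ diagSub n F) : ρ h v = v := by
  have hq0 : (Fintype.card F : k) = 0 := by
    obtain ⟨f, -, hf⟩ := FiniteField.card F p
    rw [hf, Nat.cast_pow, CharP.cast_eq_zero, zero_pow (PNat.ne_zero f)]
  -- the coroots act trivially
  have key : ∀ (i j : Fin n) (hne : i ≠ j), (j : ℕ) = i + 1 → ∀ a : Fˣ,
      ρ (emb i j hne (h2 a)) v = v := by
    intro i j hne hij
    have hlt : i < j := by rw [Fin.lt_def]; omega
    set e := emb (F := F) i j hne with he
    have hH : ∀ a : Fˣ, e (h2 a) ∈ diagSub n F := fun a => ⟨_, isMono_emb_h2 hne a⟩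
    have hX : ∀ t : F, e (x2 t) ∈ U := fun t => by
      rw [he, emb_x2]; exact et_mem_upperUni hlt t
    have hθex : ∀ a : Fˣ, ∃ b : k, ρ (e (h2 a)) v = b • v := fun a =>
      hline _ (rho_diag_mem_fixed ρ (hH a) hvW)
    choose θ hθ using hθex
    have hθmul : ∀ a b, θ (a * b) = θ a * θ b := by
      intro a b
      apply smul_left_injective k hv0
      show θ (a * b) • v = (θ a * θ b) • v
      rw [← hθ, h2_mul, map_mul, rho_mul, hθ b, map_smul, hθ a, smul_smul, mul_comm]
    set ν : SLn := e w2 with hν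
    set z : V := ∑ t : F, ρ (e (x2 t) * ν) v with hz
    have hzW : z ∈ fixedSub ρ U := by
      intro u hu
      rw [hz, map_sum]
      refine Fintype.sum_equiv (Equiv.addLeft ((u : Mat) i j)) _ _ fun t => ?_
      rw [← rho_mul, Equiv.coe_addLeft]
      set t' := (u : Mat) i j + t with ht'
      set a : SLn := e (x2 (-t')) * (u * e (x2 t)) with ha
      have haU : a ∈ U := mul_mem (hX _) (mul_mem hu (hX _))
      have hij0 : (a : Mat) i j = 0 := by
        rw [ha, Matrix.SpecialLinearGroup.coe_mul, uni_mul_adjacent (hX _) (mul_mem hu (hX _)) hij,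
          Matrix.SpecialLinearGroup.coe_mul, uni_mul_adjacent hu (hX _) hij, he, emb_x2, emb_x2,
          et_coe, et_coe]
        simp [hne, ht']
      have hconj : ν⁻¹ * a * ν ∈ U := by
        intro r s hsr
        have hm := isMono_emb_w2 (F := F) hne
        apply mul_left_cancel₀ (hm.ne_zero r)
        rw [hν, hm.conj_apply]
        by_cases hcase : r = j ∧ s = i
        · rw [hcase.1, hcase.2, Equiv.swap_apply_right, Equiv.swap_apply_left, hij0, zero_mul]
          simp [hne.symm]
        · rw [haU _ _ ?_]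
          · simp only [Equiv.apply_eq_iff_eq]
            split_ifs with h1 h2 h3 <;> simp_all
          · simp only [Fin.ext_iff] at hcase
            simp only [Equiv.swap_apply_def, Fin.le_def] at hsr ⊢
            simp only [Fin.ext_iff, Fin.lt_def] at hlt ⊢
            split_ifs <;> omega
      have e1 : u * (e (x2 t) * ν) = e (x2 t') * ν * (ν⁻¹ * a * ν) := by
        have e2 : e (x2 t') * a = u * e (x2 t) := by
          rw [ha, ← mul_assoc, ← map_mul, x2_add, add_neg_cancel, x2_zero, map_one, one_mul]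
        rw [show e (x2 t') * ν * (ν⁻¹ * a * ν) = e (x2 t') * a * ν by group, e2, mul_assoc]
      rw [e1, rho_mul, hvW _ hconj]
    obtain ⟨lam, hlam⟩ := hline z hzW
    have hlam0 : lam ≠ 0 := by
      intro h0
      rw [h0, zero_smul] at hlam
      apply hTv
      set n' : SLn := n₀ * ν⁻¹ with hn'
      have hrev : j.rev < i.rev := Fin.rev_lt_rev.2 hlt
      have hconj : ∀ t : F, n' * e (x2 t) * n'⁻¹ ∈ U := by
        intro t
        have e1 : ν⁻¹ * e (x2 t) * ν = et j i hne.symm (-t) := by
          rw [mul_assoc, hν, ← map_mul, x2_conj_w2, map_mul, inv_mul_cancel_left, he, emb_y2]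
        have e2 := hn₀.conj_et hne.symm (fun h => hne.symm (Fin.revPerm.injective h)) (-t)
        have e3 : n' * e (x2 t) * n'⁻¹ = n₀ * et j i hne.symm (-t) * n₀⁻¹ := by
          rw [← e1, hn']; group
        rw [e3, e2, mul_inv_cancel_right]
        exact et_mem_upperUni hrev _
      let φ : Multiplicative F →* SLn :=
        (MulAut.conj n').toMonoidHom.comp
          { toFun := fun t : Multiplicative F => e (x2 (Multiplicative.toAdd t))
            map_one' := by
              show e (x2 0) = 1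
              rw [x2_zero, map_one]
            map_mul' := fun a b => by
              show e (x2 (Multiplicative.toAdd a + Multiplicative.toAdd b)) = _
              rw [← x2_add, map_mul] }
      have hφinj : Function.Injective φ := fun a b h => by
        have h1 : e (x2 (Multiplicative.toAdd a)) = e (x2 (Multiplicative.toAdd b)) :=
          (MulAut.conj n').injective h
        rw [he, emb_x2, emb_x2] at h1
        have h2 := congrArg (fun s : SLn => (s : Mat) i j) h1
        simp [et_coe, hne] at h2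
        exact h2
      refine sumOp_eq_zero_of_le ρ (K := φ.range) (by rintro _ ⟨t, rfl⟩; exact hconj _) ?_
      rw [sumOp_apply]
      have hsum : ∑ y : φ.range, ρ (y : SLn) (ρ n₀ v) =
          ∑ t : F, ρ n' (ρ (e (x2 t) * ν) v) := by
        refine (Fintype.sum_equiv (Multiplicative.ofAdd.trans
          (MonoidHom.ofInjective hφinj).toEquiv) _ _ fun t => ?_).symm
        show ρ n' (ρ (e (x2 t) * ν) v) = ρ (n' * e (x2 t) * n'⁻¹) (ρ n₀ v)
        rw [← rho_mul, ← rho_mul, hn']
        group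
      refine ((Finset.sum_congr (by ext; simp) fun _ _ => rfl).trans hsum).trans ?_
      rw [← map_sum, ← hz, hlam, map_zero]
    let G₀ : F → k := fun t => if ht : t = 0 then 0 else θ (Units.mk0 t ht)
    have hG : ∀ (u : Fˣ) (t : F), G₀ ((u : F) * t) = θ u * G₀ t := by
      intro u t
      by_cases ht : t = 0
      · simp [G₀, ht]
      · have hu : (u : F) * t ≠ 0 := mul_ne_zero u.ne_zero ht
        simp only [G₀, dif_neg ht, dif_neg hu, ← hθmul]
        congr 1
        ext; rfl
    have hterm : ∀ t : F, ∑ s : F, ρ (e (x2 s) * ν) (ρ (e (x2 t) * ν) v) =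
        (θ (-1) * G₀ t) • z := by
      intro t
      by_cases ht : t = 0
      · subst ht
        have e0 : ∀ s : F, ρ (e (x2 s) * ν) (ρ (e (x2 0) * ν) v) = θ (-1) • v := by
          intro s
          rw [x2_zero, map_one, one_mul, ← rho_mul, mul_assoc, hν, ← map_mul e, w2_sq, rho_mul,
            hθ, map_smul, hvW _ (hX s)]
        simp only [e0, G₀, dif_pos, mul_zero, zero_smul, Finset.sum_const, Finset.card_univ]
        rw [← Nat.cast_smul_eq_nsmul k, hq0, zero_smul]
      · rw [hz, Finset.smul_sum]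
        refine Fintype.sum_equiv (Equiv.subRight t⁻¹) _ _ fun s => ?_
        set u : Fˣ := Units.mk0 t ht with hu
        have e1 : w2 * x2 t * w2 =
            x2 (-t⁻¹) * (w2 * (h2 u * x2 (-t⁻¹))) * (w2 * w2) := by
          rw [w2_x2_w2]
          congr 1
          have := y2_eq u
          simpa [hu] using this
        have e2 : e (x2 s) * ν * (e (x2 t) * ν) = e (x2 (s - t⁻¹)) * ν *
            (e (h2 u) * (e (x2 (-t⁻¹)) * e (h2 (-1)))) := by
          rw [hν, sub_eq_add_neg, ← x2_add]
          simp only [← map_mul]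
          congr 1
          rw [show x2 s * w2 * (x2 t * w2) = x2 s * (w2 * x2 t * w2) by group, e1, w2_sq]
          group
        rw [Equiv.subRight_apply, ← rho_mul, e2, rho_mul ρ (e (x2 (s - t⁻¹)) * ν),
          rho_mul ρ (e (h2 u)), rho_mul ρ (e (x2 (-t⁻¹))), hθ, map_smul, hvW _ (hX _),
          map_smul, hθ, smul_smul, map_smul, show G₀ t = θ u from dif_neg ht]
    have hsq : lam = θ (-1) * ∑ t, G₀ t := by
      apply mul_left_cancel₀ hlam0
      apply smul_left_injective k hv0
      show (lam * lam) • v = (lam * (θ (-1) * ∑ t, G₀ t)) • v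
      calc (lam * lam) • v = ∑ t : F, ∑ s : F, ρ (e (x2 s) * ν) (ρ (e (x2 t) * ν) v) := by
            rw [Finset.sum_comm]
            simp only [← map_sum, ← hz, hlam, map_smul, ← Finset.smul_sum, ← smul_smul]
        _ = ∑ t : F, (θ (-1) * G₀ t) • z := Finset.sum_congr rfl fun t _ => hterm t
        _ = _ := by
            rw [← Finset.sum_smul, ← Finset.mul_sum, hlam, smul_smul, mul_comm]
    intro a
    rw [hθ]
    have hsum : θ a * ∑ t, G₀ t = ∑ t, G₀ t := by
      rw [Finset.mul_sum]
      exact Fintype.sum_equiv (Equiv.mulLeft₀ (a : F) a.ne_zero) _ _ fun t => (hG a t).symm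
    have hne0 : ∑ t, G₀ t ≠ 0 := fun h0 => hlam0 (by rw [hsq, h0, mul_zero])
    rw [(mul_eq_right₀ hne0).1 hsum, one_smul]
  -- the coroots generate
  suffices hsuf : ∀ (r : ℕ) (d : Fin n → F) (h : SLn), IsMono 1 d h →
      (∀ l : Fin n, (l : ℕ) + r < n → d l = 1) → ρ h v = v by
    obtain ⟨d, hd⟩ := hh
    exact hsuf n d h hd fun l hl => by omega
  intro r
  induction r with
  | zero =>
    intro d h hd hd1
    have : h = 1 := sl_ext (Matrix.ext fun a b => by
      rw [hd a b, hd1 b (by omega), Matrix.SpecialLinearGroup.coe_one, Matrix.one_apply]; rfl)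
    rw [this, rho_one]
  | succ r ih =>
    intro d h hd hd1
    by_cases hr : r < n
    swap
    · exact ih d h hd fun l hl => by omega
    set i : Fin n := ⟨n - (r + 1), by omega⟩ with hi
    by_cases hdi : d i = 1
    · refine ih d h hd fun l hl => ?_
      by_cases hli : l = i
      · rw [hli, hdi]
      · refine hd1 l ?_
        simp only [hi, Fin.ext_iff] at hli
        omega
    by_cases hlast : (i : ℕ) + 1 < n
    · set j : Fin n := ⟨i + 1, hlast⟩ with hj
      have hne : i ≠ j := by simp [hj, Fin.ext_iff]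
      set a : Fˣ := Units.mk0 (d i) (hd.ne_zero i) with ha
      set H : SLn := emb i j hne (h2 a⁻¹) with hH
      have hm : IsMono 1 _ (H * h) := (isMono_emb_h2 hne a⁻¹).mul hd
      have hfix := ih _ (H * h) hm fun l hl => by
        rw [Equiv.Perm.one_apply]
        by_cases hli : l = i
        · subst hli
          simp [ha, hd.ne_zero i]
        · have hlj : l ≠ j := by
            simp only [hi] at hj hl ⊢
            simp only [hj, Fin.ext_iff, ne_eq] at *
            omega
          rw [if_neg hli, if_neg hlj, one_mul]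
          refine hd1 l ?_
          simp only [hi, Fin.ext_iff] at hli
          omega
      have e : h = emb i j hne (h2 a) * (H * h) := by
        rw [hH, ← mul_assoc, ← map_mul, ← h2_mul, mul_inv_cancel]
        rw [show h2 (1 : Fˣ) = 1 from sl_ext (by
          rw [h2_coe, Matrix.SpecialLinearGroup.coe_one]
          ext a b; fin_cases a <;> fin_cases b <;> simp), map_one, one_mul]
      rw [e, rho_mul, hfix, key i j hne rfl]
    · exfalso
      apply hdi
      have hdet : (h : Mat).det = ∏ l, d l := by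
        have : (h : Mat) = Matrix.diagonal d := Matrix.ext fun a b => by
          rw [hd a b, Matrix.diagonal_apply, Equiv.Perm.one_apply]
          split_ifs with hab
          · subst hab; rfl
          · rfl
        rw [this, Matrix.det_diagonal]
      rw [Matrix.SpecialLinearGroup.det_coe, Finset.prod_eq_single i] at hdet
      · exact hdet.symm
      · intro l _ hli
        refine hd1 l ?_
        simp only [hi, Fin.ext_iff, ne_eq] at hli hlast
        omega
      · simp

include p in
/-- A matrix coefficient with standard values. -/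
theorem exists_coefficient [Nontrivial V] {n₀ : SLn} {c₀ : Fin n → F}
    (hn₀ : IsMono Fin.revPerm c₀ n₀) {c : k} (hc : c ≠ 0)
    (hschur : ∀ (f : Module.Dual k V) (x v : V),
      ∑ g : SLn, f (ρ g⁻¹ x) • ρ g v = (c * f v) • x) :
    ∃ (f : Module.Dual k V) (v : V), f (ρ n₀ v) = (1 : k) ∧
      ∀ (g u u' m : SLn) (w : Equiv.Perm (Fin n)) (cm : Fin n → F), u ∈ U → u' ∈ U →
        IsMono w cm m → g = u * m * u' → f (ρ g v) = if w = Fin.revPerm then (1 : k) else 0 := by
  obtain ⟨v, hv0, hvW, hline, hTv⟩ := rankOne p ρ hn₀ hc hschur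
  obtain ⟨f₁, hf₁⟩ : ∃ f₁ : Module.Dual k V, f₁ (sumOp ρ U (ρ n₀ v)) ≠ 0 := by
    by_contra hcon
    push Not at hcon
    exact hTv ((Module.forall_dual_apply_eq_zero_iff k _).1 hcon)
  set a := f₁ (sumOp ρ U (ρ n₀ v))
  refine ⟨a⁻¹ • (f₁ ∘ₗ sumOp ρ U), v, inv_mul_cancel₀ hf₁, ?_⟩
  intro g u u' m w cm hu hu' hm hg
  show a⁻¹ * f₁ (sumOp ρ U (ρ g v)) = _
  rcases sumU_decomp p ρ hn₀ hu hu' hm hg hvW with ⟨hw, h⟩ | ⟨hw, hd, h⟩
  · rw [h, map_zero, mul_zero, if_neg hw]
  · rw [h, diag_fix p ρ hn₀ hv0 hvW hline hTv hd, if_pos hw, inv_mul_cancel₀ hf₁]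

end modrep

/-- Distinct characters: the reduced models are orthogonal. -/
theorem cross_schur {G : Type*} [Group G] [Fintype G] {M : Ideal AlgInt} [M.IsPrime] {χ χ' : G → ℂ}
    (hχ : IsIrrCharacter G χ) (hχ' : IsIrrCharacter G χ') (hne : χ ≠ χ') {a b : ℕ}
    (σ : G →* Matrix (Fin a) (Fin a) (locSubring M)) (σ' : G →* Matrix (Fin b) (Fin b) (locSubring M))
    (hσ : ∀ g, ((σ g).map (locSubring M).subtype).trace = χ g)
    (hσ' : ∀ g, ((σ' g).map (locSubring M).subtype).trace = χ' g)
    (f : Module.Dual (ResField M) (Fin a → ResField M)) (x : Fin a → ResField M)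
    (v : Fin b → ResField M) :
    ∑ g, f (redModel σ g⁻¹ x) • redModel σ' g v = (0 : Fin b → ResField M) := by
  set R := BNPair.DefectZero.cplx σ with hR
  set R' := BNPair.DefectZero.cplx σ' with hR'
  have hzero : ∀ A : (Fin a → ℂ) →ₗ[ℂ] (Fin b → ℂ), (∀ g, R' g ∘ₗ A = A ∘ₗ R g) → A = 0 := by
    intro A hA
    have h0 : (Module.finrank ℂ (R.IntertwiningMap R') : ℂ) = 0 := by
      rw [← classInner_char_eq_finrank]
      have h1 : R.character = χ := funext fun g => by rw [hR, BNPair.DefectZero.cplx_character, hσ]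
      have h2 : R'.character = χ' := funext fun g => by
        rw [hR', BNPair.DefectZero.cplx_character, hσ']
      rw [h1, h2]
      exact IsIrrCharacter.classInner_ne hχ' hχ hne.symm
    haveI : Subsingleton (R.IntertwiningMap R') :=
      Module.finrank_zero_iff.1 (Nat.cast_eq_zero.1 h0)
    exact congrArg Representation.IntertwiningMap.toLinearMap
      (Subsingleton.elim (⟨A, fun g => (hA g).symm⟩ : R.IntertwiningMap R') 0)
  have hk : ∀ i l j q, ∑ g, red M (σ' g i l) * red M (σ g⁻¹ j q) = 0 := by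
    intro i l j q
    set ι := (locSubring M).subtype with hι
    set P : G →* Matrix (Fin a) (Fin a) ℂ := ι.mapMatrix.toMonoidHom.comp σ with hP
    set P' : G →* Matrix (Fin b) (Fin b) ℂ := ι.mapMatrix.toMonoidHom.comp σ' with hP'
    set A : Matrix (Fin b) (Fin a) ℂ := ∑ g, P' g * Matrix.single l j (1 : ℂ) * P g⁻¹ with hA
    have hcomm : ∀ h, P' h * A = A * P h := by
      intro h
      rw [hA, Matrix.mul_sum, Matrix.sum_mul]
      refine Fintype.sum_equiv (Equiv.mulLeft h) _ _ fun g => ?_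
      simp only [Equiv.coe_mulLeft, _root_.mul_inv_rev, map_mul, Matrix.mul_assoc]
      rw [← map_mul P h⁻¹ h, inv_mul_cancel, map_one, Matrix.mul_one]
    have hA0 := hzero (Matrix.toLin' A) fun g => by
      show Matrix.toLin' (P' g) ∘ₗ Matrix.toLin' A = Matrix.toLin' A ∘ₗ Matrix.toLin' (P g)
      rw [← Matrix.toLin'_mul, ← Matrix.toLin'_mul, hcomm]
    have h1 := congrFun (congrFun (Matrix.toLin'.injective (hA0.trans (map_zero _).symm)) i) q
    rw [hA, Matrix.sum_apply, Matrix.zero_apply] at h1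
    have h2 : ∑ g, σ' g i l * σ g⁻¹ j q = 0 := by
      apply Subring.subtype_injective (locSubring M)
      rw [map_sum, map_zero, ← h1]
      refine Finset.sum_congr rfl fun g _ => ?_
      rw [Matrix.mul_apply, Finset.sum_eq_single j (fun y _ hy => by
        simp [Matrix.mul_single_apply_of_ne, hy]) (by simp)]
      simp [hP, hP', hι]
    have h3 := congrArg (red M) h2
    simpa only [map_sum, map_mul, map_zero] using h3
  funext i
  have hf : ∀ y : Fin a → ResField M, f y = ∑ j, f (Pi.single j 1) * y j := fun y => by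
    conv_lhs => rw [pi_eq_sum_univ' y, map_sum]
    simp only [map_smul, smul_eq_mul, mul_comm]
  simp only [Finset.sum_apply, Pi.smul_apply, smul_eq_mul, redModel_apply, Pi.zero_apply]
  calc ∑ g, f ((σ g⁻¹).map (red M) *ᵥ x) * ((σ' g).map (red M) *ᵥ v) i
      = ∑ l, ∑ j, ∑ q, (f (Pi.single j 1) * x q * v l) *
          ∑ g, red M (σ' g i l) * red M (σ g⁻¹ j q) := by
        have hfg : ∀ g, f ((σ g⁻¹).map (red M) *ᵥ x) =
            ∑ j, f (Pi.single j 1) * ((σ g⁻¹).map (red M) *ᵥ x) j := fun g => hf _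
        simp only [hfg, Matrix.mulVec, dotProduct, Matrix.map_apply, Finset.sum_mul,
          Finset.mul_sum]
        rw [Finset.sum_comm]
        refine Finset.sum_congr rfl fun l _ => ?_
        rw [Finset.sum_comm]
        refine Finset.sum_congr rfl fun j _ => ?_
        rw [Finset.sum_comm]
        refine Finset.sum_congr rfl fun q _ => Finset.sum_congr rfl fun g _ => ?_
        ring
    _ = (0 : ResField M) := by simp only [hk, mul_zero, Finset.sum_const_zero]

include hp in
/-- `SL_n` has at most one character of defect zero. -/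
theorem eq_of_defect_zero (hn : 1 ≤ n) {χ χ' : SLn → ℂ} (hχ : IsIrrCharacter SLn χ)
    (hχ' : IsIrrCharacter SLn χ') {d d' : ℕ} (hd : χ 1 = (d : ℂ)) (hd' : χ' 1 = (d' : ℂ))
    (hdiv : p ^ (Nat.card SLn).factorization p ∣ d)
    (hdiv' : p ^ (Nat.card SLn).factorization p ∣ d') : χ = χ' := by
  obtain ⟨M, hM⟩ := exists_isPModular hp.out
  haveI := isPrime_of_isPModular hM
  haveI := resField_charP hM
  obtain ⟨a, σ, ha, hσ, c, hc, hschur⟩ := BNPair.DefectZero.exists_schur_model hM hχ hd hdiv
  obtain ⟨b, σ', hb, hσ', c', hc', hschur'⟩ := BNPair.DefectZero.exists_schur_model hM hχ' hd' hdiv'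
  haveI : Nonempty (Fin a) := ⟨⟨0, ha⟩⟩
  haveI : Nonempty (Fin b) := ⟨⟨0, hb⟩⟩
  obtain ⟨n₀, c₀, hn₀⟩ := exists_rev_mono (F := F) hn
  obtain ⟨f, v, hfv, hf⟩ := exists_coefficient p (redModel σ) hn₀ hc hschur
  obtain ⟨f', v', hfv', hf'⟩ := exists_coefficient p (redModel σ') hn₀ hc' hschur'
  have heq : ∀ g, f' (redModel σ' g v') = f (redModel σ g v) := by
    intro g
    obtain ⟨u, u', m, w, cm, hu, hu', hm, hg⟩ := exists_bruhat_SL g
    rw [hf g u u' m w cm hu hu' hm hg, hf' g u u' m w cm hu hu' hm hg]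
  by_contra hne
  set x := redModel σ n₀ v with hx
  set x' := redModel σ' n₀ v' with hx'
  have h1 := congrArg f (hschur f x x)
  have h2 := congrArg f' (cross_schur hχ hχ' hne σ σ' hσ hσ' f x x')
  simp only [map_sum, map_smul, map_zero, smul_eq_mul] at h1 h2
  have h3 : ∀ g, f' (redModel σ' g x') = f (redModel σ g x) := fun g => by
    rw [hx, hx', ← rho_mul, ← rho_mul, heq]
  simp only [h3] at h2
  rw [h2, hfv, mul_one, mul_one] at h1
  exact hc h1.symm

end Cfsg.Agent.Lib.Blocks.SLDefectZero
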