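import Cfsg.Agent.Lib.Classical.AutPSL.Sylow
import Cfsg.Agent.Lib.Flag.GLOrbits

/-!
Monomial elements of `SL_n`, the Bruhat decomposition and the embedded copies of `SL_2`.
-/

set_option autoImplicit false
set_option linter.unusedSectionVars false

namespace Cfsg.Agent.Lib.Blocks.SLMat

open Matrix
open Cfsg.Agent.Lib.Classical Cfsg.Agent.Lib.Classical.AutPSL

variable {n : ℕ} {F : Type*} [Field F] [Fintype F]

local notation "SLn" => Matrix.SpecialLinearGroup (Fin n) F
local notation "Mat" => Matrix (Fin n) (Fin n) F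
local notation "SL2" => Matrix.SpecialLinearGroup (Fin 2) F

/-- The element has the single nonzero entry `c j` in row `w j` of column `j`. -/
def IsMono (w : Equiv.Perm (Fin n)) (c : Fin n → F) (s : SLn) : Prop :=
  ∀ i j : Fin n, (s : Mat) i j = if i = w j then c j else 0

theorem IsMono.ne_zero {w : Equiv.Perm (Fin n)} {c : Fin n → F} {s : SLn} (h : IsMono w c s)
    (j : Fin n) : c j ≠ 0 := fun h0 =>
  Matrix.SpecialLinearGroup.det_ne_zero s <| Matrix.det_eq_zero_of_column_eq_zero j fun i => by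
    rw [h i j, h0, ite_self]

theorem IsMono.mul {w w' : Equiv.Perm (Fin n)} {c c' : Fin n → F} {s s' : SLn}
    (h : IsMono w c s) (h' : IsMono w' c' s') :
    IsMono (w * w') (fun j => c (w' j) * c' j) (s * s') := by
  intro i j
  rw [Matrix.SpecialLinearGroup.coe_mul, Matrix.mul_apply, Finset.sum_eq_single (w' j)]
  · rw [h, h', if_pos rfl, Equiv.Perm.mul_apply, ite_mul, zero_mul]
  · intro b _ hb
    rw [h' b j, if_neg hb, mul_zero]
  · simp

theorem mul_mono_apply {w : Equiv.Perm (Fin n)} {c : Fin n → F} {m : SLn} (h : IsMono w c m)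
    (a : Mat) (r b : Fin n) : (a * (m : Mat)) r b = a r (w b) * c b := by
  rw [Matrix.mul_apply, Finset.sum_eq_single (w b)]
  · rw [h, if_pos rfl]
  · intro x _ hx
    rw [h x b, if_neg hx, mul_zero]
  · simp

theorem mono_mul_apply {w : Equiv.Perm (Fin n)} {c : Fin n → F} {m : SLn} (h : IsMono w c m)
    (a : Mat) (i b : Fin n) : ((m : Mat) * a) (w i) b = c i * a i b := by
  rw [Matrix.mul_apply, Finset.sum_eq_single i]
  · rw [h, if_pos rfl]
  · intro x _ hx
    rw [h _ x, if_neg (fun e => hx (w.injective e).symm), zero_mul]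
  · simp

theorem IsMono.conj_apply {w : Equiv.Perm (Fin n)} {c : Fin n → F} {m : SLn} (h : IsMono w c m)
    (u : SLn) (a b : Fin n) :
    c a * ((m⁻¹ * u * m : SLn) : Mat) a b = (u : Mat) (w a) (w b) * c b := by
  have e : (m : Mat) * ((m⁻¹ * u * m : SLn) : Mat) = (u : Mat) * (m : Mat) := by
    rw [← Matrix.SpecialLinearGroup.coe_mul, ← Matrix.SpecialLinearGroup.coe_mul]
    congr 1
    rw [mul_assoc m⁻¹, mul_inv_cancel_left]
  rw [← mono_mul_apply h, e, mul_mono_apply h]

theorem IsMono.conj_et {w : Equiv.Perm (Fin n)} {c : Fin n → F} {m : SLn} (h : IsMono w c m)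
    {i j : Fin n} (hij : i ≠ j) (hw : w i ≠ w j) (t : F) :
    m * et i j hij t = et (w i) (w j) hw (c i / c j * t) * m := by
  refine sl_ext (Matrix.ext fun r b => ?_)
  rw [Matrix.SpecialLinearGroup.coe_mul, Matrix.SpecialLinearGroup.coe_mul]
  obtain ⟨a, rfl⟩ := w.surjective r
  rw [mono_mul_apply h, mul_mono_apply h, et_coe, et_coe]
  simp only [Matrix.add_apply, Matrix.one_apply, Matrix.single_apply, w.injective.eq_iff]
  have := h.ne_zero j
  split_ifs with h1 h2 <;> try simp_all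
  · field_simp

/-- Diagonal elements. -/
def diagSub (n : ℕ) (F : Type*) [Field F] [Fintype F] :
    Subgroup (Matrix.SpecialLinearGroup (Fin n) F) where
  carrier := {s | ∃ d, IsMono 1 d s}
  one_mem' := ⟨fun _ => 1, fun i j => by
    rw [Matrix.SpecialLinearGroup.coe_one, Matrix.one_apply]; rfl⟩
  mul_mem' := fun {a b} ⟨d, hd⟩ ⟨d', hd'⟩ => ⟨_, by simpa using hd.mul hd'⟩
  inv_mem' := fun {x} ⟨d, hd⟩ => ⟨fun j => (d j)⁻¹, by
    intro i j
    have e : (x : Matrix (Fin n) (Fin n) F) *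
        ((x⁻¹ : Matrix.SpecialLinearGroup (Fin n) F) : Matrix (Fin n) (Fin n) F) = 1 := by
      rw [← Matrix.SpecialLinearGroup.coe_mul, mul_inv_cancel, Matrix.SpecialLinearGroup.coe_one]
    have h1 := congrFun (congrFun e i) j
    have h2 := mono_mul_apply hd ((x⁻¹ : Matrix.SpecialLinearGroup (Fin n) F) :
      Matrix (Fin n) (Fin n) F) i j
    rw [Equiv.Perm.one_apply, h1, Matrix.one_apply] at h2
    apply mul_left_cancel₀ (hd.ne_zero i)
    rw [← h2, Equiv.Perm.one_apply]
    split_ifs with h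
    · subst h; exact (mul_inv_cancel₀ (hd.ne_zero i)).symm
    · rw [mul_zero]⟩

theorem mem_diagSub {s : SLn} : s ∈ diagSub n F ↔ ∃ d, IsMono 1 d s := Iff.rfl

theorem diag_comm {a b : SLn} (ha : a ∈ diagSub n F) (hb : b ∈ diagSub n F) : a * b = b * a := by
  obtain ⟨d, hd⟩ := ha
  obtain ⟨e, he⟩ := hb
  refine sl_ext (Matrix.ext fun i j => ?_)
  rw [hd.mul he i j, he.mul hd i j]
  simp [mul_comm]

theorem diag_normalizes {d : Fin n → F} {h u : SLn} (hh : IsMono 1 d h)
    (hu : u ∈ upperUni n F) : h⁻¹ * u * h ∈ upperUni n F := by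
  intro a b hab
  apply mul_left_cancel₀ (hh.ne_zero a)
  rw [hh.conj_apply, Equiv.Perm.one_apply, Equiv.Perm.one_apply, hu a b hab]
  split_ifs with e
  · subst e; simp
  · simp

theorem diag_normalizes' {h u : SLn} (hh : h ∈ diagSub n F) (hu : u ∈ upperUni n F) :
    h * u * h⁻¹ ∈ upperUni n F := by
  obtain ⟨d, hd⟩ := inv_mem hh
  simpa using diag_normalizes hd hu

/-- An upper triangular matrix is unitriangular times diagonal. -/
theorem exists_uni_diag {A : Mat} (hA : ∀ i j : Fin n, j < i → A i j = 0)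
    (hd : ∀ i, A i i ≠ 0) :
    ∃ X : Mat, IsUni X ∧ A = X * Matrix.diagonal (fun i => A i i) := by
  refine ⟨Matrix.of fun i j => A i j / A j j, fun i j hij => ?_, Matrix.ext fun i j => ?_⟩
  · rcases hij.lt_or_eq with h | h
    · rw [Matrix.of_apply, hA i j h, zero_div, if_neg h.ne']
    · subst h; rw [Matrix.of_apply, div_self (hd j), if_pos rfl]
  · rw [Matrix.mul_diagonal, Matrix.of_apply, div_mul_cancel₀ _ (hd j)]

/-- An upper triangular matrix is diagonal times unitriangular. -/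
theorem exists_diag_uni {A : Mat} (hA : ∀ i j : Fin n, j < i → A i j = 0)
    (hd : ∀ i, A i i ≠ 0) :
    ∃ X : Mat, IsUni X ∧ A = Matrix.diagonal (fun i => A i i) * X := by
  refine ⟨Matrix.of fun i j => A i j / A i i, fun i j hij => ?_, Matrix.ext fun i j => ?_⟩
  · rcases hij.lt_or_eq with h | h
    · rw [Matrix.of_apply, hA i j h, zero_div, if_neg h.ne']
    · subst h; rw [Matrix.of_apply, div_self (hd j), if_pos rfl]
  · rw [Matrix.diagonal_mul, Matrix.of_apply, mul_div_cancel₀ _ (hd i)]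

/-- The Bruhat decomposition of `SL_n`. -/
theorem exists_bruhat_SL (g : SLn) : ∃ (u u' m : SLn) (w : Equiv.Perm (Fin n)) (c : Fin n → F),
    u ∈ upperUni n F ∧ u' ∈ upperUni n F ∧ IsMono w c m ∧ g = u * m * u' := by
  obtain ⟨b, b', w, hb, hb', e⟩ := Flag.exists_bruhat
    (Matrix.GeneralLinearGroup.mkOfDetNeZero (g : Mat) (Matrix.SpecialLinearGroup.det_ne_zero g))
  have e' : (g : Mat) = (b : Mat) * (Flag.permGL (F := F) w : Mat) * (b' : Mat) := by
    have := congrArg (fun x : GL (Fin n) F => (x : Mat)) e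
    simpa using this
  have hne : ∀ (x : GL (Fin n) F), (∀ i j : Fin n, j < i → (x : Mat) i j = 0) →
      ∀ i, (x : Mat) i i ≠ 0 := by
    intro x hx i h0
    have h1 := Matrix.det_of_upperTriangular (M := (x : Mat)) (fun i j h => hx i j h)
    exact (Matrix.isUnit_iff_isUnit_det _).1 x.isUnit |>.ne_zero
      (h1.trans (Finset.prod_eq_zero (Finset.mem_univ i) h0))
  obtain ⟨X, hX, eX⟩ := exists_uni_diag hb (hne b hb)
  obtain ⟨Y, hY, eY⟩ := exists_diag_uni hb' (hne b' hb')
  set M : Mat := Matrix.diagonal (fun i => (b : Mat) i i) * (Flag.permGL (F := F) w : Mat) *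
    Matrix.diagonal (fun i => (b' : Mat) i i) with hM
  have eg : (g : Mat) = X * M * Y := by
    rw [e']
    conv_lhs => rw [eX, eY]
    simp only [hM, mul_assoc]
  have hMdet : M.det = 1 := by
    have := congrArg Matrix.det eg
    rwa [Matrix.SpecialLinearGroup.det_coe, Matrix.det_mul, Matrix.det_mul, hX.det, hY.det,
      one_mul, mul_one, eq_comm] at this
  refine ⟨⟨X, hX.det⟩, ⟨Y, hY.det⟩, ⟨M, hMdet⟩, w, fun j => (b : Mat) (w j) (w j) * (b' : Mat) j j,
    hX, hY, fun i j => ?_, sl_ext eg⟩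
  show M i j = _
  rw [hM, Matrix.mul_diagonal, Matrix.diagonal_mul, Flag.permGL_apply]
  split_ifs with h
  · subst h; ring
  · ring

/-- A permutation is the reversal or has a non-inversion. -/
theorem rev_or_exists_lt (w : Equiv.Perm (Fin n)) :
    (∀ i, w i = i.rev) ∨ ∃ i j : Fin n, i < j ∧ w i < w j := by
  by_cases h : ∃ i j : Fin n, i < j ∧ w i < w j
  · exact Or.inr h
  push Not at h
  left
  have hanti : StrictAnti w := fun i j hij =>
    lt_of_le_of_ne (h i j hij) fun e => hij.ne (w.injective e).symm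
  have hmono : StrictMono fun i => (w i).rev := fun i j hij => Fin.rev_lt_rev.2 (hanti hij)
  intro i
  have : (fun i => (w i).rev) = id := by
    refine (StrictMono.range_inj hmono strictMono_id).1 ?_
    rw [Set.range_id, (Finite.injective_iff_surjective.1 hmono.injective).range_eq]
  have h1 := congrFun this i
  rw [← Fin.rev_rev (w i)]
  exact congrArg Fin.rev h1

/-- In a unitriangular product the entries next to the diagonal add. -/
theorem uni_mul_adjacent {A B : Mat} (hA : IsUni A) (hB : IsUni B) {i j : Fin n}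
    (hij : (j : ℕ) = i + 1) : (A * B) i j = A i j + B i j := by
  have hne : i ≠ j := fun e => by rw [e] at hij; omega
  rw [Matrix.mul_apply, ← Finset.add_sum_erase _ _ (Finset.mem_univ i),
    ← Finset.add_sum_erase _ _ (Finset.mem_erase.2 ⟨hne.symm, Finset.mem_univ j⟩)]
  rw [Finset.sum_eq_zero fun k hk => ?_, add_zero]
  · rw [hA i i le_rfl, if_pos rfl, one_mul, hB j j le_rfl, if_pos rfl, mul_one, add_comm]
  · obtain ⟨hkj, hk⟩ := Finset.mem_erase.1 hk
    obtain ⟨hki, -⟩ := Finset.mem_erase.1 hk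
    rcases lt_or_gt_of_ne hki with h | h
    · rw [hA i k h.le, if_neg hki.symm, zero_mul]
    · have : j ≤ k := by rw [Fin.le_def]; rw [Fin.lt_def] at h; omega
      rw [hB k j this, if_neg hkj, mul_zero]

/-- A monomial element for the reversal. -/
theorem exists_rev_mono (hn : 1 ≤ n) :
    ∃ (m : SLn) (c : Fin n → F), IsMono Fin.revPerm c m := by
  classical
  set P : Mat := (Flag.permGL (F := F) (Fin.revPerm (n := n)) : Mat) with hP
  have hPd : P.det ≠ 0 := ((Matrix.isUnit_iff_isUnit_det _).1 (Flag.permGL _).isUnit).ne_zero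
  set d : Fin n → F := Function.update (fun _ => 1) ⟨0, hn⟩ P.det⁻¹ with hd
  have hdd : (Matrix.diagonal d).det = P.det⁻¹ := by
    rw [Matrix.det_diagonal, hd, Finset.prod_update_of_mem (Finset.mem_univ _)]
    simp
  refine ⟨⟨P * Matrix.diagonal d, by rw [Matrix.det_mul, hdd, mul_inv_cancel₀ hPd]⟩, d,
    fun i j => ?_⟩
  show (P * Matrix.diagonal d) i j = _
  rw [Matrix.mul_diagonal, hP, Flag.permGL_apply]
  split_ifs <;> ring

theorem IsMono.eq_mul_diag {w : Equiv.Perm (Fin n)} {c c' : Fin n → F} {m m' : SLn}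
    (h : IsMono w c m) (h' : IsMono w c' m') : m⁻¹ * m' ∈ diagSub n F := by
  refine ⟨fun j => c' j / c j, fun i j => ?_⟩
  have e : (m : Mat) * ((m⁻¹ * m' : SLn) : Mat) = (m' : Mat) := by
    rw [← Matrix.SpecialLinearGroup.coe_mul, mul_inv_cancel_left]
  apply mul_left_cancel₀ (h.ne_zero i)
  rw [← mono_mul_apply h, e, h' (w i) j, Equiv.Perm.one_apply]
  simp only [w.injective.eq_iff]
  split_ifs with hij
  · subst hij; exact (mul_div_cancel₀ _ (h.ne_zero i)).symm
  · simp

/-! ### The embedded copies of `SL_2` -/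

/-- The inclusion of the two chosen coordinates. -/
def incl (F : Type*) [Field F] (i j : Fin n) : Matrix (Fin n) (Fin 2) F :=
  Matrix.of fun k a => if k = (![i, j] : Fin 2 → Fin n) a then 1 else 0

theorem incl_transpose_mul {i j : Fin n} (h : i ≠ j) :
    (incl F i j)ᵀ * incl F i j = 1 := by
  ext a b
  rw [Matrix.mul_apply, Finset.sum_eq_single ((![i, j] : Fin 2 → Fin n) b)]
  · simp only [incl, Matrix.transpose_apply, Matrix.of_apply]
    fin_cases a <;> fin_cases b <;> simp [h, h.symm]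
  · intro x _ hx
    simp [incl, hx]
  · simp

theorem emb_det {i j : Fin n} (h : i ≠ j) (A : SL2) :
    (1 + incl F i j * ((A : Matrix (Fin 2) (Fin 2) F) - 1) * (incl F i j)ᵀ : Mat).det = 1 := by
  rw [Matrix.mul_assoc, Matrix.det_one_add_mul_comm, Matrix.mul_assoc, incl_transpose_mul h,
    mul_one, add_sub_cancel, Matrix.SpecialLinearGroup.det_coe]

/-- `SL_2` on the coordinates `i`, `j`. -/
def emb (i j : Fin n) (h : i ≠ j) : SL2 →* SLn where
  toFun A := ⟨1 + incl F i j * ((A : Matrix (Fin 2) (Fin 2) F) - 1) * (incl F i j)ᵀ, emb_det h A⟩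
  map_one' := sl_ext (by simp)
  map_mul' A B := sl_ext (by
    show 1 + incl F i j * (((A * B : SL2) : Matrix (Fin 2) (Fin 2) F) - 1) * (incl F i j)ᵀ = _
    have hE := incl_transpose_mul (F := F) h
    rw [Matrix.SpecialLinearGroup.coe_mul]
    show _ = (1 + incl F i j * ((A : Matrix (Fin 2) (Fin 2) F) - 1) * (incl F i j)ᵀ) *
      (1 + incl F i j * ((B : Matrix (Fin 2) (Fin 2) F) - 1) * (incl F i j)ᵀ)
    have key : ∀ X : Matrix (Fin 2) (Fin n) F, (incl F i j)ᵀ *
        (incl F i j * X) = X := fun X => by rw [← Matrix.mul_assoc, hE, Matrix.one_mul]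
    simp only [Matrix.mul_add, Matrix.add_mul, Matrix.sub_mul, Matrix.mul_sub, Matrix.one_mul,
      Matrix.mul_one, Matrix.mul_assoc, key]
    abel)

theorem emb_coe {i j : Fin n} (h : i ≠ j) (A : SL2) :
    ((emb i j h A : SLn) : Mat) =
      1 + incl F i j * ((A : Matrix (Fin 2) (Fin 2) F) - 1) * (incl F i j)ᵀ := rfl

theorem emb_apply {i j : Fin n} (h : i ≠ j) (A : SL2) (k l : Fin n) :
    ((emb i j h A : SLn) : Mat) k l =
      if k = i then (if l = i then (A : Matrix (Fin 2) (Fin 2) F) 0 0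
        else if l = j then (A : Matrix (Fin 2) (Fin 2) F) 0 1 else 0)
      else if k = j then (if l = i then (A : Matrix (Fin 2) (Fin 2) F) 1 0
        else if l = j then (A : Matrix (Fin 2) (Fin 2) F) 1 1 else 0)
      else if k = l then 1 else 0 := by
  rw [emb_coe, Matrix.add_apply, Matrix.mul_apply, Fin.sum_univ_two, Matrix.mul_apply,
    Matrix.mul_apply, Fin.sum_univ_two, Fin.sum_univ_two]
  simp only [incl, Matrix.transpose_apply, Matrix.of_apply, Matrix.cons_val_zero,
    Matrix.cons_val_one, Matrix.sub_apply, Matrix.one_apply]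
  by_cases hki : k = i <;> by_cases hkj : k = j <;> by_cases hli : l = i <;>
    by_cases hlj : l = j <;> simp_all [eq_comm]

/-- `x(t)` in `SL_2`. -/
def x2 (t : F) : SL2 := ⟨!![1, t; 0, 1], by simp [Matrix.det_fin_two]⟩

/-- `y(t)` in `SL_2`. -/
def y2 (t : F) : SL2 := ⟨!![1, 0; t, 1], by simp [Matrix.det_fin_two]⟩

/-- The Weyl element of `SL_2`. -/
def w2 : SL2 := ⟨!![0, 1; -1, 0], by simp [Matrix.det_fin_two]⟩

/-- The diagonal element of `SL_2`. -/
def h2 (a : Fˣ) : SL2 := ⟨!![(a : F), 0; 0, (↑a⁻¹ : F)], by simp [Matrix.det_fin_two]⟩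

theorem x2_coe (t : F) : (x2 t : Matrix (Fin 2) (Fin 2) F) = !![1, t; 0, 1] := rfl

theorem y2_coe (t : F) : (y2 t : Matrix (Fin 2) (Fin 2) F) = !![1, 0; t, 1] := rfl

theorem w2_coe : ((w2 : SL2) : Matrix (Fin 2) (Fin 2) F) = !![0, 1; -1, 0] := rfl

theorem h2_coe (a : Fˣ) :
    (h2 a : Matrix (Fin 2) (Fin 2) F) = !![(a : F), 0; 0, (↑a⁻¹ : F)] := rfl

theorem x2_add (s t : F) : x2 s * x2 t = x2 (s + t) := by
  refine sl_ext ?_
  simp only [Matrix.SpecialLinearGroup.coe_mul, x2_coe]
  simp [add_comm]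

theorem x2_zero : x2 (0 : F) = 1 := by
  refine sl_ext ?_
  rw [x2_coe, Matrix.SpecialLinearGroup.coe_one]
  ext a b
  fin_cases a <;> fin_cases b <;> simp

theorem w2_x2_w2 (t : F) : w2 * x2 t * w2 = y2 (-t) * (w2 * w2) := by
  refine sl_ext ?_
  simp only [Matrix.SpecialLinearGroup.coe_mul, x2_coe, y2_coe, w2_coe]
  simp

theorem w2_conj_x2 (t : F) : w2 * x2 t = y2 (-t) * w2 := by
  refine sl_ext ?_
  simp only [Matrix.SpecialLinearGroup.coe_mul, x2_coe, y2_coe, w2_coe]
  simp

theorem x2_conj_w2 (t : F) : x2 t * w2 = w2 * y2 (-t) := by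
  refine sl_ext ?_
  simp only [Matrix.SpecialLinearGroup.coe_mul, x2_coe, y2_coe, w2_coe]
  simp

theorem w2_sq : w2 * w2 = h2 (-1 : Fˣ) := by
  refine sl_ext ?_
  simp only [Matrix.SpecialLinearGroup.coe_mul, w2_coe, h2_coe]
  simp

theorem h2_mul (a b : Fˣ) : h2 (a * b) = h2 a * h2 b := by
  refine sl_ext ?_
  simp only [Matrix.SpecialLinearGroup.coe_mul, h2_coe]
  simp [mul_comm]

theorem y2_eq (t : Fˣ) :
    y2 (-(t : F)) = x2 (-(↑t⁻¹ : F)) * (w2 * (h2 t * x2 (-(↑t⁻¹ : F)))) := by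
  refine sl_ext ?_
  have ht : (t : F) ≠ 0 := t.ne_zero
  simp only [Matrix.SpecialLinearGroup.coe_mul, x2_coe, y2_coe, w2_coe, h2_coe,
    Units.val_inv_eq_inv_val]
  ext a b
  fin_cases a <;> fin_cases b <;> simp

theorem emb_x2 {i j : Fin n} (h : i ≠ j) (t : F) : emb i j h (x2 t) = et i j h t := by
  refine sl_ext (Matrix.ext fun k l => ?_)
  rw [emb_apply, et_coe]
  simp only [x2, Matrix.add_apply, Matrix.one_apply, Matrix.single_apply]
  by_cases hki : k = i <;> by_cases hkj : k = j <;> by_cases hli : l = i <;>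
    by_cases hlj : l = j <;> simp_all [eq_comm]

theorem emb_y2 {i j : Fin n} (h : i ≠ j) (t : F) : emb i j h (y2 t) = et j i h.symm t := by
  refine sl_ext (Matrix.ext fun k l => ?_)
  rw [emb_apply, et_coe]
  simp only [y2, Matrix.add_apply, Matrix.one_apply, Matrix.single_apply]
  by_cases hki : k = i <;> by_cases hkj : k = j <;> by_cases hli : l = i <;>
    by_cases hlj : l = j <;> simp_all [eq_comm]

theorem isMono_emb_h2 {i j : Fin n} (h : i ≠ j) (a : Fˣ) :
    IsMono 1 (fun l => if l = i then (a : F) else if l = j then (↑a⁻¹ : F) else 1)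
      (emb i j h (h2 a)) := by
  intro k l
  rw [emb_apply]
  simp only [h2, Equiv.Perm.one_apply]
  by_cases hki : k = i <;> by_cases hkj : k = j <;> by_cases hli : l = i <;>
    by_cases hlj : l = j <;> simp_all [eq_comm]

theorem isMono_emb_w2 {i j : Fin n} (h : i ≠ j) :
    IsMono (Equiv.swap i j) (fun l => if l = i then (-1 : F) else 1) (emb i j h w2) := by
  intro k l
  rw [emb_apply]
  simp only [w2, Equiv.swap_apply_def]
  by_cases hki : k = i <;> by_cases hkj : k = j <;> by_cases hli : l = i <;>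
    by_cases hlj : l = j <;> simp_all [eq_comm]

end Cfsg.Agent.Lib.Blocks.SLMat
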