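import Cfsg.Agent.Lib.Blocks.PrimeOrderSections
import Cfsg.Agent.Lib.Blocks.ThetaStab

/-!
# The sections of a character at a subgroup of order `p`, with respect to a character of the regular
part of its centralizer
-/

set_option autoImplicit false
set_option linter.unusedSectionVars false
set_option linter.unusedVariables false

namespace Cfsg.Agent.Lib.Blocks

open Cfsg Cfsg.Agent.Lib.Characters
open scoped ComplexConjugate

universe u

variable {G : Type u} [Group G] [Fintype G] {p : ℕ} [hp : Fact p.Prime]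

/-- `P` has order `p`, is a Sylow subgroup, is generated by `u`, and `O` is the set of `p`-regular
elements of its centralizer. -/
structure PrimeSplit (p : ℕ) (P O : Subgroup G) (u : G) : Prop where
  card_P : Nat.card P = p
  sq : ¬ p ^ 2 ∣ Nat.card G
  mem : u ∈ P
  ne_one : u ≠ 1
  le_centralizer : O ≤ Subgroup.centralizer (P : Set G)
  not_dvd : ¬ p ∣ Nat.card O
  mem_iff : ∀ c, c ∈ O ↔ c ∈ Subgroup.centralizer (P : Set G) ∧ ¬ p ∣ orderOf c
  dec : ∀ c ∈ Subgroup.centralizer (P : Set G), ∃ j : ℕ, ∃ y ∈ O, c = u ^ j * y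
  normal : ∀ g ∈ Subgroup.normalizer (P : Set G), ∀ y ∈ O, g * y * g⁻¹ ∈ O

theorem exists_primeSplit (P : Subgroup G) (hP : Nat.card P = p) (hsq : ¬ p ^ 2 ∣ Nat.card G) :
    ∃ (u : G) (O : Subgroup G), PrimeSplit p P O u := by
  obtain ⟨⟨u, hu⟩, hu1'⟩ : ∃ x : P, x ≠ 1 := by
    haveI : Nontrivial P := Finite.one_lt_card_iff_nontrivial.1 (hP.symm ▸ hp.out.one_lt)
    exact exists_ne 1
  have hu1 : u ≠ 1 := fun h => hu1' (Subtype.ext h)
  obtain ⟨hmem, hO, hdec⟩ := regular_core P hP hsq hu hu1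
  refine ⟨u, _, hP, hsq, hu, hu1, fun y hy => ((hmem y).1 hy).1, hO, hmem, hdec, fun g hg y hy => ?_⟩
  obtain ⟨hyC, hyr⟩ := (hmem y).1 hy
  refine (hmem _).2 ⟨Subgroup.mem_centralizer_iff.2 fun a ha => ?_, ?_⟩
  · have h2 : g⁻¹ * a * g ∈ P := by
      have := ((Subgroup.mem_normalizer_iff.1 ((Subgroup.normalizer (P : Set G)).inv_mem hg)) a).1 ha
      rwa [inv_inv] at this
    have h3 := Subgroup.mem_centralizer_iff.1 hyC _ h2
    calc a * (g * y * g⁻¹) = g * ((g⁻¹ * a * g) * y) * g⁻¹ := by group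
      _ = g * (y * (g⁻¹ * a * g)) * g⁻¹ := by rw [h3]
      _ = g * y * g⁻¹ * a := by group
  · rwa [show g * y * g⁻¹ = MulAut.conj g y from rfl, MulEquiv.orderOf_eq]

variable {P O : Subgroup G} {u : G}

namespace PrimeSplit

theorem orderOf_u (S : PrimeSplit p P O u) : orderOf u = p :=
  orderOf_of_mem_prime S.card_P S.mem S.ne_one

theorem pow_u (S : PrimeSplit p P O u) : u ^ p = 1 := S.orderOf_u ▸ pow_orderOf_eq_one u

theorem comm (S : PrimeSplit p P O u) (i : ZMod p) (y : O) : Commute (upow u i) (y : G) :=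
  Subgroup.mem_centralizer_iff.1 (S.le_centralizer y.2) _ (upow_mem S.mem i)

theorem upow_mul_mem (S : PrimeSplit p P O u) (i : ZMod p) (y : O) :
    upow u i * (y : G) ∈ Subgroup.centralizer (P : Set G) := by
  refine mul_mem (Subgroup.mem_centralizer_iff.2 fun a ha => ?_) (S.le_centralizer y.2)
  obtain ⟨j, rfl⟩ := exists_upow_eq S.card_P S.mem S.ne_one ha
  rw [← upow_add S.pow_u, ← upow_add S.pow_u, add_comm]

/-- The two components of `u ^ i * y` are unique. -/
theorem components (S : PrimeSplit p P O u) {x : G} {i i' : ZMod p} {y y' : G} (hy : y ∈ O)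
    (hy' : y' ∈ O) (h : x * (upow u i * y) * x⁻¹ = upow u i' * y') :
    x * upow u i * x⁻¹ = upow u i' ∧ x * y * x⁻¹ = y' := by
  set n := Nat.card O with hn
  set k : ℕ := (n : ZMod p)⁻¹.val * n with hk
  have hk1 : (k : ZMod p) = 1 := by
    rw [hk, Nat.cast_mul, ZMod.natCast_zmod_val, inv_mul_cancel₀]
    rw [Ne, ZMod.natCast_eq_zero_iff]; exact S.not_dvd
  have hp' : ∀ (j : ZMod p) (z : G), z ∈ O → (upow u j * z) ^ k = upow u j := by
    intro j z hz
    rw [(S.comm j ⟨z, hz⟩).mul_pow, ← upow_mul_natCast S.pow_u, hk1, one_mul, hk, pow_mul',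
      show z ^ n = 1 from Subtype.ext_iff.1 (pow_card_eq_one' (x := (⟨z, hz⟩ : O))), one_pow, mul_one]
  have h1 := congrArg (· ^ k) h
  simp only [conj_pow, hp' i y hy, hp' i' y' hy'] at h1
  refine ⟨h1, ?_⟩
  rw [show x * (upow u i * y) * x⁻¹ = (x * upow u i * x⁻¹) * (x * y * x⁻¹) by group, h1] at h
  exact mul_left_cancel h

/-- The centralizer of `P` as a direct product. -/
noncomputable def splitEquiv (S : PrimeSplit p P O u) :
    Multiplicative (ZMod p) × O ≃* Subgroup.centralizer (P : Set G) :=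
  MulEquiv.ofBijective
    ({ toFun := fun w => ⟨upow u w.1.toAdd * (w.2 : G), S.upow_mul_mem _ _⟩
       map_one' := Subtype.ext (by simp [upow_zero])
       map_mul' := fun a b => Subtype.ext (by
        show upow u (a.1.toAdd + b.1.toAdd) * ((a.2 : G) * b.2) =
          upow u a.1.toAdd * (a.2 : G) * (upow u b.1.toAdd * (b.2 : G))
        rw [upow_add S.pow_u, mul_assoc (upow u a.1.toAdd) (a.2 : G),
          ← mul_assoc (a.2 : G) (upow u b.1.toAdd), ← (S.comm b.1.toAdd a.2).eq]
        simp only [mul_assoc]) } :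
      Multiplicative (ZMod p) × O →* Subgroup.centralizer (P : Set G))
    (by
      constructor
      · rintro ⟨a, y⟩ ⟨b, z⟩ h
        have h' : (1 : G) * (upow u a.toAdd * y) * 1⁻¹ = upow u b.toAdd * z := by
          simpa using congrArg Subtype.val h
        obtain ⟨h1, h2⟩ := S.components y.2 z.2 h'
        simp only [one_mul, inv_one, mul_one] at h1 h2
        exact Prod.ext (Multiplicative.toAdd.injective (upow_injective S.orderOf_u h1)) (Subtype.ext h2)
      · rintro ⟨c, hc⟩
        obtain ⟨j, y, hy, rfl⟩ := S.dec c hc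
        exact ⟨(Multiplicative.ofAdd (j : ZMod p), ⟨y, hy⟩), Subtype.ext (by
          show upow u (j : ZMod p) * y = u ^ j * y
          rw [upow_natCast S.pow_u])⟩)

theorem splitEquiv_coe (S : PrimeSplit p P O u) (i : ZMod p) (y : O) :
    ((S.splitEquiv (Multiplicative.ofAdd i, y) : Subgroup.centralizer (P : Set G)) : G) =
      upow u i * (y : G) := rfl

theorem sum_centralizer [Fintype O] [Fintype (Subgroup.centralizer (P : Set G))]
    (S : PrimeSplit p P O u) (F : Subgroup.centralizer (P : Set G) → ℂ) :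
    ∑ c, F c = ∑ i : ZMod p, ∑ y : O, F ⟨upow u i * (y : G), S.upow_mul_mem i y⟩ := by
  rw [← Fintype.sum_prod_type' fun (i : ZMod p) (y : O) =>
    F ⟨upow u i * (y : G), S.upow_mul_mem i y⟩]
  exact (Fintype.sum_equiv ((Multiplicative.ofAdd.prodCongr (Equiv.refl O)).trans S.splitEquiv.toEquiv)
    _ _ fun w => rfl).symm

theorem card_centralizer (S : PrimeSplit p P O u) :
    Nat.card (Subgroup.centralizer (P : Set G)) = p * Nat.card O := by
  rw [← Nat.card_congr S.splitEquiv.toEquiv, Nat.card_prod,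
    Nat.card_congr (Multiplicative.toAdd (α := ZMod p)), Nat.card_zmod]

end PrimeSplit

/-- The coefficient of `θ` in the section of `χ` at `u ^ i`. -/
noncomputable def secCoeff [Fintype O] (u : G) (θ : O → ℂ) (χ : IrrCharacter G) (i : ZMod p) : ℂ :=
  (Nat.card O : ℂ)⁻¹ * ∑ y : O, (χ : G → ℂ) (upow u i * (y : G)) * θ y⁻¹

namespace PrimeSplit

variable [Fintype O]

theorem classInner_eq_sum (S : PrimeSplit p P O u) (φ θ : O → ℂ) (hθ : IsCharacter O θ) :
    classInner φ θ = (Nat.card O : ℂ)⁻¹ * ∑ y : O, φ y * θ y⁻¹ :=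
  classInner_eq_sum_inv hθ φ

theorem isClassFunction_section (S : PrimeSplit p P O u) (χ : IrrCharacter G) (i : ZMod p) :
    IsClassFunction O fun y : O => (χ : G → ℂ) (upow u i * (y : G)) := by
  intro y z
  show (χ : G → ℂ) (upow u i * ((z : G) * y * (z : G)⁻¹)) = _
  rw [show upow u i * ((z : G) * y * (z : G)⁻¹) = (z : G) * (upow u i * y) * (z : G)⁻¹ by
    rw [← mul_assoc (z : G) (upow u i), ← (S.comm i z).eq]; simp only [mul_assoc]]
  exact irr_isClassFunction χ _ _

/-- A section as a combination of the irreducible characters of `O`. -/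
theorem section_eq_sum [Fintype (IrrCharacter O)] (S : PrimeSplit p P O u) (χ : IrrCharacter G)
    (i : ZMod p) (y : O) :
    (χ : G → ℂ) (upow u i * (y : G)) =
      ∑ η : IrrCharacter O, secCoeff u (η : O → ℂ) χ i * (η : O → ℂ) y := by
  have h := congrFun (eq_sum_classInner (S.isClassFunction_section χ i)) y
  rw [Finset.sum_apply] at h
  refine h.trans (Finset.sum_congr rfl fun η _ => ?_)
  rw [Pi.smul_apply, smul_eq_mul, S.classInner_eq_sum _ _ (irr_isCharacter η)]
  rfl

theorem secCoeff_eq_classInner (S : PrimeSplit p P O u) (η : IrrCharacter O) (χ : IrrCharacter G)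
    (i : ZMod p) : secCoeff u (η : O → ℂ) χ i =
      classInner (fun y : O => (χ : G → ℂ) (upow u i * (y : G))) (η : O → ℂ) :=
  (S.classInner_eq_sum _ _ (irr_isCharacter η)).symm

/-- Conjugation by a member of the normalizer. -/
theorem secCoeff_conj (S : PrimeSplit p P O u) {g : G} (hg : g ∈ Subgroup.normalizer (P : Set G))
    {i i' : ZMod p} (hi : g * upow u i * g⁻¹ = upow u i') (θ : O → ℂ) (χ : IrrCharacter G) :
    secCoeff u (fun y : O => θ ⟨g * (y : G) * g⁻¹, S.normal g hg y y.2⟩) χ i =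
      secCoeff u θ χ i' := by
  refine congrArg _ (Fintype.sum_equiv
    { toFun := fun y : O => (⟨g * (y : G) * g⁻¹, S.normal g hg y y.2⟩ : O)
      invFun := fun y : O => (⟨g⁻¹ * (y : G) * g, by
        simpa using S.normal g⁻¹ ((Subgroup.normalizer (P : Set G)).inv_mem hg) y y.2⟩ : O)
      left_inv := fun y => Subtype.ext (by simp [mul_assoc])
      right_inv := fun y => Subtype.ext (by simp [mul_assoc]) } _ _ fun y => ?_)
  show (χ : G → ℂ) (upow u i * (y : G)) * θ ⟨g * ((y⁻¹ : O) : G) * g⁻¹, _⟩ =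
    (χ : G → ℂ) (upow u i' * (g * (y : G) * g⁻¹)) * θ (⟨g * (y : G) * g⁻¹, _⟩ : O)⁻¹
  congr 1
  · rw [← hi, show g * upow u i * g⁻¹ * (g * (y : G) * g⁻¹) = g * (upow u i * y) * g⁻¹ by group,
      irr_isClassFunction χ]
  · exact congrArg θ (Subtype.ext (by simp [mul_assoc]))

/-- The multiplicity of `ψ_j × θ` in the restriction to the centralizer is a natural number. -/
theorem exists_secMult_nat (S : PrimeSplit p P O u) (θ : IrrCharacter O) (χ : IrrCharacter G)
    (j : ZMod p) : ∃ m : ℕ, (m : ℂ) =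
      (p : ℂ)⁻¹ * ∑ i : ZMod p, secCoeff u (θ : O → ℂ) χ i * ZMod.stdAddChar (-(i * j)) := by
  let lam : Multiplicative (ZMod p) × O →* ℂˣ :=
    MonoidHom.toHomUnits
      { toFun := fun w => ZMod.stdAddChar (w.1.toAdd * j)
        map_one' := by simp
        map_mul' := fun a b => by
          show ZMod.stdAddChar ((a.1.toAdd + b.1.toAdd) * j) = _
          rw [add_mul, AddChar.map_add_eq_mul] }
  have hφ : IsCharacter (Multiplicative (ZMod p) × O)
      ((fun w => ((lam w : ℂˣ) : ℂ)) * ((θ : O → ℂ) ∘ MonoidHom.snd _ _)) :=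
    IsCharacter.mul (IsIrrCharacter.isCharacter (isIrrCharacter_unitsHom lam))
      (IsCharacter.comp (irr_isCharacter θ) (MonoidHom.snd (Multiplicative (ZMod p)) O))
  have hχ : IsCharacter (Multiplicative (ZMod p) × O)
      ((χ : G → ℂ) ∘ ((Subgroup.centralizer (P : Set G)).subtype.comp S.splitEquiv.toMonoidHom)) :=
    IsCharacter.comp (irr_isCharacter χ) _
  obtain ⟨m, hm⟩ := IsCharacter.exists_classInner_nat hχ hφ
  refine ⟨m, ?_⟩
  rw [← hm, classInner_eq_sum_inv hφ, Nat.card_prod,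
    Nat.card_congr (Multiplicative.toAdd (α := ZMod p)), Nat.card_zmod, Nat.cast_mul, mul_inv,
    mul_assoc, Fintype.sum_prod_type]
  refine congrArg _ ?_
  rw [Finset.mul_sum]
  refine Fintype.sum_equiv Multiplicative.toAdd _ _ fun a => ?_
  show (Nat.card O : ℂ)⁻¹ * ∑ y : O, (χ : G → ℂ) (upow u a.toAdd * (y : G)) *
      (ZMod.stdAddChar ((a⁻¹).toAdd * j) * (θ : O → ℂ) y⁻¹) =
    (Nat.card O : ℂ)⁻¹ * (∑ y : O, (χ : G → ℂ) (upow u a.toAdd * (y : G)) * (θ : O → ℂ) y⁻¹) *
      ZMod.stdAddChar (-(a.toAdd * j))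
  rw [toAdd_inv, neg_mul, mul_assoc, Finset.sum_mul]
  refine congrArg _ (Finset.sum_congr rfl fun y _ => ?_)
  ring

/-- Second orthogonality as a sum over transporters. -/
theorem sum_irr_eq_transporter [Fintype (IrrCharacter G)] [DecidableEq G] (a b : G) :
    ∑ χ : IrrCharacter G, (χ : G → ℂ) a * conj ((χ : G → ℂ) b) =
      ∑ x : G, if x * a * x⁻¹ = b then 1 else 0 := by
  rw [sum_irr_mul_conj]
  split_ifs with h
  · obtain ⟨c, rfl⟩ := isConj_iff.1 h
    rw [← Finset.sum_filter, Finset.sum_const, nsmul_one, Nat.cast_inj,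
      ← Fintype.card_subtype (fun x : G => x * a * x⁻¹ = c * a * c⁻¹), ← Nat.card_eq_fintype_card]
    refine Nat.card_congr ((Equiv.mulLeft c).subtypeEquiv fun z => ?_)
    show z ∈ Subgroup.centralizer {a} ↔ c * z * a * (c * z)⁻¹ = c * a * c⁻¹
    rw [Subgroup.mem_centralizer_singleton_iff,
      show c * z * a * (c * z)⁻¹ = c * (z * a * z⁻¹) * c⁻¹ by group, mul_left_inj, mul_right_inj,
      mul_inv_eq_iff_eq_mul]
  · rw [Finset.sum_eq_zero]
    intro x _
    rw [if_neg]
    exact fun hx => h (isConj_iff.2 ⟨x, hx⟩)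

theorem conj_secCoeff (S : PrimeSplit p P O u) (θ : IrrCharacter O) (χ : IrrCharacter G)
    (i : ZMod p) : conj (secCoeff u (θ : O → ℂ) χ i) =
      (Nat.card O : ℂ)⁻¹ * ∑ y : O, conj ((χ : G → ℂ) (upow u i * (y : G))) * (θ : O → ℂ) y := by
  rw [secCoeff, map_mul, map_inv₀, map_natCast, map_sum]
  refine congrArg _ (Finset.sum_congr rfl fun y _ => ?_)
  rw [map_mul, ← IsCharacter.apply_inv (irr_isCharacter θ), inv_inv]

/-- Orthogonality of the sections. -/
theorem sum_secCoeff_mul_conj [Fintype (IrrCharacter G)] [DecidableEq G]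
    (S : PrimeSplit p P O u) (θ : IrrCharacter O) {i i' : ZMod p} (hi : i ≠ 0) :
    ∑ χ : IrrCharacter G, secCoeff u (θ : O → ℂ) χ i * conj (secCoeff u (θ : O → ℂ) χ i') =
      (Nat.card O : ℂ)⁻¹ * Nat.card {x : G //
        x ∈ thetaStab P O S.normal (θ : O → ℂ) ∧ x * upow u i * x⁻¹ = upow u i'} := by
  classical
  simp only [S.conj_secCoeff]
  simp only [secCoeff]
  have e1 : ∀ χ : IrrCharacter G,
      (Nat.card O : ℂ)⁻¹ * (∑ y : O, (χ : G → ℂ) (upow u i * (y : G)) * (θ : O → ℂ) y⁻¹) *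
        ((Nat.card O : ℂ)⁻¹ * ∑ y : O, conj ((χ : G → ℂ) (upow u i' * (y : G))) * (θ : O → ℂ) y) =
      ∑ y : O, ∑ y' : O, (Nat.card O : ℂ)⁻¹ * (Nat.card O : ℂ)⁻¹ *
        ((θ : O → ℂ) y⁻¹ * (θ : O → ℂ) y') *
          ((χ : G → ℂ) (upow u i * (y : G)) * conj ((χ : G → ℂ) (upow u i' * (y' : G)))) := by
    intro χ
    rw [mul_mul_mul_comm, Finset.sum_mul_sum, Finset.mul_sum]
    refine Finset.sum_congr rfl fun y _ => ?_
    rw [Finset.mul_sum]
    exact Finset.sum_congr rfl fun y' _ => by ring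
  rw [Finset.sum_congr rfl fun χ _ => e1 χ, Finset.sum_comm,
    Finset.sum_congr rfl fun y _ => Finset.sum_comm]
  simp only [← Finset.mul_sum, sum_irr_eq_transporter]
  simp only [Finset.mul_sum]
  rw [Finset.sum_congr rfl fun y _ => Finset.sum_comm, Finset.sum_comm]
  have e2 : ∀ x : G, (∑ y : O, ∑ y' : O, (Nat.card O : ℂ)⁻¹ * (Nat.card O : ℂ)⁻¹ *
      ((θ : O → ℂ) y⁻¹ * (θ : O → ℂ) y') *
        if x * (upow u i * (y : G)) * x⁻¹ = upow u i' * (y' : G) then 1 else 0) =
      if x ∈ thetaStab P O S.normal (θ : O → ℂ) ∧ x * upow u i * x⁻¹ = upow u i' then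
        (Nat.card O : ℂ)⁻¹ else 0 := by
    intro x
    by_cases hx : x * upow u i * x⁻¹ = upow u i'
    · have hxN : x ∈ Subgroup.normalizer (P : Set G) := by
        have hi1 : upow u i ≠ 1 := fun h => hi ((upow_eq_one_iff S.orderOf_u i).1 h)
        have hi'1 : upow u i' ≠ 1 := fun h => hi1 (by
          rw [h] at hx; simpa [mul_assoc] using congrArg (fun z => x⁻¹ * z * x) hx)
        refine mem_normalizer_of_conj_mem P S.card_P S.sq (upow_mem S.mem i') hi'1 ?_
        rw [← hx, show x⁻¹ * (x * upow u i * x⁻¹) * x = upow u i by group]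
        exact Subgroup.le_normalizer (upow_mem S.mem i)
      let cx : O → O := fun y => ⟨x * (y : G) * x⁻¹, S.normal x hxN y y.2⟩
      have hinner : ∀ y : O, (∑ y' : O, (Nat.card O : ℂ)⁻¹ * (Nat.card O : ℂ)⁻¹ *
          ((θ : O → ℂ) y⁻¹ * (θ : O → ℂ) y') *
            if x * (upow u i * (y : G)) * x⁻¹ = upow u i' * (y' : G) then 1 else 0) =
          (Nat.card O : ℂ)⁻¹ * (Nat.card O : ℂ)⁻¹ * ((θ : O → ℂ) (cx y) * (θ : O → ℂ) y⁻¹) := by
        intro y
        rw [Finset.sum_eq_single (cx y)]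
        · rw [if_pos (by show _ = upow u i' * (x * (y : G) * x⁻¹); rw [← hx]; group)]
          ring
        · intro y' _ hne
          rw [if_neg, mul_zero]
          exact fun h => hne (Subtype.ext (S.components y.2 y'.2 h).2.symm)
        · simp
      rw [Finset.sum_congr rfl fun y _ => hinner y, ← Finset.mul_sum, mul_assoc]
      let θx : IrrCharacter O := ⟨(θ : O → ℂ) ∘ cx, IsIrrCharacter.comp_equiv θ.2
        { toFun := cx
          invFun := fun y : O => (⟨x⁻¹ * (y : G) * x, by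
            simpa using S.normal x⁻¹ ((Subgroup.normalizer (P : Set G)).inv_mem hxN) y y.2⟩ : O)
          left_inv := fun y => Subtype.ext (by simp [cx, mul_assoc])
          right_inv := fun y => Subtype.ext (by simp [cx, mul_assoc])
          map_mul' := fun a b => Subtype.ext (by simp [cx, mul_assoc]) }⟩
      have hci := classInner_irr θx θ
      rw [S.classInner_eq_sum _ _ (irr_isCharacter θ)] at hci
      have hT : x ∈ thetaStab P O S.normal (θ : O → ℂ) ↔ θx = θ := by
        refine ⟨fun h => Subtype.ext (funext fun y => h.2 y (cx y) rfl), fun h => ⟨hxN, fun y y' e => ?_⟩⟩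
        rw [show y' = cx y from Subtype.ext e]
        exact congrFun (congrArg Subtype.val h) y
      rw [show (∑ y : O, (θ : O → ℂ) (cx y) * (θ : O → ℂ) y⁻¹) =
        ∑ y : O, (θx : O → ℂ) y * (θ : O → ℂ) y⁻¹ from rfl, hci]
      simp only [hT, hx, and_true]
      split_ifs <;> simp
    · rw [if_neg fun h => hx h.2]
      refine Finset.sum_eq_zero fun y _ => Finset.sum_eq_zero fun y' _ => ?_
      rw [if_neg fun h => hx (S.components y.2 y'.2 h).1, mul_zero]
  rw [Finset.sum_congr rfl fun x _ => e2 x, ← Finset.sum_filter, Finset.sum_const, nsmul_eq_mul,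
    mul_comm]
  congr 2
  rw [← Fintype.card_subtype]
  exact Nat.card_eq_fintype_card.symm

/-- The sections are orthogonal to the values at `p`-regular elements. -/
theorem sum_secCoeff_mul_regular [Fintype (IrrCharacter G)] [DecidableEq G]
    (S : PrimeSplit p P O u) (θ : IrrCharacter O) {i : ZMod p} (hi : i ≠ 0) {g : G}
    (hg : ¬ p ∣ orderOf g) :
    ∑ χ : IrrCharacter G, secCoeff u (θ : O → ℂ) χ i * (χ : G → ℂ) g = 0 := by
  simp only [secCoeff, Finset.mul_sum, Finset.sum_mul]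
  rw [Finset.sum_comm]
  refine Finset.sum_eq_zero fun y _ => ?_
  have h := sum_irr_mul_conj (upow u i * (y : G)) g⁻¹
  rw [if_neg] at h
  · simp only [IsCharacter.apply_inv (irr_isCharacter _), Complex.conj_conj] at h
    calc ∑ χ : IrrCharacter G, (Nat.card O : ℂ)⁻¹ *
          ((χ : G → ℂ) (upow u i * (y : G)) * (θ : O → ℂ) y⁻¹) * (χ : G → ℂ) g
        = (Nat.card O : ℂ)⁻¹ * (θ : O → ℂ) y⁻¹ *
            ∑ χ : IrrCharacter G, (χ : G → ℂ) (upow u i * (y : G)) * (χ : G → ℂ) g := by
          rw [Finset.mul_sum]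
          exact Finset.sum_congr rfl fun χ _ => by ring
      _ = 0 := by rw [h, mul_zero]
  · intro h'
    apply hg
    obtain ⟨c, hc⟩ := isConj_iff.1 h'
    have h2 : orderOf (upow u i * (y : G)) = orderOf g := by
      rw [← MulEquiv.orderOf_eq (MulAut.conj c), MulAut.conj_apply, hc, orderOf_inv]
    rw [← h2, (S.comm i y).orderOf_mul_eq_mul_orderOf_of_coprime ?_]
    · rw [orderOf_of_mem_prime S.card_P (upow_mem S.mem i)
        fun h => hi ((upow_eq_one_iff S.orderOf_u i).1 h)]
      exact dvd_mul_right _ _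
    · rw [orderOf_of_mem_prime S.card_P (upow_mem S.mem i)
        fun h => hi ((upow_eq_one_iff S.orderOf_u i).1 h), hp.out.coprime_iff_not_dvd]
      exact ((S.mem_iff y).1 y.2).2

end PrimeSplit

end Cfsg.Agent.Lib.Blocks
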