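import Cfsg.Agent.Lib.Blocks.SectionTheta
import Cfsg.Agent.Lib.Blocks.SecondMain
import Cfsg.Agent.S0954
import Cfsg.Agent.S0973

/-!
# The blocks of the centralizer of a subgroup of order `p`, and the sections they control
-/

set_option autoImplicit false
set_option linter.unusedSectionVars false
set_option linter.unusedVariables false

namespace Cfsg.Agent.Lib.Blocks

open Cfsg Cfsg.Agent.Lib.Characters
open scoped ComplexConjugate

universe u

variable {G : Type u} [Group G] [Fintype G] {M : Ideal AlgInt} [hMp : M.IsPrime] {p : ℕ}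
  [hp : Fact p.Prime]

theorem secondMain_of_centralizer (hM : IsPModular p M) {x : G} (hx : ∃ k : ℕ, orderOf x = p ^ k)
    (D : Subgroup G) [Fintype D] (hD : Subgroup.centralizer ({x} : Set G) = D)
    {B : Set (IrrCharacter G)} (hB : IsPBlock M B) {χ : IrrCharacter G} (hχ : χ ∈ B)
    {b : Set (IrrCharacter D)} (hb : IsPBlock M b) (hnot : ¬ IsInducedBlock M D b B) {y : D}
    (hy : ¬ p ∣ orderOf y) :
    blockPart b (fun c : D => (χ : G → ℂ) (x * (c : G))) y = 0 := by
  subst hD
  exact blockPart_eq_zero hM hx hB hχ hb hnot hy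

theorem extendedFirstMain_of_eq (hM : IsPModular p M) {B : Set (IrrCharacter G)} (hB : IsPBlock M B)
    (P K : Subgroup G) (hK : P ⊔ Subgroup.centralizer (P : Set G) = K)
    (hP : IsDefectGroup p M B P) :
    (∃ b : Set (IrrCharacter K), IsInducedBlock M K b B) ∧
      ∀ b b' : Set (IrrCharacter K), IsInducedBlock M K b B → IsInducedBlock M K b' B →
        ∃ n ∈ Subgroup.normalizer (P : Set G), ∀ θ ∈ b, ∃ θ' ∈ b', ∀ x : K,
          ∀ hx : n * (x : G) * n⁻¹ ∈ K, (θ' : K → ℂ) x = (θ : K → ℂ) ⟨n * (x : G) * n⁻¹, hx⟩ := by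
  subst hK
  obtain ⟨⟨b, -, hb⟩, h2⟩ := Cfsg.Agent.S0973.result p M hM B hB P hP
  exact ⟨⟨b, hb⟩, h2⟩

/-- The character values of a central element have absolute value the degree. -/
theorem mul_central_norm {K : Type u} [Group K] [Fintype K] {χ : K → ℂ} (hχ : IsIrrCharacter K χ)
    {z : K} (hz : ∀ x, x * z = z * x) (y : K) :
    χ (z * y) * χ (z * y)⁻¹ = χ y * χ y⁻¹ := by
  classical
  have hf : ∀ w : K, (∀ x, x * w = w * x) → ∀ a, χ (a * w) = χ a * χ w / χ 1 := by
    intro w hw a
    have hcl : IsClassFunction K (fun x => if x = w then (1 : ℂ) else 0) := fun x c => by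
      show (if c * x * c⁻¹ = w then (1 : ℂ) else 0) = if x = w then 1 else 0
      refine if_congr ?_ rfl rfl
      rw [mul_inv_eq_iff_eq_mul, ← hw c, mul_right_inj]
    have h := IsIrrCharacter.sum_mul_translate hχ hcl a
    simp only [ite_mul, one_mul, zero_mul, Finset.sum_ite_eq', Finset.mem_univ, if_true] at h
    rw [h]; ring
  have hzi : ∀ x, x * z⁻¹ = z⁻¹ * x := fun x => by
    rw [eq_inv_mul_iff_mul_eq, ← mul_assoc, ← hz x, mul_inv_cancel_right]
  have h1 : χ 1 ≠ 0 := IsIrrCharacter.apply_one_ne_zero hχ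
  have h2 : χ z * χ z⁻¹ = χ 1 * χ 1 := by
    have := hf z⁻¹ hzi z
    rw [mul_inv_cancel, eq_div_iff h1] at this
    exact this.symm
  rw [show (z * y)⁻¹ = y⁻¹ * z⁻¹ from _root_.mul_inv_rev z y, ← hz, hf z hz, hf z⁻¹ hzi]
  field_simp
  linear_combination (χ y * χ y⁻¹) * h2

namespace PrimeSplit

variable {P O : Subgroup G} {u : G} [Fintype O] [Fintype (Subgroup.centralizer (P : Set G))]

/-- A function on the centralizer restricted to its regular part. -/
def resO (S : PrimeSplit p P O u) (φ : Subgroup.centralizer (P : Set G) → ℂ) : O → ℂ :=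
  fun y => φ ⟨(y : G), S.le_centralizer y.2⟩

theorem isIrr_resO (S : PrimeSplit p P O u) (ψ : IrrCharacter (Subgroup.centralizer (P : Set G))) :
    IsIrrCharacter O (S.resO (ψ : _ → ℂ)) := by
  have hch : IsCharacter O (S.resO (ψ : _ → ℂ)) :=
    IsCharacter.comp (irr_isCharacter ψ) (Subgroup.inclusion S.le_centralizer)
  rw [IsCharacter.isIrr_iff hch, classInner_eq_sum_inv hch]
  have h := IsIrrCharacter.classInner_self ψ.2
  rw [classInner_eq_sum_inv (irr_isCharacter ψ), S.sum_centralizer, S.card_centralizer] at h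
  have e : ∀ i : ZMod p, ∑ y : O, (ψ : (Subgroup.centralizer (P : Set G)) → ℂ) ⟨upow u i * (y : G), S.upow_mul_mem i y⟩ *
      (ψ : (Subgroup.centralizer (P : Set G)) → ℂ) (⟨upow u i * (y : G), S.upow_mul_mem i y⟩ : Subgroup.centralizer (P : Set G))⁻¹ =
        ∑ y : O, S.resO (ψ : _ → ℂ) y * S.resO (ψ : _ → ℂ) y⁻¹ := by
    intro i
    refine Finset.sum_congr rfl fun y _ => ?_
    exact mul_central_norm ψ.2
      (z := ⟨upow u i, by simpa using S.upow_mul_mem i 1⟩) (fun x => Subtype.ext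
        (Subgroup.mem_centralizer_iff.1 x.2 _ (upow_mem S.mem i)).symm) ⟨(y : G), S.le_centralizer y.2⟩
  rw [Finset.sum_congr rfl fun i _ => e i, Finset.sum_const, Finset.card_univ, ZMod.card,
    nsmul_eq_mul, Nat.cast_mul, mul_inv] at h
  have hp0 : (p : ℂ) ≠ 0 := Nat.cast_ne_zero.2 hp.out.ne_zero
  rw [← h]
  field_simp

/-- The restriction of an irreducible character of the centralizer to the regular part. -/
def resIrr (S : PrimeSplit p P O u) (ψ : IrrCharacter (Subgroup.centralizer (P : Set G))) :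
    IrrCharacter O :=
  ⟨S.resO (ψ : _ → ℂ), S.isIrr_resO ψ⟩

theorem resIrr_apply (S : PrimeSplit p P O u) (ψ : IrrCharacter (Subgroup.centralizer (P : Set G)))
    (y : O) : (S.resIrr ψ : O → ℂ) y = (ψ : (Subgroup.centralizer (P : Set G)) → ℂ) ⟨(y : G), S.le_centralizer y.2⟩ := rfl

theorem exists_extend (S : PrimeSplit p P O u) (η : IrrCharacter O) :
    ∃ ψ : IrrCharacter (Subgroup.centralizer (P : Set G)), S.resIrr ψ = η ∧
      ∀ (i : ZMod p) (y : O), (ψ : (Subgroup.centralizer (P : Set G)) → ℂ) ⟨upow u i * (y : G), S.upow_mul_mem i y⟩ = (η : O → ℂ) y := by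
  classical
  set f : Subgroup.centralizer (P : Set G) →* O :=
    (MonoidHom.snd (Multiplicative (ZMod p)) O).comp S.splitEquiv.symm.toMonoidHom with hf
  have hfv : ∀ (i : ZMod p) (y : O), f ⟨upow u i * (y : G), S.upow_mul_mem i y⟩ = y := by
    intro i y
    show (S.splitEquiv.symm (S.splitEquiv (Multiplicative.ofAdd i, y))).2 = y
    rw [MulEquiv.symm_apply_apply]
  have hch : IsCharacter (Subgroup.centralizer (P : Set G)) ((η : O → ℂ) ∘ f) :=
    IsCharacter.comp (irr_isCharacter η) f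
  have hirr : IsIrrCharacter (Subgroup.centralizer (P : Set G)) ((η : O → ℂ) ∘ f) := by
    rw [IsCharacter.isIrr_iff hch, classInner_eq_sum_inv hch, S.sum_centralizer, S.card_centralizer]
    have h := IsIrrCharacter.classInner_self η.2
    rw [classInner_eq_sum_inv (irr_isCharacter η)] at h
    simp only [Function.comp_apply, map_inv, hfv]
    rw [Finset.sum_const, Finset.card_univ, ZMod.card, nsmul_eq_mul, Nat.cast_mul, mul_inv]
    have hp0 : (p : ℂ) ≠ 0 := Nat.cast_ne_zero.2 hp.out.ne_zero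
    rw [← h]
    field_simp
  refine ⟨⟨_, hirr⟩, Subtype.ext (funext fun y => ?_), fun i y => congrArg (η : O → ℂ) (hfv i y)⟩
  show (η : O → ℂ) (f ⟨(y : G), S.le_centralizer y.2⟩) = (η : O → ℂ) y
  rw [show (⟨(y : G), S.le_centralizer y.2⟩ : Subgroup.centralizer (P : Set G)) =
    ⟨upow u (0 : ZMod p) * (y : G), S.upow_mul_mem 0 y⟩ from Subtype.ext (by simp [upow_zero]), hfv]

theorem sameBlock_iff_resIrr_eq (hM : IsPModular p M) (S : PrimeSplit p P O u)
    (ψ ψ' : IrrCharacter (Subgroup.centralizer (P : Set G))) :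
    SameBlock M (ψ : (Subgroup.centralizer (P : Set G)) → ℂ) (ψ' : (Subgroup.centralizer (P : Set G)) → ℂ) ↔ S.resIrr ψ = S.resIrr ψ' := by
  classical
  haveI : (O.subgroupOf (Subgroup.centralizer (P : Set G))).Normal := ⟨fun z hz c => by
    rw [Subgroup.mem_subgroupOf] at hz ⊢
    simpa using S.normal (c : G) (Subgroup.centralizer_le_normalizer _ c.2) z hz⟩
  haveI := Fintype.ofFinite (O.subgroupOf (Subgroup.centralizer (P : Set G)))
  let e : O.subgroupOf (Subgroup.centralizer (P : Set G)) ≃* O := Subgroup.subgroupOfEquivOfLe S.le_centralizer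
  have hcard : Nat.card (O.subgroupOf (Subgroup.centralizer (P : Set G))) = Nat.card O := Nat.card_congr e.toEquiv
  have hN : ¬ p ∣ Nat.card (O.subgroupOf (Subgroup.centralizer (P : Set G))) := by rw [hcard]; exact S.not_dvd
  have hidx : (O.subgroupOf (Subgroup.centralizer (P : Set G))).index = p ^ 1 := by
    have h := Subgroup.index_mul_card (O.subgroupOf (Subgroup.centralizer (P : Set G)))
    rw [hcard, S.card_centralizer] at h
    rw [pow_one]
    exact Nat.eq_of_mul_eq_mul_right Nat.card_pos h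
  rw [Cfsg.Agent.S0954.result p M hM (O.subgroupOf (Subgroup.centralizer (P : Set G))) hN ⟨1, hidx⟩ ψ ψ']
  let lift : IrrCharacter O → IrrCharacter (O.subgroupOf (Subgroup.centralizer (P : Set G))) := fun η =>
    ⟨(η : O → ℂ) ∘ e, IsIrrCharacter.comp_equiv η.2 e⟩
  have hres : ∀ χ : IrrCharacter (Subgroup.centralizer (P : Set G)), (fun n : O.subgroupOf (Subgroup.centralizer (P : Set G)) => (χ : (Subgroup.centralizer (P : Set G)) → ℂ) n) =
      (lift (S.resIrr χ) : O.subgroupOf (Subgroup.centralizer (P : Set G)) → ℂ) := by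
    intro χ
    funext n
    exact congrArg (χ : (Subgroup.centralizer (P : Set G)) → ℂ) (Subtype.ext rfl)
  constructor
  · rintro ⟨η, h1, h2⟩
    rw [hres, classInner_irr] at h1 h2
    have h1' : lift (S.resIrr ψ) = η := by by_contra h; rw [if_neg h] at h1; exact h1 rfl
    have h2' : lift (S.resIrr ψ') = η := by by_contra h; rw [if_neg h] at h2; exact h2 rfl
    refine Subtype.ext (funext fun y => ?_)
    simpa [lift] using congrFun (congrArg Subtype.val (h1'.trans h2'.symm)) (e.symm y)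
  · intro h
    refine ⟨lift (S.resIrr ψ), ?_, ?_⟩
    · rw [hres, classInner_irr, if_pos rfl]; exact one_ne_zero
    · rw [hres, ← h, classInner_irr, if_pos rfl]; exact one_ne_zero

theorem centralizer_upow (S : PrimeSplit p P O u) {i : ZMod p} (hi : i ≠ 0) :
    Subgroup.centralizer ({upow u i} : Set G) = Subgroup.centralizer (P : Set G) :=
  centralizer_eq_of_prime P S.card_P (upow_mem S.mem i)
    fun h => hi ((upow_eq_one_iff S.orderOf_u i).1 h)

/-- **Second main theorem**: the sections vanish outside the blocks induced by the centralizer. -/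
theorem secCoeff_eq_zero (hM : IsPModular p M) (S : PrimeSplit p P O u)
    {B : Set (IrrCharacter G)} (hB : IsPBlock M B) {χ : IrrCharacter G} (hχ : χ ∈ B)
    {ψ₀ : IrrCharacter (Subgroup.centralizer (P : Set G))}
    {b : Set (IrrCharacter (Subgroup.centralizer (P : Set G)))} (hb : IsPBlock M b) (hψ₀ : ψ₀ ∈ b)
    (hnot : ¬ IsInducedBlock M (Subgroup.centralizer (P : Set G)) b B) {i : ZMod p} (hi : i ≠ 0) :
    secCoeff u (S.resIrr ψ₀ : O → ℂ) χ i = 0 := by
  classical
  haveI := Fintype.ofFinite (IrrCharacter (Subgroup.centralizer (P : Set G)))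
  set x := upow u i with hx
  have hxord : orderOf x = p := orderOf_of_mem_prime S.card_P (upow_mem S.mem i)
    fun h => hi ((upow_eq_one_iff S.orderOf_u i).1 h)
  let ϑ : (Subgroup.centralizer (P : Set G)) → ℂ := fun c => (χ : G → ℂ) (x * (c : G))
  have hϑ : IsClassFunction (Subgroup.centralizer (P : Set G)) ϑ := by
    intro c d
    show (χ : G → ℂ) (x * ((d : G) * (c : G) * (d : G)⁻¹)) = _
    rw [show x * ((d : G) * (c : G) * (d : G)⁻¹) = (d : G) * (x * (c : G)) * (d : G)⁻¹ by
      rw [← mul_assoc (d : G) x, ← Subgroup.mem_centralizer_iff.1 d.2 x (upow_mem S.mem i)]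
      simp only [mul_assoc], irr_isClassFunction χ]
  have hvan : ∀ y : O, blockPart b ϑ ⟨(y : G), S.le_centralizer y.2⟩ = 0 := fun y =>
    secondMain_of_centralizer hM ⟨1, by rw [pow_one, hxord]⟩ (Subgroup.centralizer (P : Set G)) (S.centralizer_upow hi) hB hχ hb hnot
      (by rw [Subgroup.orderOf_mk]; exact ((S.mem_iff y).1 y.2).2)
  have hbmem : ∀ ψ : IrrCharacter (Subgroup.centralizer (P : Set G)), ψ ∈ b ↔ S.resIrr ψ = S.resIrr ψ₀ := fun ψ => by
    rw [IsPBlock.mem_iff hb hψ₀, S.sameBlock_iff_resIrr_eq hM]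
    exact eq_comm
  have hsec : secCoeff u (S.resIrr ψ₀ : O → ℂ) χ i =
      ∑ ψ : IrrCharacter (Subgroup.centralizer (P : Set G)), if ψ ∈ b then classInner ϑ (ψ : (Subgroup.centralizer (P : Set G)) → ℂ) else 0 := by
    rw [secCoeff]
    rw [Finset.sum_congr rfl fun (y : O) _ => show (χ : G → ℂ) (upow u i * (y : G)) * _ =
      (∑ ψ : IrrCharacter (Subgroup.centralizer (P : Set G)), classInner ϑ (ψ : (Subgroup.centralizer (P : Set G)) → ℂ) * (S.resIrr ψ : O → ℂ) y) *
        (S.resIrr ψ₀ : O → ℂ) y⁻¹ by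
      congr 1
      have h := congrFun (eq_sum_classInner hϑ) ⟨(y : G), S.le_centralizer y.2⟩
      simpa [ϑ, resIrr_apply] using h]
    simp only [Finset.sum_mul, mul_assoc]
    rw [Finset.sum_comm, Finset.mul_sum]
    refine Finset.sum_congr rfl fun ψ _ => ?_
    rw [← Finset.mul_sum, mul_left_comm, ← S.classInner_eq_sum _ _ (irr_isCharacter _), classInner_irr]
    simp only [hbmem]
    split_ifs <;> simp
  rw [hsec]
  have h1 : ∀ y : O, (∑ ψ : IrrCharacter (Subgroup.centralizer (P : Set G)), if ψ ∈ b then classInner ϑ (ψ : (Subgroup.centralizer (P : Set G)) → ℂ) else 0) *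
      (S.resIrr ψ₀ : O → ℂ) y = 0 := by
    intro y
    refine Eq.trans ?_ (hvan y)
    rw [blockPart]
    simp only [finsum_irr_eq_sum_ite, Finset.sum_mul]
    refine Finset.sum_congr rfl fun ψ _ => ?_
    by_cases hψ : ψ ∈ b
    · rw [if_pos hψ, if_pos hψ, ← congrFun (congrArg Subtype.val ((hbmem ψ).1 hψ)) y, resIrr_apply]
      congr!
    · rw [if_neg hψ, if_neg hψ, zero_mul]
  exact (mul_eq_zero.1 (h1 1)).resolve_right (IsIrrCharacter.apply_one_ne_zero (S.resIrr ψ₀).2)

/-- The blocks of the centralizer inducing a block with defect group `P` are conjugate. -/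
theorem resIrr_conj_of_induced (hM : IsPModular p M) (S : PrimeSplit p P O u)
    {B : Set (IrrCharacter G)} (hB : IsPBlock M B) (hBP : IsDefectGroup p M B P)
    {b b' : Set (IrrCharacter (Subgroup.centralizer (P : Set G)))}
    (hb : IsInducedBlock M (Subgroup.centralizer (P : Set G)) b B)
    (hb' : IsInducedBlock M (Subgroup.centralizer (P : Set G)) b' B)
    {ψ ψ' : IrrCharacter (Subgroup.centralizer (P : Set G))} (hψ : ψ ∈ b) (hψ' : ψ' ∈ b') :
    ∃ (g : G) (hg : g ∈ Subgroup.normalizer (P : Set G)), ∀ y : O, (S.resIrr ψ' : O → ℂ) y =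
      (S.resIrr ψ : O → ℂ) ⟨g * (y : G) * g⁻¹, S.normal g hg y y.2⟩ := by
  have hK : P ⊔ Subgroup.centralizer (P : Set G) = Subgroup.centralizer (P : Set G) := by
    refine sup_eq_right.2 fun a ha => ?_
    obtain ⟨i, rfl⟩ := exists_upow_eq S.card_P S.mem S.ne_one ha
    simpa using S.upow_mul_mem i 1
  obtain ⟨n, hn, hconj⟩ := (extendedFirstMain_of_eq hM hB P _ hK hBP).2 b b' hb hb'
  obtain ⟨θ', hθ', h⟩ := hconj ψ hψ
  refine ⟨n, hn, fun y => ?_⟩
  rw [← (S.sameBlock_iff_resIrr_eq hM θ' ψ').1 ((IsPBlock.mem_iff hb'.1 hθ').1 hψ')]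
  exact h ⟨(y : G), S.le_centralizer y.2⟩ (S.le_centralizer (S.normal n hn y y.2))

end PrimeSplit

end Cfsg.Agent.Lib.Blocks
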