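import Cfsg.Agent.Lib.Blocks.SelfCentralPrime
import Mathlib.NumberTheory.LegendreSymbol.AddCharacter

/-!
# Characters of degree `p - 1` in groups with a self-centralizing element of order `p`
-/

set_option autoImplicit false
set_option linter.unusedSectionVars false
set_option linter.unusedVariables false
set_option linter.style.haveILetI false

namespace Cfsg.Agent.Lib.Blocks

open Cfsg Cfsg.Agent.Lib.Characters
open scoped ComplexConjugate commutatorElement

universe u

/-- The arithmetic step. -/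
theorem degree_count_contradiction {f h p m Q : ℤ} (hfh : f * h = p - 1) (hh : 2 ≤ h) (hf : 1 ≤ f)
    (hQ : (m - 1) ^ 2 - 1 + (p - 1) + h ≤ Q) (hb : f * (p * Q - (p - 1) ^ 2) ≤ (p - 1) ^ 2) : False := by
  have hp : 2 ≤ p - 1 := by nlinarith
  nlinarith [mul_le_mul_of_nonneg_left hQ (mul_nonneg (by omega : (0:ℤ) ≤ f) (by omega : (0:ℤ) ≤ p)),
    mul_nonneg (mul_nonneg (by omega : (0:ℤ) ≤ f) (by omega : (0:ℤ) ≤ p)) (sq_nonneg (m - 1)),
    mul_le_mul_of_nonneg_left hh (by omega : (0:ℤ) ≤ f)]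

variable {G : Type u} [Group G] [Fintype G] {p : ℕ} [hp : Fact p.Prime] {x : G}

/-- A character of degree `p - 1` takes the value `-1` on the elements of order `p`. -/
theorem apply_eq_neg_one_of_degree (hx : orderOf x = p)
    (hC : Subgroup.centralizer ({x} : Set G) = Subgroup.zpowers x) (hp2 : p ≠ 2)
    {n : G} (hn : n ∈ Subgroup.normalizer ((Subgroup.zpowers x : Subgroup G) : Set G))
    (hnP : n ∉ Subgroup.zpowers x)
    (χ : IrrCharacter G) (hχ : (χ : G → ℂ) 1 = (p : ℂ) - 1) (a : ZMod p) (ha : a ≠ 0) :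
    (χ : G → ℂ) (upow x a) = -1 := by
  classical
  haveI := Fintype.ofFinite (IrrCharacter G)
  have hp3 : 3 ≤ p := by have := hp.out.two_le; omega
  have hxp : x ^ p = 1 := hx ▸ pow_orderOf_eq_one x
  have hxP : x ∈ Subgroup.zpowers x := Subgroup.mem_zpowers x
  have hcardP : Nat.card (Subgroup.zpowers x) = p := by rw [Nat.card_zpowers, hx]
  have hx1 : x ≠ 1 := fun h => hp.out.ne_one (by rw [← hx, h, orderOf_one])
  let F : ZMod p → ℂ := fun b => (χ : G → ℂ) (upow x b)
  -- multiplicities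
  have hζ := Complex.isPrimitiveRoot_exp p hp.out.ne_zero
  set ζ := Complex.exp (2 * Real.pi * Complex.I / p)
  let e : AddChar (ZMod p) ℂ := AddChar.zmodChar p hζ.pow_eq_one
  have he : e.IsPrimitive := AddChar.zmodChar_primitive_of_primitive_root p hζ
  obtain ⟨ι, hι, μ, hμ, hval⟩ := Cfsg.Agent.Lib.BlockHeights.exists_eigen_sum (irr_isCharacter χ) x
  rw [hx] at hμ
  have hj : ∀ l, ∃ j : ZMod p, μ l = e j := by
    intro l
    obtain ⟨i, hi, hieq⟩ := hζ.eq_pow_of_pow_eq_one (hμ l)
    refine ⟨(i : ZMod p), ?_⟩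
    rw [AddChar.zmodChar_apply, ZMod.val_cast_of_lt hi, hieq]
  choose j hj using hj
  have hF : ∀ b, F b = ∑ l, e (j l * b) := by
    intro b
    show (χ : G → ℂ) (x ^ b.val) = _
    rw [hval]
    refine Finset.sum_congr rfl fun l _ => ?_
    rw [hj, ← AddChar.map_nsmul_eq_pow, nsmul_eq_mul, ZMod.natCast_zmod_val, mul_comm]
  let M : ZMod p → ℤ := fun i => ((Finset.univ.filter fun l => j l = i).card : ℤ)
  have hsumM : ∑ i, M i = (p : ℤ) - 1 := by
    have h0 : ((Fintype.card ι : ℤ) : ℂ) = (((p : ℤ) - 1 : ℤ) : ℂ) := by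
      have := hval 0
      rw [pow_zero] at this
      rw [hχ] at this
      push_cast
      simpa using this.symm
    rw [← Int.cast_injective h0]
    simp only [M]
    rw [← Nat.cast_sum, ← Finset.card_eq_sum_card_fiberwise (fun l _ => Finset.mem_univ (j l))]
    rfl
  have hgroup : ∀ (g : ZMod p → ℂ), ∑ l, g (j l) = ∑ i, (M i : ℂ) * g i := by
    intro g
    rw [← Finset.sum_fiberwise Finset.univ j]
    refine Finset.sum_congr rfl fun i _ => ?_
    rw [Finset.sum_congr rfl fun l hl => show g (j l) = g i by rw [(Finset.mem_filter.1 hl).2],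
      Finset.sum_const, nsmul_eq_mul]
    simp [M]
  have hinv : ∀ i, ∑ b, F b * e (-(i * b)) = (p : ℂ) * M i := by
    intro i
    simp only [hF, Finset.sum_mul, ← AddChar.map_add_eq_mul]
    rw [Finset.sum_comm]
    rw [Finset.sum_congr rfl fun l _ => show (∑ b : ZMod p, e (j l * b + -(i * b))) =
      if j l = i then (p : ℂ) else 0 by
        rw [Finset.sum_congr rfl fun (b : ZMod p) _ => show e (j l * b + -(i * b)) = e (b * (j l - i)) by
          congr 1; ring, AddChar.sum_mulShift _ he, ZMod.card]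
        simp only [sub_eq_zero]
        push_cast
        rfl]
    rw [← Finset.sum_filter, Finset.sum_const, nsmul_eq_mul, mul_comm]
    simp [M]
  have hnorm : ∑ b, F b * conj (F b) = (p : ℂ) * ((∑ i, M i ^ 2 : ℤ) : ℂ) := by
    have hconj : ∀ b, conj (F b) = ∑ l, e (-(j l * b)) := by
      intro b
      rw [show conj (F b) = F (-b) from ?_, hF]
      · exact Finset.sum_congr rfl fun l _ => by rw [mul_neg]
      · show conj ((χ : G → ℂ) (upow x b)) = (χ : G → ℂ) (upow x (-b))
        rw [← IsCharacter.apply_inv (irr_isCharacter χ)]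
        refine congrArg (χ : G → ℂ) (inv_eq_of_mul_eq_one_right ?_)
        rw [← upow_add hxp, add_neg_cancel, upow_zero]
    simp only [hconj, Finset.mul_sum]
    rw [Finset.sum_comm, hgroup (fun i => ∑ b, F b * e (-(i * b)))]
    simp only [hinv]
    push_cast
    rw [Finset.mul_sum]
    exact Finset.sum_congr rfl fun i _ => by ring
  -- the invariance group
  let H : Subgroup (ZMod p)ˣ :=
    { carrier := {h | ∀ b : ZMod p, F (h * b) = F b}
      one_mem' := fun b => by simp
      mul_mem' := fun {h k} hh hk b => by rw [Units.val_mul, mul_assoc, hh, hk]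
      inv_mem' := fun {h} hh b => by
        conv_rhs => rw [← Units.mul_inv_cancel_left h b]
        rw [hh] }
  have hMinv : ∀ h ∈ H, ∀ i, M ((h : ZMod p) * i) = M i := by
    intro h hh i
    have hpC : (p : ℂ) ≠ 0 := Nat.cast_ne_zero.2 hp.out.ne_zero
    refine Int.cast_injective (α := ℂ) (mul_left_cancel₀ hpC ?_)
    rw [← hinv, ← hinv]
    refine Fintype.sum_equiv (Units.mulLeft h) _ _ fun b => ?_
    show F b * e (-((h : ZMod p) * i * b)) = F ((h : ZMod p) * b) * e (-(i * ((h : ZMod p) * b)))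
    rw [hh, show (h : ZMod p) * i * b = i * ((h : ZMod p) * b) by ring]
  have hH2 : 2 ≤ Nat.card H := by
    have hmem : n * x * n⁻¹ ∈ Subgroup.zpowers x := (Subgroup.mem_normalizer_iff.1 hn x).1 hxP
    obtain ⟨k, hk⟩ := exists_upow_eq hcardP hxP hx1 hmem
    have hk0 : k ≠ 0 := by
      rintro rfl
      rw [upow_zero] at hk
      exact hx1 (conj_eq_one_iff.1 hk.symm)
    have hk1 : k ≠ 1 := by
      rintro rfl
      rw [show (1 : ZMod p) = ((1 : ℕ) : ZMod p) by simp, upow_natCast hxp, pow_one] at hk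
      refine hnP (hC ▸ Subgroup.mem_centralizer_singleton_iff.2 ?_)
      exact (eq_mul_inv_iff_mul_eq.1 hk).symm
    have hkH : Units.mk0 k hk0 ∈ H := by
      intro b
      show (χ : G → ℂ) (upow x (k * b)) = (χ : G → ℂ) (upow x b)
      rw [← ZMod.natCast_zmod_val b, mul_comm, upow_mul_natCast hxp, hk, conj_pow, irr_isClassFunction χ,
        upow_natCast hxp]
    by_contra hlt
    have hle : Nat.card H ≤ 1 := by omega
    haveI := (Finite.card_le_one_iff_subsingleton).1 hle
    have := congrArg (fun h : H => ((h : (ZMod p)ˣ) : ZMod p)) (Subsingleton.elim (⟨_, hkH⟩ : H) 1)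
    exact hk1 this
  have hfh : H.index * Nat.card H = p - 1 := by
    rw [H.index_mul_card, Nat.card_eq_fintype_card, ZMod.card_units p]
  -- the Galois conjugates
  haveI : NeZero p := ⟨hp.out.ne_zero⟩
  haveI := Fintype.ofFinite ((ZMod p)ˣ ⧸ H)
  have hτ : ∀ s : (ZMod p)ˣ, ∃ τ : ℂ ≃+* ℂ, ∀ z : ℂ, z ^ p = 1 → τ z = z ^ (s : ZMod p).val := fun s =>
    exists_complexAut_pow (ZMod.val_coe_unit_coprime s)
  choose τ hτ using hτ
  have hτF : ∀ s b, τ s (F b) = F ((s : ZMod p) * b) := by
    intro s b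
    rw [hF, hF, map_sum]
    refine Finset.sum_congr rfl fun l _ => ?_
    rw [hτ s _ (by rw [AddChar.zmodChar_apply, ← pow_mul, mul_comm, pow_mul, hζ.pow_eq_one, one_pow]),
      ← AddChar.map_nsmul_eq_pow, nsmul_eq_mul, ZMod.natCast_zmod_val]
    congr 1
    ring
  let ψ : (ZMod p)ˣ ⧸ H → IrrCharacter G := fun q => autIrr (τ q.out) χ
  have hψinj : Function.Injective ψ := by
    intro q q' h
    rw [← QuotientGroup.out_eq' q, ← QuotientGroup.out_eq' q', QuotientGroup.eq]
    intro b
    have h2 := congrFun (congrArg Subtype.val h) (upow x ((((q.out)⁻¹ : (ZMod p)ˣ) : ZMod p) * b))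
    rw [show (ψ q : G → ℂ) = fun g => τ q.out ((χ : G → ℂ) g) from rfl,
      show (ψ q' : G → ℂ) = fun g => τ q'.out ((χ : G → ℂ) g) from rfl] at h2
    simp only at h2
    rw [show (χ : G → ℂ) (upow x _) = F _ from rfl, hτF, hτF, Units.mul_inv_cancel_left] at h2
    simp only [Units.val_mul]
    rw [mul_assoc, mul_left_comm]
    exact h2.symm
  have hψtriv : ∀ q, ψ q ≠ trivIrr G := by
    intro q h
    have h2 := congrFun (congrArg Subtype.val h) 1
    rw [trivIrr_apply, show (ψ q : G → ℂ) 1 = τ q.out ((χ : G → ℂ) 1) from rfl, hχ, map_sub, map_natCast,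
      map_one, sub_eq_iff_eq_add] at h2
    have : p = 2 := by
      have h3 : (p : ℂ) = ((2 : ℕ) : ℂ) := by rw [h2]; norm_num
      exact_mod_cast h3
    omega
  have hcol : ∀ b : ZMod p, b ≠ 0 →
      ∑ q : (ZMod p)ˣ ⧸ H, Complex.normSq (F ((q.out : ZMod p) * b)) ≤ (p : ℝ) - 1 := by
    intro b hb
    have hmem : upow x b ∈ Subgroup.zpowers x := upow_mem hxP b
    have hne : upow x b ≠ 1 := fun h => hb ((upow_eq_one_iff hx b).1 h)
    have hcard : Nat.card (Subgroup.centralizer ({upow x b} : Set G)) = p :=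
      card_centralizer_of_orderOf hx hC (orderOf_of_mem_prime hcardP hmem hne)
    have h := sum_irr_mul_conj (upow x b) (upow x b)
    rw [if_pos (IsConj.refl _), hcard] at h
    simp only [Complex.mul_conj] at h
    have hR : ∑ φ : IrrCharacter G, Complex.normSq ((φ : G → ℂ) (upow x b)) = (p : ℝ) := by exact_mod_cast h
    have hsub := Finset.sum_le_sum_of_subset_of_nonneg
      (Finset.subset_univ (insert (trivIrr G) (Finset.univ.image ψ)))
      (fun φ _ _ => Complex.normSq_nonneg ((φ : G → ℂ) (upow x b)))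
    rw [hR, Finset.sum_insert (by simp only [Finset.mem_image, not_exists, not_and]; exact fun q _ => hψtriv q),
      Finset.sum_image hψinj.injOn, trivIrr_apply, map_one] at hsub
    have heq : ∀ q, (ψ q : G → ℂ) (upow x b) = F ((q.out : ZMod p) * b) := fun q => hτF q.out b
    simp only [heq] at hsub
    linarith
  -- sum over the non-trivial elements
  set S : ℝ := ∑ b ∈ Finset.univ.filter (fun b : ZMod p => b ≠ 0), Complex.normSq (F b) with hS
  have hperm : ∀ s : (ZMod p)ˣ,
      ∑ b ∈ Finset.univ.filter (fun b : ZMod p => b ≠ 0), Complex.normSq (F ((s : ZMod p) * b)) = S := by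
    intro s
    refine Finset.sum_bij' (fun b _ => (s : ZMod p) * b) (fun b _ => ((s⁻¹ : (ZMod p)ˣ) : ZMod p) * b)
      (fun b hb => ?_) (fun b hb => ?_) (fun b _ => Units.inv_mul_cancel_left s b)
      (fun b _ => Units.mul_inv_cancel_left s b) (fun b _ => rfl)
    · exact Finset.mem_filter.2 ⟨Finset.mem_univ _, mul_ne_zero s.ne_zero (Finset.mem_filter.1 hb).2⟩
    · exact Finset.mem_filter.2 ⟨Finset.mem_univ _, mul_ne_zero (s⁻¹).ne_zero (Finset.mem_filter.1 hb).2⟩
  have hcardne : ((Finset.univ.filter fun b : ZMod p => b ≠ 0).card : ℝ) = (p : ℝ) - 1 := by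
    rw [Finset.filter_ne', Finset.card_erase_of_mem (Finset.mem_univ _), Finset.card_univ, ZMod.card,
      Nat.cast_sub hp.out.one_le, Nat.cast_one]
  have hbound : (H.index : ℝ) * S ≤ ((p : ℝ) - 1) ^ 2 := by
    have h1 := Finset.sum_le_sum (s := Finset.univ.filter fun b : ZMod p => b ≠ 0)
      fun b hb => hcol b (Finset.mem_filter.1 hb).2
    rw [Finset.sum_comm] at h1
    simp only [hperm, Finset.sum_const, nsmul_eq_mul] at h1
    rw [Finset.card_univ, ← Nat.card_eq_fintype_card, ← Subgroup.index, hcardne] at h1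
    linarith
  have hS' : S = (p : ℝ) * ((∑ i, M i ^ 2 : ℤ) : ℝ) - ((p : ℝ) - 1) ^ 2 := by
    have h0 : F 0 = (((p : ℝ) - 1 : ℝ) : ℂ) := by
      show (χ : G → ℂ) (upow x 0) = _
      rw [upow_zero, hχ]
      push_cast
      ring
    have h1 := hnorm
    simp only [Complex.mul_conj] at h1
    have h1' : ∑ b, Complex.normSq (F b) = (p : ℝ) * ((∑ i, M i ^ 2 : ℤ) : ℝ) := by exact_mod_cast h1
    rw [← Finset.sum_filter_add_sum_filter_not Finset.univ (fun b : ZMod p => b ≠ 0), ← hS,
      show (Finset.univ.filter fun b : ZMod p => ¬ b ≠ 0) = {0} by ext b; simp,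
      Finset.sum_singleton, h0, Complex.normSq_ofReal] at h1'
    linarith [sq ((p : ℝ) - 1)]
  have hint : (H.index : ℤ) * ((p : ℤ) * (∑ i, M i ^ 2) - ((p : ℤ) - 1) ^ 2) ≤ ((p : ℤ) - 1) ^ 2 := by
    rw [hS'] at hbound
    exact_mod_cast hbound
  -- all multiplicities are one
  have hall : ∀ i : ZMod p, i ≠ 0 → M i = 1 := by
    by_contra hcon
    push Not at hcon
    obtain ⟨i₀, hi₀, hM₀⟩ := hcon
    set s := Finset.univ.filter fun i : ZMod p => i ≠ 0 with hs
    have hD : (Nat.card H : ℤ) ≤ ∑ i ∈ s, (M i - 1) ^ 2 := by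
      haveI := Fintype.ofFinite H
      have hsub : Finset.univ.image (fun h : H => ((h : (ZMod p)ˣ) : ZMod p) * i₀) ⊆ s := by
        intro i hi
        obtain ⟨h, -, rfl⟩ := Finset.mem_image.1 hi
        simp [hs, hi₀]
      refine le_trans ?_ (Finset.sum_le_sum_of_subset_of_nonneg hsub fun i _ _ => sq_nonneg _)
      rw [Finset.sum_image fun a _ b _ h => Subtype.ext (Units.ext (mul_right_cancel₀ hi₀ h)),
        Nat.card_eq_fintype_card, ← Finset.card_univ, Finset.card_eq_sum_ones, Nat.cast_sum]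
      refine Finset.sum_le_sum fun h _ => ?_
      rw [hMinv _ h.2, Nat.cast_one]
      have h1 : M i₀ - 1 ≠ 0 := sub_ne_zero.2 hM₀
      have h2 : 0 < (M i₀ - 1) ^ 2 := by positivity
      omega
    have hQ : (M 0 - 1) ^ 2 - 1 + ((p : ℤ) - 1) + (Nat.card H : ℤ) ≤ ∑ i, M i ^ 2 := by
      have e0 : (Finset.univ.filter fun i : ZMod p => ¬ i ≠ 0) = {0} := by ext b; simp
      rw [← Finset.sum_filter_add_sum_filter_not Finset.univ (fun b : ZMod p => b ≠ 0) (fun i => M i ^ 2),
        e0, Finset.sum_singleton, ← hs]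
      rw [← Finset.sum_filter_add_sum_filter_not Finset.univ (fun b : ZMod p => b ≠ 0) M,
        e0, Finset.sum_singleton, ← hs] at hsumM
      have hexp : ∑ i ∈ s, M i ^ 2 = ∑ i ∈ s, (M i - 1) ^ 2 + 2 * ∑ i ∈ s, M i - (s.card : ℤ) := by
        rw [Finset.mul_sum, ← Finset.sum_add_distrib, Finset.card_eq_sum_ones, Nat.cast_sum,
          ← Finset.sum_sub_distrib]
        exact Finset.sum_congr rfl fun i _ => by push_cast; ring
      have hsc : (s.card : ℤ) = (p : ℤ) - 1 := by
        rw [hs, Finset.filter_ne', Finset.card_erase_of_mem (Finset.mem_univ _), Finset.card_univ, ZMod.card,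
          Nat.cast_sub hp.out.one_le, Nat.cast_one]
      nlinarith
    refine degree_count_contradiction (f := (H.index : ℤ)) (h := (Nat.card H : ℤ)) (p := (p : ℤ)) ?_
      (by exact_mod_cast hH2) ?_ hQ hint
    · rw [← Nat.cast_mul, hfh, Nat.cast_sub hp.out.one_le, Nat.cast_one]
    · exact_mod_cast Nat.pos_of_ne_zero H.index_ne_zero_of_finite
  have hM0 : M 0 = 0 := by
    rw [← Finset.sum_filter_add_sum_filter_not Finset.univ (fun b : ZMod p => b ≠ 0) M,
      show (Finset.univ.filter fun b : ZMod p => ¬ b ≠ 0) = {0} by ext b; simp, Finset.sum_singleton,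
      Finset.sum_congr rfl fun i hi => hall i (Finset.mem_filter.1 hi).2] at hsumM
    simp only [Finset.sum_const, nsmul_eq_mul, mul_one] at hsumM
    rw [Finset.filter_ne', Finset.card_erase_of_mem (Finset.mem_univ _), Finset.card_univ, ZMod.card,
      Nat.cast_sub hp.out.one_le, Nat.cast_one] at hsumM
    linarith
  show F a = -1
  rw [hF, hgroup (fun i => e (i * a)), ← Finset.add_sum_erase _ _ (Finset.mem_univ (0 : ZMod p)), hM0,
    Int.cast_zero, zero_mul, zero_add, Finset.sum_congr rfl fun i hi => show (M i : ℂ) * e (i * a) = e (i * a) by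
      rw [hall i (Finset.mem_erase.1 hi).1, Int.cast_one, one_mul],
    Finset.sum_erase_eq_sub (Finset.mem_univ (0 : ZMod p)), AddChar.sum_mulShift _ he, if_neg ha]
  simp

/-- A character of degree `p - 1` vanishes on the normalizer outside the subgroup of order `p`. -/
theorem apply_eq_zero_of_degree (hx : orderOf x = p)
    (hC : Subgroup.centralizer ({x} : Set G) = Subgroup.zpowers x) (hp2 : p ≠ 2)
    {g : G} (hg : g ∈ Subgroup.normalizer ((Subgroup.zpowers x : Subgroup G) : Set G))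
    (hgP : g ∉ Subgroup.zpowers x)
    (χ : IrrCharacter G) (hχ : (χ : G → ℂ) 1 = (p : ℂ) - 1) : (χ : G → ℂ) g = 0 := by
  classical
  set N := Subgroup.normalizer ((Subgroup.zpowers x : Subgroup G) : Set G) with hN
  set P := (Subgroup.zpowers x).subgroupOf N with hPdef
  haveI : P.Normal := Subgroup.normal_in_normalizer
  haveI := Fintype.ofFinite N
  haveI := Fintype.ofFinite P
  have hcard : Nat.card P = p := by
    rw [hPdef, Nat.card_congr (Subgroup.subgroupOfEquivOfLe Subgroup.le_normalizer).toEquiv,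
      Nat.card_zpowers, hx]
  let φ : N → ℂ := fun n => (χ : G → ℂ) n
  have hφ : IsCharacter N φ := IsCharacter.restrict (irr_isCharacter χ) N
  have hav := IsCharacter.avgN P hφ
  have hv : ∀ a : P, a ≠ 1 → φ a = -1 := by
    intro a ha
    obtain ⟨i, hi⟩ := exists_upow_eq (p := p) (P := Subgroup.zpowers x) (by rw [Nat.card_zpowers, hx])
      (Subgroup.mem_zpowers x) (fun h => hp.out.ne_one (by rw [← hx, h, orderOf_one])) a.2
    show (χ : G → ℂ) ((a : N) : G) = -1
    rw [show ((a : N) : G) = upow x i from hi.symm]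
    refine apply_eq_neg_one_of_degree hx hC hp2 hg hgP χ hχ i fun h0 => ha ?_
    rw [h0, upow_zero] at hi
    exact Subtype.ext (Subtype.ext hi.symm)
  have h1 : Characters.avgN P φ 1 = 0 := by
    simp only [Characters.avgN, mul_one]
    rw [← Finset.add_sum_erase _ _ (Finset.mem_univ (1 : P)),
      Finset.sum_congr rfl fun a ha => hv a (Finset.mem_erase.1 ha).1, Finset.sum_const,
      Finset.card_erase_of_mem (Finset.mem_univ _), Finset.card_univ, ← Nat.card_eq_fintype_card, hcard,
      nsmul_eq_mul, Nat.cast_sub hp.out.one_le, show φ ((1 : P) : N) = (p : ℂ) - 1 from hχ]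
    push_cast
    ring
  have h0 : Characters.avgN P φ ⟨g, hg⟩ = 0 := by
    obtain ⟨ι, hι, μ, hμ, hval⟩ := Cfsg.Agent.Lib.BlockHeights.exists_eigen_sum hav ⟨g, hg⟩
    have h2 := hval 0
    simp only [pow_zero, Finset.sum_const, Finset.card_univ, nsmul_eq_mul, mul_one, h1] at h2
    haveI : IsEmpty ι := Fintype.card_eq_zero_iff.1 (Nat.cast_eq_zero.1 h2.symm)
    simpa using hval 1
  -- all elements of the coset are conjugate
  let f : P → P := fun b => ⟨(b : N) * ⟨g, hg⟩ * (b : N)⁻¹ * ⟨g, hg⟩⁻¹, by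
    rw [mul_assoc (b : N), mul_assoc (b : N)]
    exact P.mul_mem b.2 ((inferInstance : P.Normal).conj_mem _ (P.inv_mem b.2) _)⟩
  have hf : Function.Surjective f := by
    refine Finite.surjective_of_injective fun b c hbc => ?_
    have h2 : ((b : N) : G) * g * ((b : N) : G)⁻¹ * g⁻¹ = ((c : N) : G) * g * ((c : N) : G)⁻¹ * g⁻¹ :=
      congrArg (fun a : P => ((a : N) : G)) hbc
    by_contra hne
    set d := ((c : N) : G)⁻¹ * ((b : N) : G) with hd
    have hdP : d ∈ Subgroup.zpowers x := Subgroup.mul_mem _ (Subgroup.inv_mem _ c.2) b.2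
    have hd1 : d ≠ 1 := fun h => hne (Subtype.ext (Subtype.ext (inv_mul_eq_one.1 h).symm))
    have hcomm : Commute d g := by
      have h3 := mul_right_cancel h2
      show d * g = g * d
      calc d * g = ((c : N) : G)⁻¹ * (((b : N) : G) * g * ((b : N) : G)⁻¹) * ((b : N) : G) := by rw [hd]; group
        _ = ((c : N) : G)⁻¹ * (((c : N) : G) * g * ((c : N) : G)⁻¹) * ((b : N) : G) := by rw [h3]
        _ = g * d := by rw [hd]; group
    apply hgP
    rw [← centralizer_zpowers_self hC]
    rw [← centralizer_eq_of_prime (p := p) (Subgroup.zpowers x) (by rw [Nat.card_zpowers, hx]) hdP hd1]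
    exact Subgroup.mem_centralizer_singleton_iff.2 hcomm.symm.eq
  have hsum : Characters.avgN P φ ⟨g, hg⟩ = φ ⟨g, hg⟩ := by
    have hconst : ∀ a : P, φ ((a : N) * ⟨g, hg⟩) = φ ⟨g, hg⟩ := by
      intro a
      obtain ⟨b, rfl⟩ := hf a
      show φ ((b : N) * ⟨g, hg⟩ * (b : N)⁻¹ * ⟨g, hg⟩⁻¹ * ⟨g, hg⟩) = _
      rw [inv_mul_cancel_right]
      exact IsCharacter.isClassFunction hφ _ _
    simp only [Characters.avgN, hconst, Finset.sum_const, Finset.card_univ, nsmul_eq_mul,
      ← Nat.card_eq_fintype_card]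
    rw [inv_mul_cancel_left₀ natCard_ne_zero_complex]
  exact hsum.symm.trans h0

/-- A character of degree `p - 1` has non-trivial determinant when the class count is odd. -/
theorem even_index_of_degree (hx : orderOf x = p)
    (hC : Subgroup.centralizer ({x} : Set G) = Subgroup.zpowers x) (hp2 : p ≠ 2) (t : ℕ)
    (ht : Nat.card {C : ConjClasses G // ∃ g ∈ C.carrier, orderOf g = p} = t) (htodd : Odd t)
    (χ : IrrCharacter G) (hχ : (χ : G → ℂ) 1 = (p : ℂ) - 1) : Even (commutator G).index := by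
  classical
  have htN := classCount_mul_card_normalizer hx hC
  rw [ht] at htN
  set N := Subgroup.normalizer ((Subgroup.zpowers x : Subgroup G) : Set G) with hN
  haveI : Fact (Nat.Prime 2) := ⟨Nat.prime_two⟩
  obtain ⟨T⟩ : Nonempty (Sylow 2 N) := inferInstance
  set s := (Nat.card N).factorization 2 with hs
  have hTcard : Nat.card (T : Subgroup N) = 2 ^ s := T.card_eq_multiplicity
  have hPcard : Nat.card (Subgroup.zpowers x) = p := by rw [Nat.card_zpowers, hx]
  have hpodd : Odd p := hp.out.odd_of_ne_two hp2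
  have hp1 : p - 1 ≠ 0 := by have := hp.out.two_le; omega
  have hsval : s = (p - 1).factorization 2 := by
    have h := congrArg (fun m => m.factorization 2) htN
    rw [Nat.factorization_mul (by rintro rfl; exact (Nat.not_odd_zero htodd)) Nat.card_pos.ne',
      Nat.factorization_mul hp.out.ne_zero hp1] at h
    simp only [Finsupp.add_apply] at h
    rw [Nat.factorization_eq_zero_of_not_dvd (show ¬ 2 ∣ t from fun h2 => (Nat.not_even_iff_odd.2 htodd) (even_iff_two_dvd.2 h2)),
      Nat.factorization_eq_zero_of_not_dvd (show ¬ 2 ∣ p from fun h2 => (Nat.not_even_iff_odd.2 hpodd) (even_iff_two_dvd.2 h2)),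
      zero_add, zero_add] at h
    exact h
  have hs0 : s ≠ 0 := by
    rw [hsval]
    refine (Nat.Prime.factorization_pos_of_dvd Nat.prime_two hp1 ?_).ne'
    obtain ⟨r, rfl⟩ := hpodd
    exact ⟨r, by omega⟩
  -- the Sylow `2`-subgroup of the normalizer is cyclic
  haveI : IsCyclic (Subgroup.zpowers x) := inferInstance
  haveI hcyc : IsCyclic (MulAut (Subgroup.zpowers x)) := by
    haveI : IsCyclic (ZMod (Nat.card (Subgroup.zpowers x)))ˣ := by rw [hPcard]; infer_instance
    exact isCyclic_of_surjective (IsCyclic.mulAutMulEquiv (Subgroup.zpowers x)).symm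
      (IsCyclic.mulAutMulEquiv (Subgroup.zpowers x)).symm.surjective
  let hom : (T : Subgroup N) →* MulAut (Subgroup.zpowers x) :=
    (Subgroup.normalizerMonoidHom (Subgroup.zpowers x)).comp (T : Subgroup N).subtype
  have hinj : Function.Injective hom := by
    rw [← MonoidHom.ker_eq_bot_iff, eq_bot_iff]
    intro y hy
    have hy' : ((y : N) : N) ∈ (Subgroup.normalizerMonoidHom (Subgroup.zpowers x)).ker := hy
    rw [Subgroup.normalizerMonoidHom_ker, Subgroup.mem_subgroupOf, centralizer_zpowers_self hC] at hy'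
    have h1 := Subgroup.orderOf_dvd_natCard _ hy'
    rw [hPcard, Subgroup.orderOf_coe, Subgroup.orderOf_coe] at h1
    have h2 : orderOf y ∣ 2 ^ s := hTcard ▸ orderOf_dvd_natCard y
    have hcop : Nat.Coprime p (2 ^ s) := ((Nat.coprime_primes hp.out Nat.prime_two).2 hp2).pow_right _
    exact Subgroup.mem_bot.2 (orderOf_eq_one_iff.1 (Nat.eq_one_of_dvd_coprimes hcop h1 h2))
  haveI : IsCyclic (T : Subgroup N) := isCyclic_of_injective hom hinj
  obtain ⟨w', hw'⟩ := IsCyclic.exists_ofOrder_eq_natCard (α := (T : Subgroup N))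
  set w : G := ((w' : N) : G) with hw
  have hwN : w ∈ N := (w' : N).2
  have hword : orderOf w = 2 ^ s := by rw [hw, Subgroup.orderOf_coe, Subgroup.orderOf_coe, hw', hTcard]
  set m := 2 ^ s with hm
  have hwz : ∀ k, 0 < k → k < m → (χ : G → ℂ) (w ^ k) = 0 := by
    intro k hk0 hkm
    refine apply_eq_zero_of_degree hx hC hp2 (N.pow_mem hwN k) (fun hP => ?_) χ hχ
    have h1 := Subgroup.orderOf_dvd_natCard _ hP
    rw [hPcard] at h1
    have h2 : orderOf (w ^ k) ∣ 2 ^ s := by have := orderOf_pow_dvd (x := w) k; rwa [hword] at this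
    have hcop : Nat.Coprime p (2 ^ s) := ((Nat.coprime_primes hp.out Nat.prime_two).2 hp2).pow_right _
    have h3 := orderOf_eq_one_iff.1 (Nat.eq_one_of_dvd_coprimes hcop h1 h2)
    rw [← orderOf_dvd_iff_pow_eq_one, hword] at h3
    exact absurd (Nat.le_of_dvd hk0 h3) (not_le.2 hkm)
  -- the determinant at `w`
  obtain ⟨d, ρ, hρ⟩ := irr_isCharacter χ
  have hm0 : m ≠ 0 := pow_ne_zero _ two_ne_zero
  have hρw : ρ w ^ m = 1 := by rw [← map_pow, ← hword, pow_orderOf_eq_one, map_one]
  obtain ⟨ι, hι, b, μ, hμ, hμm⟩ := Cfsg.Agent.Lib.Characters.exists_eigenbasis (ρ w) hm0 hρw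
  have hval : ∀ k : ℕ, (χ : G → ℂ) (w ^ k) = ∑ i, μ i ^ k := by
    intro k
    rw [← hρ]
    show LinearMap.trace ℂ _ (ρ (w ^ k)) = _
    rw [map_pow]
    exact Cfsg.Agent.Lib.Characters.trace_pow_eq_sum_eigen b _ μ hμ k
  have hdet : LinearMap.det (ρ w) = ∏ i, μ i := by
    rw [← LinearMap.det_toMatrix b, show LinearMap.toMatrix b b (ρ w) = Matrix.diagonal μ from ?_,
      Matrix.det_diagonal]
    ext i k
    rw [LinearMap.toMatrix_apply, hμ k, map_smul, Finsupp.smul_apply, b.repr_self, Matrix.diagonal_apply,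
      Finsupp.single_apply, smul_eq_mul]
    by_cases h : i = k
    · subst h; simp
    · simp [h, Ne.symm h]
  haveI : NeZero m := ⟨hm0⟩
  have hξ := Complex.isPrimitiveRoot_exp m hm0
  set ξ := Complex.exp (2 * Real.pi * Complex.I / m)
  have hcnt : ∀ k ∈ Finset.range m, ((Finset.univ.filter fun i => μ i = ξ ^ k).card : ℂ) * m = (p : ℂ) - 1 := by
    intro k _
    have hξk : ξ ^ k ≠ 0 := pow_ne_zero _ (hξ.ne_zero hm0)
    have h1 : ∑ r ∈ Finset.range m, ((ξ ^ k)⁻¹) ^ r * (χ : G → ℂ) (w ^ r) = (p : ℂ) - 1 := by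
      rw [Finset.sum_eq_single 0]
      · rw [pow_zero, pow_zero, one_mul, hχ]
      · intro r hr hr0
        rw [hwz r (Nat.pos_of_ne_zero hr0) (Finset.mem_range.1 hr), mul_zero]
      · intro h; exact absurd (Finset.mem_range.2 (Nat.pos_of_ne_zero hm0)) h
    rw [← h1]
    simp only [hval, Finset.mul_sum, ← mul_pow]
    rw [Finset.sum_comm, Finset.sum_congr rfl fun i _ => show (∑ r ∈ Finset.range m, ((ξ ^ k)⁻¹ * μ i) ^ r) =
      if μ i = ξ ^ k then (m : ℂ) else 0 by
        by_cases h : μ i = ξ ^ k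
        · rw [if_pos h, h, inv_mul_cancel₀ hξk]; simp
        · rw [if_neg h, geom_sum_eq fun h' => h ((inv_mul_eq_one₀ hξk).1 h').symm, mul_pow, hμm i,
            inv_pow, ← pow_mul, mul_comm k m, pow_mul, hξ.pow_eq_one]
          simp]
    rw [← Finset.sum_filter, Finset.sum_const, nsmul_eq_mul]
  obtain ⟨c, hc⟩ : ∃ c : ℕ, p - 1 = m * c := by
    refine ⟨(p - 1) / m, (Nat.mul_div_cancel' ?_).symm⟩
    rw [hm, hsval]; exact Nat.ordProj_dvd _ _
  have hcodd : Odd c := by
    rw [← Nat.not_even_iff_odd, even_iff_two_dvd]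
    rintro ⟨r, rfl⟩
    refine Nat.pow_succ_factorization_not_dvd hp1 Nat.prime_two ⟨r, ?_⟩
    rw [← hsval, hc, hm, pow_succ]; ring
  have hcnt' : ∀ k ∈ Finset.range m, (Finset.univ.filter fun i => μ i = ξ ^ k).card = c := by
    intro k hk
    have h := hcnt k hk
    rw [show (p : ℂ) - 1 = ((p - 1 : ℕ) : ℂ) by rw [Nat.cast_sub hp.out.one_le, Nat.cast_one], hc,
      ← Nat.cast_mul, Nat.cast_inj, mul_comm] at h
    exact Nat.eq_of_mul_eq_mul_left (Nat.pos_of_ne_zero hm0) h
  have hprod : ∏ i, μ i = -1 := by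
    have hmaps : ∀ i ∈ (Finset.univ : Finset ι), μ i ∈ (Finset.range m).image (fun k => ξ ^ k) := by
      intro i _
      obtain ⟨k, hk, hk'⟩ := hξ.eq_pow_of_pow_eq_one (hμm i)
      exact Finset.mem_image.2 ⟨k, Finset.mem_range.2 hk, hk'⟩
    rw [← Finset.prod_fiberwise_of_maps_to hmaps, Finset.prod_image fun a ha b hb h =>
      hξ.pow_inj (Finset.mem_range.1 ha) (Finset.mem_range.1 hb) h,
      Finset.prod_congr rfl fun k hk => show (∏ i ∈ Finset.univ.filter (fun i => μ i = ξ ^ k), μ i) = (ξ ^ k) ^ c by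
        rw [Finset.prod_congr rfl fun i hi => (Finset.mem_filter.1 hi).2, Finset.prod_const, hcnt' k hk],
      Finset.prod_pow, Finset.prod_pow_eq_pow_sum]
    obtain ⟨h, hh⟩ : 2 ∣ m := dvd_pow_self 2 hs0
    have hhalf : ξ ^ h = -1 := (hξ.pow (Nat.pos_of_ne_zero hm0) (by rw [hh, mul_comm])).eq_neg_one_of_two_right
    have hsumr : ∑ k ∈ Finset.range m, k = h * (m - 1) := by
      rw [Finset.sum_range_id, hh, mul_assoc, Nat.mul_div_cancel_left _ two_pos]
    rw [hsumr, ← pow_mul, mul_assoc, pow_mul, hhalf]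
    refine Odd.neg_one_pow ((Nat.Even.sub_odd (Nat.pos_of_ne_zero hm0) ⟨h, by omega⟩ odd_one).mul hcodd)
  have hlam : (detHom ρ w : ℂ) = -1 := by rw [detHom_coe, hdet, hprod]
  have hle : commutator G ≤ (detHom ρ).ker := Abelianization.commutator_subset_ker _
  have hlam2 : (detHom ρ) w ^ 2 = 1 := Units.ext (by push_cast; rw [hlam]; norm_num)
  have hlam1 : (detHom ρ) w ≠ 1 := fun h => by rw [h] at hlam; norm_num at hlam
  have hord : orderOf ((detHom ρ) w) = 2 := orderOf_eq_prime hlam2 hlam1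
  rw [even_iff_two_dvd, ← hord]
  refine dvd_trans ?_ (orderOf_dvd_natCard ((w : G) : G ⧸ commutator G))
  exact (QuotientGroup.lift_mk _ hle w) ▸ orderOf_map_dvd (QuotientGroup.lift (commutator G) (detHom ρ) hle) _

end Cfsg.Agent.Lib.Blocks
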