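import Cfsg.Agent.Lib.Blocks.PrimeOrderSections
import Cfsg.Agent.Lib.Blocks.ComplexAut
import Cfsg.Agent.Lib.Blocks.DefectOneGalois
import Cfsg.Agent.Lib.Characters.ExtensionChar
import Cfsg.Agent.Lib.Characters.Gallagher
import Cfsg.Agent.Lib.SylowCounting.Counting
import Cfsg.Agent.Lib.SylowCounting.ConjClass

/-!
# Groups with a self-centralizing element of prime order
-/

set_option autoImplicit false
set_option linter.unusedSectionVars false
set_option linter.unusedVariables false
set_option linter.style.haveILetI false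

namespace Cfsg.Agent.Lib.Blocks

open Cfsg Cfsg.Agent.Lib.Characters
open scoped ComplexConjugate commutatorElement

universe u

section

variable {G : Type u} [Group G] [Finite G] {p : ℕ} [hp : Fact p.Prime] {x : G}

theorem card_sylow_of_self_central (hx : orderOf x = p)
    (hC : Subgroup.centralizer ({x} : Set G) = Subgroup.zpowers x) (P : Sylow p G) :
    Nat.card (P : Subgroup G) = p := by
  have hpg : IsPGroup p (Subgroup.zpowers x) :=
    IsPGroup.of_card (n := 1) (by rw [Nat.card_zpowers, hx, pow_one])
  obtain ⟨Q, hQ⟩ := hpg.exists_le_sylow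
  have hxQ : x ∈ (Q : Subgroup G) := hQ (Subgroup.mem_zpowers x)
  have hQeq : (Q : Subgroup G) = Subgroup.zpowers x := by
    refine le_antisymm ?_ hQ
    rw [← hC]
    -- the centre of `Q` is `⟨x⟩`
    haveI : Nontrivial (Q : Subgroup G) :=
      (Subgroup.nontrivial_iff_exists_ne_one _).2 ⟨x, hxQ, fun h => hp.out.ne_one (by rw [← hx, h, orderOf_one])⟩
    haveI := Q.isPGroup'.center_nontrivial
    obtain ⟨⟨z, hz⟩, hz1⟩ := exists_ne (1 : Subgroup.center (Q : Subgroup G))
    have hzC : (z : G) ∈ Subgroup.zpowers x := by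
      rw [← hC, Subgroup.mem_centralizer_singleton_iff]
      exact (congrArg Subtype.val (Subgroup.mem_center_iff.1 hz ⟨x, hxQ⟩)).symm
    have hz1' : (z : G) ≠ 1 := fun h => hz1 (Subtype.ext (Subtype.ext h))
    have hord : orderOf (z : G) = p := by
      have h := Subgroup.orderOf_dvd_natCard _ hzC
      rw [Nat.card_zpowers, hx] at h
      exact ((Nat.dvd_prime hp.out).1 h).resolve_left fun h => hz1' (orderOf_eq_one_iff.1 h)
    have hzx : x ∈ Subgroup.zpowers (z : G) := by
      have : Subgroup.zpowers (z : G) = Subgroup.zpowers x :=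
        Subgroup.eq_of_le_of_card_ge (Subgroup.zpowers_le.2 hzC) (by rw [Nat.card_zpowers, Nat.card_zpowers, hx, hord])
      exact this ▸ Subgroup.mem_zpowers x
    intro q hq
    rw [Subgroup.mem_centralizer_singleton_iff]
    obtain ⟨k, hk⟩ := Subgroup.mem_zpowers_iff.1 hzx
    rw [← hk]
    exact ((show Commute q (z : G) from (congrArg Subtype.val (Subgroup.mem_center_iff.1 hz ⟨q, hq⟩))).zpow_right k).eq
  have := P.card_eq_multiplicity
  rw [← Q.card_eq_multiplicity, hQeq, Nat.card_zpowers, hx] at this
  exact this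

theorem card_centralizer_of_orderOf (hx : orderOf x = p)
    (hC : Subgroup.centralizer ({x} : Set G) = Subgroup.zpowers x) {g : G} (hg : orderOf g = p) :
    Nat.card (Subgroup.centralizer ({g} : Set G)) = p := by
  have hP := card_sylow_of_self_central hx hC
  have hfac : p ^ (Nat.card G).factorization p = p := by
    rw [← (default : Sylow p G).card_eq_multiplicity]; exact hP _
  let Pg : Sylow p G := Sylow.ofCard (Subgroup.zpowers g) (by rw [Nat.card_zpowers, hg, hfac])
  let Px : Sylow p G := Sylow.ofCard (Subgroup.zpowers x) (by rw [Nat.card_zpowers, hx, hfac])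
  obtain ⟨c, hc⟩ := MulAction.exists_smul_eq G Pg Px
  have hmem : c * g * c⁻¹ ∈ Subgroup.zpowers x := by
    have h2 : MulAut.conj c • g ∈ ((c • Pg : Sylow p G) : Subgroup G) := by
      rw [Sylow.coe_subgroup_smul]
      exact Subgroup.smul_mem_pointwise_smul g _ _ (Subgroup.mem_zpowers g)
    rw [hc] at h2
    have h3 : c * g * c⁻¹ ∈ (Px : Subgroup G) := by simpa using h2
    exact h3
  have hord : orderOf (c * g * c⁻¹) = p := by
    rw [show c * g * c⁻¹ = MulAut.conj c g from rfl, MulEquiv.orderOf_eq, hg]
  have hgen : Subgroup.zpowers (c * g * c⁻¹) = Subgroup.zpowers x :=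
    Subgroup.eq_of_le_of_card_ge (Subgroup.zpowers_le.2 hmem) (by rw [Nat.card_zpowers, Nat.card_zpowers, hx, hord])
  have h1 := Cfsg.Agent.Lib.SylowCounting.card_conjClass_mul_card_centralizer g
  have h2 := Cfsg.Agent.Lib.SylowCounting.card_conjClass_mul_card_centralizer (c * g * c⁻¹)
  rw [Nat.card_congr (Equiv.subtypeEquivRight (p := fun h => IsConj (c * g * c⁻¹) h) (q := fun h => IsConj g h)
    fun h => ⟨fun h' => (isConj_iff.2 ⟨c, rfl⟩ : IsConj g (c * g * c⁻¹)).trans h',
      fun h' => (isConj_iff.2 ⟨c, rfl⟩ : IsConj g (c * g * c⁻¹)).symm.trans h'⟩)] at h2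
  haveI : Nonempty {h : G // IsConj g h} := ⟨⟨g, IsConj.refl g⟩⟩
  rw [Nat.eq_of_mul_eq_mul_left Nat.card_pos (h1.trans h2.symm)]
  have hCC : Subgroup.centralizer ({c * g * c⁻¹} : Set G) = Subgroup.zpowers x := by
    rw [← hC]
    ext y
    simp only [Subgroup.mem_centralizer_singleton_iff]
    constructor
    · intro h
      obtain ⟨k, hk⟩ := Subgroup.mem_zpowers_iff.1 (hgen.symm ▸ Subgroup.mem_zpowers x)
      rw [← hk]
      exact ((show Commute y (c * g * c⁻¹) from h).zpow_right k).eq
    · intro h
      obtain ⟨k, hk⟩ := Subgroup.mem_zpowers_iff.1 hmem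
      rw [← hk]
      exact ((show Commute y x from h).zpow_right k).eq
  rw [hCC, Nat.card_zpowers, hx]

theorem centralizer_zpowers_self (hC : Subgroup.centralizer ({x} : Set G) = Subgroup.zpowers x) :
    Subgroup.centralizer ((Subgroup.zpowers x : Subgroup G) : Set G) = Subgroup.zpowers x := by
  refine le_antisymm (fun c hc => ?_) (fun c hc => Subgroup.mem_centralizer_iff.2 fun y hy => ?_)
  · rw [← hC, Subgroup.mem_centralizer_singleton_iff]
    exact (Subgroup.mem_centralizer_iff.1 hc x (Subgroup.mem_zpowers x)).symm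
  · obtain ⟨i, rfl⟩ := Subgroup.mem_zpowers_iff.1 hc
    obtain ⟨j, rfl⟩ := Subgroup.mem_zpowers_iff.1 hy
    exact ((Commute.refl x).zpow_zpow j i).eq

/-- The number of classes of elements of order `p` times the order of the normaliser. -/
theorem classCount_mul_card_normalizer (hx : orderOf x = p)
    (hC : Subgroup.centralizer ({x} : Set G) = Subgroup.zpowers x) :
    Nat.card {C : ConjClasses G // ∃ g ∈ C.carrier, orderOf g = p} *
      Nat.card (Subgroup.normalizer ((Subgroup.zpowers x : Subgroup G) : Set G)) = p * (p - 1) := by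
  classical
  have hP := card_sylow_of_self_central hx hC
  have hfac : p ^ (Nat.card G).factorization p = p := by
    rw [← (default : Sylow p G).card_eq_multiplicity]; exact hP _
  let Px : Sylow p G := Sylow.ofCard (Subgroup.zpowers x) (by rw [Nat.card_zpowers, hx, hfac])
  have h1 := Cfsg.Agent.Lib.SylowCounting.card_orderOf_eq_prime hP
  rw [Px.card_eq_index_normalizer] at h1
  haveI : Finite (ConjClasses G) := Finite.of_surjective _ ConjClasses.mk_surjective
  haveI := Fintype.ofFinite {C : ConjClasses G // ∃ g ∈ C.carrier, orderOf g = p}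
  let f : {g : G // orderOf g = p} → {C : ConjClasses G // ∃ g ∈ C.carrier, orderOf g = p} := fun g =>
    ⟨ConjClasses.mk g.1, g.1, ConjClasses.mem_carrier_mk, g.2⟩
  have h2 : p * Nat.card {g : G // orderOf g = p} =
      Nat.card {C : ConjClasses G // ∃ g ∈ C.carrier, orderOf g = p} * Nat.card G := by
    rw [← Nat.card_congr (Equiv.sigmaFiberEquiv f), Nat.card_sigma, Finset.mul_sum,
      Finset.sum_const_nat (m := Nat.card G), Finset.card_univ, ← Nat.card_eq_fintype_card]
    rintro ⟨C, g, hgC, hg⟩ -
    have hC' : ConjClasses.mk g = C := ConjClasses.mem_carrier_iff_mk_eq.1 hgC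
    have e : {h : {g : G // orderOf g = p} // f h = ⟨C, g, hgC, hg⟩} ≃ {h : G // IsConj g h} :=
      { toFun := fun h => ⟨h.1.1, ConjClasses.mk_eq_mk_iff_isConj.1
          (hC'.trans (congrArg Subtype.val h.2).symm)⟩
        invFun := fun h => ⟨⟨h.1, by
            obtain ⟨c, hc⟩ := isConj_iff.1 h.2
            rw [← hc, show c * g * c⁻¹ = MulAut.conj c g from rfl, MulEquiv.orderOf_eq, hg]⟩,
          Subtype.ext ((ConjClasses.mk_eq_mk_iff_isConj.2 h.2).symm.trans hC')⟩
        left_inv := fun h => rfl
        right_inv := fun h => rfl }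
    rw [Nat.card_congr e, mul_comm, ← card_centralizer_of_orderOf hx hC hg,
      Cfsg.Agent.Lib.SylowCounting.card_conjClass_mul_card_centralizer]
  rw [h1] at h2
  have hN := (Subgroup.normalizer ((Px : Subgroup G) : Set G)).index_mul_card
  set N := Subgroup.normalizer ((Px : Subgroup G) : Set G)
  rw [show Subgroup.normalizer ((Subgroup.zpowers x : Subgroup G) : Set G) = N from rfl]
  refine Nat.eq_of_mul_eq_mul_left (Nat.pos_of_ne_zero N.index_ne_zero_of_finite) ?_
  rw [← hN, ← Px.coe_coe] at h2
  linarith

theorem card_le_card_commutator (g : G) :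
    Nat.card {h : G // IsConj g h} ≤ Nat.card (commutator G) := by
  refine Nat.card_le_card_of_injective (fun h => ⟨h.1 * g⁻¹, ?_⟩) ?_
  · obtain ⟨c, hc⟩ := isConj_iff.1 h.2
    rw [← hc, ← commutatorElement_def]
    exact Subgroup.commutator_mem_commutator (Subgroup.mem_top _) (Subgroup.mem_top _)
  · intro a b h
    exact Subtype.ext (mul_right_cancel (congrArg Subtype.val h))

theorem index_commutator_le (hx : orderOf x = p)
    (hC : Subgroup.centralizer ({x} : Set G) = Subgroup.zpowers x) : (commutator G).index ≤ p := by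
  have h1 := Cfsg.Agent.Lib.SylowCounting.card_conjClass_mul_card_centralizer x
  rw [hC, Nat.card_zpowers, hx] at h1
  have h2 := (commutator G).index_mul_card
  have h3 := card_le_card_commutator x
  have h0 : 0 < Nat.card (commutator G) := Nat.card_pos
  by_contra hlt
  have : p * Nat.card (commutator G) < (commutator G).index * Nat.card (commutator G) :=
    Nat.mul_lt_mul_of_pos_right (by omega) h0
  nlinarith

/-- The index of the commutator subgroup. -/
theorem index_commutator_of_self_central (hx : orderOf x = p)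
    (hC : Subgroup.centralizer ({x} : Set G) = Subgroup.zpowers x) (t : ℕ)
    (ht : Nat.card {C : ConjClasses G // ∃ g ∈ C.carrier, orderOf g = p} = t) :
    (t ≠ p - 1 → (commutator G).index * t ≤ p - 1) ∧ (t = p - 1 → (commutator G).index = p) := by
  classical
  have hP := card_sylow_of_self_central hx hC
  have hfac : p ^ (Nat.card G).factorization p = p := by
    rw [← (default : Sylow p G).card_eq_multiplicity]; exact hP _
  let Px : Sylow p G := Sylow.ofCard (Subgroup.zpowers x) (by rw [Nat.card_zpowers, hx, hfac])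
  have htN := classCount_mul_card_normalizer hx hC
  rw [ht] at htN
  set N := Subgroup.normalizer ((Subgroup.zpowers x : Subgroup G) : Set G) with hN
  have hPN : Subgroup.zpowers x ≤ N := Subgroup.le_normalizer
  have hp1 : 0 < p - 1 := by have := hp.out.two_le; omega
  constructor
  · intro hne
    -- some element of the normalizer does not centralise `x`
    have hnc : ¬ N ≤ Subgroup.zpowers x := by
      intro hle
      rw [le_antisymm hle hPN, Nat.card_zpowers, hx, mul_comm] at htN
      exact hne (Nat.eq_of_mul_eq_mul_left hp.out.pos htN)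
    obtain ⟨n, hn, hnP⟩ := SetLike.not_le_iff_exists.1 hnc
    have hxn : n * x * n⁻¹ ∈ Subgroup.zpowers x :=
      (Subgroup.mem_normalizer_iff.1 hn x).1 (Subgroup.mem_zpowers x)
    have hne1 : ⁅n, x⁆ ≠ 1 := by
      intro h
      apply hnP
      rw [← hC, Subgroup.mem_centralizer_singleton_iff]
      rw [commutatorElement_eq_one_iff_commute] at h
      exact h.eq
    have hmemG' : ⁅n, x⁆ ∈ commutator G :=
      Subgroup.commutator_mem_commutator (Subgroup.mem_top _) (Subgroup.mem_top _)
    have hmemP : ⁅n, x⁆ ∈ Subgroup.zpowers x := by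
      rw [commutatorElement_def]
      exact Subgroup.mul_mem _ hxn (Subgroup.inv_mem _ (Subgroup.mem_zpowers x))
    have hord : orderOf ⁅n, x⁆ = p := by
      have h := Subgroup.orderOf_dvd_natCard _ hmemP
      rw [Nat.card_zpowers, hx] at h
      exact ((Nat.dvd_prime hp.out).1 h).resolve_left fun h => hne1 (orderOf_eq_one_iff.1 h)
    have hPG' : Subgroup.zpowers x ≤ commutator G := by
      rw [← Subgroup.eq_of_le_of_card_ge (Subgroup.zpowers_le.2 hmemP)
        (by rw [Nat.card_zpowers, Nat.card_zpowers, hx, hord])]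
      exact Subgroup.zpowers_le.2 hmemG'
    let PG : Sylow p (commutator G) := Px.subtype hPG'
    have htop := Sylow.normalizer_sup_eq_top PG
    have hmap : (PG : Subgroup (commutator G)).map (commutator G).subtype = Subgroup.zpowers x :=
      Subgroup.map_subgroupOf_eq_of_le hPG'
    rw [hmap, ← hN, sup_comm] at htop
    have hidx : (commutator G).index = (commutator G).relIndex N := by
      rw [← Subgroup.relIndex_sup_left (K := commutator G) (H := N), htop, Subgroup.relIndex_top_right]
    have hd : (commutator G).relIndex N ∣ (Subgroup.zpowers x).relIndex N :=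
      Subgroup.relIndex_dvd_of_le_left N hPG'
    have hcard := Subgroup.relIndex_mul_relIndex ⊥ (Subgroup.zpowers x) N bot_le hPN
    rw [Subgroup.relIndex_bot_left, Subgroup.relIndex_bot_left, Nat.card_zpowers, hx] at hcard
    rw [← hcard, mul_comm t, mul_assoc] at htN
    have h2 := Nat.eq_of_mul_eq_mul_left hp.out.pos htN
    rw [hidx, ← h2]
    exact Nat.mul_le_mul_right t (Nat.le_of_dvd (Nat.pos_of_ne_zero fun h => by rw [h, zero_mul] at h2; omega) hd)
  · intro heq
    rw [heq, mul_comm p] at htN
    have hNc := Nat.eq_of_mul_eq_mul_left hp1 htN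
    have hle : N ≤ Subgroup.centralizer ((Subgroup.zpowers x : Subgroup G) : Set G) := by
      rw [centralizer_zpowers_self hC,
        ← Subgroup.eq_of_le_of_card_ge hPN (by rw [hNc, Nat.card_zpowers, hx])]
    have hc := MonoidHom.ker_transferSylow_isComplement' Px hle
    set K := (MonoidHom.transferSylow Px hle).ker
    have hKidx : K.index = p := by rw [hc.symm.index_eq_card]; exact hP Px
    haveI : K.Normal := MonoidHom.normal_ker _
    haveI : IsCyclic (G ⧸ K) := isCyclic_of_prime_card (p := p) hKidx
    have hle' : commutator G ≤ K :=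
      Subgroup.Normal.quotient_commutative_iff_commutator_le.1 inferInstance
    refine le_antisymm (index_commutator_le hx hC) ?_
    rw [← hKidx]
    exact Nat.le_of_dvd (Nat.pos_of_ne_zero (commutator G).index_ne_zero_of_finite) (Subgroup.index_dvd_of_le hle')

end

end Cfsg.Agent.Lib.Blocks
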