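import Cfsg.Agent.Lib.Blocks.SelfCentralPrime
import Cfsg.Agent.Lib.Components.PComponent

/-!
# The derived series of a group with a self-centralizing element of prime order
-/

set_option autoImplicit false
set_option linter.unusedSectionVars false
set_option linter.unusedVariables false
set_option linter.style.haveILetI false

namespace Cfsg.Agent.Lib.Blocks

open Cfsg
open scoped commutatorElement

universe u

section

variable {G : Type u} [Group G] [Finite G] {p : ℕ} [hp : Fact p.Prime] {x : G}

theorem mem_commutator_of_count_ne (hx : orderOf x = p)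
    (hC : Subgroup.centralizer ({x} : Set G) = Subgroup.zpowers x) {t : ℕ}
    (ht : Nat.card {C : ConjClasses G // ∃ g ∈ C.carrier, orderOf g = p} = t) (hne : t ≠ p - 1) :
    x ∈ commutator G := by
  have htN := classCount_mul_card_normalizer hx hC
  rw [ht] at htN
  set N := Subgroup.normalizer ((Subgroup.zpowers x : Subgroup G) : Set G) with hN
  have hnc : ¬ N ≤ Subgroup.zpowers x := by
    intro hle
    rw [le_antisymm hle Subgroup.le_normalizer, Nat.card_zpowers, hx, mul_comm] at htN
    exact hne (Nat.eq_of_mul_eq_mul_left hp.out.pos htN)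
  obtain ⟨n, hn, hnP⟩ := SetLike.not_le_iff_exists.1 hnc
  have hmemP : ⁅n, x⁆ ∈ Subgroup.zpowers x := by
    rw [commutatorElement_def]
    exact Subgroup.mul_mem _ ((Subgroup.mem_normalizer_iff.1 hn x).1 (Subgroup.mem_zpowers x))
      (Subgroup.inv_mem _ (Subgroup.mem_zpowers x))
  have hne1 : ⁅n, x⁆ ≠ 1 := by
    intro h
    apply hnP
    rw [← hC, Subgroup.mem_centralizer_singleton_iff]
    rw [commutatorElement_eq_one_iff_commute] at h
    exact h.eq
  have hord : orderOf ⁅n, x⁆ = p := by
    have h := Subgroup.orderOf_dvd_natCard _ hmemP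
    rw [Nat.card_zpowers, hx] at h
    exact ((Nat.dvd_prime hp.out).1 h).resolve_left fun h => hne1 (orderOf_eq_one_iff.1 h)
  have heq : Subgroup.zpowers ⁅n, x⁆ = Subgroup.zpowers x :=
    Subgroup.eq_of_le_of_card_ge (Subgroup.zpowers_le.2 hmemP) (by rw [Nat.card_zpowers, Nat.card_zpowers, hx, hord])
  exact (Subgroup.zpowers_le.2 (Subgroup.commutator_mem_commutator (Subgroup.mem_top n) (Subgroup.mem_top x)))
    (heq ▸ Subgroup.mem_zpowers x)

theorem orderP_mem_of_mem {K : Subgroup G} [K.Normal] (hx : orderOf x = p)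
    (hC : Subgroup.centralizer ({x} : Set G) = Subgroup.zpowers x) (hxK : x ∈ K) {g : G}
    (hg : orderOf g = p) : g ∈ K := by
  have hP := card_sylow_of_self_central hx hC
  have hfac : p ^ (Nat.card G).factorization p = p := by
    rw [← (default : Sylow p G).card_eq_multiplicity]; exact hP _
  let Pg : Sylow p G := Sylow.ofCard (Subgroup.zpowers g) (by rw [Nat.card_zpowers, hg, hfac])
  let Px : Sylow p G := Sylow.ofCard (Subgroup.zpowers x) (by rw [Nat.card_zpowers, hx, hfac])
  obtain ⟨c, hc⟩ := MulAction.exists_smul_eq G Pg Px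
  have h2 : MulAut.conj c • g ∈ ((c • Pg : Sylow p G) : Subgroup G) := by
    rw [Sylow.coe_subgroup_smul]
    exact Subgroup.smul_mem_pointwise_smul g _ _ (Subgroup.mem_zpowers g)
  rw [hc] at h2
  have h2' : c * g * c⁻¹ ∈ (Px : Subgroup G) := by simpa using h2
  have h3 : c * g * c⁻¹ ∈ K := (Subgroup.zpowers_le.2 hxK : Subgroup.zpowers x ≤ K) h2'
  simpa [mul_assoc] using (inferInstance : K.Normal).conj_mem _ h3 c⁻¹

/-- A normal subgroup containing `x` contains the commutator subgroup. -/
theorem commutator_le_of_mem {K : Subgroup G} [K.Normal] (hx : orderOf x = p)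
    (hC : Subgroup.centralizer ({x} : Set G) = Subgroup.zpowers x) (hxK : x ∈ K) :
    commutator G ≤ K := by
  classical
  have hP := card_sylow_of_self_central hx hC
  have hfac : p ^ (Nat.card G).factorization p = p := by
    rw [← (default : Sylow p G).card_eq_multiplicity]; exact hP _
  let Px : Sylow p G := Sylow.ofCard (Subgroup.zpowers x) (by rw [Nat.card_zpowers, hx, hfac])
  set N := Subgroup.normalizer ((Subgroup.zpowers x : Subgroup G) : Set G) with hN
  have hPK : Subgroup.zpowers x ≤ K := Subgroup.zpowers_le.2 hxK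
  have htop := Sylow.normalizer_sup_eq_top (Px.subtype hPK)
  rw [show ((Px.subtype hPK : Sylow p K) : Subgroup K).map K.subtype = Subgroup.zpowers x from
    Subgroup.map_subgroupOf_eq_of_le hPK, ← hN, sup_comm] at htop
  haveI : IsMulCommutative (MulAut (Subgroup.zpowers x)) := by
    haveI : IsMulCommutative (ZMod (Nat.card (Subgroup.zpowers x)))ˣ := ⟨⟨fun a b => mul_comm a b⟩⟩
    exact ⟨⟨fun a b => (IsCyclic.mulAutMulEquiv (Subgroup.zpowers x)).injective (by simp only [map_mul]; exact mul_comm _ _)⟩⟩
  have hNN : ∀ a ∈ N, ∀ b ∈ N, ⁅a, b⁆ ∈ K := by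
    intro a ha b hb
    have h : (⁅(⟨a, ha⟩ : N), (⟨b, hb⟩ : N)⁆) ∈ (Subgroup.normalizerMonoidHom (Subgroup.zpowers x)).ker := by
      rw [MonoidHom.mem_ker, map_commutatorElement, commutatorElement_eq_one_iff_commute]
      exact mul_comm' _ _
    rw [Subgroup.normalizerMonoidHom_ker, Subgroup.mem_subgroupOf, centralizer_zpowers_self hC] at h
    exact hPK h
  refine Subgroup.Normal.quotient_commutative_iff_commutator_le.1 ⟨⟨fun q r => ?_⟩⟩
  obtain ⟨a, rfl⟩ := QuotientGroup.mk_surjective q
  obtain ⟨b, rfl⟩ := QuotientGroup.mk_surjective r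
  have hrep : ∀ g : G, ∃ n ∈ N, (g : G ⧸ K) = (n : G ⧸ K) := by
    intro g
    obtain ⟨k, hk, n, hn, rfl⟩ := Subgroup.mem_sup_of_normal_left.1 (htop.symm ▸ Subgroup.mem_top g)
    exact ⟨n, hn, by rw [QuotientGroup.mk_mul, (QuotientGroup.eq_one_iff k).2 hk, one_mul]⟩
  obtain ⟨n, hn, hna⟩ := hrep a
  obtain ⟨m, hm, hmb⟩ := hrep b
  rw [hna, hmb]
  have h := hNN n⁻¹ (N.inv_mem hn) m⁻¹ (N.inv_mem hm)
  rw [← QuotientGroup.mk_mul, ← QuotientGroup.mk_mul, eq_comm, QuotientGroup.eq]
  simpa [commutatorElement_def, mul_assoc] using h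

/-- A normal subgroup of the commutator subgroup of order divisible by `p` is everything. -/
theorem eq_commutator_of_dvd (hx : orderOf x = p)
    (hC : Subgroup.centralizer ({x} : Set G) = Subgroup.zpowers x) (hxG' : x ∈ commutator G)
    (K : Subgroup (commutator G)) [K.Normal] (hd : p ∣ Nat.card K) : K = ⊤ := by
  classical
  have hP := card_sylow_of_self_central hx hC
  have hfac : p ^ (Nat.card G).factorization p = p := by
    rw [← (default : Sylow p G).card_eq_multiplicity]; exact hP _
  -- every element of order `p` lies in `K`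
  obtain ⟨y, hy⟩ := exists_prime_orderOf_dvd_card' p hd
  have hyG : orderOf (((y : commutator G)) : G) = p := by rw [Subgroup.orderOf_coe, Subgroup.orderOf_coe, hy]
  have hall : ∀ g : G, orderOf g = p → ∀ hg : g ∈ commutator G, (⟨g, hg⟩ : commutator G) ∈ K := by
    intro g hg hgG
    let Pg : Sylow p G := Sylow.ofCard (Subgroup.zpowers g) (by rw [Nat.card_zpowers, hg, hfac])
    let Py : Sylow p G := Sylow.ofCard (Subgroup.zpowers ((y : commutator G) : G)) (by rw [Nat.card_zpowers, hyG, hfac])
    have hPg : (Pg : Subgroup G) ≤ commutator G := Subgroup.zpowers_le.2 hgG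
    have hPy : (Py : Subgroup G) ≤ commutator G := Subgroup.zpowers_le.2 (y : commutator G).2
    obtain ⟨c, hc⟩ := MulAction.exists_smul_eq (commutator G) (Pg.subtype hPg) (Py.subtype hPy)
    have h2 : MulAut.conj c • (⟨g, hgG⟩ : commutator G) ∈
        ((c • Pg.subtype hPg : Sylow p (commutator G)) : Subgroup (commutator G)) := by
      rw [Sylow.coe_subgroup_smul]
      exact Subgroup.smul_mem_pointwise_smul _ _ _ (Subgroup.mem_zpowers g)
    rw [hc] at h2
    have h3 : MulAut.conj c • (⟨g, hgG⟩ : commutator G) ∈ K := by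
      obtain ⟨k, hk⟩ := Subgroup.mem_zpowers_iff.1 (show ((MulAut.conj c • (⟨g, hgG⟩ : commutator G) : commutator G) : G) ∈
        Subgroup.zpowers ((y : commutator G) : G) from h2)
      rw [show MulAut.conj c • (⟨g, hgG⟩ : commutator G) = (y : commutator G) ^ k from
        Subtype.ext (by rw [SubgroupClass.coe_zpow]; exact hk.symm)]
      exact K.zpow_mem y.2 k
    simpa [mul_assoc] using (inferInstance : K.Normal).conj_mem _ h3 c⁻¹
  -- the subgroup generated by them is normal in `G`
  let T : Subgroup G := Subgroup.normalClosure {x}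
  have hT : T ≤ K.map (commutator G).subtype := by
    refine (Subgroup.closure_le _).2 fun g hg => ?_
    obtain ⟨z, rfl, hz⟩ := Group.mem_conjugatesOfSet_iff.1 hg
    obtain ⟨c, hc⟩ := isConj_iff.1 hz
    have hgG : g ∈ commutator G := hc ▸ (inferInstance : (commutator G).Normal).conj_mem _ hxG' c
    exact ⟨⟨g, hgG⟩, hall g (by rw [← hc, show c * z * c⁻¹ = MulAut.conj c z from rfl, MulEquiv.orderOf_eq, hx]) hgG, rfl⟩
  have hle := (commutator_le_of_mem (K := T) hx hC (Subgroup.subset_normalClosure rfl)).trans hT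
  refine top_le_iff.1 fun a _ => ?_
  obtain ⟨b, hb, hba⟩ := hle a.2
  rwa [← Subtype.ext (show (b : G) = (a : G) from hba)]

variable {S : Subgroup G} [S.Normal]

theorem inf_normalizer_eq_bot (hx : orderOf x = p)
    (hC : Subgroup.centralizer ({x} : Set G) = Subgroup.zpowers x) (hS : ¬ p ∣ Nat.card S) :
    S ⊓ Subgroup.normalizer ((Subgroup.zpowers x : Subgroup G) : Set G) = ⊥ := by
  rw [eq_bot_iff]
  rintro s ⟨hs, hsN⟩
  have hcop : Nat.Coprime p (Nat.card S) := hp.out.coprime_iff_not_dvd.2 hS
  have hSP : ∀ g ∈ S, g ∈ Subgroup.zpowers x → g = 1 := by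
    intro g hg hgP
    have h1 := Subgroup.orderOf_dvd_natCard _ hgP
    rw [Nat.card_zpowers, hx] at h1
    exact orderOf_eq_one_iff.1 (Nat.eq_one_of_dvd_coprimes hcop h1 (Subgroup.orderOf_dvd_natCard _ hg))
  have hcomm : ⁅s, x⁆ = 1 := by
    refine hSP _ ?_ ?_
    · rw [commutatorElement_def, mul_assoc, mul_assoc, ← mul_assoc x]
      exact S.mul_mem hs ((inferInstance : S.Normal).conj_mem _ (S.inv_mem hs) x)
    · rw [commutatorElement_def]
      exact Subgroup.mul_mem _ ((Subgroup.mem_normalizer_iff.1 hsN x).1 (Subgroup.mem_zpowers x))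
        (Subgroup.inv_mem _ (Subgroup.mem_zpowers x))
  refine Subgroup.mem_bot.2 (hSP s hs ?_)
  rw [← hC, Subgroup.mem_centralizer_singleton_iff]
  exact (commutatorElement_eq_one_iff_commute.1 hcomm).eq

theorem exists_commutator_eq (hx : orderOf x = p)
    (hC : Subgroup.centralizer ({x} : Set G) = Subgroup.zpowers x) (hS : ¬ p ∣ Nat.card S) {s : G}
    (hs : s ∈ S) : ∃ r ∈ S, ⁅x, r⁆ = s := by
  let f : S → S := fun r => ⟨⁅x, (r : G)⁆, by
    rw [commutatorElement_def]
    exact S.mul_mem ((inferInstance : S.Normal).conj_mem _ r.2 x) (S.inv_mem r.2)⟩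
  have hinj : Function.Injective f := by
    intro a b hab
    have h : x * (a : G) * x⁻¹ * (a : G)⁻¹ = x * (b : G) * x⁻¹ * (b : G)⁻¹ := congrArg Subtype.val hab
    have hd : ((b : G)⁻¹ * (a : G)) ∈ Subgroup.zpowers x := by
      rw [← hC, Subgroup.mem_centralizer_singleton_iff]
      calc (b : G)⁻¹ * (a : G) * x = (b : G)⁻¹ * (x⁻¹ * (x * (a : G) * x⁻¹ * (a : G)⁻¹))⁻¹ * (a : G) := by group
        _ = (b : G)⁻¹ * (x⁻¹ * (x * (b : G) * x⁻¹ * (b : G)⁻¹))⁻¹ * (a : G) := by rw [h]
        _ = x * ((b : G)⁻¹ * (a : G)) := by group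
    have hcop : Nat.Coprime p (Nat.card S) := hp.out.coprime_iff_not_dvd.2 hS
    have h1 := Subgroup.orderOf_dvd_natCard _ hd
    rw [Nat.card_zpowers, hx] at h1
    have h2 := orderOf_eq_one_iff.1 (Nat.eq_one_of_dvd_coprimes hcop h1
      (Subgroup.orderOf_dvd_natCard _ (S.mul_mem (S.inv_mem b.2) a.2)))
    exact Subtype.ext (inv_mul_eq_one.1 h2).symm
  obtain ⟨r, hr⟩ := Finite.surjective_of_injective hinj ⟨s, hs⟩
  exact ⟨r, r.2, congrArg Subtype.val hr⟩

theorem card_mul_card_normalizer_le (hx : orderOf x = p)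
    (hC : Subgroup.centralizer ({x} : Set G) = Subgroup.zpowers x) (hS : ¬ p ∣ Nat.card S) :
    Nat.card S * Nat.card (Subgroup.normalizer ((Subgroup.zpowers x : Subgroup G) : Set G)) ≤ Nat.card G := by
  rw [← Nat.card_prod]
  exact Nat.card_le_card_of_injective _
    (Subgroup.mul_injective_of_disjoint (disjoint_iff.2 (inf_normalizer_eq_bot hx hC hS)))

end

section

variable {G : Type u} [Group G] [Finite G] {p : ℕ} [hp : Fact p.Prime] {x : G}

/-- Structure of the commutator subgroup. -/
theorem commutator_structure (hx : orderOf x = p)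
    (hC : Subgroup.centralizer ({x} : Set G) = Subgroup.zpowers x) {t : ℕ}
    (ht : Nat.card {C : ConjClasses G // ∃ g ∈ C.carrier, orderOf g = p} = t) :
    pPrimeCore p G ≤ commutator G ∧
      (t ≠ p - 1 → ∀ h : ((pPrimeCore p G).subgroupOf (commutator G)).Normal,
        IsSimpleGroup ((commutator G) ⧸ (pPrimeCore p G).subgroupOf (commutator G))) ∧
      (t = p - 1 → commutator G = pPrimeCore p G) := by
  classical
  set O := pPrimeCore p G with hO
  haveI hOn : O.Normal := by
    exact (inferInstance : (pPrimeCore p G).Normal)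
  have hOc : ¬ p ∣ Nat.card O :=
    hp.out.coprime_iff_not_dvd.1 (Cfsg.Agent.Lib.Components.pPrimeCore_coprime p).symm
  have hle : O ≤ commutator G := by
    intro s hs
    obtain ⟨r, -, rfl⟩ := exists_commutator_eq hx hC hOc hs
    exact Subgroup.commutator_mem_commutator (Subgroup.mem_top _) (Subgroup.mem_top _)
  refine ⟨hle, fun hne h => ?_, fun heq => ?_⟩
  · have hxG' := mem_commutator_of_count_ne hx hC ht hne
    haveI := h
    have hxO : (⟨x, hxG'⟩ : commutator G) ∉ O.subgroupOf (commutator G) := fun hm =>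
      hOc (hx ▸ Subgroup.orderOf_dvd_natCard _ (Subgroup.mem_subgroupOf.1 hm))
    haveI : Nontrivial ((commutator G) ⧸ O.subgroupOf (commutator G)) :=
      QuotientGroup.nontrivial_iff.2 fun htop => hxO (htop ▸ Subgroup.mem_top _)
    refine ⟨fun Q hQ => ?_⟩
    haveI := hQ
    set K := Q.comap (QuotientGroup.mk' (O.subgroupOf (commutator G))) with hK
    haveI : K.Normal := Subgroup.Normal.comap hQ _
    have hQK : Q = K.map (QuotientGroup.mk' _) :=
      (Subgroup.map_comap_eq_self_of_surjective (QuotientGroup.mk'_surjective _) Q).symm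
    by_cases hd : p ∣ Nat.card K
    · refine Or.inr ?_
      rw [hQK, eq_commutator_of_dvd hx hC hxG' K hd,
        Subgroup.map_top_of_surjective _ (QuotientGroup.mk'_surjective _)]
    · refine Or.inl ?_
      rw [hQK, Subgroup.map_eq_bot_iff, QuotientGroup.ker_mk']
      intro k hk
      have hsub : (K.map (commutator G).subtype).IsSubnormal := by
        refine .step _ (commutator G) (Subgroup.map_subtype_le K)
          (Subgroup.Normal.isSubnormal inferInstance) ?_
        rw [show (K.map (commutator G).subtype).subgroupOf (commutator G) = K from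
          Subgroup.comap_map_eq_self_of_injective (commutator G).subtype_injective K]
        infer_instance
      have hcop : (Nat.card (K.map (commutator G).subtype)).Coprime p := by
        rw [Subgroup.card_subtype]
        exact (hp.out.coprime_iff_not_dvd.2 hd).symm
      exact Subgroup.mem_subgroupOf.2
        (Cfsg.Agent.Lib.Components.le_pPrimeCore_of_subnormal hsub hcop ⟨k, hk, rfl⟩)
  · have hidx := (index_commutator_of_self_central hx hC t ht).2 heq
    have hP := card_sylow_of_self_central hx hC
    refine le_antisymm (le_sSup ⟨inferInstance, ?_⟩) hle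
    refine (hp.out.coprime_iff_not_dvd.2 fun hd => ?_).symm
    have h2 := (commutator G).index_mul_card
    rw [hidx] at h2
    obtain ⟨k, hk⟩ := hd
    have h3 : p ^ 2 ∣ Nat.card G := ⟨k, by rw [← h2, hk]; ring⟩
    have h4 := (hp.out.pow_dvd_iff_le_factorization Nat.card_pos.ne').1 h3
    have h5 := (default : Sylow p G).card_eq_multiplicity
    rw [hP] at h5
    have h6 := Nat.pow_right_injective hp.out.two_le (show p ^ 1 = p ^ (Nat.card G).factorization p by rw [pow_one]; exact h5)
    omega

/-- The number of subgroups of order `p`. -/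
theorem card_subgroups_mul (hx : orderOf x = p)
    (hC : Subgroup.centralizer ({x} : Set G) = Subgroup.zpowers x) :
    Nat.card {H : Subgroup G // Nat.card H = p} *
      Nat.card (Subgroup.normalizer ((Subgroup.zpowers x : Subgroup G) : Set G)) = Nat.card G := by
  have hP := card_sylow_of_self_central hx hC
  have hfac : p ^ (Nat.card G).factorization p = p := by
    rw [← (default : Sylow p G).card_eq_multiplicity]; exact hP _
  let e : {H : Subgroup G // Nat.card H = p} ≃ Sylow p G :=
    { toFun := fun H => Sylow.ofCard H.1 (by rw [H.2, hfac])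
      invFun := fun P => ⟨P, hP P⟩
      left_inv := fun H => Subtype.ext rfl
      right_inv := fun P => Sylow.ext rfl }
  let Px : Sylow p G := Sylow.ofCard (Subgroup.zpowers x) (by rw [Nat.card_zpowers, hx, hfac])
  rw [Nat.card_congr e, Px.card_eq_index_normalizer]
  exact (Subgroup.normalizer ((Subgroup.zpowers x : Subgroup G) : Set G)).index_mul_card

theorem normal_subgroup_count (hx : orderOf x = p)
    (hC : Subgroup.centralizer ({x} : Set G) = Subgroup.zpowers x) {t : ℕ}
    (ht : Nat.card {C : ConjClasses G // ∃ g ∈ C.carrier, orderOf g = p} = t) {m : ℕ}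
    (hm : Nat.card {H : Subgroup G // Nat.card H = p} = m) :
    ((∃ S : Subgroup G, S.Normal ∧ Nat.card S = m) ↔
      (t = p - 1 ∨ (t < p - 1 ∧ derivedSeries G 2 ≠ derivedSeries G 1))) ∧
    (t = p - 1 → Nat.card (commutator G) = m ∧ IsCyclic (G ⧸ commutator G) ∧ (commutator G).index = p) ∧
    (t < p - 1 → derivedSeries G 2 ≠ derivedSeries G 1 →
      Nat.card (derivedSeries G 2) = m ∧ Nat.card (commutator G) = p * m) := by
  classical
  set N := Subgroup.normalizer ((Subgroup.zpowers x : Subgroup G) : Set G) with hN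
  have hmN : m * Nat.card N = Nat.card G := hm ▸ card_subgroups_mul hx hC
  have htN := classCount_mul_card_normalizer hx hC
  rw [ht] at htN
  have hP := card_sylow_of_self_central hx hC
  have hfac : (Nat.card G).factorization p = 1 := by
    have h5 := (default : Sylow p G).card_eq_multiplicity
    rw [hP] at h5
    exact (Nat.pow_right_injective hp.out.two_le (show p ^ 1 = p ^ (Nat.card G).factorization p by rw [pow_one]; exact h5)).symm
  have hPN : Subgroup.zpowers x ≤ N := Subgroup.le_normalizer
  have hpN : p ∣ Nat.card N := by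
    have := Subgroup.card_dvd_of_le hPN
    rwa [Nat.card_zpowers, hx] at this
  have hmp : ¬ p ∣ m := by
    rintro ⟨k, rfl⟩
    obtain ⟨l, hl⟩ := hpN
    have h3 : p ^ 2 ∣ Nat.card G := ⟨k * l, by rw [← hmN, hl]; ring⟩
    have h4 := (hp.out.pow_dvd_iff_le_factorization Nat.card_pos.ne').1 h3
    omega
  have hp1 : 0 < p - 1 := by have := hp.out.two_le; omega
  have hNpos : 0 < Nat.card N := Nat.card_pos
  have htle : t ≤ p - 1 := by
    have h1 : p ≤ Nat.card N := Nat.le_of_dvd hNpos hpN
    refine Nat.le_of_mul_le_mul_left ?_ hp.out.pos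
    calc p * t ≤ Nat.card N * t := Nat.mul_le_mul_right t h1
      _ = p * (p - 1) := by rw [mul_comm, htN]
  obtain ⟨hOle, -, hOeq⟩ := commutator_structure hx hC ht
  set O := pPrimeCore p G with hO
  haveI : O.Normal := (inferInstance : (pPrimeCore p G).Normal)
  have hOc : ¬ p ∣ Nat.card O :=
    hp.out.coprime_iff_not_dvd.1 (Cfsg.Agent.Lib.Components.pPrimeCore_coprime p).symm
  have hOcard : Nat.card O ≤ m := by
    have := card_mul_card_normalizer_le hx hC hOc
    rw [← hN, ← hmN] at this
    exact Nat.le_of_mul_le_mul_right this hNpos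
  have hA : t = p - 1 → Nat.card (commutator G) = m ∧ IsCyclic (G ⧸ commutator G) ∧ (commutator G).index = p := by
    intro heq
    have hidx := (index_commutator_of_self_central hx hC t ht).2 heq
    refine ⟨?_, isCyclic_of_prime_card (p := p) hidx, hidx⟩
    have h2 := (commutator G).index_mul_card
    rw [heq, mul_comm p] at htN
    rw [hidx, ← hmN, Nat.eq_of_mul_eq_mul_left hp1 htN, mul_comm m] at h2
    exact Nat.eq_of_mul_eq_mul_left hp.out.pos h2
  have hd1 : derivedSeries G 1 = commutator G := derivedSeries_one G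
  have hd2 : derivedSeries G 2 = ⁅commutator G, commutator G⁆ := by rw [derivedSeries_succ, hd1]
  -- facts valid when `t < p - 1`
  have hB : t < p - 1 → derivedSeries G 2 ≠ derivedSeries G 1 →
      Nat.card (derivedSeries G 2) = m ∧ Nat.card (commutator G) = p * m := by
    intro hlt hne
    have hxG' := mem_commutator_of_count_ne hx hC ht hlt.ne
    haveI : (derivedSeries G 2).Normal := derivedSeries_normal G 2
    have hsub : derivedSeries G 2 ≤ commutator G := hd1 ▸ derivedSeries_antitone G (by omega : 1 ≤ 2)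
    have hnd : ¬ p ∣ Nat.card (derivedSeries G 2) := by
      intro hd
      obtain ⟨y, hy⟩ := exists_prime_orderOf_dvd_card' p hd
      have hy' : orderOf (y : G) = p := by rw [Subgroup.orderOf_coe, hy]
      have hxin : x ∈ derivedSeries G 2 := by
        have hCy : Subgroup.centralizer ({(y : G)} : Set G) = Subgroup.zpowers (y : G) :=
          (Subgroup.eq_of_le_of_card_ge (Subgroup.zpowers_le.2 (Subgroup.mem_centralizer_singleton_iff.2 rfl))
            (by rw [card_centralizer_of_orderOf hx hC hy', Nat.card_zpowers, hy'])).symm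
        exact orderP_mem_of_mem hy' hCy y.2 hx
      exact hne (le_antisymm (hd1 ▸ hsub) (hd1 ▸ commutator_le_of_mem hx hC hxin))
    have hle2 : derivedSeries G 2 ≤ O :=
      le_sSup ⟨inferInstance, (hp.out.coprime_iff_not_dvd.2 hnd).symm⟩
    have hge2 : O ≤ derivedSeries G 2 := by
      intro s hs
      obtain ⟨r, hr, rfl⟩ := exists_commutator_eq hx hC hOc hs
      rw [hd2]
      exact Subgroup.commutator_mem_commutator hxG' (hOle hr)
    have heqO : derivedSeries G 2 = O := le_antisymm hle2 hge2
    -- the quotient is abelian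
    haveI : IsMulCommutative ((commutator G) ⧸ O.subgroupOf (commutator G)) := by
      refine ⟨⟨fun a b => ?_⟩⟩
      obtain ⟨a, rfl⟩ := QuotientGroup.mk_surjective a
      obtain ⟨b, rfl⟩ := QuotientGroup.mk_surjective b
      rw [← QuotientGroup.mk_mul, ← QuotientGroup.mk_mul, QuotientGroup.eq, Subgroup.mem_subgroupOf, ← heqO, hd2]
      have h := Subgroup.commutator_mem_commutator (H₁ := commutator G) (H₂ := commutator G)
        ((commutator G).inv_mem b.2) ((commutator G).inv_mem a.2)
      simpa [commutatorElement_def, mul_assoc] using h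
    -- `O ⊔ ⟨x⟩` is the whole commutator subgroup
    have hcomm : commutator G = O ⊔ Subgroup.zpowers x := by
      refine le_antisymm ?_ (sup_le hOle (Subgroup.zpowers_le.2 hxG'))
      let K : Subgroup (commutator G) := (O ⊔ Subgroup.zpowers x).subgroupOf (commutator G)
      haveI : K.Normal := by
        refine ⟨fun k hk g => ?_⟩
        have hkO : ((g * k * g⁻¹ * k⁻¹ : commutator G) : G) ∈ O := by
          rw [← Subgroup.mem_subgroupOf, ← QuotientGroup.eq_one_iff]
          simp only [QuotientGroup.mk_mul, QuotientGroup.mk_inv]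
          rw [mul_comm' ((g : (commutator G) ⧸ O.subgroupOf (commutator G)))]
          simp
        have := (O ⊔ Subgroup.zpowers x).mul_mem (Subgroup.mem_sup_left hkO) hk
        show ((g * k * g⁻¹ : commutator G) : G) ∈ O ⊔ Subgroup.zpowers x
        convert this using 1
        rw [Subgroup.coe_subtype]
        push_cast
        group
      have hKp : p ∣ Nat.card K := by
        rw [← hx, ← Subgroup.orderOf_mk x hxG']
        exact Subgroup.orderOf_dvd_natCard _ (Subgroup.mem_subgroupOf.2 (Subgroup.mem_sup_right (Subgroup.mem_zpowers x)))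
      have htop := eq_commutator_of_dvd hx hC hxG' K hKp
      intro g hg
      exact Subgroup.mem_subgroupOf.1 (htop.symm ▸ Subgroup.mem_top (⟨g, hg⟩ : commutator G) : (⟨g, hg⟩ : commutator G) ∈ K)
    -- `G = O N`
    have hPc : Subgroup.zpowers x ≤ commutator G := Subgroup.zpowers_le.2 hxG'
    have hfac' : p ^ (Nat.card G).factorization p = p := by rw [hfac, pow_one]
    let Px : Sylow p G := Sylow.ofCard (Subgroup.zpowers x) (by rw [Nat.card_zpowers, hx, hfac'])
    have htop := Sylow.normalizer_sup_eq_top (Px.subtype hPc)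
    rw [show ((Px.subtype hPc : Sylow p _) : Subgroup (commutator G)).map (commutator G).subtype = Subgroup.zpowers x from
      Subgroup.map_subgroupOf_eq_of_le hPc, ← hN] at htop
    have hON : ∀ g : G, ∃ o ∈ O, ∃ n ∈ N, o * n = g := by
      intro g
      have hg : g ∈ O ⊔ N := by
        have : N ⊔ commutator G ≤ O ⊔ N := by
          rw [hcomm]; exact sup_le le_sup_right (sup_le le_sup_left (hPN.trans le_sup_right))
        exact this (htop.symm ▸ Subgroup.mem_top g)
      exact Subgroup.mem_sup_of_normal_left.1 hg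
    have hcardON : Nat.card G ≤ Nat.card O * Nat.card N := by
      rw [← Nat.card_prod]
      refine Nat.card_le_card_of_surjective (fun a : O × N => (a.1 : G) * a.2) fun g => ?_
      obtain ⟨o, ho, n, hn, h⟩ := hON g
      exact ⟨(⟨o, ho⟩, ⟨n, hn⟩), h⟩
    have hOm : Nat.card O = m := by
      refine le_antisymm hOcard ?_
      rw [← hmN] at hcardON
      exact Nat.le_of_mul_le_mul_right hcardON hNpos
    refine ⟨heqO ▸ hOm, ?_⟩
    rw [hcomm]
    have hdisj : Disjoint O (Subgroup.zpowers x) := by
      rw [disjoint_iff, eq_bot_iff]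
      exact (le_inf inf_le_left (inf_le_right.trans hPN)).trans (inf_normalizer_eq_bot hx hC hOc).le
    have h1 : Nat.card (O ⊔ Subgroup.zpowers x : Subgroup G) = Nat.card O * Nat.card (Subgroup.zpowers x) := by
      rw [← Nat.card_prod]
      refine (Nat.card_congr (Equiv.ofBijective (fun a : O × Subgroup.zpowers x =>
        (⟨(a.1 : G) * a.2, Subgroup.mul_mem_sup a.1.2 a.2.2⟩ : (O ⊔ Subgroup.zpowers x : Subgroup G)))
        ⟨fun a b h => Subgroup.mul_injective_of_disjoint hdisj (congrArg Subtype.val h), fun g => ?_⟩)).symm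
      obtain ⟨o, ho, n, hn, h⟩ := Subgroup.mem_sup_of_normal_left.1 g.2
      exact ⟨(⟨o, ho⟩, ⟨n, hn⟩), Subtype.ext h⟩
    rw [h1, hOm, Nat.card_zpowers, hx, mul_comm]
  refine ⟨⟨fun ⟨S, hSn, hSc⟩ => ?_, fun h => ?_⟩, hA, hB⟩
  · rcases htle.eq_or_lt with h | hlt
    · exact Or.inl h
    refine Or.inr ⟨hlt, fun heq => ?_⟩
    have hxG' := mem_commutator_of_count_ne hx hC ht hlt.ne
    haveI := hSn
    have hS : ¬ p ∣ Nat.card S := hSc.symm ▸ hmp
    -- `G = S N`
    have hdisj := disjoint_iff.2 (inf_normalizer_eq_bot hx hC hS)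
    have hbij : Function.Bijective (fun a : S × N => (a.1 : G) * a.2) :=
      Nat.bijective_iff_injective_and_card _ |>.2 ⟨Subgroup.mul_injective_of_disjoint hdisj,
        by rw [Nat.card_prod, hSc, hmN]⟩
    have hnorm : (S ⊔ Subgroup.zpowers x).Normal := by
      rw [← Subgroup.normalizer_eq_top_iff, eq_top_iff]
      intro g _
      obtain ⟨⟨s, n⟩, rfl⟩ := hbij.2 g
      refine Subgroup.mul_mem _ (Subgroup.le_normalizer (Subgroup.mem_sup_left s.2)) ?_
      rw [Subgroup.mem_normalizer_iff_conj_image_eq]
      have h1 : S.map (MulAut.conj (n : G)).toMonoidHom = S := Subgroup.Normal.map_conj_eq S (n : G)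
      have h2 : (Subgroup.zpowers x).map (MulAut.conj (n : G)).toMonoidHom = Subgroup.zpowers x := by
        ext z
        simp only [Subgroup.mem_map, MulEquiv.coe_toMonoidHom, MulAut.conj_apply]
        constructor
        · rintro ⟨w, hw, rfl⟩
          exact (Subgroup.mem_normalizer_iff.1 n.2 w).1 hw
        · intro hz
          refine ⟨(n : G)⁻¹ * z * n, (Subgroup.mem_normalizer_iff.1 n.2 _).2 (by simpa [mul_assoc] using hz), by group⟩
      have h3 := congrArg (fun K : Subgroup G => (K : Set G))
        (Subgroup.map_sup S (Subgroup.zpowers x) (MulAut.conj (n : G)).toMonoidHom)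
      simp only [h1, h2, Subgroup.coe_map] at h3
      exact h3
    haveI := hnorm
    have hle := commutator_le_of_mem (K := S ⊔ Subgroup.zpowers x) hx hC (Subgroup.mem_sup_right (Subgroup.mem_zpowers x))
    have hd2S : derivedSeries G 2 ≤ S := by
      rw [hd2]
      refine (Subgroup.commutator_mono hle hle).trans (Subgroup.commutator_le.2 fun a ha b hb => ?_)
      obtain ⟨s, hs, u, hu, rfl⟩ := Subgroup.mem_sup_of_normal_left.1 ha
      obtain ⟨r, hr, w, hw, rfl⟩ := Subgroup.mem_sup_of_normal_left.1 hb
      rw [← QuotientGroup.eq_one_iff]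
      rw [show ((⁅s * u, r * w⁆ : G) : G ⧸ S) = ⁅((s * u : G) : G ⧸ S), ((r * w : G) : G ⧸ S)⁆ from
        map_commutatorElement (QuotientGroup.mk' S) _ _, commutatorElement_eq_one_iff_commute,
        QuotientGroup.mk_mul, QuotientGroup.mk_mul, (QuotientGroup.eq_one_iff s).2 hs,
        (QuotientGroup.eq_one_iff r).2 hr, one_mul, one_mul]
      obtain ⟨i, rfl⟩ := Subgroup.mem_zpowers_iff.1 hu
      obtain ⟨j, rfl⟩ := Subgroup.mem_zpowers_iff.1 hw
      rw [QuotientGroup.mk_zpow, QuotientGroup.mk_zpow]
      exact (Commute.refl _).zpow_zpow i j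
    rw [heq, hd1] at hd2S
    exact hS (hx ▸ Subgroup.orderOf_dvd_natCard _ (hd2S hxG'))
  · rcases h with h | ⟨hlt, hne⟩
    · exact ⟨commutator G, inferInstance, (hA h).1⟩
    · exact ⟨derivedSeries G 2, derivedSeries_normal G 2, (hB hlt hne).1⟩

end

end Cfsg.Agent.Lib.Blocks
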