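import Cfsg.Agent.Lib.Blocks.SmallCentralizerArith
import Cfsg.Agent.Lib.Blocks.HomocyclicTwo
import Cfsg.Agent.Lib.Blocks.PrincipalRestrict
import Cfsg.Agent.Lib.Blocks.PrimeOrderPrincipal
import Cfsg.Agent.Lib.BlockHeights.CentralRank

/-!
# Characters of height zero in the principal block and a small centralizer
-/

set_option autoImplicit false
set_option linter.unusedSectionVars false
set_option linter.unusedVariables false
set_option linter.style.haveILetI false
set_option maxHeartbeats 1600000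

namespace Cfsg.Agent.Lib.Blocks

open Cfsg Cfsg.Agent.Lib.Characters Cfsg.Agent.Lib.Cores
open scoped ComplexConjugate IsMulCommutative

universe u

variable {G : Type u} [Group G] [Fintype G] {M : Ideal AlgInt} [hMp : M.IsPrime] {p : ℕ}
  [hp : Fact p.Prime]

/-- A generator of `⟨x⟩` has the centralizer of `x`. -/
theorem centralizer_pow_eq {x : G} {n : ℕ} (hn : Nat.Coprime n (orderOf x)) :
    Subgroup.centralizer ({x ^ n} : Set G) = Subgroup.centralizer ({x} : Set G) := by
  obtain ⟨m, hm⟩ := exists_pow_eq_self_of_coprime hn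
  ext g
  simp only [Subgroup.mem_centralizer_singleton_iff]
  constructor
  · intro h
    rw [← hm]
    exact (show Commute g (x ^ n) from h).pow_right m
  · intro h
    exact (show Commute g x from h).pow_right n

/-- Eigenvalues of a `p`-element in a character. -/
theorem exists_eigen_data (χ : IrrCharacter G) {x : G} {n : ℕ} (hn : n ≠ 0) (hx : x ^ n = 1) :
    ∃ (ι : Type) (_ : Fintype ι) (μ : ι → ℂ), (∀ k, μ k ^ n = 1) ∧
      Fintype.card ι = charDegree (χ : G → ℂ) ∧ ∀ i : ℕ, (χ : G → ℂ) (x ^ i) = ∑ k, μ k ^ i := by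
  obtain ⟨d, ρ, hρ⟩ := irr_isCharacter χ
  obtain ⟨ι, hι, b, μ, hμ, hμn⟩ := exists_eigenbasis (ρ x) hn (by rw [← map_pow, hx, map_one])
  have hval : ∀ i : ℕ, (χ : G → ℂ) (x ^ i) = ∑ k, μ k ^ i := fun i => by
    rw [← hρ]
    show LinearMap.trace ℂ _ (ρ (x ^ i)) = _
    rw [map_pow]
    exact trace_pow_eq_sum_eigen b _ μ hμ i
  refine ⟨ι, hι, μ, hμn, ?_, hval⟩
  have h0 := hval 0
  simp only [pow_zero, Finset.sum_const, Finset.card_univ, nsmul_eq_mul, mul_one] at h0
  rw [BlockHeights.irr_apply_one χ] at h0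
  exact_mod_cast h0.symm

/-- **The bound when the centralizer of `x` is `p`-nilpotent.** -/
theorem card_height_zero_le_of_nilpotent_section (hM : IsPModular p M) {x : G}
    (hx : ∃ k : ℕ, orderOf x = p ^ k) {k : ℕ}
    (hk : (pPrimeCore p (Subgroup.centralizer ({x} : Set G))).index = p ^ k) :
    Nat.card {χ : IrrCharacter G // χ ∈ principalBlock M G ∧ ¬ p ∣ charDegree (χ : G → ℂ)} ≤ p ^ k := by
  classical
  haveI := Fintype.ofFinite (IrrCharacter G)
  set S : Finset (IrrCharacter G) := Finset.univ.filter fun χ : IrrCharacter G =>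
    χ ∈ principalBlock M G ∧ ¬ p ∣ charDegree (χ : G → ℂ)
  have hS : Nat.card {χ : IrrCharacter G // χ ∈ principalBlock M G ∧ ¬ p ∣ charDegree (χ : G → ℂ)} =
      S.card := by rw [Nat.card_eq_fintype_card, Fintype.card_subtype]
  rw [hS]
  have hnorm : ∀ y : G, (∃ j : ℕ, orderOf y = p ^ j) →
      (pPrimeCore p (Subgroup.centralizer ({y} : Set G))).index = p ^ k →
      ∑ χ ∈ S, Complex.normSq ((χ : G → ℂ) y) ≤ (p ^ k : ℕ) := by
    intro y hy hyk
    have h := sum_principal_mul_conj (G := G) hM hy hy hyk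
    rw [if_pos (IsConj.refl y)] at h
    have h' : ∑ χ ∈ Finset.univ.filter (fun χ : IrrCharacter G => χ ∈ principalBlock M G),
        Complex.normSq ((χ : G → ℂ) y) = ((p ^ k : ℕ) : ℝ) := by
      apply Complex.ofReal_injective
      rw [Complex.ofReal_sum, Complex.ofReal_natCast, ← h, Finset.sum_filter]
      exact Finset.sum_congr rfl fun χ _ => by simp only [Complex.mul_conj]
    rw [← h']
    refine Finset.sum_le_sum_of_subset_of_nonneg (fun χ hχ => ?_) fun _ _ _ => Complex.normSq_nonneg _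
    simp only [S, Finset.mem_filter] at hχ ⊢
    exact ⟨hχ.1, hχ.2.1⟩
  obtain ⟨j, hj⟩ := hx
  rcases j with _ | a
  · rw [pow_zero, orderOf_eq_one_iff] at hj
    subst hj
    have h := hnorm 1 ⟨0, by simp⟩ hk
    have h1 : (S.card : ℝ) ≤ ∑ χ ∈ S, Complex.normSq ((χ : G → ℂ) 1) := by
      rw [Finset.card_eq_sum_ones, Nat.cast_sum]
      refine Finset.sum_le_sum fun χ _ => ?_
      obtain ⟨d, hd, hd'⟩ := IsIrrCharacter.exists_apply_one χ.2
      rw [hd', Complex.normSq_natCast]
      exact_mod_cast Nat.one_le_iff_ne_zero.2 (Nat.mul_ne_zero (by omega) (by omega))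
    exact_mod_cast h1.trans h
  · set N := p ^ (a + 1)
    set T : Finset ℕ := (Finset.range N).filter fun i => ¬ p ∣ i
    have hxN : x ^ N = 1 := by rw [← hj]; exact pow_orderOf_eq_one x
    have hT : T.card = p ^ a * (p - 1) := by
      have : T = (Finset.range N).filter fun i => N.Coprime i := by
        refine Finset.filter_congr fun i _ => ?_
        rw [Nat.coprime_pow_left_iff a.succ_pos, hp.out.coprime_iff_not_dvd]
      rw [this, ← Nat.totient_eq_card_coprime, Nat.totient_prime_pow_succ hp.out]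
    have hcop : ∀ i ∈ T, Nat.Coprime i (orderOf x) := fun i hi => by
      rw [hj, Nat.coprime_comm, Nat.coprime_pow_left_iff a.succ_pos, hp.out.coprime_iff_not_dvd]
      exact (Finset.mem_filter.1 hi).2
    have hup : ∑ i ∈ T, ∑ χ ∈ S, Complex.normSq ((χ : G → ℂ) (x ^ i)) ≤ (T.card : ℝ) * (p ^ k : ℕ) := by
      rw [← nsmul_eq_mul, ← Finset.sum_const]
      refine Finset.sum_le_sum fun i hi => hnorm _ ⟨a + 1, ?_⟩ ?_
      · rw [Nat.Coprime.orderOf_pow (hcop i hi).symm, hj]
      · rw [centralizer_pow_eq (hcop i hi), hk]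
    have hlow : (S.card : ℝ) * (T.card : ℝ) ≤ ∑ i ∈ T, ∑ χ ∈ S, Complex.normSq ((χ : G → ℂ) (x ^ i)) := by
      rw [Finset.sum_comm, ← nsmul_eq_mul, ← Finset.sum_const]
      refine Finset.sum_le_sum fun χ hχ => ?_
      obtain ⟨ι, hι, μ, hμ, hcard, hval⟩ := exists_eigen_data χ (n := N) (pow_ne_zero _ hp.out.ne_zero) hxN
      rw [hT]
      simp only [hval]
      exact units_normSq_ge hp.out μ hμ (by rw [hcard]; exact (Finset.mem_filter.1 hχ).2.2)
    have hT0 : (0 : ℝ) < T.card := by
      rw [hT]; exact_mod_cast Nat.mul_pos (pow_pos hp.out.pos _) (by have := hp.out.two_le; omega)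
    have h := hlow.trans hup
    rw [mul_comm (T.card : ℝ)] at h
    exact_mod_cast le_of_mul_le_mul_right h hT0

/-- The shape of a centralizer of order with `p`-part at most `p ^ 2`. -/
theorem centralizer_shape {C : Type u} [Group C] [Finite C] (hq : (Nat.card C).factorization p ≤ 2)
    {x : C} (hxc : ∀ c : C, c * x = x * c) {a : ℕ} (hxo : orderOf x = p ^ (a + 1)) :
    (∃ k ≤ 2, (pPrimeCore p C).index = p ^ k) ∨
      (p ≠ 2 ∧ orderOf x = p ∧
        ∃ K : Subgroup C, K.Normal ∧ K.index = p ∧ x ∉ K ∧ (Nat.card K).factorization p = 1) := by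
  classical
  obtain ⟨P, hPx⟩ := (IsPGroup.of_card (n := a + 1)
    (G := Subgroup.zpowers x) (by rw [Nat.card_zpowers, hxo])).exists_le_sylow
  set f := (Nat.card C).factorization p with hf
  have hPc : Nat.card (P : Subgroup C) = p ^ f := Sylow.card_eq_multiplicity P
  haveI : IsMulCommutative (P : Subgroup C) := by
    rcases (show f ≤ 1 ∨ f = 2 by omega) with h | h
    · haveI : IsCyclic (P : Subgroup C) := by
        rcases (show f = 0 ∨ f = 1 by omega) with h' | h'
        · haveI : Subsingleton (P : Subgroup C) :=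
            (Nat.card_eq_one_iff_unique.1 (by rw [hPc, h', pow_zero])).1
          exact isCyclic_of_subsingleton
        · exact isCyclic_of_prime_card (p := p) (by rw [hPc, h', pow_one])
      infer_instance
    · exact IsPGroup.isMulCommutative_of_card_eq_prime_sq (p := p) (by rw [hPc, h])
  let T : C →* (P : Subgroup C) := MonoidHom.transfer (MonoidHom.id _)
  have hxP : x ∈ (P : Subgroup C) := hPx (Subgroup.mem_zpowers x)
  have hTx : (T x : C) = x ^ (P : Subgroup C).index := by
    have key : ∀ (k : ℕ) (g₀ : C), g₀⁻¹ * x ^ k * g₀ ∈ (P : Subgroup C) → g₀⁻¹ * x ^ k * g₀ = x ^ k :=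
      fun k g₀ _ => by rw [mul_assoc, ← ((show Commute g₀ x from hxc g₀).pow_right k).eq, inv_mul_cancel_left]
    show ((MonoidHom.transfer (MonoidHom.id (P : Subgroup C)) x : (P : Subgroup C)) : C) = _
    rw [MonoidHom.transfer_eq_pow _ x key]
    rfl
  have hTord : orderOf (T x) = p ^ (a + 1) := by
    rw [← Subgroup.orderOf_coe, hTx, Nat.Coprime.orderOf_pow, hxo]
    rw [hxo]
    exact Nat.Coprime.pow_left _ (hp.out.coprime_iff_not_dvd.2 P.not_dvd_index)
  obtain ⟨j, hjf, hj⟩ := (Nat.dvd_prime_pow hp.out).1 (hPc ▸ Subgroup.card_subgroup_dvd_card T.range)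
  have hKidx : T.ker.index = p ^ j := by rw [Subgroup.index_ker, hj]
  have haj : a + 1 ≤ j := by
    have h := Subgroup.orderOf_dvd_natCard T.range ⟨x, rfl⟩
    rw [hTord, hj] at h
    exact (Nat.pow_dvd_pow_iff_le_right hp.out.one_lt).1 h
  have hKc : (Nat.card T.ker).factorization p + j = f := by
    rw [hf, ← Subgroup.card_mul_index T.ker, Nat.factorization_mul Nat.card_pos.ne' (by
      rw [hKidx]; exact pow_ne_zero _ hp.out.ne_zero), hKidx, hp.out.factorization_pow]
    simp
  have hcore : ∀ L : Subgroup C, L.Normal → ¬ p ∣ Nat.card L → ∀ i ≤ 2, L.index = p ^ i →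
      ∃ k ≤ 2, (pPrimeCore p C).index = p ^ k := by
    intro L hL hLp i hi hLi
    have hle : L ≤ pPrimeCore p C := le_pPrimeCore hL ((hp.out.coprime_iff_not_dvd.2 hLp).symm)
    obtain ⟨k, hk, hk'⟩ := (Nat.dvd_prime_pow hp.out).1 (hLi ▸ Subgroup.index_dvd_of_le hle)
    exact ⟨k, hk.trans hi, hk'⟩
  by_cases hjq : j = f
  · refine Or.inl (hcore T.ker inferInstance (fun h => ?_) j (hjq ▸ hq) hKidx)
    have := (hp.out.dvd_iff_one_le_factorization Nat.card_pos.ne').1 h
    omega
  · have hj1 : j = 1 := by omega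
    have ha : a = 0 := by omega
    have hK1 : (Nat.card T.ker).factorization p = 1 := by omega
    have hxK : x ∉ T.ker := fun h => by
      have h0 : T x = 1 := h
      rw [h0, orderOf_one] at hTord
      exact (Nat.one_lt_pow a.succ_ne_zero hp.out.one_lt).ne hTord
    by_cases h2 : p = 2
    · subst h2
      obtain ⟨Q⟩ : Nonempty (Sylow 2 T.ker) := inferInstance
      have hQ : Nat.card (Q : Subgroup T.ker) = 2 := by rw [Sylow.card_eq_multiplicity Q, hK1, pow_one]
      have hidx := index_pPrimeCore_of_normalizer_le Q (fun g hg => ?_)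
      · refine Or.inl (hcore ((pPrimeCore 2 T.ker).map T.ker.subtype) inferInstance ?_ 2 le_rfl ?_)
        · rw [Subgroup.card_map_of_injective Subtype.val_injective]
          exact not_dvd_card_pPrimeCore
        · rw [Subgroup.index_map_subtype, hidx, hQ, hKidx, hj1]; norm_num
      · rw [Subgroup.mem_centralizer_iff]
        intro q hq'
        by_cases hq1 : q = 1
        · simp [hq1]
        · have hmem : g * q * g⁻¹ ∈ (Q : Subgroup T.ker) := (Subgroup.mem_normalizer_iff.1 hg q).1 hq'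
          have hne : g * q * g⁻¹ ≠ 1 := fun h => hq1 (by simpa using h)
          obtain ⟨z, hz, -⟩ := (Nat.card_eq_two_iff' (1 : (Q : Subgroup T.ker))).1 hQ
          have h1 : (⟨q, hq'⟩ : (Q : Subgroup T.ker)) = ⟨g * q * g⁻¹, hmem⟩ := by
            obtain ⟨w, -, hw⟩ := (Nat.card_eq_two_iff' (1 : (Q : Subgroup T.ker))).1 hQ
            rw [hw ⟨q, hq'⟩ fun h => hq1 (congrArg Subtype.val h),
              hw ⟨g * q * g⁻¹, hmem⟩ fun h => hne (congrArg Subtype.val h)]
          have h2 : q = g * q * g⁻¹ := congrArg Subtype.val h1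
          calc q * g = g * q * g⁻¹ * g := by rw [← h2]
            _ = g * q := by group
    · refine Or.inr ⟨h2, by rw [hxo, ha, zero_add, pow_one], T.ker, inferInstance,
        by rw [hKidx, hj1, pow_one], hxK, hK1⟩

section DefectOneGram

variable {K : Type u} [Group K] [Fintype K]

/-- The averaged square norm over the `p`-regular elements. -/
noncomputable def regNorm (p : ℕ) (f : K → ℂ) : ℝ :=
  (Nat.card K : ℝ)⁻¹ * ∑ y ∈ Finset.univ.filter (fun y : K => ¬ p ∣ orderOf y), Complex.normSq (f y)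

/-- **The Gram form of a principal block with a Sylow subgroup of order `p`.** -/
theorem defect_one_gram [Fintype (IrrCharacter K)] (hM : IsPModular p M) (hodd : p ≠ 2)
    (h1 : (Nat.card K).factorization p = 1) :
    ∃ (X : Finset (IrrCharacter K)) (vec : IrrCharacter K → IrrCharacter K → ℤ), 0 < X.card ∧
      (∀ θ ∈ principalBlock M K, ∀ y : K, ¬ p ∣ orderOf y →
        (θ : K → ℂ) y = ∑ χ ∈ X, (vec θ χ : ℂ) * (χ : K → ℂ) y) ∧
      (∀ a : IrrCharacter K → ℤ, (∃ χ ∈ X, a χ ≠ 0) →
        (X.card : ℝ) / p ≤ regNorm p (fun y => ∑ χ ∈ X, (a χ : ℂ) * (χ : K → ℂ) y)) ∧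
      ∀ T : Finset (IrrCharacter K), (∀ θ ∈ T, θ ∈ principalBlock M K) →
        ∑ θ ∈ T, regNorm p (θ : K → ℂ) ≤ X.card := by
  classical
  obtain ⟨P⟩ : Nonempty (Sylow p K) := inferInstance
  have hP : Nat.card P = p := by rw [Sylow.card_eq_multiplicity P, h1, pow_one]
  obtain ⟨X', Y', hB, hdisj, hX', hY', εX, ε, hXs, hε, hYd, hYY, hrel⟩ :=
    principal_block_prime_order hM hodd P hP _ rfl
  obtain ⟨u, hu, hu1⟩ : ∃ u ∈ (P : Subgroup K), u ≠ 1 := by
    have hne : (P : Subgroup K) ≠ ⊥ := fun h => by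
      have h' : Nat.card (P : Subgroup K) = p := hP
      rw [h, Subgroup.card_bot] at h'
      exact hp.out.ne_one h'.symm
    obtain ⟨u, hu⟩ := Subgroup.ne_bot_iff_exists_ne_one.1 hne
    exact ⟨u, u.2, fun h => hu (Subtype.ext h)⟩
  have hsq : ¬ p ^ 2 ∣ Nat.card K := fun h => by
    have := (hp.out.pow_dvd_iff_le_factorization Nat.card_pos.ne').1 h; omega
  obtain ⟨tg, r, -, -, -, hprim, -, -⟩ := exists_normalizer_generator (P : Subgroup K) hP hsq hu hu1
  set e := (Subgroup.centralizer ((P : Subgroup K) : Set K)).relIndex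
    (Subgroup.normalizer ((P : Subgroup K) : Set K)) with he
  have hepos : 0 < e := Nat.pos_of_ne_zero (Subgroup.index_ne_zero_of_finite
    (H := (Subgroup.centralizer ((P : Subgroup K) : Set K)).subgroupOf
      (Subgroup.normalizer ((P : Subgroup K) : Set K))))
  have hr0 : (r : ZMod p) ≠ 0 := hprim.ne_zero hepos.ne'
  have hedvd : e ∣ p - 1 := hprim.dvd_of_pow_eq_one _ (ZMod.pow_card_sub_one_eq_one hr0)
  set X : Finset (IrrCharacter K) := X'.toFinset
  set Y : Finset (IrrCharacter K) := Y'.toFinset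
  set t := (p - 1) / e
  have hte : (t : ℤ) * e + 1 = p := by
    have := hp.out.one_lt
    exact_mod_cast (show t * e + 1 = p by
      show (p - 1) / e * e + 1 = p
      rw [Nat.div_mul_cancel hedvd]; omega)
  have hXc : X.card = e := by
    rw [← hX', Set.toFinset_card, Nat.card_eq_fintype_card]
  have hYc : Y.card = t := by
    rw [← hY', Set.toFinset_card, Nat.card_eq_fintype_card]
  have ht : 1 ≤ t := by
    have := Nat.div_mul_cancel hedvd
    rcases Nat.eq_zero_or_pos t with h | h
    · have h' : t * e = p - 1 := this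
      rw [h, zero_mul] at h'
      have := hp.out.one_lt; omega
    · exact h
  have hXY : ∀ θ, θ ∈ principalBlock M K ↔ θ ∈ X ∨ θ ∈ Y := fun θ => by
    rw [hB]; simp [X, Y]
  have hXm : ∀ χ ∈ X, χ ∈ X' := fun χ h => Set.mem_toFinset.1 h
  have hYm : ∀ χ ∈ Y, χ ∈ Y' := fun χ h => Set.mem_toFinset.1 h
  have hdisj' : ∀ χ ∈ X, χ ∉ Y := fun χ h h' => Set.disjoint_left.1 hdisj (hXm χ h) (hYm χ h')
  have hε2 : (ε : ℂ) * ε = 1 := by rcases hε with h | h <;> simp [h]
  have hεX2 : ∀ χ ∈ X, εX χ * εX χ = 1 := fun χ h => by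
    rcases (hXs χ (hXm χ h)).1 with h' | h' <;> simp [h']
  have hrel' : ∀ θ ∈ Y, ∀ y : K, ¬ p ∣ orderOf y →
      (ε : ℂ) * (θ : K → ℂ) y = ∑ χ ∈ X, (εX χ : ℂ) * (χ : K → ℂ) y := fun θ hθ y hy => by
    rw [hrel θ (hYm θ hθ) y hy, finsum_mem_eq_toFinset_sum]
  have hsing : ∀ χ ∈ X, ∀ s : K, p ∣ orderOf s → (χ : K → ℂ) s = (εX χ : ℂ) := by
    intro χ hχ s hs
    obtain ⟨z, hz⟩ := exists_isPPart hp.out s
    obtain ⟨y, hy, hzy, hzk, hyp⟩ := hz
    have hz1 := isPPart_ne_one ⟨y, hy, hzy, hzk, hyp⟩ hs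
    obtain ⟨Q, hQ⟩ := (isPGroup_zpowers_of_orderOf hzk).exists_le_sylow
    obtain ⟨g, hg⟩ := MulAction.exists_smul_eq K Q P
    have hzP : g * z * g⁻¹ ∈ (P : Subgroup K) := by
      rw [← hg]
      exact Subgroup.smul_mem_pointwise_smul z (MulAut.conj g) _ (hQ (Subgroup.mem_zpowers z))
    have hyC : g * y * g⁻¹ ∈ Subgroup.centralizer ((P : Subgroup K) : Set K) := by
      rw [Subgroup.mem_centralizer_iff]
      intro w hw
      obtain ⟨i, hi⟩ := exists_pow_eq_mem (P := (P : Subgroup K)) hP hzP (fun h => hz1 (by simpa using h)) hw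
      rw [← hi]
      exact ((Commute.map (show Commute z y from hzy) (MulAut.conj g).toMonoidHom).pow_left i).eq
    have h := (hXs χ (hXm χ hχ)).2.2 (g * z * g⁻¹) hzP (fun h => hz1 (by simpa using h)) (g * y * g⁻¹) hyC
      (by rw [← MulAut.conj_apply, MulEquiv.orderOf_eq]; exact hyp)
    rw [← h, show g * z * g⁻¹ * (g * y * g⁻¹) = g * s * g⁻¹ by rw [← hy]; group, irr_isClassFunction χ]
  set R : Finset K := Finset.univ.filter fun y : K => ¬ p ∣ orderOf y
  set Sg : Finset K := Finset.univ.filter fun y : K => p ∣ orderOf y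
  have hK0 : (Nat.card K : ℂ) ≠ 0 := Nat.cast_ne_zero.2 Nat.card_pos.ne'
  set F : ℝ := (Nat.card K : ℝ)⁻¹ * Sg.card
  have hall : ∀ c : IrrCharacter K → ℂ, ∀ U : Finset (IrrCharacter K),
      (Nat.card K : ℂ)⁻¹ * ∑ y : K, (∑ χ ∈ U, c χ * (χ : K → ℂ) y) * conj (∑ χ ∈ U, c χ * (χ : K → ℂ) y) =
        ∑ χ ∈ U, c χ * conj (c χ) := by
    intro c U
    simp only [map_sum, map_mul, Finset.sum_mul_sum]
    rw [Finset.sum_comm, Finset.mul_sum]
    refine Finset.sum_congr rfl fun χ hχ => ?_
    rw [Finset.sum_comm, Finset.mul_sum, Finset.sum_eq_single χ]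
    · have h := IsIrrCharacter.classInner_self χ.2
      rw [classInner] at h
      conv_rhs => rw [← mul_one (c χ * conj (c χ)), ← h]
      simp only [Finset.mul_sum]
      exact Finset.sum_congr rfl fun y _ => by ring
    · intro ψ _ hψ
      have h := classInner_irr χ ψ
      rw [if_neg hψ.symm, classInner] at h
      rw [← mul_zero (c χ * conj (c ψ)), ← h]
      simp only [Finset.mul_sum]
      exact Finset.sum_congr rfl fun y _ => by ring
    · exact fun h => absurd hχ h
  have hN : ∀ a : IrrCharacter K → ℤ, regNorm p (fun y => ∑ χ ∈ X, (a χ : ℂ) * (χ : K → ℂ) y) =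
      (∑ χ ∈ X, (a χ : ℝ) ^ 2) - F * (∑ χ ∈ X, (a χ : ℝ) * εX χ) ^ 2 := by
    intro a
    apply Complex.ofReal_injective
    have h := hall (fun χ => (a χ : ℂ)) X
    rw [← Finset.sum_filter_add_sum_filter_not Finset.univ (fun y : K => p ∣ orderOf y), mul_add,
      Finset.sum_congr rfl fun (s : K) hs => show (∑ χ ∈ X, (a χ : ℂ) * (χ : K → ℂ) s) *
          conj (∑ χ ∈ X, (a χ : ℂ) * (χ : K → ℂ) s) = (∑ χ ∈ X, (a χ : ℂ) * εX χ) ^ 2 by
        rw [Finset.sum_congr rfl fun χ hχ => show (a χ : ℂ) * (χ : K → ℂ) s = (a χ : ℂ) * εX χ by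
          rw [hsing χ hχ s (Finset.mem_filter.1 hs).2]]
        simp [map_sum, sq], Finset.sum_const, nsmul_eq_mul] at h
    simp only [map_intCast] at h
    simp only [regNorm, F, Complex.ofReal_mul, Complex.ofReal_inv, Complex.ofReal_natCast,
      Complex.ofReal_sum, ← Complex.mul_conj, Complex.ofReal_sub, Complex.ofReal_pow,
      Complex.ofReal_intCast]
    rw [Finset.sum_congr rfl fun χ _ => pow_two (a χ : ℂ), ← h]
    ring
  have hone : ¬ p ∣ orderOf (1 : K) := by rw [orderOf_one, Nat.dvd_one]; exact hp.out.ne_one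
  obtain ⟨θ₀, hθ₀⟩ : ∃ θ, θ ∈ Y := Finset.card_pos.1 (by omega)
  have hv : ∀ s : K, p ∣ orderOf s → ∑ θ ∈ Y, (θ : K → ℂ) s = -(ε : ℂ) := by
    intro s hs
    have h := finsum_regular_singular_eq_zero hM (isPBlock_principalBlock (G := K) (M := M)) hone hs
    rw [finsum_irr_eq_sum_ite, ← Finset.sum_filter,
      show Finset.univ.filter (fun θ : IrrCharacter K => θ ∈ principalBlock M K) = X ∪ Y by
        ext θ; simp [hXY],
      Finset.sum_union (Finset.disjoint_left.2 hdisj'),
      Finset.sum_congr rfl fun (χ : IrrCharacter K) hχ => show (χ : K → ℂ) 1 * conj ((χ : K → ℂ) s) = (εX χ : ℂ) * (χ : K → ℂ) 1 by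
        rw [hsing χ hχ s hs, map_intCast, mul_comm],
      ← hrel' θ₀ hθ₀ 1 hone,
      Finset.sum_congr rfl fun (θ : IrrCharacter K) hθ => show (θ : K → ℂ) 1 * conj ((θ : K → ℂ) s) =
          (θ₀ : K → ℂ) 1 * conj ((θ : K → ℂ) s) by rw [hYY θ (hYm θ hθ) θ₀ (hYm θ₀ hθ₀) 1 hone],
      ← Finset.mul_sum, ← map_sum, mul_comm (ε : ℂ), ← mul_add, mul_eq_zero] at h
    have h2 := eq_neg_of_add_eq_zero_right (h.resolve_left (IsIrrCharacter.apply_one_ne_zero θ₀.2))
    have h3 := congrArg (starRingEnd ℂ) h2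
    rwa [Complex.conj_conj, map_neg, map_intCast] at h3
  have hF : F * p = t := by
    set c : IrrCharacter K → ℂ := fun χ => if χ ∈ Y then (ε : ℂ) else -((t : ℂ) * εX χ)
    have hg : ∀ y : K, ∑ χ ∈ X ∪ Y, c χ * (χ : K → ℂ) y =
        (ε : ℂ) * ∑ θ ∈ Y, (θ : K → ℂ) y - (t : ℂ) * ∑ χ ∈ X, (εX χ : ℂ) * (χ : K → ℂ) y := by
      intro y
      rw [Finset.sum_union (Finset.disjoint_left.2 hdisj'),
        Finset.sum_congr rfl fun χ hχ => show c χ * (χ : K → ℂ) y = -((t : ℂ) * ((εX χ : ℂ) * (χ : K → ℂ) y)) by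
          simp only [c, if_neg (hdisj' χ hχ)]; ring,
        Finset.sum_congr rfl fun θ hθ => show c θ * (θ : K → ℂ) y = (ε : ℂ) * (θ : K → ℂ) y by
          simp only [c, if_pos hθ]]
      rw [Finset.sum_neg_distrib, ← Finset.mul_sum, ← Finset.mul_sum]
      ring
    have h := hall c (X ∪ Y)
    simp only [hg] at h
    rw [← Finset.sum_filter_add_sum_filter_not Finset.univ (fun y : K => p ∣ orderOf y),
      Finset.sum_congr rfl fun (s : K) hs => show
          ((ε : ℂ) * ∑ θ ∈ Y, (θ : K → ℂ) s - (t : ℂ) * ∑ χ ∈ X, (εX χ : ℂ) * (χ : K → ℂ) s) *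
            conj ((ε : ℂ) * ∑ θ ∈ Y, (θ : K → ℂ) s - (t : ℂ) * ∑ χ ∈ X, (εX χ : ℂ) * (χ : K → ℂ) s) =
          (p : ℂ) * p by
        have hs' := (Finset.mem_filter.1 hs).2
        rw [hv s hs', Finset.sum_congr rfl fun χ hχ => show (εX χ : ℂ) * (χ : K → ℂ) s = 1 by
          rw [hsing χ hχ s hs']; exact_mod_cast hεX2 χ hχ, Finset.sum_const, hXc, nsmul_eq_mul, mul_one,
          mul_neg, hε2]
        have hpC : (p : ℂ) = (t : ℂ) * e + 1 := by exact_mod_cast congrArg (Int.cast : ℤ → ℂ) hte.symm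
        simp only [map_sub, map_neg, map_one, map_mul, map_natCast]
        rw [hpC]; ring,
      Finset.sum_eq_zero (s := Finset.univ.filter fun y : K => ¬ p ∣ orderOf y) fun y hy => by
        have hy' := (Finset.mem_filter.1 hy).2
        rw [Finset.mul_sum, Finset.sum_congr rfl fun θ hθ => hrel' θ hθ y hy', Finset.sum_const, hYc,
          nsmul_eq_mul, sub_self, zero_mul],
      add_zero, Finset.sum_const, nsmul_eq_mul, Finset.sum_union (Finset.disjoint_left.2 hdisj'),
      Finset.sum_congr rfl fun χ hχ => show c χ * conj (c χ) = (t : ℂ) * t by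
        simp only [c, if_neg (hdisj' χ hχ), map_neg, map_mul, map_natCast, map_intCast]
        rw [show -((t : ℂ) * εX χ) * -((t : ℂ) * εX χ) = (t : ℂ) * t * ((εX χ * εX χ : ℤ) : ℂ) by
          push_cast; ring, hεX2 χ hχ, Int.cast_one, mul_one],
      Finset.sum_congr rfl fun θ hθ => show c θ * conj (c θ) = 1 by
        simp only [c, if_pos hθ, map_intCast, hε2],
      Finset.sum_const, Finset.sum_const, hXc, hYc, nsmul_eq_mul, nsmul_eq_mul, mul_one] at h
    have h' : F * p * p = (t : ℝ) * p := by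
      apply Complex.ofReal_injective
      simp only [F, Complex.ofReal_mul, Complex.ofReal_inv, Complex.ofReal_natCast]
      have hpC : (p : ℂ) = (t : ℂ) * e + 1 := by exact_mod_cast congrArg (Int.cast : ℤ → ℂ) hte.symm
      calc (Nat.card K : ℂ)⁻¹ * Sg.card * p * p = (Nat.card K : ℂ)⁻¹ * ((Sg.card : ℂ) * ((p : ℂ) * p)) := by ring
        _ = _ := by rw [h, hpC]; ring
    exact mul_right_cancel₀ (Nat.cast_ne_zero.2 hp.out.ne_zero) h'
  have hp0 : (0 : ℝ) < p := Nat.cast_pos.2 hp.out.pos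
  have hteR : (t : ℝ) * e + 1 = p := by exact_mod_cast congrArg (Int.cast : ℤ → ℝ) hte
  refine ⟨X, fun θ χ => if θ ∈ X then (if χ = θ then 1 else 0) else ε * εX χ, by omega, ?_, ?_, ?_⟩
  · intro θ hθ y hy
    by_cases hθX : θ ∈ X
    · simp [hθX]
    · rw [Finset.sum_congr rfl fun χ _ => show ((if θ ∈ X then (if χ = θ then (1 : ℤ) else 0) else ε * εX χ : ℤ) : ℂ) *
        (χ : K → ℂ) y = (ε : ℂ) * ((εX χ : ℂ) * (χ : K → ℂ) y) by rw [if_neg hθX]; push_cast; ring,
        ← Finset.mul_sum, ← hrel' θ (((hXY θ).1 hθ).resolve_left hθX) y hy, ← mul_assoc, hε2, one_mul]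
  · intro a ha
    rw [hN, hXc]
    obtain ⟨χ₀, hχ₀, ha0⟩ := ha
    have h := card_le_form ht (fun χ : X => a χ * εX χ) (fun h => ha0 (by
      have h' := congrFun h ⟨χ₀, hχ₀⟩
      simp only [Pi.zero_apply, mul_eq_zero] at h'
      refine h'.resolve_right fun h'' => ?_
      have := hεX2 χ₀ hχ₀; rw [h''] at this; simp at this))
    rw [Finset.sum_coe_sort X (fun χ => (a χ * εX χ) ^ 2), Finset.sum_coe_sort X (fun χ => a χ * εX χ),
      Finset.sum_congr rfl fun χ hχ => show (a χ * εX χ) ^ 2 = a χ ^ 2 by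
        rw [mul_pow, pow_two (εX χ), hεX2 χ hχ, mul_one], Fintype.card_coe, hXc] at h
    have hR : (e : ℝ) ≤ ((t : ℝ) * e + 1) * ∑ χ ∈ X, (a χ : ℝ) ^ 2 -
        (t : ℝ) * (∑ χ ∈ X, (a χ : ℝ) * εX χ) ^ 2 := by exact_mod_cast h
    rw [div_le_iff₀ hp0]
    rw [hteR] at hR
    nlinarith
  · intro T hT
    refine le_trans (Finset.sum_le_sum_of_subset_of_nonneg (t := X ∪ Y) (fun θ hθ => ?_) fun θ _ _ => ?_) (le_of_eq ?_)
    · rw [Finset.mem_union]; exact (hXY θ).1 (hT θ hθ)
    · exact mul_nonneg (inv_nonneg.2 (Nat.cast_nonneg _)) (Finset.sum_nonneg fun _ _ => Complex.normSq_nonneg _)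
    · rw [Finset.sum_union (Finset.disjoint_left.2 hdisj')]
      have hx : ∀ χ ∈ X, regNorm p (χ : K → ℂ) = 1 - F := by
        intro χ hχ
        have h := hN (fun ψ => if ψ = χ then 1 else 0)
        simp only [Int.cast_ite, Int.cast_one, Int.cast_zero, ite_mul, one_mul, zero_mul, ite_pow, one_pow,
          zero_pow (two_ne_zero (α := ℕ)), Finset.sum_ite_eq', if_pos hχ] at h
        rw [h, show ((εX χ : ℝ)) ^ 2 = 1 by rw [pow_two]; exact_mod_cast hεX2 χ hχ, mul_one]
      have hy : ∀ θ ∈ Y, regNorm p (θ : K → ℂ) = (e : ℝ) - F * (e : ℝ) ^ 2 := by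
        intro θ hθ
        have h := hN (fun χ => ε * εX χ)
        rw [show regNorm p (θ : K → ℂ) = regNorm p (fun y => ∑ χ ∈ X, ((ε * εX χ : ℤ) : ℂ) * (χ : K → ℂ) y) by
          simp only [regNorm]
          congr 1
          refine Finset.sum_congr rfl fun y hy => congrArg _ ?_
          rw [Finset.sum_congr rfl fun χ _ => show ((ε * εX χ : ℤ) : ℂ) * (χ : K → ℂ) y =
            (ε : ℂ) * ((εX χ : ℂ) * (χ : K → ℂ) y) by push_cast; ring, ← Finset.mul_sum,
            ← hrel' θ hθ y (Finset.mem_filter.1 hy).2, ← mul_assoc, hε2, one_mul], h,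
          Finset.sum_congr rfl fun χ hχ => show ((ε * εX χ : ℤ) : ℝ) ^ 2 = 1 by
            rcases hε with h | h <;> rcases (hXs χ (hXm χ hχ)).1 with h' | h' <;> simp [h, h'],
          Finset.sum_congr rfl fun χ hχ => show ((ε * εX χ : ℤ) : ℝ) * (εX χ : ℝ) = (ε : ℝ) by
            rcases (hXs χ (hXm χ hχ)).1 with h' | h' <;> simp [h'],
          Finset.sum_const, Finset.sum_const, hXc, nsmul_eq_mul, nsmul_eq_mul, mul_one, mul_pow,
          show (ε : ℝ) ^ 2 = 1 by rcases hε with h | h <;> simp [h], mul_one]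
      rw [Finset.sum_congr rfl hx, Finset.sum_congr rfl hy, Finset.sum_const, Finset.sum_const, hXc, hYc,
        nsmul_eq_mul, nsmul_eq_mul]
      calc (e : ℝ) * (1 - F) + (t : ℝ) * ((e : ℝ) - F * (e : ℝ) ^ 2)
          = e + e * t - e * F * ((t : ℝ) * e + 1) := by ring
        _ = e := by rw [hteR]; linear_combination (-(e : ℝ)) * hF

end DefectOneGram

/-- The section decomposition at an element with the centralizer `C`. -/
theorem blockPart_principal_eq' (hM : IsPModular p M) {x' : G} (hx : ∃ k : ℕ, orderOf x' = p ^ k)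
    {C : Subgroup G} [Fintype C] (hC : Subgroup.centralizer ({x'} : Set G) = C) {χ : IrrCharacter G}
    (hχ : χ ∈ principalBlock M G) {y : C} (hy : ¬ p ∣ orderOf y) :
    blockPart (principalBlock M C) (fun c : C => (χ : G → ℂ) (x' * (c : G))) y = (χ : G → ℂ) (x' * y) := by
  subst hC
  exact blockPart_principal_eq hM hx hχ hy

/-- The norms on the section at an element with the centralizer `C`. -/
theorem sum_principal_section' (hM : IsPModular p M) {x' : G} (hx : ∃ k : ℕ, orderOf x' = p ^ k)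
    {C : Subgroup G} [Fintype C] (hC : Subgroup.centralizer ({x'} : Set G) = C)
    [Fintype (IrrCharacter G)] [Fintype (IrrCharacter C)]
    [DecidablePred (· ∈ principalBlock M G)] [DecidablePred (· ∈ principalBlock M C)]
    {y : C} (hy : ¬ p ∣ orderOf y) :
    ∑ ζ ∈ Finset.univ.filter (fun ζ : IrrCharacter G => ζ ∈ principalBlock M G),
      Complex.normSq ((ζ : G → ℂ) (x' * y)) =
    ∑ η ∈ Finset.univ.filter (fun η : IrrCharacter C => η ∈ principalBlock M C),
      Complex.normSq ((η : C → ℂ) y) := by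
  subst hC
  apply Complex.ofReal_injective
  simp only [Complex.ofReal_sum, Finset.sum_filter, apply_ite Complex.ofReal, Complex.ofReal_zero,
    Complex.normSq_eq_conj_mul_self]
  convert sum_principal_section (G := G) hM hx hy using 0

/-- Averaging squared values over the generators. -/
theorem sum_erase_normSq (z : ZMod p → ℂ) :
    2 * ∑ i ∈ (Finset.univ : Finset (ZMod p)).erase 0, Complex.normSq (∑ j, ZMod.stdAddChar (i * j) * z j) =
      ∑ j, ∑ k, Complex.normSq (z j - z k) := by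
  classical
  have hpar : ∑ i : ZMod p, (∑ j, ZMod.stdAddChar (i * j) * z j) * conj (∑ j, ZMod.stdAddChar (i * j) * z j) =
      (p : ℂ) * ∑ j, z j * conj (z j) := by
    simp only [map_sum, map_mul, ← AddChar.map_neg_eq_conj]
    rw [Finset.sum_congr rfl fun i _ => Finset.sum_mul_sum _ _ _ _, Finset.sum_comm, Finset.mul_sum]
    refine Finset.sum_congr rfl fun j _ => ?_
    rw [Finset.sum_comm, Finset.sum_eq_single j]
    · rw [Finset.sum_congr rfl fun i _ => show ZMod.stdAddChar (i * j) * z j * (ZMod.stdAddChar (-(i * j)) * conj (z j)) =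
        z j * conj (z j) by
          rw [mul_mul_mul_comm, ← AddChar.map_add_eq_mul, add_neg_cancel, AddChar.map_zero_eq_one, one_mul],
        Finset.sum_const, Finset.card_univ, ZMod.card, nsmul_eq_mul]
    · intro k _ hk
      rw [Finset.sum_congr rfl fun i _ => show ZMod.stdAddChar (i * j) * z j * (ZMod.stdAddChar (-(i * k)) * conj (z k)) =
        z j * conj (z k) * ZMod.stdAddChar (i * (j - k)) by
          rw [mul_mul_mul_comm, ← AddChar.map_add_eq_mul, mul_sub, sub_eq_add_neg]; ring,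
        ← Finset.mul_sum, sum_stdAddChar_mul, if_neg (sub_ne_zero.2 hk.symm), mul_zero]
    · simp
  rw [← Finset.add_sum_erase _ _ (Finset.mem_univ (0 : ZMod p))] at hpar
  apply Complex.ofReal_injective
  simp only [Complex.ofReal_mul, Complex.ofReal_ofNat, Complex.ofReal_sum, ← Complex.mul_conj, map_sub,
    sub_mul, mul_sub, Finset.sum_sub_distrib, Finset.sum_const, Finset.card_univ, ZMod.card, nsmul_eq_mul,
    ← Finset.mul_sum, ← Finset.sum_mul]
  simp only [zero_mul, AddChar.map_zero_eq_one, one_mul] at hpar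
  simp only [← map_sum]
  linear_combination 2 * hpar

/-- **The bound when the centralizer of `x` is `⟨x⟩ × K`.** -/
theorem card_height_zero_le_of_split_section (hM : IsPModular p M) (hodd : p ≠ 2) {x : G}
    (hxo : orderOf x = p) {C : Subgroup G} (hC : Subgroup.centralizer ({x} : Set G) = C) (hxC : x ∈ C)
    (K : Subgroup C) [K.Normal] (hidx : K.index = p) (hxK : (⟨x, hxC⟩ : C) ∉ K)
    (hK1 : (Nat.card K).factorization p = 1) :
    Nat.card {χ : IrrCharacter G // χ ∈ principalBlock M G ∧ ¬ p ∣ charDegree (χ : G → ℂ)} ≤ p ^ 2 := by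
  classical
  haveI := Fintype.ofFinite (IrrCharacter G)
  haveI := Fintype.ofFinite C
  haveI := Fintype.ofFinite (IrrCharacter C)
  haveI := Fintype.ofFinite K
  haveI := Fintype.ofFinite (IrrCharacter K)
  set z : C := ⟨x, hxC⟩
  have hzc : z ∈ Subgroup.center C := Subgroup.mem_center_iff.2 fun c =>
    Subtype.ext (Subgroup.mem_centralizer_singleton_iff.1 (hC.ge c.2))
  have hzo : orderOf z = p := by rw [← Subgroup.orderOf_coe]; exact hxo
  have hzp : z ^ p = 1 := hzo ▸ pow_orderOf_eq_one z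
  have hxp : x ^ p = 1 := hxo ▸ pow_orderOf_eq_one x
  obtain ⟨X, vec, hXpos, hrep, hform, htot⟩ := defect_one_gram (K := K) hM hodd hK1
  -- the coset map
  let φ : ZMod p × K → C := fun w => z ^ w.1.val * w.2
  have hφi : Function.Injective φ := by
    rintro ⟨i, k⟩ ⟨i', k'⟩ h
    simp only [φ] at h
    have hmem : z ^ ((i.val : ℤ) - i'.val) ∈ K := by
      have e1 : z ^ ((i.val : ℤ) - i'.val) = (k' : C) * (k : C)⁻¹ := by
        rw [zpow_sub, zpow_natCast, zpow_natCast, mul_inv_eq_iff_eq_mul, mul_assoc,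
          (show Commute (k : C)⁻¹ (z ^ i'.val) from
            (show Commute (k : C)⁻¹ z from Subgroup.mem_center_iff.1 hzc _).pow_right _).eq,
          ← mul_assoc, eq_mul_inv_iff_mul_eq, h]
        exact ((show Commute (k' : C) z from Subgroup.mem_center_iff.1 hzc _).pow_right _).eq.symm
      rw [e1]; exact K.mul_mem k'.2 (K.inv_mem k.2)
    have hii : i = i' := by
      by_contra hne
      obtain ⟨a, b, hab⟩ : IsCoprime ((i.val : ℤ) - i'.val) (p : ℤ) := by
        refine ((Prime.coprime_iff_not_dvd (Nat.prime_iff_prime_int.1 hp.out)).2 fun hd => hne ?_).symm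
        have h0 := (ZMod.intCast_zmod_eq_zero_iff_dvd _ p).2 hd
        rw [Int.cast_sub, Int.cast_natCast, Int.cast_natCast, ZMod.natCast_zmod_val, ZMod.natCast_zmod_val,
          sub_eq_zero] at h0
        exact h0
      refine hxK ?_
      have := K.zpow_mem hmem a
      rwa [← zpow_mul, show ((i.val : ℤ) - i'.val) * a = 1 + (-b) * p by linarith, zpow_add, zpow_one,
        zpow_mul', zpow_natCast, hzp, one_zpow, mul_one] at this
    subst hii
    exact Prod.ext rfl (Subtype.ext (mul_left_cancel h))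
  have hcard : Fintype.card (ZMod p × K) = Fintype.card C := by
    rw [Fintype.card_prod, ZMod.card, ← Nat.card_eq_fintype_card, ← Nat.card_eq_fintype_card,
      ← Subgroup.card_mul_index K, hidx, mul_comm]
  have hφ : Function.Bijective φ := (Fintype.bijective_iff_injective_and_card _).2 ⟨hφi, hcard⟩
  -- the scalars of the central element
  have hsc : ∀ η : IrrCharacter C, ∃ j : ZMod p, ∀ (i : ℕ) (c : C),
      (η : C → ℂ) (z ^ i * c) = ZMod.stdAddChar ((i : ZMod p) * j) * (η : C → ℂ) c := by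
    intro η
    obtain ⟨ω, hω⟩ := BlockHeights.exists_central_scalar η
    have hpow : ∀ (i : ℕ) (c : C), (η : C → ℂ) (z ^ i * c) = ω z ^ i * (η : C → ℂ) c := by
      intro i
      induction i with
      | zero => simp
      | succ i ih => intro c; rw [pow_succ, mul_assoc, ih, (hω z hzc).1, ← mul_assoc, ← pow_succ]
    have hroot : ω z ^ p = 1 := by
      have h := hpow p 1
      rw [hzp, one_mul] at h
      exact (mul_left_eq_self₀.1 h.symm).resolve_right (IsIrrCharacter.apply_one_ne_zero η.2)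
    have hprim : IsPrimitiveRoot (ZMod.stdAddChar (1 : ZMod p) : ℂ) p := by
      rw [IsPrimitiveRoot.iff_def]
      refine ⟨by rw [← AddChar.map_nsmul_eq_pow, nsmul_eq_mul, ZMod.natCast_self, zero_mul, AddChar.map_zero_eq_one],
        fun l hl => ?_⟩
      rw [← AddChar.map_nsmul_eq_pow, nsmul_eq_mul, mul_one] at hl
      rw [← ZMod.natCast_eq_zero_iff]
      exact ((ZMod.isPrimitive_stdAddChar p).zmod_char_eq_one_iff p (l : ZMod p)).1 hl
    obtain ⟨l, -, hl⟩ := hprim.eq_pow_of_pow_eq_one hroot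
    refine ⟨(l : ZMod p), fun i c => ?_⟩
    rw [hpow, ← hl, ← AddChar.map_nsmul_eq_pow, ← AddChar.map_nsmul_eq_pow, nsmul_eq_mul, nsmul_eq_mul, mul_one]
  choose J hJ using hsc
  have hval : ∀ (η : IrrCharacter C) (w : ZMod p × K), (η : C → ℂ) (φ w) =
      ZMod.stdAddChar (w.1 * J η) * (η : C → ℂ) (w.2 : C) := fun η w => by
    simp only [φ, hJ, ZMod.natCast_zmod_val]
  have hresI : ∀ η : IrrCharacter C, IsIrrCharacter K (fun k : K => (η : C → ℂ) k) := by
    intro η
    rw [IsCharacter.isIrr_iff (IsCharacter.restrict (irr_isCharacter η) K)]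
    have h := IsIrrCharacter.classInner_self η.2
    rw [classInner, ← (Equiv.ofBijective φ hφ).sum_comp, Fintype.sum_prod_type] at h
    simp only [Equiv.ofBijective_apply, hval, map_mul, ← AddChar.map_neg_eq_conj] at h
    have e : ∀ (i : ZMod p) (w : ℂ),
        ZMod.stdAddChar (i * J η) * w * (ZMod.stdAddChar (-(i * J η)) * conj w) = w * conj w := fun i w => by
      rw [mul_mul_mul_comm, ← AddChar.map_add_eq_mul, add_neg_cancel, AddChar.map_zero_eq_one, one_mul]
    simp only [e] at h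
    rw [
      Finset.sum_const, Finset.card_univ, ZMod.card, nsmul_eq_mul, ← Subgroup.card_mul_index K, hidx,
      Nat.cast_mul, mul_inv, mul_assoc, ← mul_assoc ((p : ℂ)⁻¹), inv_mul_cancel₀ (Nat.cast_ne_zero.2 hp.out.ne_zero),
      one_mul] at h
    exact h
  let res : IrrCharacter C → IrrCharacter K := fun η => ⟨_, hresI η⟩
  have hresB : ∀ η ∈ principalBlock M C, res η ∈ principalBlock M K := fun η hη =>
    constituent_mem_principal K hM hη (by
      rw [show classInner (fun n : K => (η : C → ℂ) n) (res η : K → ℂ) = 1 from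
        IsIrrCharacter.classInner_self (res η).2]
      exact one_ne_zero)
  have hres_inj : ∀ η η' : IrrCharacter C, J η = J η' → res η = res η' → η = η' := by
    intro η η' hj hr
    refine Subtype.ext (funext fun c => ?_)
    obtain ⟨w, rfl⟩ := hφ.2 c
    rw [hval, hval, hj]
    exact congrArg _ (congrFun (congrArg Subtype.val hr) w.2)
  set B0 : Finset (IrrCharacter C) := Finset.univ.filter fun η => η ∈ principalBlock M C
  set R : Finset K := Finset.univ.filter fun y : K => ¬ p ∣ orderOf y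
  have hregC : ∀ y ∈ R, ¬ p ∣ orderOf (y : C) := fun y hy => by
    rw [Subgroup.orderOf_coe]; exact (Finset.mem_filter.1 hy).2
  -- restriction to the centralizer
  choose m hm using fun χ : IrrCharacter G =>
    IsCharacter.exists_nat_decomp (IsCharacter.restrict (irr_isCharacter χ) C)
  let n : IrrCharacter G → ZMod p → IrrCharacter K → ℤ := fun χ j θ =>
    ∑ η ∈ B0.filter (fun η => J η = j), (m χ η : ℤ) * vec (res η) θ
  have hpow : ∀ i : ZMod p, i ≠ 0 → (∃ k : ℕ, orderOf (x ^ i.val) = p ^ k) ∧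
      Subgroup.centralizer ({x ^ i.val} : Set G) = C := by
    intro i hi
    have hcop : Nat.Coprime i.val (orderOf x) := by
      rw [hxo, Nat.coprime_comm, hp.out.coprime_iff_not_dvd, ← ZMod.natCast_eq_zero_iff, ZMod.natCast_zmod_val]
      exact hi
    exact ⟨⟨1, by rw [hcop.symm.orderOf_pow, hxo, pow_one]⟩, (centralizer_pow_eq hcop).trans hC⟩
  have hsec : ∀ χ : IrrCharacter G, χ ∈ principalBlock M G → ∀ i : ZMod p, i ≠ 0 → ∀ y ∈ R,
      (χ : G → ℂ) (x ^ i.val * ((y : C) : G)) =
        ∑ j, ZMod.stdAddChar (i * j) * ∑ θ ∈ X, (n χ j θ : ℂ) * (θ : K → ℂ) y := by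
    intro χ hχ i hi y hy
    rw [← blockPart_principal_eq' hM (hpow i hi).1 (hpow i hi).2 hχ (y := (y : C)) (hregC y hy),
      show (fun c : C => (χ : G → ℂ) (x ^ i.val * (c : G))) =
        fun c => ∑ η : IrrCharacter C, ((m χ η : ℂ) * ZMod.stdAddChar (i * J η)) * (η : C → ℂ) c by
        funext c
        have h := congrFun (hm χ).1 (z ^ i.val * c)
        simp only [Finset.sum_apply, Pi.smul_apply, smul_eq_mul] at h
        show (χ : G → ℂ) ((z ^ i.val * c : C) : G) = _
        rw [h]
        refine Finset.sum_congr rfl fun η _ => ?_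
        rw [hJ, ZMod.natCast_zmod_val, mul_assoc],
      blockPart_eq_sum _ fun η _ => irr_isClassFunction η]
    simp only [blockPart_irr, mul_ite, mul_zero]
    rw [← Finset.sum_filter, ← Finset.sum_fiberwise B0 J]
    refine Finset.sum_congr rfl fun j _ => ?_
    simp only [n, Int.cast_sum, Int.cast_mul, Int.cast_natCast, Finset.sum_mul]
    rw [Finset.sum_comm, Finset.mul_sum]
    refine Finset.sum_congr rfl fun η hη => ?_
    rw [Finset.mem_filter] at hη
    rw [show (η : C → ℂ) (y : C) = ∑ θ ∈ X, (vec (res η) θ : ℂ) * (θ : K → ℂ) y from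
      hrep (res η) (hresB η (Finset.mem_filter.1 hη.1).2) y (Finset.mem_filter.1 hy).2, hη.2]
    simp only [Finset.mul_sum]
    exact Finset.sum_congr rfl fun θ _ => by ring
  set S : Finset (IrrCharacter G) := Finset.univ.filter fun χ : IrrCharacter G =>
    χ ∈ principalBlock M G ∧ ¬ p ∣ charDegree (χ : G → ℂ)
  rw [show Nat.card {χ : IrrCharacter G // χ ∈ principalBlock M G ∧ ¬ p ∣ charDegree (χ : G → ℂ)} =
    S.card by rw [Nat.card_eq_fintype_card, Fintype.card_subtype]]
  set E : Finset (ZMod p) := (Finset.univ : Finset (ZMod p)).erase 0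
  have hE : E.card = p - 1 := by
    rw [Finset.card_erase_of_mem (Finset.mem_univ _), Finset.card_univ, ZMod.card]
  have hone : (1 : K) ∈ R := by simp [R, hp.out.ne_one]
  set Q : IrrCharacter G → ℝ := fun χ => ∑ i ∈ E, regNorm p (fun y : K => (χ : G → ℂ) (x ^ i.val * ((y : C) : G)))
  have hup : ∑ χ ∈ S, Q χ ≤ ((p - 1 : ℕ) : ℝ) * ((p : ℝ) * X.card) := by
    rw [Finset.sum_comm, ← hE, ← nsmul_eq_mul, ← Finset.sum_const]
    refine Finset.sum_le_sum fun i hi => ?_
    have hi0 : i ≠ 0 := (Finset.mem_erase.1 hi).1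
    simp only [regNorm, ← Finset.mul_sum]
    rw [Finset.sum_comm]
    refine le_trans (mul_le_mul_of_nonneg_left (Finset.sum_le_sum (g := fun y : K =>
      ∑ η ∈ B0, Complex.normSq ((η : C → ℂ) (y : C))) fun y hy => ?_) (inv_nonneg.2 (Nat.cast_nonneg _))) ?_
    · rw [← sum_principal_section' hM (hpow i hi0).1 (hpow i hi0).2 (y := (y : C)) (hregC y hy)]
      refine Finset.sum_le_sum_of_subset_of_nonneg (fun χ hχ => ?_) fun _ _ _ => Complex.normSq_nonneg _
      simp only [S, Finset.mem_filter] at hχ ⊢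
      exact ⟨hχ.1, hχ.2.1⟩
    rw [Finset.sum_comm, Finset.mul_sum, ← Finset.sum_fiberwise B0 J]
    refine le_trans (Finset.sum_le_sum (g := fun _ => (X.card : ℝ)) fun j _ => ?_) ?_
    · refine le_trans (le_of_eq ?_) (htot ((B0.filter fun η => J η = j).image res) fun θ hθ => ?_)
      · rw [Finset.sum_image fun η hη η' hη' h => hres_inj η η'
          ((Finset.mem_filter.1 hη).2.trans (Finset.mem_filter.1 hη').2.symm) h]
        rfl
      · obtain ⟨η, hη, rfl⟩ := Finset.mem_image.1 hθ
        exact hresB η (Finset.mem_filter.1 (Finset.mem_filter.1 hη).1).2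
    · rw [Finset.sum_const, Finset.card_univ, ZMod.card, nsmul_eq_mul]
  have hlow : (S.card : ℝ) * (((p - 1 : ℕ) : ℝ) * ((X.card : ℝ) / p)) ≤ ∑ χ ∈ S, Q χ := by
    rw [← nsmul_eq_mul, ← Finset.sum_const]
    refine Finset.sum_le_sum fun χ hχ => ?_
    obtain ⟨-, hχB, hχd⟩ := Finset.mem_filter.1 hχ
    let f : ZMod p → K → ℂ := fun j y => ∑ θ ∈ X, (n χ j θ : ℂ) * (θ : K → ℂ) y
    let g : ZMod p → (X → ℤ) := fun j θ => n χ j θ
    have hne : ∃ a b, g a ≠ g b := by
      by_contra hh
      simp only [ne_eq, not_exists, not_not] at hh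
      have hzero : ∀ i : ZMod p, i ≠ 0 → (χ : G → ℂ) (x ^ i.val) = 0 := by
        intro i hi
        have h := hsec χ hχB i hi 1 hone
        simp only [OneMemClass.coe_one, mul_one] at h
        rw [h, Finset.sum_congr rfl fun j _ => show ZMod.stdAddChar (i * j) *
          (∑ θ ∈ X, (n χ j θ : ℂ) * (θ : K → ℂ) 1) = ZMod.stdAddChar (j * i) * f 0 1 by
          rw [mul_comm j i]
          refine congrArg _ (Finset.sum_congr rfl fun θ hθ => ?_)
          rw [show n χ j θ = n χ 0 θ from congrFun (hh j 0) ⟨θ, hθ⟩],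
          ← Finset.sum_mul, sum_stdAddChar_mul, if_neg hi, zero_mul]
      obtain ⟨ι, hι, μ, hμ, hcard', hval'⟩ := exists_eigen_data χ (n := p) hp.out.ne_zero hxp
      have h := units_normSq_ge hp.out (a := 0) μ (by simpa using hμ) (by rw [hcard']; exact hχd)
      rw [Finset.sum_eq_zero fun i hi => ?_] at h
      · have : (0 : ℝ) < ((p ^ 0 * (p - 1) : ℕ) : ℝ) := by
          have := hp.out.two_le
          exact Nat.cast_pos.2 (by simp; omega)
        linarith
      · obtain ⟨hi1, hi2⟩ := Finset.mem_filter.1 hi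
        rw [Finset.mem_range, zero_add, pow_one] at hi1
        rw [← hval', ← ZMod.val_cast_of_lt hi1, hzero _ (by rwa [Ne, ZMod.natCast_eq_zero_iff]), map_zero]
    obtain ⟨a, b, hab⟩ := hne
    have hpairs := two_mul_le_unequal_pairs g hab
    rw [ZMod.card] at hpairs
    have h2 : 2 * Q χ = ∑ j, ∑ k, regNorm p (fun y : K => f j y - f k y) := by
      simp only [Q, regNorm, ← Finset.mul_sum]
      rw [mul_left_comm, Finset.sum_comm, Finset.mul_sum (a := (2 : ℝ))]
      congr 1
      rw [Finset.sum_congr rfl fun (y : K) hy => show (2 : ℝ) * ∑ i ∈ E, Complex.normSq ((χ : G → ℂ) (x ^ i.val * ((y : C) : G))) =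
          ∑ j, ∑ k, Complex.normSq (f j y - f k y) by
        rw [← sum_erase_normSq (fun j => f j y)]
        congr 1
        exact Finset.sum_congr rfl fun i hi => by rw [hsec χ hχB i (Finset.mem_erase.1 hi).1 y hy]]
      rw [Finset.sum_comm]
      exact Finset.sum_congr rfl fun j _ => Finset.sum_comm
    have h3 : ∀ j k, (if g j ≠ g k then (1 : ℝ) else 0) * ((X.card : ℝ) / p) ≤
        regNorm p (fun y : K => f j y - f k y) := by
      intro j k
      by_cases h : g j = g k
      · rw [if_neg (not_not.2 h), zero_mul]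
        exact mul_nonneg (inv_nonneg.2 (Nat.cast_nonneg _)) (Finset.sum_nonneg fun _ _ => Complex.normSq_nonneg _)
      · rw [if_pos h, one_mul]
        obtain ⟨θ, hθ⟩ := Function.ne_iff.1 h
        refine le_trans (hform (fun θ => n χ j θ - n χ k θ) ⟨θ, θ.2, sub_ne_zero.2 hθ⟩) (le_of_eq ?_)
        simp only [f, regNorm, Int.cast_sub, sub_mul, Finset.sum_sub_distrib]
    have h4 : ((2 * (p - 1) : ℕ) : ℝ) * ((X.card : ℝ) / p) ≤ 2 * Q χ := by
      rw [h2]
      refine le_trans ?_ (Finset.sum_le_sum fun j _ => Finset.sum_le_sum fun k _ => h3 j k)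
      simp only [← Finset.sum_mul]
      refine mul_le_mul_of_nonneg_right ?_ (by positivity)
      exact_mod_cast hpairs
    push_cast at h4 ⊢
    linarith
  have hp0 : (0 : ℝ) < p := Nat.cast_pos.2 hp.out.pos
  have hp1 : (0 : ℝ) < ((p - 1 : ℕ) : ℝ) := Nat.cast_pos.2 (by have := hp.out.two_le; omega)
  have hX : (0 : ℝ) < X.card := Nat.cast_pos.2 hXpos
  have h := hlow.trans hup
  have h' : (S.card : ℝ) ≤ (p : ℝ) ^ 2 := by
    refine le_of_mul_le_mul_right ?_ (mul_pos hp1 (div_pos hX hp0))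
    refine h.trans (le_of_eq ?_)
    field_simp
  exact_mod_cast h'

/-- **Height zero characters of the principal block and a small centralizer.** -/
theorem card_height_zero_le_sq (hM : IsPModular p M) {x : G} (hx : ∃ k : ℕ, orderOf x = p ^ k)
    (hq : (Nat.card (Subgroup.centralizer ({x} : Set G))).factorization p ≤ 2) :
    Nat.card {χ : IrrCharacter G // χ ∈ principalBlock M G ∧ ¬ p ∣ charDegree (χ : G → ℂ)} ≤ p ^ 2 := by
  classical
  haveI := Fintype.ofFinite (Subgroup.centralizer ({x} : Set G))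
  obtain ⟨j, hj⟩ := id hx
  rcases j with _ | a
  · rw [pow_zero, orderOf_eq_one_iff] at hj
    subst hj
    have htop : Subgroup.centralizer ({1} : Set G) = ⊤ := eq_top_iff.2 fun g _ =>
      Subgroup.mem_centralizer_singleton_iff.2 (by simp)
    by_cases hpG : p ∣ Nat.card G
    · obtain ⟨u, hu⟩ := exists_prime_orderOf_dvd_card' p hpG
      rw [htop, Subgroup.card_top] at hq
      have hqu : (Nat.card (Subgroup.centralizer ({u} : Set G))).factorization p ≤ 2 :=
        le_trans ((Nat.factorization_le_iff_dvd Nat.card_pos.ne' Nat.card_pos.ne').2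
          (Subgroup.card_subgroup_dvd_card _) p) hq
      haveI := Fintype.ofFinite (Subgroup.centralizer ({u} : Set G))
      rcases centralizer_shape hqu (x := (⟨u, Subgroup.mem_centralizer_singleton_iff.2 rfl⟩ : Subgroup.centralizer ({u} : Set G)))
        (fun c => Subtype.ext (Subgroup.mem_centralizer_singleton_iff.1 c.2)) (a := 0)
        (by rw [← Subgroup.orderOf_coe, zero_add, pow_one]; exact hu) with ⟨k, hk, hk'⟩ | ⟨hodd, -, K, hKn, hKi, huK, hK1⟩
      · exact (card_height_zero_le_of_nilpotent_section hM ⟨1, by rw [hu, pow_one]⟩ hk').trans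
          (Nat.pow_le_pow_right hp.out.pos hk)
      · exact card_height_zero_le_of_split_section hM hodd hu rfl _ K hKi huK hK1
    · have hnd : ¬ p ∣ Nat.card (⊤ : Subgroup (Subgroup.centralizer ({1} : Set G))) := by
        rw [Subgroup.card_top, htop, Subgroup.card_top]; exact hpG
      have hcore : pPrimeCore p (Subgroup.centralizer ({1} : Set G)) = ⊤ :=
        top_le_iff.1 (le_pPrimeCore inferInstance ((hp.out.coprime_iff_not_dvd.2 hnd).symm))
      exact (card_height_zero_le_of_nilpotent_section hM hx (k := 0) (by rw [hcore, Subgroup.index_top, pow_zero])).trans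
        (Nat.pow_le_pow_right hp.out.pos (by omega))
  · rcases centralizer_shape hq (x := (⟨x, Subgroup.mem_centralizer_singleton_iff.2 rfl⟩ : Subgroup.centralizer ({x} : Set G)))
      (fun c => Subtype.ext (Subgroup.mem_centralizer_singleton_iff.1 c.2)) (a := a)
      (by rw [← Subgroup.orderOf_coe]; exact hj) with ⟨k, hk, hk'⟩ | ⟨hodd, hxo, K, hKn, hKi, hxK, hK1⟩
    · exact (card_height_zero_le_of_nilpotent_section hM hx hk').trans (Nat.pow_le_pow_right hp.out.pos hk)
    · rw [← Subgroup.orderOf_coe] at hxo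
      exact card_height_zero_le_of_split_section hM hodd hxo rfl _ K hKi hxK hK1

end Cfsg.Agent.Lib.Blocks
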