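import Cfsg.Agent.Lib.Blocks.PrimeOrderSections
import Cfsg.Agent.Lib.Characters.Eigen

/-!
# Arithmetic for the bound on height zero characters through a small centralizer
-/

set_option autoImplicit false
set_option linter.unusedSectionVars false

namespace Cfsg.Agent.Lib.Blocks

open scoped ComplexConjugate

/-- A function that is not constant takes unequal values at many ordered pairs. -/
theorem two_mul_le_unequal_pairs {ι α : Type*} [Fintype ι] [DecidableEq α] (f : ι → α) {a b : ι}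
    (hab : f a ≠ f b) :
    2 * (Fintype.card ι - 1) ≤ ∑ i, ∑ j, if f i ≠ f j then 1 else 0 := by
  classical
  have hne : a ≠ b := fun h => hab (h ▸ rfl)
  set row : ι → ℕ := fun i => ∑ j, if f i ≠ f j then 1 else 0
  have h2 : Fintype.card ι ≤ row a + row b := by
    simp only [row, ← Finset.sum_add_distrib]
    refine le_trans (le_of_eq (Finset.card_eq_sum_ones (Finset.univ : Finset ι)))
      (Finset.sum_le_sum fun j _ => ?_)
    by_cases h : f a = f j
    · rw [if_pos (show f b ≠ f j from fun h' => hab (h.trans h'.symm))]; omega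
    · rw [if_pos h]; omega
  have h3 : ∀ i, 1 ≤ row i := fun i => by
    by_cases h : f i = f a
    · refine le_trans ?_ (Finset.single_le_sum (fun _ _ => Nat.zero_le _) (Finset.mem_univ b))
      rw [if_pos (h ▸ hab)]
    · refine le_trans ?_ (Finset.single_le_sum (fun _ _ => Nat.zero_le _) (Finset.mem_univ a))
      rw [if_pos h]
  have h4 : row a + row b + ((Finset.univ.erase a).erase b).card ≤ ∑ i, row i := by
    rw [← Finset.add_sum_erase _ _ (Finset.mem_univ a),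
      ← Finset.add_sum_erase _ _ (Finset.mem_erase.2 ⟨hne.symm, Finset.mem_univ b⟩),
      Finset.card_eq_sum_ones, ← add_assoc]
    exact Nat.add_le_add_left (Finset.sum_le_sum fun i _ => h3 i) _
  rw [Finset.card_erase_of_mem (Finset.mem_erase.2 ⟨hne.symm, Finset.mem_univ b⟩),
    Finset.card_erase_of_mem (Finset.mem_univ a), Finset.card_univ] at h4
  change _ ≤ ∑ i, row i
  omega

theorem sum_sq_diff {ι : Type*} [Fintype ι] (b : ι → ℤ) :
    ∑ i, ∑ j, (b i - b j) ^ 2 = 2 * ((Fintype.card ι : ℤ) * ∑ i, b i ^ 2 - (∑ i, b i) ^ 2) := by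
  simp only [sub_sq, Finset.sum_add_distrib, Finset.sum_sub_distrib, ← Finset.sum_mul,
    ← Finset.mul_sum, Finset.sum_const, Finset.card_univ, nsmul_eq_mul]
  ring

/-- The quadratic form of a block with a defect group of order `p` is at least `e` on nonzero
integral vectors. -/
theorem card_le_form {ι : Type*} [Fintype ι] {t : ℕ} (ht : 1 ≤ t) (b : ι → ℤ) (hb : b ≠ 0) :
    (Fintype.card ι : ℤ) ≤ ((t : ℤ) * Fintype.card ι + 1) * ∑ i, b i ^ 2 - (t : ℤ) * (∑ i, b i) ^ 2 := by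
  classical
  obtain ⟨i₀, hi₀⟩ := Function.ne_iff.1 hb
  have hid := sum_sq_diff b
  have ht' : (1 : ℤ) ≤ t := by exact_mod_cast ht
  by_cases hconst : ∀ i, b i = b i₀
  · have h1 : 1 ≤ b i₀ ^ 2 := by
      rcases lt_or_gt_of_ne hi₀ with h | h <;> simp only [Pi.zero_apply] at h <;> nlinarith
    simp only [hconst, Finset.sum_const, Finset.card_univ, nsmul_eq_mul]
    have h0 : (0 : ℤ) ≤ Fintype.card ι := Int.natCast_nonneg _
    nlinarith
  · simp only [not_forall] at hconst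
    obtain ⟨i₁, hi₁⟩ := hconst
    have h2 := two_mul_le_unequal_pairs b hi₁
    have h3 : (((∑ i, ∑ j, if b i ≠ b j then 1 else 0 : ℕ)) : ℤ) ≤ ∑ i, ∑ j, (b i - b j) ^ 2 := by
      push_cast
      refine Finset.sum_le_sum fun i _ => Finset.sum_le_sum fun j _ => ?_
      split_ifs with h
      · rcases lt_or_gt_of_ne h with h' | h' <;> nlinarith
      · exact sq_nonneg _
    have h4 : (2 * (Fintype.card ι - 1 : ℕ) : ℤ) ≤ ∑ i, ∑ j, (b i - b j) ^ 2 :=
      le_trans (by exact_mod_cast h2) h3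
    have hpos : 1 ≤ Fintype.card ι := Fintype.card_pos_iff.2 ⟨i₀⟩
    push_cast [Nat.cast_sub hpos] at h4
    have h5 : 1 ≤ ∑ i, b i ^ 2 := by
      refine le_trans ?_ (Finset.single_le_sum (fun i _ => sq_nonneg (b i)) (Finset.mem_univ i₀))
      rcases lt_or_gt_of_ne hi₀ with h | h <;> simp only [Pi.zero_apply] at h <;> nlinarith
    nlinarith

/-- Parseval for powers of a primitive root. -/
theorem sum_range_mul_conj_pow {N : ℕ} {ζ : ℂ} (hζ : IsPrimitiveRoot ζ N) (w : Fin N → ℂ) :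
    ∑ i ∈ Finset.range N, (∑ j, w j * ζ ^ (i * (j : ℕ))) * conj (∑ j, w j * ζ ^ (i * (j : ℕ))) =
      (N : ℂ) * ∑ j, w j * conj (w j) := by
  rcases Nat.eq_zero_or_pos N with hN | hN
  · subst hN; simp
  have hn : ‖ζ‖ = 1 := Complex.norm_eq_one_of_pow_eq_one hζ.pow_eq_one hN.ne'
  have hconj : conj ζ = ζ⁻¹ := (Complex.inv_eq_conj hn).symm
  have hζ0 : ζ ≠ 0 := hζ.ne_zero hN.ne'
  simp only [map_sum, map_mul, map_pow, hconj]
  rw [Finset.sum_congr rfl fun i _ => Finset.sum_mul_sum _ _ _ _, Finset.mul_sum, Finset.sum_comm]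
  refine Finset.sum_congr rfl fun j _ => ?_
  rw [Finset.sum_comm, Finset.sum_eq_single j]
  · rw [Finset.sum_congr rfl fun i _ => show w j * ζ ^ (i * (j : ℕ)) * (conj (w j) * ζ⁻¹ ^ (i * (j : ℕ))) =
      w j * conj (w j) by
      rw [inv_pow, mul_mul_mul_comm, mul_inv_cancel₀ (pow_ne_zero _ hζ0), mul_one],
      Finset.sum_const, Finset.card_range, nsmul_eq_mul]
  · intro k _ hk
    rw [Finset.sum_congr rfl fun i _ => show w j * ζ ^ (i * (j : ℕ)) * (conj (w k) * ζ⁻¹ ^ (i * (k : ℕ))) =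
      w j * conj (w k) * (ζ ^ (j : ℕ) * ζ⁻¹ ^ (k : ℕ)) ^ i by
      rw [mul_pow, ← pow_mul, ← pow_mul, mul_comm (j : ℕ), mul_comm (k : ℕ)]; ring, ← Finset.mul_sum,
      geom_sum_eq, mul_pow, ← pow_mul, mul_comm (j : ℕ), pow_mul, hζ.pow_eq_one, one_pow,
      inv_pow ζ, inv_pow, ← pow_mul, mul_comm (k : ℕ), pow_mul, hζ.pow_eq_one, one_pow, inv_one]
    · simp
    · intro h
      rw [inv_pow, mul_inv_eq_one₀ (pow_ne_zero _ hζ0)] at h
      exact hk (Fin.ext (hζ.pow_inj j.2 k.2 h)).symm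
  · simp

/-- The squared values of a character on the generators of a cyclic `p`-group, when the degree is
prime to `p`. -/
theorem units_normSq_ge {p : ℕ} (hp : p.Prime) {a : ℕ} {ι : Type*} [Fintype ι] (μ : ι → ℂ)
    (hμ : ∀ k, μ k ^ p ^ (a + 1) = 1) (hn : ¬ p ∣ Fintype.card ι) :
    ((p ^ a * (p - 1) : ℕ) : ℝ) ≤ ∑ i ∈ (Finset.range (p ^ (a + 1))).filter (fun i => ¬ p ∣ i),
      Complex.normSq (∑ k, μ k ^ i) := by
  classical
  haveI : NeZero (p ^ (a + 1)) := ⟨pow_ne_zero _ hp.ne_zero⟩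
  obtain ⟨ζ, hζ⟩ : ∃ ζ : ℂ, IsPrimitiveRoot ζ (p ^ (a + 1)) :=
    ⟨_, Complex.isPrimitiveRoot_exp _ (pow_ne_zero _ hp.ne_zero)⟩
  choose m hm1 hm2 using fun k => hζ.eq_pow_of_pow_eq_one (hμ k)
  have hN : p ^ (a + 1) = p ^ a * p := pow_succ _ _
  let e : Fin p × Fin (p ^ a) ≃ Fin (p ^ (a + 1)) := finProdFinEquiv.trans (finCongr (by rw [hN, mul_comm]))
  have he : ∀ s r, ((e (s, r) : Fin (p ^ (a + 1))) : ℕ) = (r : ℕ) + p ^ a * (s : ℕ) := fun s r => rfl
  let c : Fin (p ^ (a + 1)) → ℕ := fun j => (Finset.univ.filter fun k => (⟨m k, hm1 k⟩ : Fin _) = j).card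
  have hf : ∀ i : ℕ, ∑ k, μ k ^ i = ∑ j, (c j : ℂ) * ζ ^ (i * (j : ℕ)) := by
    intro i
    rw [← Finset.sum_fiberwise Finset.univ (fun k => (⟨m k, hm1 k⟩ : Fin (p ^ (a + 1))))]
    refine Finset.sum_congr rfl fun j _ => ?_
    rw [Finset.sum_congr rfl fun k hk => show μ k ^ i = ζ ^ (i * (j : ℕ)) by
      rw [← hm2 k, ← pow_mul, mul_comm, ← (Finset.mem_filter.1 hk).2], Finset.sum_const, nsmul_eq_mul]
  have hζp : IsPrimitiveRoot (ζ ^ p) (p ^ a) :=
    hζ.pow (pow_pos hp.pos _) (by rw [hN, mul_comm])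
  let d : Fin (p ^ a) → ℕ := fun r => ∑ s, c (e (s, r))
  have hfp : ∀ i : ℕ, ∑ j, (c j : ℂ) * ζ ^ (p * i * (j : ℕ)) =
      ∑ r, (d r : ℂ) * (ζ ^ p) ^ (i * (r : ℕ)) := by
    intro i
    rw [← e.sum_comp, Fintype.sum_prod_type, Finset.sum_comm]
    refine Finset.sum_congr rfl fun r _ => ?_
    simp only [d, Nat.cast_sum, Finset.sum_mul]
    refine Finset.sum_congr rfl fun s _ => ?_
    rw [he, ← pow_mul, show p * i * ((r : ℕ) + p ^ a * (s : ℕ)) = p * (i * r) + p ^ a * p * (i * s) by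
      ring, pow_add ζ, pow_mul ζ (p ^ a * p), show ζ ^ (p ^ a * p) = 1 by rw [← hN]; exact hζ.pow_eq_one,
      one_pow, mul_one]
  have h1 := sum_range_mul_conj_pow hζ (fun j => (c j : ℂ))
  have h2 := sum_range_mul_conj_pow hζp (fun r => (d r : ℂ))
  simp only [map_natCast] at h1 h2
  have hsplit : ∑ i ∈ Finset.range (p ^ (a + 1)), Complex.normSq (∑ k, μ k ^ i) =
      (∑ i ∈ Finset.range (p ^ a), Complex.normSq (∑ k, μ k ^ (p * i))) +
      ∑ i ∈ (Finset.range (p ^ (a + 1))).filter (fun i => ¬ p ∣ i), Complex.normSq (∑ k, μ k ^ i) := by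
    rw [← Finset.sum_filter_add_sum_filter_not (Finset.range (p ^ (a + 1))) (fun i => p ∣ i)]
    congr 1
    symm
    refine Finset.sum_bij (fun i _ => p * i) (fun i hi => ?_) (fun i _ j _ h => Nat.eq_of_mul_eq_mul_left hp.pos h)
      (fun i hi => ?_) fun i _ => rfl
    · simp only [Finset.mem_filter, Finset.mem_range] at hi ⊢
      exact ⟨by rw [hN, mul_comm (p ^ a)]; exact Nat.mul_lt_mul_of_pos_left hi hp.pos, dvd_mul_right _ _⟩
    · obtain ⟨hi, i', rfl⟩ := Finset.mem_filter.1 hi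
      refine ⟨i', Finset.mem_range.2 ?_, rfl⟩
      rw [Finset.mem_range, hN, mul_comm (p ^ a)] at hi
      exact Nat.lt_of_mul_lt_mul_left hi
  have hA : ∑ i ∈ Finset.range (p ^ (a + 1)), Complex.normSq (∑ k, μ k ^ i) =
      (p ^ (a + 1) : ℕ) * ∑ j, (c j : ℝ) * c j := by
    apply Complex.ofReal_injective
    simp only [Complex.ofReal_sum, ← Complex.mul_conj, hf, Complex.ofReal_mul, Complex.ofReal_natCast]
    exact h1
  have hB : ∑ i ∈ Finset.range (p ^ a), Complex.normSq (∑ k, μ k ^ (p * i)) =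
      (p ^ a : ℕ) * ∑ r, (d r : ℝ) * d r := by
    apply Complex.ofReal_injective
    simp only [Complex.ofReal_sum, ← Complex.mul_conj, hf, hfp, Complex.ofReal_mul, Complex.ofReal_natCast]
    exact h2
  obtain ⟨r, s₀, s₁, hne⟩ : ∃ r s₀ s₁, c (e (s₀, r)) ≠ c (e (s₁, r)) := by
    by_contra h
    simp only [ne_eq, not_exists, not_not] at h
    refine hn ?_
    have : Fintype.card ι = ∑ j, c j := by
      rw [← Finset.card_univ]
      exact Finset.card_eq_sum_card_fiberwise fun k _ => Finset.mem_univ _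
    rw [this, ← e.sum_comp, Fintype.sum_prod_type, Finset.sum_comm]
    refine Finset.dvd_sum fun r _ => ?_
    rw [Finset.sum_congr rfl fun s _ => h r s ⟨0, hp.pos⟩, Finset.sum_const, Finset.card_univ,
      Fintype.card_fin]
    exact dvd_mul_right _ _
  have key : ∀ r, (0 : ℝ) ≤ (p : ℝ) * (∑ s, (c (e (s, r)) : ℝ) * c (e (s, r))) - (d r : ℝ) * d r ∧
      ((∃ s₀ s₁, c (e (s₀, r)) ≠ c (e (s₁, r))) →
        ((p - 1 : ℕ) : ℝ) ≤ (p : ℝ) * (∑ s, (c (e (s, r)) : ℝ) * c (e (s, r))) - (d r : ℝ) * d r) := by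
    intro r
    let b : Fin p → ℤ := fun s => (c (e (s, r)) : ℤ)
    have hb := sum_sq_diff b
    have hcast : (p : ℝ) * (∑ s, (c (e (s, r)) : ℝ) * c (e (s, r))) - (d r : ℝ) * d r =
        (((Fintype.card (Fin p) : ℤ) * ∑ s, b s ^ 2 - (∑ s, b s) ^ 2 : ℤ) : ℝ) := by
      simp [b, d, sq, Fintype.card_fin]
    rw [hcast]
    have hnn : (0 : ℤ) ≤ ∑ s, ∑ s', (b s - b s') ^ 2 :=
      Finset.sum_nonneg fun _ _ => Finset.sum_nonneg fun _ _ => sq_nonneg _
    refine ⟨by exact_mod_cast (show (0 : ℤ) ≤ (Fintype.card (Fin p) : ℤ) * ∑ s, b s ^ 2 - (∑ s, b s) ^ 2 by linarith), ?_⟩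
    rintro ⟨s₀, s₁, hs⟩
    have h3 := two_mul_le_unequal_pairs b (a := s₀) (b := s₁) (fun h => hs (Int.ofNat.inj h))
    have h4 : (((∑ i, ∑ j, if b i ≠ b j then 1 else 0 : ℕ)) : ℤ) ≤ ∑ i, ∑ j, (b i - b j) ^ 2 := by
      push_cast
      refine Finset.sum_le_sum fun i _ => Finset.sum_le_sum fun j _ => ?_
      split_ifs with h
      · rcases lt_or_gt_of_ne h with h' | h' <;> nlinarith
      · exact sq_nonneg _
    have h5 : ((2 * (Fintype.card (Fin p) - 1) : ℕ) : ℤ) ≤ ∑ i, ∑ j, (b i - b j) ^ 2 :=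
      le_trans (by exact_mod_cast h3) h4
    have h6 : ((p - 1 : ℕ) : ℤ) ≤ (Fintype.card (Fin p) : ℤ) * ∑ s, b s ^ 2 - (∑ s, b s) ^ 2 := by
      rw [Fintype.card_fin] at h5 hb ⊢
      push_cast at h5 ⊢
      linarith
    exact_mod_cast h6
  have hsum : ((p - 1 : ℕ) : ℝ) ≤
      ∑ r, ((p : ℝ) * (∑ s, (c (e (s, r)) : ℝ) * c (e (s, r))) - (d r : ℝ) * d r) :=
    le_trans ((key r).2 ⟨s₀, s₁, hne⟩)
      (Finset.single_le_sum (fun r _ => (key r).1) (Finset.mem_univ r))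
  have hcsum : ∑ j, (c j : ℝ) * c j = ∑ r, ∑ s, (c (e (s, r)) : ℝ) * c (e (s, r)) := by
    rw [← e.sum_comp, Fintype.sum_prod_type, Finset.sum_comm]
  have hNr : ((p ^ (a + 1) : ℕ) : ℝ) = (p : ℝ) ^ a * p := by push_cast; ring
  rw [hA, hB, hcsum, hNr] at hsplit
  rw [Finset.sum_sub_distrib, ← Finset.mul_sum] at hsum
  push_cast at hsplit ⊢
  have hpa : (0 : ℝ) ≤ (p : ℝ) ^ a := by positivity
  nlinarith [mul_le_mul_of_nonneg_left hsum hpa]

end Cfsg.Agent.Lib.Blocks
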