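import Cfsg.Agent.Lib.Blocks.DefectOneGalois
import Cfsg.Agent.Lib.Blocks.DefectOneCount
import Cfsg.Agent.Lib.Blocks.Exists
import Cfsg.Agent.Lib.Blocks.PConjugate

/-!
# Preparations on characters of small degree and a Sylow subgroup of order `p`
-/

set_option autoImplicit false
set_option linter.unusedSectionVars false
set_option linter.unusedVariables false
set_option linter.style.haveILetI false

namespace Cfsg.Agent.Lib.Blocks

open Cfsg Cfsg.Agent.Lib.Characters
open scoped ComplexConjugate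

universe u

section ExpSums

variable {p : ℕ} [hp : Fact p.Prime]

/-- The roots of `x ^ e = 1` in `ZMod p`. -/
def rootsSet (p e : ℕ) [NeZero p] : Finset (ZMod p) := Finset.univ.filter fun x => x ^ e = 1

theorem mem_rootsSet [NeZero p] {e : ℕ} {x : ZMod p} : x ∈ rootsSet p e ↔ x ^ e = 1 := by
  simp [rootsSet]

theorem card_rootsSet [NeZero p] {e : ℕ} (he : 0 < e) {r : ZMod p} (hr : IsPrimitiveRoot r e) :
    (rootsSet p e).card = e := by
  haveI : NeZero e := ⟨he.ne'⟩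
  have h : rootsSet p e = (Finset.range e).image fun b => r ^ b := by
    ext x
    simp only [mem_rootsSet, Finset.mem_image, Finset.mem_range]
    constructor
    · intro hx
      exact hr.eq_pow_of_pow_eq_one hx
    · rintro ⟨b, -, rfl⟩
      rw [← pow_mul, mul_comm, pow_mul, hr.pow_eq_one, one_pow]
  rw [h, Finset.card_image_of_injOn fun a ha b hb hab =>
    hr.pow_inj (Finset.mem_range.1 ha) (Finset.mem_range.1 hb) hab, Finset.card_range]

theorem mul_left_rootsSet_sum [NeZero p] {e : ℕ} {y : ZMod p} (hy : y ^ e = 1) (hy0 : y ≠ 0) (f : ZMod p → ℂ) :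
    ∑ x ∈ rootsSet p e, f (y * x) = ∑ x ∈ rootsSet p e, f x := by
  refine Finset.sum_bij' (fun x _ => y * x) (fun x _ => y⁻¹ * x) (fun x hx => ?_) (fun x hx => ?_)
    (fun x _ => inv_mul_cancel_left₀ hy0 x) (fun x _ => mul_inv_cancel_left₀ hy0 x) (fun x _ => rfl)
  · rw [mem_rootsSet] at hx ⊢; rw [mul_pow, hy, hx, one_mul]
  · rw [mem_rootsSet] at hx ⊢; rw [mul_pow, inv_pow, hy, hx, inv_one, one_mul]

/-- The Gaussian periods of two classes agree only if the classes do. -/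
theorem period_eq_imp [NeZero p] {E : ℕ} {z z' : ZMod p} (hz : z ≠ 0) (hz' : z' ≠ 0)
    (h : ∀ w : ZMod p, ∑ x ∈ rootsSet p E, ZMod.stdAddChar (z * w * x) =
      ∑ x ∈ rootsSet p E, ZMod.stdAddChar (z' * w * x)) : (z * z'⁻¹) ^ E = 1 := by
  classical
  have key : ∀ a : ZMod p, a ≠ 0 →
      ∑ w : ZMod p, (∑ x ∈ rootsSet p E, ZMod.stdAddChar (a * w * x)) * ZMod.stdAddChar (-(z * w)) =
        if (z * a⁻¹) ^ E = 1 then (p : ℂ) else 0 := by
    intro a ha
    simp only [Finset.sum_mul, ← AddChar.map_add_eq_mul]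
    rw [Finset.sum_comm]
    rw [Finset.sum_congr rfl fun x _ => show (∑ w : ZMod p, ZMod.stdAddChar (a * w * x + -(z * w))) =
      if x = z * a⁻¹ then (p : ℂ) else 0 by
        rw [Finset.sum_congr rfl fun (w : ZMod p) _ => show ZMod.stdAddChar (a * w * x + -(z * w)) =
          ZMod.stdAddChar (w * (a * x - z)) by congr 1; ring, sum_stdAddChar_mul]
        refine if_congr ?_ rfl rfl
        rw [sub_eq_zero, eq_mul_inv_iff_mul_eq₀ ha, mul_comm]]
    rw [Finset.sum_ite_eq']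
    simp only [mem_rootsSet]
  have h2 := key z' hz'
  simp only [← h] at h2
  rw [key z hz, mul_inv_cancel₀ hz, one_pow, if_pos rfl] at h2
  by_contra hne
  rw [if_neg hne] at h2
  exact Nat.cast_ne_zero.2 hp.out.ne_zero h2

theorem sum_units_stdAddChar {j : ZMod p} (hj : j ≠ 0) :
    ∑ s ∈ (Finset.univ : Finset (ZMod p)).erase 0, ZMod.stdAddChar (s * j) = -1 := by
  rw [Finset.sum_erase_eq_sub (Finset.mem_univ 0), sum_stdAddChar_mul, if_neg hj, zero_mul,
    AddChar.map_zero_eq_one, zero_sub]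

/-- An automorphism moving the `p`-th roots of unity and fixing the roots of order prime to `p`. -/
theorem exists_galois {c : ℕ} (hc : ¬ p ∣ c) {s : ZMod p} (hs : s ≠ 0) :
    ∃ τ : ℂ ≃+* ℂ, (∀ z : ℂ, z ^ c = 1 → τ z = z) ∧
      ∀ j : ZMod p, τ (ZMod.stdAddChar j) = ZMod.stdAddChar (s * j) := by
  have hc0 : c ≠ 0 := fun h => hc (h ▸ dvd_zero p)
  have hcop : Nat.Coprime p c := hp.out.coprime_iff_not_dvd.2 hc
  haveI : NeZero (p * c) := ⟨Nat.mul_ne_zero hp.out.ne_zero hc0⟩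
  obtain ⟨k, hk1, hk2⟩ := Nat.chineseRemainder hcop s.val 1
  have hsv : ¬ p ∣ s.val := fun h => hs (by
    rw [← ZMod.natCast_zmod_val s, ZMod.natCast_eq_zero_iff]; exact h)
  have hkn : Nat.Coprime k (p * c) := by
    refine Nat.Coprime.mul_right ?_ ?_
    · rw [Nat.Coprime, hk1.gcd_eq]
      exact (hp.out.coprime_iff_not_dvd.2 hsv).symm
    · rw [Nat.Coprime, hk2.gcd_eq, Nat.gcd_one_left]
  obtain ⟨τ, hτ⟩ := exists_complexAut_pow (n := p * c) hkn
  refine ⟨τ, fun z hz => ?_, fun j => ?_⟩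
  · rw [hτ z (by rw [mul_comm, pow_mul, hz, one_pow])]
    conv_rhs => rw [← pow_one z]
    exact pow_eq_pow_of_modEq hk2 hz
  · have hzp : (ZMod.stdAddChar j : ℂ) ^ p = 1 := by
      rw [← AddChar.map_nsmul_eq_pow, nsmul_eq_mul, ZMod.natCast_self, zero_mul, AddChar.map_zero_eq_one]
    rw [hτ _ (by rw [pow_mul, hzp, one_pow]), pow_eq_pow_of_modEq hk1 hzp, ← AddChar.map_nsmul_eq_pow,
      nsmul_eq_mul, ZMod.natCast_zmod_val]

end ExpSums

variable {G : Type u} [Group G] [Fintype G] {p : ℕ} [hp : Fact p.Prime] {P O : Subgroup G} {u : G}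
  [Fintype O]

namespace PrimeSplit

/-- The multiplicity of `ψ_j × η` in the restriction to the centralizer. -/
noncomputable def secMult (S : PrimeSplit p P O u) (η : IrrCharacter O) (χ : IrrCharacter G)
    (j : ZMod p) : ℕ :=
  (S.exists_secMult_nat η χ j).choose

theorem secMult_spec (S : PrimeSplit p P O u) (η : IrrCharacter O) (χ : IrrCharacter G) (j : ZMod p) :
    (p : ℂ) * (S.secMult η χ j : ℂ) =
      ∑ i : ZMod p, secCoeff u (η : O → ℂ) χ i * ZMod.stdAddChar (-(i * j)) := by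
  rw [secMult, (S.exists_secMult_nat η χ j).choose_spec, ← mul_assoc,
    mul_inv_cancel₀ (Nat.cast_ne_zero.2 hp.out.ne_zero), one_mul]

theorem secCoeff_eq_sum_secMult (S : PrimeSplit p P O u) (η : IrrCharacter O) (χ : IrrCharacter G)
    (i : ZMod p) : secCoeff u (η : O → ℂ) χ i = ∑ j, (S.secMult η χ j : ℂ) * ZMod.stdAddChar (i * j) := by
  classical
  refine mul_left_cancel₀ (Nat.cast_ne_zero.2 hp.out.ne_zero : (p : ℂ) ≠ 0) ?_
  rw [Finset.mul_sum]
  simp only [← mul_assoc, S.secMult_spec, Finset.sum_mul]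
  rw [Finset.sum_comm]
  simp only [mul_assoc, ← AddChar.map_add_eq_mul, ← Finset.mul_sum]
  rw [Finset.sum_eq_single i]
  · simp [mul_comm]
  · intro b _ hb
    rw [Finset.sum_congr rfl fun (j : ZMod p) _ => show ZMod.stdAddChar (-(b * j) + i * j) =
      ZMod.stdAddChar (j * (i - b)) by congr 1; ring, sum_stdAddChar_mul, if_neg (sub_ne_zero.2 hb.symm), mul_zero]
  · simp

theorem secCoeff_zero_eq (S : PrimeSplit p P O u) (η : IrrCharacter O) (χ : IrrCharacter G) :
    secCoeff u (η : O → ℂ) χ (0 : ZMod p) = ((∑ j, S.secMult η χ j : ℕ) : ℂ) := by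
  rw [S.secCoeff_eq_sum_secMult, Nat.cast_sum]
  simp

theorem apply_one_eq_sum [Fintype (IrrCharacter O)] (S : PrimeSplit p P O u) (χ : IrrCharacter G) :
    (χ : G → ℂ) 1 = ∑ η : IrrCharacter O, secCoeff u (η : O → ℂ) χ (0 : ZMod p) * (η : O → ℂ) 1 := by
  have h := S.section_eq_sum χ (0 : ZMod p) 1
  rwa [upow_zero, OneMemClass.coe_one, mul_one] at h

theorem charDegree_eq_sum [Fintype (IrrCharacter O)] (S : PrimeSplit p P O u) (χ : IrrCharacter G) :
    charDegree (χ : G → ℂ) =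
      ∑ η : IrrCharacter O, (∑ j, S.secMult η χ j) * charDegree (η : O → ℂ) := by
  refine Nat.cast_injective (R := ℂ) ?_
  rw [charDegree_eq, S.apply_one_eq_sum, Nat.cast_sum]
  exact Finset.sum_congr rfl fun η _ => by rw [Nat.cast_mul, charDegree_eq, S.secCoeff_zero_eq]

theorem sum_secMult_le (S : PrimeSplit p P O u) (η : IrrCharacter O) (χ : IrrCharacter G) :
    ∑ j, S.secMult η χ j ≤ charDegree (χ : G → ℂ) := by
  haveI := Fintype.ofFinite (IrrCharacter O)
  rw [S.charDegree_eq_sum]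
  refine le_trans ?_ (Finset.single_le_sum (f := fun η : IrrCharacter O =>
    (∑ j, S.secMult η χ j) * charDegree (η : O → ℂ)) (fun _ _ => Nat.zero_le _) (Finset.mem_univ η))
  exact Nat.le_mul_of_pos_right _ (charDegree_pos η)

/-- The multiplicities are read off from any formula for the sections away from `1`. -/
theorem secMult_sub (S : PrimeSplit p P O u) (η : IrrCharacter O) (χ : IrrCharacter G)
    {f : ZMod p → ℂ} (hf : ∀ i, i ≠ 0 → secCoeff u (η : O → ℂ) χ i = f i) (j : ZMod p) :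
    (p : ℂ) * ((S.secMult η χ j : ℂ) - (S.secMult η χ 0 : ℂ)) =
      ∑ i : ZMod p, f i * (ZMod.stdAddChar (-(i * j)) - 1) := by
  rw [mul_sub, S.secMult_spec, S.secMult_spec, ← Finset.sum_sub_distrib]
  refine Finset.sum_congr rfl fun i _ => ?_
  rw [mul_zero, neg_zero, AddChar.map_zero_eq_one, mul_one, mul_sub, mul_one]
  by_cases hi : i = 0
  · subst hi; simp
  · rw [hf i hi]

theorem secMult_of_const (S : PrimeSplit p P O u) (η : IrrCharacter O) (χ : IrrCharacter G) {δ : ℤ}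
    (hf : ∀ i : ZMod p, i ≠ 0 → secCoeff u (η : O → ℂ) χ i = (δ : ℂ)) {j : ZMod p} (hj : j ≠ 0) :
    (S.secMult η χ j : ℤ) = (S.secMult η χ 0 : ℤ) - δ := by
  have h := S.secMult_sub η χ hf j
  rw [← Finset.mul_sum, Finset.sum_sub_distrib, Finset.sum_const, Finset.card_univ, ZMod.card,
    Finset.sum_congr rfl fun (i : ZMod p) _ => show ZMod.stdAddChar (-(i * j)) = ZMod.stdAddChar (i * -j) by
      rw [mul_neg], sum_stdAddChar_mul, if_neg (neg_ne_zero.2 hj), zero_sub, nsmul_one] at h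
  have h2 : (p : ℂ) * (((S.secMult η χ j : ℤ) : ℂ) - ((S.secMult η χ 0 : ℤ) : ℂ) + (δ : ℂ)) = 0 := by
    push_cast
    linear_combination h
  have h3 := (mul_eq_zero.1 h2).resolve_left (Nat.cast_ne_zero.2 hp.out.ne_zero)
  have h4 : ((((S.secMult η χ j : ℤ) - (S.secMult η χ 0 : ℤ) + δ : ℤ)) : ℂ) = 0 := by exact_mod_cast h3
  have h5 := Int.cast_eq_zero.1 h4
  omega

theorem secMult_of_period [NeZero p] (S : PrimeSplit p P O u) (η : IrrCharacter O) (χ : IrrCharacter G)
    {J : Finset (ZMod p)} (h0 : (0 : ZMod p) ∉ J) {ε : ℤ}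
    (hf : ∀ i : ZMod p, i ≠ 0 → secCoeff u (η : O → ℂ) χ i = (ε : ℂ) * ∑ x ∈ J, ZMod.stdAddChar (i * x))
    (j : ZMod p) :
    (S.secMult η χ j : ℤ) = (S.secMult η χ 0 : ℤ) + if j ∈ J then ε else 0 := by
  have h := S.secMult_sub η χ hf j
  simp only [mul_assoc, Finset.sum_mul, mul_sub, mul_one, ← AddChar.map_add_eq_mul, ← Finset.mul_sum,
    Finset.sum_sub_distrib] at h
  rw [Finset.sum_comm, Finset.sum_comm (s := (Finset.univ : Finset (ZMod p))) (t := J)] at h
  rw [Finset.sum_congr rfl fun (x : ZMod p) _ => show (∑ i : ZMod p, ZMod.stdAddChar (i * x + -(i * j))) =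
    if x = j then (p : ℂ) else 0 by
      rw [Finset.sum_congr rfl fun (i : ZMod p) _ => show ZMod.stdAddChar (i * x + -(i * j)) =
        ZMod.stdAddChar (i * (x - j)) by congr 1; ring, sum_stdAddChar_mul]
      simp only [sub_eq_zero],
    Finset.sum_ite_eq'] at h
  rw [Finset.sum_congr rfl fun (x : ZMod p) (hx : x ∈ J) => show (∑ i : ZMod p, ZMod.stdAddChar (i * x)) = 0 by
    rw [sum_stdAddChar_mul, if_neg (fun hh : x = 0 => h0 (hh ▸ hx))], Finset.sum_const_zero, mul_zero, sub_zero, ← mul_sub] at h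
  have hpC : (p : ℂ) ≠ 0 := Nat.cast_ne_zero.2 hp.out.ne_zero
  split_ifs at h ⊢ with hj
  · have h2 : (((S.secMult η χ j : ℤ)) : ℂ) = (((S.secMult η χ 0 : ℤ) + ε : ℤ) : ℂ) := by
      push_cast
      refine mul_left_cancel₀ hpC ?_
      linear_combination h
    exact_mod_cast h2
  · rw [mul_zero] at h
    have h2 := sub_eq_zero.1 ((mul_eq_zero.1 h).resolve_left hpC)
    rw [add_zero]
    exact_mod_cast h2

end PrimeSplit

/-- A character whose value at an element is a root of unity times the degree is scalar there. -/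
theorem comm_eq_of_scalar {K : Type u} [Group K] [Finite K] (χ : IrrCharacter K) {z : K} {ζ : ℂ}
    (hz : z ^ p = 1) (hζ : ζ ^ p = 1)
    (h : ∀ i : ℕ, (χ : K → ℂ) (z ^ i) = (χ : K → ℂ) 1 * ζ ^ i) (g : K) :
    (χ : K → ℂ) (z * g * z⁻¹ * g⁻¹) = (χ : K → ℂ) 1 := by
  classical
  obtain ⟨d, ρ, hρ⟩ := irr_isCharacter χ
  have hρz : ρ z ^ p = 1 := by rw [← map_pow, hz, map_one]
  obtain ⟨ι, hι, b, μ, hμ, hμp⟩ := exists_eigenbasis (ρ z) hp.out.ne_zero hρz
  have hval : ∀ k : ℕ, (χ : K → ℂ) (z ^ k) = ∑ i, μ i ^ k := by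
    intro k
    rw [← hρ]
    show LinearMap.trace ℂ _ (ρ (z ^ k)) = _
    rw [map_pow]
    exact trace_pow_eq_sum_eigen b _ μ hμ k
  have hζ0 : ζ ≠ 0 := fun h0 => by rw [h0, zero_pow hp.out.ne_zero] at hζ; exact zero_ne_one hζ
  have hsum : ∑ k ∈ Finset.range p, (ζ⁻¹) ^ k * (χ : K → ℂ) (z ^ k) = (p : ℂ) * (χ : K → ℂ) 1 := by
    rw [Finset.sum_congr rfl fun k _ => show (ζ⁻¹) ^ k * (χ : K → ℂ) (z ^ k) = (χ : K → ℂ) 1 by
      rw [h, mul_left_comm, ← mul_pow, inv_mul_cancel₀ hζ0, one_pow, mul_one], Finset.sum_const,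
      Finset.card_range, nsmul_eq_mul]
  have hall : ∀ i, μ i = ζ := by
    simp only [hval, Finset.mul_sum, ← mul_pow] at hsum
    rw [Finset.sum_comm, Finset.sum_congr rfl fun i _ => show (∑ k ∈ Finset.range p, (ζ⁻¹ * μ i) ^ k) =
      if μ i = ζ then (p : ℂ) else 0 by
        by_cases hi : μ i = ζ
        · rw [if_pos hi, hi, inv_mul_cancel₀ hζ0]; simp
        · rw [if_neg hi, geom_sum_eq fun h' => hi ((inv_mul_eq_one₀ hζ0).1 h').symm, mul_pow, hμp i,
            inv_pow, hζ]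
          simp] at hsum
    have h1 := hval 0
    simp only [pow_zero, Finset.sum_const, Finset.card_univ, nsmul_eq_mul, mul_one] at h1
    rw [h1, ← Finset.sum_filter, Finset.sum_const, nsmul_eq_mul, mul_comm] at hsum
    have h2 := Nat.cast_injective (mul_left_cancel₀ (Nat.cast_ne_zero.2 hp.out.ne_zero : (p : ℂ) ≠ 0) hsum)
    intro i
    have h3 := Finset.eq_univ_of_card _ h2
    exact (Finset.mem_filter.1 (h3.symm ▸ Finset.mem_univ i : i ∈ _)).2
  have hscal : ρ z = ζ • (1 : Module.End ℂ (Fin d → ℂ)) := b.ext fun i => by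
    rw [hμ, hall, LinearMap.smul_apply, Module.End.one_apply]
  have hcomm : ρ (z * g) = ρ (g * z) := by
    rw [map_mul, map_mul, hscal, smul_mul_assoc, mul_smul_comm, one_mul, mul_one]
  rw [← hρ]
  show LinearMap.trace ℂ _ (ρ (z * g * z⁻¹ * g⁻¹)) = LinearMap.trace ℂ _ (ρ 1)
  rw [show z * g * z⁻¹ * g⁻¹ = (z * g) * (g * z)⁻¹ by group, map_mul, hcomm, ← map_mul, mul_inv_cancel]

end Cfsg.Agent.Lib.Blocks
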