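import Cfsg.Agent.Lib.Blocks.SubsectionForm

/-!
# Integral combinations of roots of unity of `2`-power order

For a primitive root `ζ` of order `2 ^ (a + 1)` the combinations `∑ j < 2 ^ a, f j * ζ ^ (u * j)`,
their averages over odd `u`, and their `2`-divisibility.
-/

set_option autoImplicit false
set_option linter.unusedSectionVars false
set_option linter.style.haveILetI false

namespace Cfsg.Agent.Lib.Blocks

open Cfsg
open scoped ComplexConjugate

variable {a : ℕ} {ζ : ℂ}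

/-- The value at the exponent `u`. -/
noncomputable def halfEval (a : ℕ) (ζ : ℂ) (f : ℕ → ℤ) (u : ℕ) : ℂ :=
  ∑ j ∈ Finset.range (2 ^ a), (f j : ℂ) * ζ ^ (u * j)

theorem pow_half_eq_neg_one (hζ : IsPrimitiveRoot ζ (2 ^ (a + 1))) : ζ ^ 2 ^ a = -1 :=
  (hζ.pow (pow_pos two_pos _) (pow_succ 2 a)).eq_neg_one_of_two_right

theorem isPrimitiveRoot_sq (hζ : IsPrimitiveRoot ζ (2 ^ (a + 1))) :
    IsPrimitiveRoot (ζ ^ 2) (2 ^ a) :=
  hζ.pow (pow_pos two_pos _) (pow_succ' 2 a)

/-- **Parseval over the odd exponents.** -/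
theorem sum_halfEval_normSq (hζ : IsPrimitiveRoot ζ (2 ^ (a + 1))) (f : ℕ → ℤ) :
    ∑ i ∈ Finset.range (2 ^ a), Complex.normSq (halfEval a ζ f (2 * i + 1)) =
      ((2 ^ a : ℕ) : ℝ) * ((∑ j ∈ Finset.range (2 ^ a), f j ^ 2 : ℤ) : ℝ) := by
  have hn : ‖ζ‖ = 1 := Complex.norm_eq_one_of_pow_eq_one hζ.pow_eq_one (by positivity)
  have h1 : ζ * conj ζ = 1 := by rw [Complex.mul_conj', hn]; norm_num
  have hsum := sum_range_mul_conj_pow (isPrimitiveRoot_sq hζ)
    (fun j : Fin (2 ^ a) => (f j : ℂ) * ζ ^ (j : ℕ))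
  apply Complex.ofReal_injective
  push_cast
  have hev : ∀ i, halfEval a ζ f (2 * i + 1) =
      ∑ j : Fin (2 ^ a), (f j : ℂ) * ζ ^ (j : ℕ) * (ζ ^ 2) ^ (i * (j : ℕ)) := fun i => by
    rw [halfEval, ← Fin.sum_univ_eq_sum_range]
    refine Finset.sum_congr rfl fun j _ => ?_
    rw [← pow_mul, mul_assoc, ← pow_add]
    ring_nf
  simp only [← Complex.mul_conj, hev]
  rw [hsum, ← Fin.sum_univ_eq_sum_range (fun j => (f j : ℂ) ^ 2)]
  push_cast
  congr 1
  refine Finset.sum_congr rfl fun j _ => ?_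
  rw [map_mul, map_intCast, map_pow, mul_mul_mul_comm, ← mul_pow, h1, one_pow]
  ring

/-- **The average over the odd exponents.** -/
theorem sum_halfEval (hζ : IsPrimitiveRoot ζ (2 ^ (a + 1))) (f : ℕ → ℤ) :
    ∑ i ∈ Finset.range (2 ^ a), halfEval a ζ f (2 * i + 1) = ((2 ^ a : ℕ) : ℂ) * (f 0 : ℂ) := by
  simp only [halfEval]
  rw [Finset.sum_comm, Finset.sum_eq_single 0]
  · simp [mul_comm]
  · intro j hj hj0
    rw [Finset.sum_congr rfl fun i _ => show (f j : ℂ) * ζ ^ ((2 * i + 1) * j) =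
      (f j : ℂ) * ζ ^ j * ((ζ ^ 2) ^ j) ^ i by
        rw [← pow_mul, ← pow_mul, mul_assoc, ← pow_add]; ring_nf, ← Finset.mul_sum]
    have hne : (ζ ^ 2) ^ j ≠ 1 := fun h => by
      have := Nat.le_of_dvd (Nat.pos_of_ne_zero hj0)
        (((isPrimitiveRoot_sq hζ).pow_eq_one_iff_dvd j).1 h)
      exact absurd (Finset.mem_range.1 hj) (not_lt.2 this)
    rw [geom_sum_eq hne, ← pow_mul (ζ ^ 2), mul_comm j, pow_mul, (isPrimitiveRoot_sq hζ).pow_eq_one,
      one_pow, sub_self, zero_div, mul_zero]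
  · exact fun h => absurd (Finset.mem_range.2 (pow_pos two_pos a)) h

/-- Collecting an integral combination of powers with exponents modulo `2 ^ a`. -/
theorem exists_halfEval_of_sum (hζ : IsPrimitiveRoot ζ (2 ^ (a + 1))) {Q : Type*} [Fintype Q]
    (n : Q → ℕ) (w : Q → ℤ) :
    ∃ f : ℕ → ℤ, (∀ i : ℕ, ∑ q, (w q : ℂ) * (ζ ^ n q) ^ (2 * i + 1) =
        halfEval a ζ f (2 * i + 1)) ∧
      ∀ (σ : Q → Q), (∀ q, σ (σ q) = q) → (∀ q, w (σ q) = w q) →
        (∀ q, n q + n (σ q) = 2 ^ (a + 2)) →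
        ∑ j ∈ Finset.range (2 ^ a), f j = f 0 := by
  classical
  refine ⟨fun j => ∑ q, if n q % 2 ^ a = j then (-1) ^ (n q / 2 ^ a) * w q else 0, fun i => ?_,
    fun σ hσ hw hn => ?_⟩
  · simp only [halfEval, Int.cast_sum, Finset.sum_mul]
    rw [Finset.sum_comm]
    refine Finset.sum_congr rfl fun q _ => ?_
    simp only [Int.cast_ite, Int.cast_zero, ite_mul, zero_mul, Finset.sum_ite_eq,
      Finset.mem_range, Nat.mod_lt _ (pow_pos two_pos a), if_true, Int.cast_mul, Int.cast_pow,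
      Int.cast_neg, Int.cast_one]
    rw [show ζ ^ n q = ζ ^ (n q % 2 ^ a) * (-1) ^ (n q / 2 ^ a) by
      rw [← pow_half_eq_neg_one hζ, ← pow_mul, ← pow_add, Nat.mod_add_div]]
    rw [mul_pow, ← pow_mul, ← pow_mul, mul_comm (n q % 2 ^ a),
      show (-1 : ℂ) ^ (n q / 2 ^ a * (2 * i + 1)) = (-1 : ℂ) ^ (n q / 2 ^ a) by
        rw [mul_add, mul_one, pow_add, mul_left_comm, pow_mul, neg_one_sq, one_pow, one_mul]]
    ring
  · rw [Finset.sum_comm]
    simp only [Finset.sum_ite_eq, Finset.mem_range, Nat.mod_lt _ (pow_pos two_pos a), if_true]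
    rw [← Finset.sum_filter_add_sum_filter_not Finset.univ (fun q => n q % 2 ^ a = 0),
      Finset.sum_filter]
    have hflip : ∀ q, n q % 2 ^ a ≠ 0 → n (σ q) % 2 ^ a ≠ 0 ∧
        ((-1 : ℤ)) ^ (n (σ q) / 2 ^ a) = -(-1) ^ (n q / 2 ^ a) := by
      intro q hq
      have h := hn q
      rw [pow_add, show (2 : ℕ) ^ 2 = 4 by norm_num] at h
      set P := 2 ^ a
      have hP : 0 < P := pow_pos two_pos a
      have e1 := Nat.mod_add_div (n q) P
      have e2 := Nat.mod_add_div (n (σ q)) P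
      have l1 := Nat.mod_lt (n q) hP
      have l2 := Nat.mod_lt (n (σ q)) hP
      have hne : n (σ q) % P ≠ 0 := by
        intro h0
        refine hq ?_
        rw [h0, zero_add] at e2
        rw [← e2] at h
        have hd : P ∣ n q + P * (n (σ q) / P) := h ▸ dvd_mul_right P 4
        exact Nat.mod_eq_zero_of_dvd ((Nat.dvd_add_left (dvd_mul_right P _)).1 hd)
      have h3 : n q / P + n (σ q) / P = 3 := by
        have hlow : P * (n q / P + n (σ q) / P) < P * 4 := by rw [mul_add]; omega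
        have hup : P * 2 < P * (n q / P + n (σ q) / P) := by
          rw [mul_add]; omega
        have := Nat.lt_of_mul_lt_mul_left hlow
        have := Nat.lt_of_mul_lt_mul_left hup
        omega
      refine ⟨hne, ?_⟩
      have : ((-1 : ℤ)) ^ (n q / P) * (-1) ^ (n (σ q) / P) = -1 := by
        rw [← pow_add, h3]; norm_num
      rcases neg_one_pow_eq_or ℤ (n q / P) with h' | h' <;> rw [h'] at this ⊢ <;> linarith
    have hzero : ∑ q ∈ Finset.univ.filter (fun q => ¬ n q % 2 ^ a = 0),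
        (-1 : ℤ) ^ (n q / 2 ^ a) * w q = 0 := by
      refine Finset.sum_involution (fun q _ => σ q) (fun q hq => ?_) (fun q hq _ hfix => ?_)
        (fun q hq => ?_) (fun q _ => hσ q)
      · rw [(hflip q (Finset.mem_filter.1 hq).2).2, hw]; ring
      · have h := (hflip q (Finset.mem_filter.1 hq).2).2
        rw [hfix] at h
        rcases neg_one_pow_eq_or ℤ (n q / 2 ^ a) with h' | h' <;> rw [h'] at h <;> norm_num at h
      · exact Finset.mem_filter.2 ⟨Finset.mem_univ _, (hflip q (Finset.mem_filter.1 hq).2).1⟩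
    rw [hzero, add_zero]

variable {M : Ideal AlgInt} [M.IsPrime]

theorem memLocalRing_root (hζ : IsPrimitiveRoot ζ (2 ^ (a + 1))) (j : ℕ) :
    MemLocalRing M (ζ ^ j) :=
  memLocalRing_pow (memLocalRing_of_isIntegral' (IsIntegral.of_pow (pow_pos two_pos (a + 1))
    (by rw [hζ.pow_eq_one]; exact isIntegral_one))) j

/-- `2` is divisible by the `2 ^ a`-th power of `ζ - 1`. -/
theorem exists_two_eq_pow_mul (hζ : IsPrimitiveRoot ζ (2 ^ (a + 1))) :
    ∃ w : ℂ, MemLocalRing M w ∧ (2 : ℂ) = (ζ - 1) ^ 2 ^ a * w := by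
  haveI := Fact.mk Nat.prime_two
  have h := Polynomial.eval_one_cyclotomic_prime_pow (R := ℂ) (p := 2) a
  rw [Polynomial.cyclotomic_eq_prod_X_sub_primitiveRoots hζ, Polynomial.eval_prod] at h
  simp only [Polynomial.eval_sub, Polynomial.eval_X, Polynomial.eval_C, Nat.cast_ofNat] at h
  have hpw : ∀ μ ∈ primitiveRoots (2 ^ (a + 1)) ℂ, ∃ s : ℂ, MemLocalRing M s ∧
      1 - μ = (ζ - 1) * s := by
    intro μ hμ
    obtain ⟨i, -, rfl⟩ := hζ.eq_pow_of_pow_eq_one
      ((mem_primitiveRoots (pow_pos two_pos _)).1 hμ).pow_eq_one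
    refine ⟨-∑ l ∈ Finset.range i, ζ ^ l, memLocalRing_neg
      (memLocalRing_sum _ fun l _ => memLocalRing_root hζ l), ?_⟩
    linear_combination geom_sum_mul ζ i
  choose s hs hs' using hpw
  refine ⟨∏ μ ∈ (primitiveRoots (2 ^ (a + 1)) ℂ).attach, s μ.1 μ.2,
    memLocalRing_prod _ fun μ _ => hs μ.1 μ.2, ?_⟩
  rw [← h, ← Finset.prod_attach,
    Finset.prod_congr rfl fun μ _ => hs' μ.1 μ.2, Finset.prod_mul_distrib, Finset.prod_const,
    Finset.card_attach, Complex.card_primitiveRoots, Nat.totient_prime_pow_succ Nat.prime_two]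
  norm_num

theorem memLocalIdeal_root_sub (hM : IsPModular 2 M) (hζ : IsPrimitiveRoot ζ (2 ^ (a + 1))) (j : ℕ) :
    MemLocalIdeal M (ζ ^ j - 1) :=
  BlockHeights.memLocalIdeal_root_sub_one hM (k := a + 1)
    (by rw [← pow_mul, mul_comm, pow_mul, hζ.pow_eq_one, one_pow])

/-- A combination of at most `2 ^ a` powers divisible by as high a power of `ζ - 1` is even. -/
theorem even_of_div_pow (hM : IsPModular 2 M) (hζ : IsPrimitiveRoot ζ (2 ^ (a + 1))) :
    ∀ n ≤ 2 ^ a, ∀ (f : ℕ → ℤ) (s : ℂ), MemLocalRing M s →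
      ∑ j ∈ Finset.range n, (f j : ℂ) * ζ ^ j = (ζ - 1) ^ n * s → ∀ j < n, (2 : ℤ) ∣ f j := by
  obtain ⟨w, hw, hw2⟩ := exists_two_eq_pow_mul (M := M) hζ
  intro n
  induction n with
  | zero => intro _ f s _ _ j hj; omega
  | succ n ih =>
    intro hn f s hs heq j hj
    set π := ζ - 1 with hπ
    have hπ0 : π ≠ 0 := sub_ne_zero.2 (hζ.ne_one (Nat.one_lt_pow a.succ_ne_zero one_lt_two))
    have hπI : MemLocalIdeal M π := by
      simpa [hπ] using memLocalIdeal_root_sub (a := a) hM hζ 1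
    set S : ℤ := ∑ j ∈ Finset.range (n + 1), f j
    have hS2 : (2 : ℤ) ∣ S := by
      rw [show (2 : ℤ) = ((2 : ℕ) : ℤ) from rfl, ← memLocalIdeal_intCast_iff hM]
      have h1 : MemLocalIdeal M (∑ j ∈ Finset.range (n + 1), (f j : ℂ) * ζ ^ j) := by
        rw [heq, pow_succ', mul_assoc]
        exact memLocalIdeal_mul_right hπI (memLocalRing_mul (memLocalRing_pow
          (memLocalIdeal_mem_ring hπI) n) hs)
      refine (memLocalIdeal_iff_of_sub ?_).1 h1
      rw [Int.cast_sum, ← Finset.sum_sub_distrib]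
      refine memLocalIdeal_sum _ fun j _ => ?_
      rw [← mul_sub_one]
      exact memLocalIdeal_mul_left (memLocalRing_intCast _) (memLocalIdeal_root_sub hM hζ j)
    obtain ⟨m, hm⟩ := hS2
    let g : ℕ → ℤ := fun i => ∑ j ∈ Finset.Ico (i + 1) (n + 1), f j
    have hid : ∑ j ∈ Finset.range (n + 1), (f j : ℂ) * ζ ^ j =
        (S : ℂ) + π * ∑ i ∈ Finset.range n, (g i : ℂ) * ζ ^ i := by
      simp only [S, g, Int.cast_sum, Finset.sum_mul, Finset.mul_sum, Finset.range_eq_Ico]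
      rw [Finset.sum_comm' (t' := Finset.Ico 0 (n + 1)) (s' := fun j => Finset.Ico 0 j)
        (h := fun i j => by simp only [Finset.mem_Ico]; omega), ← Finset.sum_add_distrib]
      refine Finset.sum_congr rfl fun j _ => ?_
      rw [← Finset.range_eq_Ico, Finset.sum_congr rfl fun i _ => show
        π * ((f j : ℂ) * ζ ^ i) = (f j : ℂ) * (π * ζ ^ i) by ring, ← Finset.mul_sum,
        ← Finset.mul_sum, mul_comm π, geom_sum_mul]
      ring
    obtain ⟨e, he⟩ := Nat.exists_eq_add_of_le hn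
    have hg : ∀ i < n, (2 : ℤ) ∣ g i := by
      refine ih (by omega) g (s - π ^ e * w * (m : ℂ)) ?_ ?_
      · exact memLocalRing_sub hs (memLocalRing_mul (memLocalRing_mul (memLocalRing_pow
          (memLocalIdeal_mem_ring hπI) e) hw) (memLocalRing_intCast m))
      · apply mul_left_cancel₀ hπ0
        rw [hid, hm] at heq
        rw [he] at hw2
        push_cast at heq
        rw [hw2] at heq
        linear_combination heq
    rcases Nat.eq_zero_or_pos j with rfl | hj0
    · have h0 : f 0 = S - g 0 ∨ n = 0 := by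
        rcases Nat.eq_zero_or_pos n with h | h
        · exact Or.inr h
        · left
          simp only [S, g, zero_add]
          rw [Finset.range_eq_Ico, Finset.sum_eq_sum_Ico_succ_bot (by omega : 0 < n + 1)]
          ring
      rcases h0 with h0 | h0
      · rcases Nat.eq_zero_or_pos n with h | h
        · subst h
          simp [S] at hm
          exact ⟨m, hm⟩
        · rw [h0, hm]
          exact dvd_sub (dvd_mul_right 2 m) (hg 0 h)
      · subst h0
        simp [S] at hm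
        exact ⟨m, hm⟩
    · obtain ⟨i, rfl⟩ : ∃ i, j = i + 1 := ⟨j - 1, by omega⟩
      have hsplit : f (i + 1) = g i - ∑ j ∈ Finset.Ico (i + 2) (n + 1), f j := by
        simp only [g]
        rw [Finset.sum_eq_sum_Ico_succ_bot (by omega : i + 1 < n + 1)]
        ring
      rw [hsplit]
      refine dvd_sub (hg i (by omega)) ?_
      rcases Nat.lt_or_ge (i + 1) n with h | h
      · exact hg (i + 1) h
      · rw [Finset.Ico_eq_empty (by omega)]; simp

/-- **Divisibility of the coordinates.** -/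
theorem dvd_of_div_local (hM : IsPModular 2 M) (hζ : IsPrimitiveRoot ζ (2 ^ (a + 1))) :
    ∀ (h : ℕ) (f : ℕ → ℤ) (s : ℂ), MemLocalRing M s → halfEval a ζ f 1 = (2 : ℂ) ^ h * s →
      ∃ g : ℕ → ℤ, (∀ j < 2 ^ a, f j = 2 ^ h * g j) ∧ halfEval a ζ g 1 = s := by
  obtain ⟨w, hw, hw2⟩ := exists_two_eq_pow_mul (M := M) hζ
  intro h
  induction h with
  | zero => intro f s _ heq; exact ⟨f, fun j _ => by simp, by simpa using heq⟩
  | succ h ih =>
    intro f s hs heq
    have h1 : ∑ j ∈ Finset.range (2 ^ a), (f j : ℂ) * ζ ^ j =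
        (ζ - 1) ^ 2 ^ a * (w * (2 : ℂ) ^ h * s) := by
      rw [show (∑ j ∈ Finset.range (2 ^ a), (f j : ℂ) * ζ ^ j) = halfEval a ζ f 1 by
        simp [halfEval], heq, pow_succ']
      conv_lhs => arg 1; arg 1; rw [hw2]
      ring
    have heven := even_of_div_pow hM hζ _ le_rfl f _ (memLocalRing_mul (memLocalRing_mul hw
      (memLocalRing_pow (by simpa using memLocalRing_natCast (M := M) 2) h)) hs) h1
    let f' : ℕ → ℤ := fun j => f j / 2
    have hf' : ∀ j < 2 ^ a, f j = 2 * f' j := fun j hj =>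
      (Int.mul_ediv_cancel' (heven j hj)).symm
    obtain ⟨g, hg, hgs⟩ := ih f' s hs (by
      apply mul_left_cancel₀ (two_ne_zero (α := ℂ))
      rw [← mul_assoc, ← pow_succ', ← heq]
      simp only [halfEval, Finset.mul_sum]
      refine Finset.sum_congr rfl fun j hj => ?_
      rw [hf' j (Finset.mem_range.1 hj)]
      push_cast
      ring)
    exact ⟨g, fun j hj => by rw [hf' j hj, hg j hj, pow_succ']; ring, hgs⟩

/-- Congruence of a value with the sum of the coordinates. -/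
theorem memLocalIdeal_halfEval_iff (hM : IsPModular 2 M) (hζ : IsPrimitiveRoot ζ (2 ^ (a + 1)))
    (f : ℕ → ℤ) :
    MemLocalIdeal M (halfEval a ζ f 1) ↔ (2 : ℤ) ∣ ∑ j ∈ Finset.range (2 ^ a), f j := by
  rw [show (2 : ℤ) = ((2 : ℕ) : ℤ) from rfl, ← memLocalIdeal_intCast_iff hM]
  refine memLocalIdeal_iff_of_sub ?_
  rw [halfEval, Int.cast_sum, ← Finset.sum_sub_distrib]
  refine memLocalIdeal_sum _ fun j _ => ?_
  rw [one_mul, ← mul_sub_one]
  exact memLocalIdeal_mul_left (memLocalRing_intCast _) (memLocalIdeal_root_sub hM hζ j)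

/-- A nonzero value gives coordinates of square sum at least `4 ^ h` when they are divisible
by `2 ^ h`. -/
theorem four_pow_le_sum_sq (f g : ℕ → ℤ) (h : ℕ) (hfg : ∀ j < 2 ^ a, f j = 2 ^ h * g j)
    (hne : halfEval a ζ f 1 ≠ 0) :
    (4 : ℤ) ^ h ≤ ∑ j ∈ Finset.range (2 ^ a), f j ^ 2 := by
  obtain ⟨j, hj, hj0⟩ : ∃ j ∈ Finset.range (2 ^ a), f j ≠ 0 := by
    by_contra hh
    simp only [not_exists, not_and, not_not] at hh
    exact hne (Finset.sum_eq_zero fun j hj => by simp [hh j hj])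
  refine le_trans ?_ (Finset.single_le_sum (fun j _ => sq_nonneg (f j)) hj)
  rw [hfg j (Finset.mem_range.1 hj), mul_pow, ← pow_mul, mul_comm h 2, pow_mul,
    show ((2 : ℤ) ^ 2) = 4 by norm_num]
  have hg : g j ≠ 0 := fun h0 => hj0 (by rw [hfg j (Finset.mem_range.1 hj), h0, mul_zero])
  refine le_mul_of_one_le_right (by positivity) ?_
  rcases lt_or_gt_of_ne hg with h' | h' <;> nlinarith

end Cfsg.Agent.Lib.Blocks
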