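import Mathlib

/-!
# Local symmetric algebras with a two-dimensional centre

Such an algebra has a single simple module, of dimension `n` say, and has dimension `2 n ^ 2`
(Külshammer's argument).
-/

set_option autoImplicit false
set_option linter.unusedSectionVars false
set_option linter.style.haveILetI false
set_option maxHeartbeats 1600000

namespace Cfsg.Agent.Lib.Blocks.TwoDimCenter

open Matrix

variable {k : Type*} [Field k]

section Lift

variable {R : Type*} [Ring R] [Algebra k R] {n : ℕ}

/-- Matrix algebras lift along square-zero extensions. -/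
theorem exists_matrix_section (π : R →ₐ[k] Matrix (Fin n) (Fin n) k) (hπ : Function.Surjective π)
    (hsq : ∀ a b : R, π a = 0 → π b = 0 → a * b = 0) (i₀ : Fin n) :
    ∃ E : Matrix (Fin n) (Fin n) k →ₗ[k] R,
      (∀ x, π (E x) = x) ∧ (∀ x y, E (x * y) = E x * E y) ∧ E 1 = 1 := by
  obtain ⟨σ, hσ⟩ := π.toLinearMap.exists_rightInverse_of_surjective (LinearMap.range_eq_top.2 hπ)
  have hσ' : ∀ x, π (σ x) = x := fun x => LinearMap.congr_fun hσ x
  set f : Matrix (Fin n) (Fin n) k → Matrix (Fin n) (Fin n) k → R :=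
    fun x y => σ x * σ y - σ (x * y) with hf
  have hπf : ∀ x y, π (f x y) = 0 := fun x y => by simp [hf, hσ']
  have hmul : ∀ u v a, π a = 0 → σ (u * v) * a = σ u * σ v * a := fun u v a ha => by
    have h := hsq (f u v) a (hπf u v) ha
    simp only [hf, sub_mul, sub_eq_zero] at h
    exact h.symm
  let g : Matrix (Fin n) (Fin n) k →ₗ[k] R := ∑ i, (LinearMap.mulLeft k (σ (single i i₀ 1))).comp
    ((LinearMap.mulLeft k (σ (single i₀ i 1))).comp σ -
      σ.comp (LinearMap.mulLeft k (single i₀ i 1)))
  have hg : ∀ x, g x = ∑ i, σ (single i i₀ 1) * f (single i₀ i 1) x := fun x => by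
    simp [g, hf, LinearMap.mulLeft_apply]
  have hπg : ∀ x, π (g x) = 0 := fun x => by simp [hg, hπf]
  have hflin : ∀ (c : Fin n → k) (u : Fin n → Matrix (Fin n) (Fin n) k) y,
      f (∑ i, c i • u i) y = ∑ i, c i • f (u i) y := fun c u y => by
    simp [hf, map_sum, Finset.sum_mul, smul_sub, Finset.sum_sub_distrib]
  have hleft : ∀ x y, σ x * g y = ∑ j, σ (single j i₀ 1) * f (single i₀ j 1 * x) y := by
    intro x y
    rw [hg, Finset.mul_sum]
    have e1 : ∀ j, single i₀ j (1 : k) * x = ∑ i, x j i • single i₀ i (1 : k) := fun j => by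
      ext a b
      simp [Matrix.sum_apply, Matrix.mul_apply, single_apply, ite_and]
    have e2 : ∀ i, x * single i i₀ (1 : k) = ∑ j, x j i • single j i₀ (1 : k) := fun i => by
      ext a b
      simp [Matrix.sum_apply, Matrix.mul_apply, single_apply, ite_and]
    rw [Finset.sum_congr rfl fun i _ => show σ x * (σ (single i i₀ 1) * f (single i₀ i 1) y) =
      ∑ j, x j i • (σ (single j i₀ 1) * f (single i₀ i 1) y) by
        rw [← mul_assoc, ← hmul _ _ _ (hπf _ _), e2, map_sum, Finset.sum_mul]
        exact Finset.sum_congr rfl fun j _ => by rw [map_smul, smul_mul_assoc],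
      Finset.sum_comm]
    refine Finset.sum_congr rfl fun j _ => ?_
    rw [e1, hflin, Finset.mul_sum]
    exact Finset.sum_congr rfl fun i _ => by rw [mul_smul_comm]
  have h1 : ∑ i, single i i₀ (1 : k) * single i₀ i 1 = (1 : Matrix (Fin n) (Fin n) k) := by
    ext a b
    simp [Matrix.sum_apply, single_apply, Matrix.one_apply, ite_and]
  have hkey : ∀ x y, σ x * g y + g x * σ y = f x y + g (x * y) := by
    intro x y
    have hc : ∀ u, σ u * f x y + f u (x * y) = f (u * x) y + f u x * σ y := fun u => by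
      simp only [hf, mul_assoc u x y]
      noncomm_ring
    have hone : ∑ i, σ (single i i₀ 1) * σ (single i₀ i 1) * f x y = f x y := by
      rw [Finset.sum_congr rfl fun i _ => (hmul (single i i₀ 1) (single i₀ i 1) _ (hπf x y)).symm,
        ← Finset.sum_mul, ← map_sum, h1]
      have h := hsq (σ 1 - 1) (f x y) (by simp [hσ']) (hπf x y)
      rwa [sub_mul, one_mul, sub_eq_zero] at h
    rw [hleft, hg x, hg (x * y), ← hone, Finset.sum_mul, ← Finset.sum_add_distrib,
      ← Finset.sum_add_distrib]
    refine Finset.sum_congr rfl fun i _ => ?_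
    rw [mul_assoc, mul_assoc, ← mul_add, ← mul_add, hc]
  have hπE : ∀ x, π ((σ - g) x) = x := fun x => by simp [hσ', hπg]
  have hEmul : ∀ x y, (σ - g) (x * y) = (σ - g) x * (σ - g) y := fun x y => by
    have h0 := hsq (g x) (g y) (hπg x) (hπg y)
    have hk := hkey x y
    simp only [LinearMap.sub_apply, sub_mul, mul_sub, h0, sub_zero]
    simp only [hf] at hk
    rw [sub_sub, add_comm (g x * σ y), hk]
    abel
  refine ⟨σ - g, hπE, hEmul, ?_⟩
  have h := hsq ((σ - g) 1 - 1) ((σ - g) 1 - 1) (by rw [map_sub, hπE, map_one, sub_self])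
    (by rw [map_sub, hπE, map_one, sub_self])
  rw [sub_mul, mul_sub, ← hEmul, one_mul (1 : Matrix (Fin n) (Fin n) k), mul_one, one_mul, sub_self,
    zero_sub, neg_eq_zero, sub_eq_zero] at h
  exact h

variable (π : R →ₐ[k] Matrix (Fin n) (Fin n) k) (E : Matrix (Fin n) (Fin n) k →ₗ[k] R) (i₀ : Fin n)

/-- The corner trace attached to a section. -/
def cornerTrace : R →ₗ[k] R :=
  ∑ i, (LinearMap.mulRight k (E (single i i₀ 1))).comp
    ((LinearMap.mulLeft k (E (single i₀ i 1))).comp (LinearMap.id - E.comp π.toLinearMap))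

theorem cornerTrace_apply (r : R) :
    cornerTrace π E i₀ r = ∑ i, E (single i₀ i 1) * (r - E (π r)) * E (single i i₀ 1) := by
  simp [cornerTrace, LinearMap.mulLeft_apply, LinearMap.mulRight_apply]

variable {π E i₀}

theorem cornerTrace_comm (hE : ∀ x, π (E x) = x) (hEm : ∀ x y, E (x * y) = E x * E y)
    (hsq : ∀ a b : R, π a = 0 → π b = 0 → a * b = 0) (a b : R) :
    cornerTrace π E i₀ (a * b) = cornerTrace π E i₀ (b * a) := by
  set T : R → R := fun r => ∑ i, E (single i₀ i 1) * r * E (single i i₀ 1) with hT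
  have hT' : ∀ (x : Matrix (Fin n) (Fin n) k) (r : R), T (E x * r) = T (r * E x) := by
    intro x r
    have e1 : ∀ i, single i₀ i (1 : k) * x = ∑ j, x i j • single i₀ j (1 : k) := fun i => by
      ext a b
      simp [Matrix.sum_apply, Matrix.mul_apply, single_apply, ite_and]
    have e2 : ∀ i, x * single i i₀ (1 : k) = ∑ j, x j i • single j i₀ (1 : k) := fun i => by
      ext a b
      simp [Matrix.sum_apply, Matrix.mul_apply, single_apply, ite_and]
    simp only [hT]
    rw [Finset.sum_congr rfl fun i _ => show E (single i₀ i 1) * (E x * r) * E (single i i₀ 1) =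
      ∑ j, x i j • (E (single i₀ j 1) * r * E (single i i₀ 1)) by
        rw [← mul_assoc, ← hEm, e1, map_sum, Finset.sum_mul, Finset.sum_mul]
        exact Finset.sum_congr rfl fun j _ => by rw [map_smul, smul_mul_assoc, smul_mul_assoc],
      Finset.sum_congr rfl fun i _ => show E (single i₀ i 1) * (r * E x) * E (single i i₀ 1) =
      ∑ j, x j i • (E (single i₀ i 1) * r * E (single j i₀ 1)) by
        rw [mul_assoc, mul_assoc, ← hEm, e2, map_sum, Finset.mul_sum, Finset.mul_sum]
        exact Finset.sum_congr rfl fun j _ => by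
          rw [map_smul, mul_smul_comm, mul_smul_comm, mul_assoc],
      Finset.sum_comm]
  have hdec : ∀ a b, a * b - E (π (a * b)) =
      E (π a) * (b - E (π b)) + (a - E (π a)) * E (π b) := fun a b => by
    have h := hsq (a - E (π a)) (b - E (π b)) (by simp [hE]) (by simp [hE])
    rw [map_mul, hEm]
    linear_combination (norm := noncomm_ring) h
  have hTadd : ∀ u v, T (u + v) = T u + T v := fun u v => by
    simp [hT, mul_add, add_mul, Finset.sum_add_distrib]
  show cornerTrace π E i₀ _ = cornerTrace π E i₀ _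
  rw [cornerTrace_apply, cornerTrace_apply]
  show T _ = T _
  rw [hdec, hdec, hTadd, hTadd, hT' (π a), hT' (π b), add_comm]

theorem cornerTrace_fix {w : R} (hπw : π w = 0) (hE : ∀ x, π (E x) = x)
    (hEm : ∀ x y, E (x * y) = E x * E y)
    (hl : E (single i₀ i₀ 1) * w = w) (hr : w * E (single i₀ i₀ 1) = w) :
    cornerTrace π E i₀ w = w := by
  rw [cornerTrace_apply, Finset.sum_eq_single i₀]
  · rw [hπw, map_zero, sub_zero, hl, hr]
  · intro i _ hi
    rw [hπw, map_zero, sub_zero, ← hl, ← mul_assoc, ← hEm, single_mul_single_of_ne _ _ _ _ hi,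
      map_zero, zero_mul, zero_mul]
  · simp

theorem cornerTrace_section (hE : ∀ x, π (E x) = x) (x : Matrix (Fin n) (Fin n) k) :
    cornerTrace π E i₀ (E x) = 0 := by
  simp [cornerTrace_apply, hE]

/-- A nonzero kernel meets the corner. -/
theorem exists_corner_ne_zero (hEm : ∀ x y, E (x * y) = E x * E y) (hE1 : E 1 = 1) {r : R}
    (hr : r ≠ 0) : ∃ i j, E (single i₀ i 1) * r * E (single j i₀ 1) ≠ 0 := by
  by_contra h
  simp only [ne_eq, not_exists, not_not] at h
  have h1 : (1 : Matrix (Fin n) (Fin n) k) = ∑ i, single i i₀ 1 * single i₀ i 1 := by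
    ext a b
    simp [Matrix.sum_apply, single_apply, Matrix.one_apply, ite_and]
  refine hr ?_
  rw [show r = E 1 * r * E 1 by rw [hE1, one_mul, mul_one], h1, map_sum, Finset.sum_mul,
    Finset.sum_mul]
  refine Finset.sum_eq_zero fun i _ => ?_
  rw [Finset.mul_sum]
  refine Finset.sum_eq_zero fun j _ => ?_
  rw [hEm, hEm, show E (single i i₀ 1) * E (single i₀ i 1) * r *
      (E (single j i₀ 1) * E (single i₀ j 1)) = E (single i i₀ 1) *
      (E (single i₀ i 1) * r * E (single j i₀ 1)) * E (single i₀ j 1) by simp only [mul_assoc],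
    h i j, mul_zero, zero_mul]

end Lift

/-- The functionals that vanish on commutators. -/
def traceForms (k A : Type*) [Field k] [Ring A] [Algebra k A] : Submodule k (A →ₗ[k] k) where
  carrier := {τ | ∀ a b, τ (a * b) = τ (b * a)}
  add_mem' h h' a b := by simp [h a b, h' a b]
  zero_mem' _ _ := rfl
  smul_mem' c τ h a b := by simp [h a b]

theorem exists_eq_smul_add_smul {V : Type*} [AddCommGroup V] [Module k V] (T : Submodule k V)
    (hT : Module.finrank k T = 2) {x y : V} (hx : x ∈ T) (hy : y ∈ T)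
    (hind : ∀ a b : k, a • x + b • y = 0 → a = 0 ∧ b = 0) {v : V} (hv : v ∈ T) :
    ∃ a b : k, v = a • x + b • y := by
  haveI : FiniteDimensional k T := Module.finite_of_finrank_eq_succ hT
  have hli : LinearIndependent k ![x, y] := LinearIndependent.pair_iff.2 hind
  have hle : Submodule.span k {x, y} ≤ T := Submodule.span_le.2 (by
    intro z hz
    rcases hz with rfl | rfl
    · exact hx
    · exact hy)
  have heq : Submodule.span k {x, y} = T := Submodule.eq_of_le_of_finrank_le hle (by
    rw [hT, ← Matrix.range_cons_cons_empty x y ![], finrank_span_eq_card hli, Fintype.card_fin])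
  obtain ⟨a, b, h⟩ := Submodule.mem_span_pair.1 (heq ▸ hv)
  exact ⟨a, b, h.symm⟩

variable [IsAlgClosed k] {A : Type*} [Ring A] [Algebra k A] [FiniteDimensional k A]

/-- **Külshammer.** A local symmetric algebra whose centre has dimension two has dimension twice
a square. -/
theorem finrank_eq_two_mul_sq (s : A →ₗ[k] k) (hsym : ∀ a b, s (a * b) = s (b * a))
    (hnd : ∀ a, (∀ b, s (a * b) = 0) → a = 0)
    (hcen : Module.finrank k (Subalgebra.center k A) = 2)
    (hloc : ∀ e : A, e * e = e → (∀ a, e * a = a * e) → e = 0 ∨ e = 1) :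
    ∃ n : ℕ, Module.finrank k A = 2 * n ^ 2 := by
  classical
  haveI : Nontrivial A := by
    by_contra hn
    rw [not_nontrivial_iff_subsingleton] at hn
    have : Module.finrank k (Subalgebra.center k A) = 0 := Module.finrank_zero_of_subsingleton
    omega
  haveI := IsArtinianRing.of_finite k A
  -- the functionals vanishing on commutators
  set T := traceForms k A with hTdef
  let Φ : Subalgebra.center k A →ₗ[k] T :=
    { toFun := fun z => ⟨s.comp (LinearMap.mulLeft k (z : A)), fun a b => by
        show s ((z : A) * (a * b)) = s ((z : A) * (b * a))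
        rw [← mul_assoc, hsym, ← mul_assoc, Subalgebra.mem_center_iff.1 z.2 b, mul_assoc]⟩
      map_add' := fun z z' => Subtype.ext (LinearMap.ext fun a => by simp [add_mul])
      map_smul' := fun c z => Subtype.ext (LinearMap.ext fun a => by simp) }
  have hΦ : ∀ (z : Subalgebra.center k A) (a : A), (Φ z : A →ₗ[k] k) a = s ((z : A) * a) :=
    fun _ _ => rfl
  have hinj : ∀ z z' : A, (∀ a, s (z * a) = s (z' * a)) → z = z' := fun z z' h =>
    sub_eq_zero.1 (hnd _ fun b => by rw [sub_mul, map_sub, h b, sub_self])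
  have hΦb : Function.Bijective Φ := by
    refine ⟨fun z z' h => Subtype.ext (hinj _ _ fun a => ?_), fun τ => ?_⟩
    · rw [← hΦ, ← hΦ, h]
    · let ι : A →ₗ[k] (A →ₗ[k] k) :=
        { toFun := fun a => s.comp (LinearMap.mulLeft k a)
          map_add' := fun a b => LinearMap.ext fun c => by simp [add_mul]
          map_smul' := fun c a => LinearMap.ext fun b => by simp }
      have hι : Function.Injective ι := fun a b h => hinj a b fun c => LinearMap.congr_fun h c
      obtain ⟨z, hz⟩ := (LinearMap.injective_iff_surjective_of_finrank_eq_finrank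
        (Subspace.dual_finrank_eq (K := k) (V := A)).symm).1 hι (τ : A →ₗ[k] k)
      have hzv : ∀ a, s (z * a) = (τ : A →ₗ[k] k) a := fun a => LinearMap.congr_fun hz a
      refine ⟨⟨z, Subalgebra.mem_center_iff.2 fun b => hinj _ _ fun a => ?_⟩,
        Subtype.ext (LinearMap.ext hzv)⟩
      rw [mul_assoc b, hsym b, mul_assoc, hzv, mul_assoc, hzv, τ.2]
  have hT : Module.finrank k T = 2 := by
    rw [← LinearEquiv.finrank_eq (LinearEquiv.ofBijective Φ hΦb), hcen]
  have hspan : ∀ τ₁ τ₂ : T, (∀ a b : k, a • (τ₁ : A →ₗ[k] k) + b • (τ₂ : A →ₗ[k] k) = 0 →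
      a = 0 ∧ b = 0) → ∀ τ : T, ∃ a b : k, (τ : A →ₗ[k] k) =
        a • (τ₁ : A →ₗ[k] k) + b • (τ₂ : A →ₗ[k] k) :=
    fun τ₁ τ₂ hind τ => exists_eq_smul_add_smul T hT τ₁.2 τ₂.2 hind τ.2
  have hsT : s ∈ T := hsym
  set J := Ring.jacobson A with hJ
  have hkill : ∀ I : Ideal A, (∀ x ∈ I, ∀ a, x * a ∈ I) → (∀ x ∈ I, s x = 0) → ∀ x ∈ I, x = 0 :=
    fun I hI h x hx => hnd x fun b => h _ (hI x hx b)
  -- the semisimple quotient is a single matrix algebra
  obtain ⟨m, d, hd, ⟨e⟩⟩ :=
    IsSemisimpleRing.exists_algEquiv_pi_matrix_of_isAlgClosed k (A ⧸ J)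
  let π₀ : A →ₐ[k] Π i, Matrix (Fin (d i)) (Fin (d i)) k :=
    e.toAlgHom.comp (Ideal.Quotient.mkₐ k J)
  have hπ₀ : ∀ x, π₀ x = 0 ↔ x ∈ J := fun x => by
    simp [π₀, Ideal.Quotient.eq_zero_iff_mem]
  have hπ₀s : Function.Surjective π₀ :=
    e.surjective.comp Ideal.Quotient.mk_surjective
  have hm1 : m = 1 := by
    rcases (show m = 0 ∨ m = 1 ∨ 2 ≤ m by omega) with h | h | h
    · subst h
      have h1 : (1 : A) ∈ J := (hπ₀ 1).1 (funext fun i => i.elim0)
      have hne : J ≠ ⊤ := fun ht => by
        obtain ⟨N, hN⟩ := IsSemiprimaryRing.isNilpotent (R := A)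
        rw [← hJ, ht, Ideal.top_pow] at hN
        exact top_ne_bot hN
      exact absurd ((Ideal.eq_top_iff_one J).2 h1) hne
    · exact h
    · exfalso
      haveI := hd
      let i1 : Fin m := ⟨0, by omega⟩
      let i2 : Fin m := ⟨1, by omega⟩
      have h12 : i1 ≠ i2 := by simp [i1, i2]
      let tr : Fin m → T := fun i =>
        ⟨(Matrix.traceLinearMap (Fin (d i)) k k).comp ((LinearMap.proj i).comp π₀.toLinearMap),
          fun a b => by
            show Matrix.trace (π₀ (a * b) i) = Matrix.trace (π₀ (b * a) i)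
            rw [map_mul, map_mul, Pi.mul_apply, Pi.mul_apply, Matrix.trace_mul_comm]⟩
      have hind : ∀ a b : k, a • (tr i1 : A →ₗ[k] k) + b • (tr i2 : A →ₗ[k] k) = 0 →
          a = 0 ∧ b = 0 := by
        intro a b hab
        have key : ∀ i, ∀ c : k, ∃ x, (tr i : A →ₗ[k] k) x = c ∧
            ∀ j, j ≠ i → (tr j : A →ₗ[k] k) x = 0 := by
          intro i c
          obtain ⟨x, hx⟩ := hπ₀s (Pi.single i (single 0 0 c))
          refine ⟨x, by simp [tr, hx], fun j hj => by simp [tr, hx, Pi.single_eq_of_ne hj]⟩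
        obtain ⟨x, hx, hx'⟩ := key i1 1
        obtain ⟨y, hy, hy'⟩ := key i2 1
        have e1 := LinearMap.congr_fun hab x
        have e2 := LinearMap.congr_fun hab y
        simp [hx, hx' i2 h12.symm] at e1
        simp [hy, hy' i1 h12] at e2
        exact ⟨e1, e2⟩
      obtain ⟨a, b, hab⟩ := hspan _ _ hind ⟨s, hsT⟩
      have hJ0 : ∀ x ∈ J, x = 0 := hkill J (fun x hx a => Ideal.IsTwoSided.mul_mem_of_left a hx)
        fun x hx => by
          have hx0 := (hπ₀ x).2 hx
          have := LinearMap.congr_fun hab x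
          simpa [tr, hx0] using this
      have hbij : Function.Injective π₀ := fun x y h =>
        sub_eq_zero.1 (hJ0 _ ((hπ₀ _).1 (by rw [map_sub, h, sub_self])))
      obtain ⟨f, hf⟩ := hπ₀s (Pi.single i1 1)
      rcases hloc f (hbij (by rw [map_mul, hf, ← Pi.single_mul, one_mul]))
        (fun a => hbij (by
          rw [map_mul, map_mul, hf]
          funext j
          by_cases hj : j = i1
          · subst hj; simp
          · simp [Pi.single_eq_of_ne hj])) with hf0 | hf1
      · rw [hf0, map_zero] at hf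
        simpa using (congrFun hf i1).symm
      · rw [hf1, map_one] at hf
        simpa [Pi.single_eq_of_ne h12.symm] using congrFun hf i2
  subst hm1
  set n := d 0 with hn
  haveI : NeZero (d 0) := hd 0
  let π : A →ₐ[k] Matrix (Fin n) (Fin n) k := (Pi.evalAlgHom k _ 0).comp π₀
  have hπs : Function.Surjective π := fun y => by
    obtain ⟨x, hx⟩ := hπ₀s (Pi.single 0 y)
    exact ⟨x, by simp [π, hx, hn]⟩
  have hπJ : ∀ x, π x = 0 ↔ x ∈ J := fun x => by
    rw [← hπ₀]
    refine ⟨fun h => funext fun i => ?_, fun h => by simp [π, h, hn]⟩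
    rw [Subsingleton.elim i 0]
    exact h
  let i₀ : Fin n := 0
  let trM : T := ⟨(Matrix.traceLinearMap (Fin n) k k).comp π.toLinearMap,
    fun a b => by
      show Matrix.trace (π (a * b)) = Matrix.trace (π (b * a))
      rw [map_mul, map_mul, Matrix.trace_mul_comm]⟩
  -- the radical is not zero
  have hJne : J ≠ ⊥ := by
    intro h0
    have hbij : Function.Injective π := fun x y h =>
      sub_eq_zero.1 (by simpa [h0] using (hπJ _).1 (by rw [map_sub, h, sub_self]))
    have hle : ∀ z : Subalgebra.center k A, ∃ c : k, π (z : A) = Matrix.scalar (Fin n) c := by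
      intro z
      refine (Matrix.mem_range_scalar_iff_commute_single'.2 fun i j => ?_).imp fun c h => h.symm
      obtain ⟨x, hx⟩ := hπs (single i j 1)
      show _ * _ = _ * _
      rw [← hx, ← map_mul, ← map_mul, Subalgebra.mem_center_iff.1 z.2]
    choose c hc using hle
    let C : Subalgebra.center k A →ₗ[k] k :=
      (LinearMap.proj i₀).comp ((LinearMap.proj i₀).comp (π.toLinearMap.comp
        (Subalgebra.center k A).val.toLinearMap))
    have hC : Function.Injective C := fun z z' h => Subtype.ext (hbij (by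
      have hv : ∀ w : Subalgebra.center k A, C w = c w := fun w => by
        show π (w : A) i₀ i₀ = c w
        simp [hc]
      rw [hc, hc, ← hv, ← hv, h]))
    have := LinearMap.finrank_le_finrank_of_injective hC
    rw [hcen, Module.finrank_self] at this
    omega
  haveI hJJ : (J * J).IsTwoSided := ⟨fun b ha =>
    Submodule.mul_induction_on ha
      (fun u hu v hv => by
        rw [mul_assoc]; exact Ideal.mul_mem_mul hu (Ideal.IsTwoSided.mul_mem_of_left b hv))
      (fun u v hu hv => by rw [add_mul]; exact Ideal.add_mem _ hu hv)⟩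
  -- the square of the radical vanishes
  have hJ2 : J * J = ⊥ := by
    let q := Ideal.Quotient.mkₐ k (J * J)
    have hle : J * J ≤ J := Ideal.mul_le_left
    let πR : (A ⧸ J * J) →ₐ[k] Matrix (Fin n) (Fin n) k :=
      Ideal.Quotient.liftₐ (J * J) π fun x hx => (hπJ x).2 (hle hx)
    have hπR : ∀ x, πR (q x) = π x := fun x => rfl
    have hπRs : Function.Surjective πR := fun y => by
      obtain ⟨x, hx⟩ := hπs y
      exact ⟨q x, by rw [hπR, hx]⟩
    have hsq : ∀ a b, πR a = 0 → πR b = 0 → a * b = 0 := fun a b ha hb => by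
      obtain ⟨x, rfl⟩ := Ideal.Quotient.mk_surjective a
      obtain ⟨y, rfl⟩ := Ideal.Quotient.mk_surjective b
      rw [← map_mul, Ideal.Quotient.eq_zero_iff_mem]
      exact Ideal.mul_mem_mul ((hπJ x).1 ha) ((hπJ y).1 hb)
    obtain ⟨E, hE, hEm, hE1⟩ := exists_matrix_section πR hπRs hsq i₀
    obtain ⟨x₀, hx₀, hx₀'⟩ : ∃ x ∈ J, x ∉ J * J := by
      by_contra h
      simp only [not_exists, not_and, not_not] at h
      obtain ⟨N, hN⟩ := IsSemiprimaryRing.isNilpotent (R := A)
      rw [← hJ] at hN
      have heq : J * J = J := le_antisymm hle h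
      refine hJne (le_bot_iff.1 ?_)
      calc J ≤ J ^ (N + 1) := by
            clear hN
            induction N with
            | zero => rw [zero_add, Submodule.pow_one]
            | succ N ih =>
              rw [Submodule.pow_succ]
              conv_lhs => rw [← heq]
              exact Ideal.mul_mono ih le_rfl
        _ = ⊥ := by
            rw [Submodule.pow_succ, hN]; simp
    have hq0 : q x₀ ≠ 0 := fun h => hx₀' (Ideal.Quotient.eq_zero_iff_mem.1 h)
    obtain ⟨i, j, hw⟩ := exists_corner_ne_zero (i₀ := i₀) hEm hE1 hq0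
    set w := E (single i₀ i 1) * q x₀ * E (single j i₀ 1) with hwdef
    have hπw : πR w = 0 := by
      rw [hwdef, map_mul, map_mul, hπR, (hπJ _).2 hx₀]; simp
    have hwl : E (single i₀ i₀ 1) * w = w := by
      rw [hwdef, ← mul_assoc, ← mul_assoc, ← hEm, single_mul_single_same, mul_one]
    have hwr : w * E (single i₀ i₀ 1) = w := by
      rw [hwdef, mul_assoc, ← hEm, single_mul_single_same, mul_one]
    obtain ⟨ψ, hψ⟩ : ∃ ψ : (A ⧸ J * J) →ₗ[k] k, ψ w ≠ 0 := by
      by_contra h
      simp only [not_exists, not_not] at h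
      exact hw ((Module.forall_dual_apply_eq_zero_iff k w).1 h)
    obtain ⟨x, hx⟩ := Ideal.Quotient.mk_surjective w
    have hxJ : π x = 0 := by rw [← hπR]; show πR (Ideal.Quotient.mk _ x) = 0; rw [hx, hπw]
    let τ : T := ⟨ψ.comp ((cornerTrace πR E i₀).comp q.toLinearMap), fun a b => by
      show ψ (cornerTrace πR E i₀ (q (a * b))) = ψ (cornerTrace πR E i₀ (q (b * a)))
      rw [show q (a * b) = q a * q b from map_mul q a b, show q (b * a) = q b * q a from map_mul q b a,
        cornerTrace_comm hE hEm hsq]⟩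
    have hτx : (τ : A →ₗ[k] k) x = ψ w := by
      show ψ (cornerTrace πR E i₀ (Ideal.Quotient.mk _ x)) = ψ w
      rw [hx, cornerTrace_fix hπw hE hEm hwl hwr]
    have hind : ∀ a b : k, a • (trM : A →ₗ[k] k) + b • (τ : A →ₗ[k] k) = 0 → a = 0 ∧ b = 0 := by
      intro a b hab
      have h1 := LinearMap.congr_fun hab x
      simp [trM, hxJ, hτx, hψ] at h1
      obtain ⟨y, hy⟩ := hπs (single i₀ i₀ 1)
      have h2 := LinearMap.congr_fun hab y
      simp [trM, hy, h1] at h2
      exact ⟨h2, h1⟩
    obtain ⟨a, b, hab⟩ := hspan _ _ hind ⟨s, hsT⟩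
    rw [eq_bot_iff]
    intro y hy
    refine hkill (J * J) (fun u hu c => Ideal.IsTwoSided.mul_mem_of_left c hu) (fun u hu => ?_) y hy
    have h1 : π u = 0 := (hπJ u).2 (hle hu)
    have h2 : q u = 0 := Ideal.Quotient.eq_zero_iff_mem.2 hu
    have := LinearMap.congr_fun hab u
    simpa [trM, τ, h1, h2] using this
  have hsq : ∀ a b, π a = 0 → π b = 0 → a * b = 0 := fun a b ha hb => by
    have := Ideal.mul_mem_mul ((hπJ a).1 ha) ((hπJ b).1 hb)
    rwa [hJ2, Ideal.mem_bot] at this
  obtain ⟨E, hE, hEm, hE1⟩ := exists_matrix_section π hπs hsq i₀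
  obtain ⟨x₀, hx₀, hx₀'⟩ := Submodule.exists_mem_ne_zero_of_ne_bot hJne
  obtain ⟨i, j, hw⟩ := exists_corner_ne_zero (i₀ := i₀) hEm hE1 hx₀'
  set w := E (single i₀ i 1) * x₀ * E (single j i₀ 1) with hwdef
  have hπw : π w = 0 := by rw [hwdef, map_mul, map_mul, (hπJ _).2 hx₀]; simp
  have hwl : E (single i₀ i₀ 1) * w = w := by
    rw [hwdef, ← mul_assoc, ← mul_assoc, ← hEm, single_mul_single_same, mul_one]
  have hwr : w * E (single i₀ i₀ 1) = w := by
    rw [hwdef, mul_assoc, ← hEm, single_mul_single_same, mul_one]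
  -- the corner of the radical is a line
  have hline : ∀ v : A, π v = 0 → E (single i₀ i₀ 1) * v = v → v * E (single i₀ i₀ 1) = v →
      ∃ c : k, v = c • w := by
    intro v hv hvl hvr
    by_contra hne
    simp only [not_exists] at hne
    have hvs : v ∉ Submodule.span k {w} := fun h => by
      obtain ⟨c, hc⟩ := Submodule.mem_span_singleton.1 h
      exact hne c hc.symm
    obtain ⟨ψ₂, hψ₂, hψ₂w⟩ := Submodule.exists_dual_map_eq_bot_of_notMem hvs inferInstance
    obtain ⟨ψ₁, hψ₁⟩ : ∃ ψ : A →ₗ[k] k, ψ w ≠ 0 := by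
      by_contra h
      simp only [not_exists, not_not] at h
      exact hw ((Module.forall_dual_apply_eq_zero_iff k w).1 h)
    have hψ₂w' : ψ₂ w = 0 :=
      (Submodule.mem_bot k).1 (hψ₂w ▸ Submodule.mem_map_of_mem (Submodule.mem_span_singleton_self w))
    let τ : (A →ₗ[k] k) → T := fun ψ => ⟨ψ.comp (cornerTrace π E i₀), fun a b => by
      show ψ (cornerTrace π E i₀ (a * b)) = ψ (cornerTrace π E i₀ (b * a))
      rw [cornerTrace_comm hE hEm hsq]⟩
    have hτ : ∀ (ψ : A →ₗ[k] k) (u : A), π u = 0 → E (single i₀ i₀ 1) * u = u →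
        u * E (single i₀ i₀ 1) = u → (τ ψ : A →ₗ[k] k) u = ψ u := fun ψ u h1 h2 h3 => by
      show ψ (cornerTrace π E i₀ u) = ψ u
      rw [cornerTrace_fix h1 hE hEm h2 h3]
    have hτE : ∀ ψ : A →ₗ[k] k, (τ ψ : A →ₗ[k] k) (E (single i₀ i₀ 1)) = 0 := fun ψ => by
      show ψ (cornerTrace π E i₀ _) = 0
      rw [cornerTrace_section hE, map_zero]
    have hind : ∀ a b : k, a • (trM : A →ₗ[k] k) + b • (τ ψ₁ : A →ₗ[k] k) = 0 →
        a = 0 ∧ b = 0 := by
      intro a b hab
      have h1 := LinearMap.congr_fun hab w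
      simp [trM, hπw, hτ ψ₁ w hπw hwl hwr, hψ₁] at h1
      have h2 := LinearMap.congr_fun hab (E (single i₀ i₀ 1))
      simp [trM, hE, h1] at h2
      exact ⟨h2, h1⟩
    obtain ⟨a, b, hab⟩ := hspan _ _ hind (τ ψ₂)
    have h1 := LinearMap.congr_fun hab (E (single i₀ i₀ 1))
    simp [trM, hE, hτE] at h1
    have h2 := LinearMap.congr_fun hab w
    simp [trM, hπw, hτ ψ₁ w hπw hwl hwr, hτ ψ₂ w hπw hwl hwr, hψ₂w', hψ₁] at h2
    have h3 := LinearMap.congr_fun hab v
    simp [trM, hv, hτ ψ₂ v hv hvl hvr, ← h1, h2] at h3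
    exact hψ₂ h3
  -- the algebra is two copies of the matrices
  refine ⟨n, ?_⟩
  let Θ : Matrix (Fin n) (Fin n) k →ₗ[k] A := ∑ a, ∑ b,
    ((Matrix.entryLinearMap k k a b).smulRight (E (single a i₀ 1) * w * E (single i₀ b 1)))
  have hΘ : ∀ c, Θ c = ∑ a, ∑ b, c a b • (E (single a i₀ 1) * w * E (single i₀ b 1)) := fun c => by
    simp [Θ, LinearMap.sum_apply]
  have hπΘ : ∀ c, π (Θ c) = 0 := fun c => by simp [hΘ, hπw]
  let Ω : (Matrix (Fin n) (Fin n) k × Matrix (Fin n) (Fin n) k) →ₗ[k] A := E.coprod Θ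
  have hΩ : Function.Bijective Ω := by
    refine ⟨(injective_iff_map_eq_zero Ω).2 ?_, fun r => ?_⟩
    · rintro ⟨x, c⟩ h
      replace h : E x + Θ c = 0 := h
      have hx : x = 0 := by simpa [hE, hπΘ] using congrArg π h
      subst hx
      rw [map_zero, zero_add, hΘ] at h
      refine Prod.ext rfl (Matrix.ext fun a b => ?_)
      have h' := congrArg (fun t => E (single i₀ a 1) * t * E (single b i₀ 1)) h
      simp only [Finset.mul_sum, Finset.sum_mul, mul_smul_comm, smul_mul_assoc, mul_zero,
        zero_mul] at h'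
      rw [Finset.sum_eq_single a, Finset.sum_eq_single b] at h'
      · rw [show E (single i₀ a 1) * (E (single a i₀ 1) * w * E (single i₀ b 1)) *
            E (single b i₀ 1) = (E (single i₀ a 1) * E (single a i₀ 1)) * w *
            (E (single i₀ b 1) * E (single b i₀ 1)) by simp only [mul_assoc],
          ← hEm, ← hEm, single_mul_single_same, single_mul_single_same, one_mul, hwl, hwr,
          smul_eq_zero] at h'
        exact h'.resolve_right hw
      · intro b' _ hb'
        rw [mul_assoc (E (single i₀ a 1)), mul_assoc (E (single a i₀ 1) * w), ← hEm,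
          single_mul_single_of_ne _ _ _ _ hb', map_zero]
        simp
      · simp
      · intro a' _ ha'
        refine Finset.sum_eq_zero fun b' _ => ?_
        rw [← mul_assoc, ← mul_assoc, ← hEm, single_mul_single_of_ne _ _ _ _ (Ne.symm ha'),
          map_zero]
        simp
      · simp
    · set u := r - E (π r) with hu
      have hπu : π u = 0 := by simp [hu, hE]
      choose c hc using fun a b => hline (E (single i₀ a 1) * u * E (single b i₀ 1))
        (by simp [hπu])
        (by rw [← mul_assoc, ← mul_assoc, ← hEm, single_mul_single_same, mul_one])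
        (by rw [mul_assoc, ← hEm, single_mul_single_same, mul_one])
      refine ⟨(π r, Matrix.of c), ?_⟩
      show E (π r) + Θ (Matrix.of c) = r
      have h1 : (1 : Matrix (Fin n) (Fin n) k) = ∑ i, single i i₀ 1 * single i₀ i 1 := by
        ext a b
        simp [Matrix.sum_apply, single_apply, Matrix.one_apply, ite_and]
      have : Θ (Matrix.of c) = u := by
        conv_rhs => rw [show u = E 1 * u * E 1 by rw [hE1, one_mul, mul_one], h1, map_sum,
          Finset.sum_mul, Finset.sum_mul]
        rw [hΘ]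
        refine Finset.sum_congr rfl fun a _ => ?_
        rw [Finset.mul_sum]
        refine Finset.sum_congr rfl fun b _ => ?_
        rw [Matrix.of_apply, hEm, hEm, ← smul_mul_assoc, ← mul_smul_comm, ← hc]
        simp only [mul_assoc]
      rw [this, hu, add_sub_cancel]
  rw [← LinearEquiv.finrank_eq (LinearEquiv.ofBijective Ω hΩ), Module.finrank_prod,
    Module.finrank_matrix, Fintype.card_fin, Module.finrank_self]
  ring

end Cfsg.Agent.Lib.Blocks.TwoDimCenter
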