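import Cfsg.Agent.Lib.Blocks.MajorForm
import Cfsg.Agent.Lib.Blocks.CyclicLattice
import Cfsg.Agent.Lib.BrauerPairs.DefectPairs

/-!
# Blocks with abelian defect groups of small rank

A block whose abelian defect group is generated by two elements has at most as many characters as
that group has elements.
-/

set_option autoImplicit false
set_option linter.unusedSectionVars false
set_option linter.style.haveILetI false
set_option maxHeartbeats 1600000

namespace Cfsg.Agent.Lib.Blocks

open Cfsg Cfsg.Agent.Lib.Characters Cfsg.Agent.Lib.BlockHeights Cfsg.Agent.Lib.BrauerPairs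

universe u

variable {G : Type u} [Group G] [Fintype G] {M : Ideal AlgInt} [hMp : M.IsPrime] {p : ℕ}

/-- The major subsection at an element of an abelian defect group, with the same defect group. -/
theorem exists_major_subsection_same (hM : IsPModular p M) {B : Set (IrrCharacter G)}
    (hB : IsPBlock M B) {D : Subgroup G} (hD : IsDefectGroup p M B D) {x : G} (hxD : x ∈ D)
    (hxc : ∀ g ∈ D, g * x = x * g) :
    ∃ b : Set (IrrCharacter (Subgroup.centralizer (Subgroup.zpowers x : Set G))),
      IsInducedBlock M (Subgroup.centralizer (Subgroup.zpowers x : Set G)) b B ∧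
      IsDefectGroup p M b (D.subgroupOf (Subgroup.centralizer (Subgroup.zpowers x : Set G))) ∧
      blockDefect p b = blockDefect p B := by
  classical
  haveI := Fact.mk hM.1
  haveI := Fintype.ofFinite (Subgroup.centralizer (Subgroup.zpowers x : Set G))
  obtain ⟨e, he⟩ := exists_maximal_defect hM hB hD
  obtain ⟨b, hb, hle⟩ := exists_subpairLE hM he.1.1 (Subgroup.zpowers_le.2 hxD)
  have hind := isInducedBlock_of_isBrauerPairOf_zpowers hM (isBrauerPairOf_of_subpairLE hM he hle)
  obtain ⟨D', hD', hge⟩ := (defectGroups_centralizer hM he hle).1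
  obtain ⟨E, hE, hDE⟩ := exists_le_defectGroup hM hind hD'
  have hDC : D ≤ Subgroup.centralizer (Subgroup.zpowers x : Set G) :=
    fun g hg => mem_centralizer_zpowers_iff.2 (hxc g hg).symm
  rw [inf_eq_left.2 hDC] at hge
  have h2 : Nat.card D' ≤ Nat.card E := by
    have := Subgroup.card_le_of_le hDE
    rwa [card_map_subtype] at this
  rw [card_isDefectGroup hM hB hE, ← card_isDefectGroup hM hB hD,
    ← Cfsg.Agent.Lib.BrauerPairs.card_subgroupOf hDC] at h2
  have heq := Subgroup.eq_of_le_of_card_ge hge h2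
  refine ⟨b, hind, heq ▸ hD', Nat.pow_right_injective hM.1.two_le ?_⟩
  show p ^ blockDefect p b = p ^ blockDefect p B
  rw [← card_isDefectGroup hM hind.1 hD', ← card_isDefectGroup hM hB hD, ← heq,
    Cfsg.Agent.Lib.BrauerPairs.card_subgroupOf hDC]

/-- The image of a subgroup generated by elements, one of them in the kernel. -/
theorem map_le_closure_of_generators {C : Subgroup G} {K : Subgroup C} [K.Normal] {D : Subgroup G}
    {s : Set G} (hs : D = Subgroup.closure s) (T : Subgroup (C ⧸ K))
    (hgen : ∀ w ∈ s, ∃ hw : w ∈ C, QuotientGroup.mk' K ⟨w, hw⟩ ∈ T) :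
    (D.subgroupOf C).map (QuotientGroup.mk' K) ≤ T := by
  rintro _ ⟨y, hy, rfl⟩
  have h : D ≤ (T.comap (QuotientGroup.mk' K)).map C.subtype := by
    rw [hs, Subgroup.closure_le]
    intro w hw
    obtain ⟨hwC, hwT⟩ := hgen w hw
    exact ⟨⟨w, hwC⟩, hwT, rfl⟩
  obtain ⟨y', hy', hyy⟩ := h (Subgroup.mem_subgroupOf.1 hy)
  exact Subtype.ext hyy ▸ hy'

/-- The data of the quotient of a major subsection by its central element. -/
theorem exists_major_quotient (hM : IsPModular p M) {B : Set (IrrCharacter G)}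
    (hB : IsPBlock M B) {D : Subgroup G} (hD : IsDefectGroup p M B D)
    (hab : ∀ a ∈ D, ∀ b ∈ D, a * b = b * a) {x : G} (hxD : x ∈ D)
    [Fintype (Subgroup.centralizer (Subgroup.zpowers x : Set G))] :
    ∃ (e : Set (IrrCharacter (Subgroup.centralizer (Subgroup.zpowers x : Set G))))
      (K : Subgroup (Subgroup.centralizer (Subgroup.zpowers x : Set G))) (_ : K.Normal)
      (eb : Set (IrrCharacter (Subgroup.centralizer (Subgroup.zpowers x : Set G) ⧸ K))),
      IsInducedBlock M (Subgroup.centralizer (Subgroup.zpowers x : Set G)) e B ∧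
      blockDefect p e = blockDefect p B ∧
      K ≤ Subgroup.center _ ∧ IsPGroup p K ∧ Nat.card K = orderOf x ∧
      (∀ h : x ∈ Subgroup.centralizer (Subgroup.zpowers x : Set G), ⟨x, h⟩ ∈ K) ∧
      IsPBlock M eb ∧ (∀ η ∈ eb, inflIrr K η ∈ e) ∧
      IsDefectGroup p M eb ((D.subgroupOf _).map (QuotientGroup.mk' K)) ∧
      orderOf x * Nat.card ((D.subgroupOf _).map (QuotientGroup.mk' K) : Subgroup _) =
        p ^ blockDefect p B := by
  classical
  haveI := Fact.mk hM.1
  obtain ⟨e, hind, hD', hde⟩ := exists_major_subsection_same hM hB hD hxD fun g hg => hab g hg x hxD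
  let C := Subgroup.centralizer (Subgroup.zpowers x : Set G)
  have hxC : x ∈ C := mem_centralizer_zpowers_iff.2 (Commute.refl x)
  set K : Subgroup C := Subgroup.zpowers ⟨x, hxC⟩ with hKdef
  have hKZ : K ≤ Subgroup.center C := Subgroup.zpowers_le.2
    (Subgroup.mem_center_iff.2 fun g => Subtype.ext (mem_centralizer_zpowers_iff.1 g.2).eq.symm)
  haveI hKn : K.Normal := ⟨fun n hn g => by
    rw [Subgroup.mem_center_iff.1 (hKZ hn) g, mul_inv_cancel_right]; exact hn⟩
  have hxo : ∃ k : ℕ, orderOf x = p ^ k := by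
    obtain ⟨k, hk⟩ := IsPGroup.iff_orderOf.1 (IsDefectGroup.isPGroup hD) ⟨x, hxD⟩
    exact ⟨k, by rwa [Subgroup.orderOf_mk] at hk⟩
  have hKcard : Nat.card K = orderOf x := by rw [hKdef, Nat.card_zpowers, Subgroup.orderOf_mk]
  have hKp : IsPGroup p K := by
    obtain ⟨k, hk⟩ := hxo
    exact IsPGroup.of_card (n := k) (hKcard.trans hk)
  haveI := Fintype.ofFinite (C ⧸ K)
  obtain ⟨eb, heb, hinfl, hdef⟩ := exists_block_image_defect hM hKp hind.1
  refine ⟨e, K, hKn, eb, hind, hde, hKZ, hKp, hKcard, fun _ => Subgroup.mem_zpowers _, heb, hinfl,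
    (hdef _).2 ⟨_, hD', rfl⟩, ?_⟩
  have hKD : K ≤ D.subgroupOf C := le_of_isDefectGroup hM hKp hind.1 hD'
  have h : Nat.card (K.subgroupOf (D.subgroupOf C)) * K.relIndex (D.subgroupOf C) =
      Nat.card (D.subgroupOf C) := (K.subgroupOf (D.subgroupOf C)).card_mul_index
  rw [Nat.card_congr (Subgroup.subgroupOfEquivOfLe hKD).toEquiv,
    card_isDefectGroup hM hind.1 hD', hde, hKcard] at h
  rw [← h, ← Subgroup.relIndex_ker (f := QuotientGroup.mk' K), QuotientGroup.ker_mk']

/-- The norms of regular combinations upstairs and in the central quotient. -/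
theorem exists_quotient_combination (hM : IsPModular p M) {C : Type u} [Group C] [Fintype C]
    {K : Subgroup C} [K.Normal] [Fintype (C ⧸ K)] (hKp : IsPGroup p K)
    (hKZ : K ≤ Subgroup.center C) {e : Set (IrrCharacter C)} (he : IsPBlock M e)
    {eb : Set (IrrCharacter (C ⧸ K))} (heb : IsPBlock M eb) (hinfl : ∀ η ∈ eb, inflIrr K η ∈ e)
    [Fintype {η // η ∈ e}] [Fintype {η // η ∈ eb}] (f : {η // η ∈ e} → ℤ)
    (hne : ∑ η, (f η : ℂ) • pRegularPart p (η.1 : C → ℂ) ≠ 0) :
    ∃ f' : {η // η ∈ eb} → ℤ,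
      ∑ φ, (f' φ : ℂ) • pRegularPart p (φ.1 : C ⧸ K → ℂ) ≠ 0 ∧
      (Nat.card K : ℝ) * normAvg (∑ η, (f η : ℂ) • pRegularPart p (η.1 : C → ℂ)) =
        normAvg (∑ φ, (f' φ : ℂ) • pRegularPart p (φ.1 : C ⧸ K → ℂ)) := by
  classical
  choose n hn using fun η : {η // η ∈ e} =>
    exists_int_infl_expansion hM K hKp hKZ he heb hinfl η.2
  set f' : {η // η ∈ eb} → ℤ := fun φ => ∑ η, f η * n η φ with hf'
  set wb := ∑ φ, (f' φ : ℂ) • pRegularPart p (φ.1 : C ⧸ K → ℂ) with hwb
  have hw : ∑ η, (f η : ℂ) • pRegularPart p (η.1 : C → ℂ) =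
      fun s => regInd p s * wb (QuotientGroup.mk' K s) := by
    funext s
    simp only [hn, hwb, hf', Finset.sum_apply, Pi.smul_apply, smul_eq_mul, Finset.mul_sum,
      Int.cast_sum, Int.cast_mul, Finset.sum_mul, pRegularPart_inflIrr hM.1]
    rw [Finset.sum_comm]
    exact Finset.sum_congr rfl fun φ _ => Finset.sum_congr rfl fun η _ => by ring
  have hwb0 : wb ≠ 0 := fun h => hne (by rw [hw, h]; funext s; simp)
  refine ⟨f', hwb0, ?_⟩
  have hwbreg : (fun c => regInd p c * wb c) = wb := by
    funext c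
    simp only [hwb, Finset.sum_apply, Pi.smul_apply, smul_eq_mul, Finset.mul_sum, pRegularPart_eq]
    exact Finset.sum_congr rfl fun φ _ => by
      rw [mul_left_comm, ← mul_assoc (regInd p c), regInd_mul_self]
  have h1 := classInner_regular_infl hM K hKp hKZ wb wb
  rw [hwbreg, ← hw, classInner_self_eq_normAvg, classInner_self_eq_normAvg,
    ← Complex.ofReal_natCast, ← Complex.ofReal_mul] at h1
  exact Complex.ofReal_injective h1

/-- A block with cyclic defect group has at most as many characters as that group has elements. -/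
theorem card_block_le_of_isCyclic_defect (hM : IsPModular p M) {B : Set (IrrCharacter G)}
    (hB : IsPBlock M B) {D : Subgroup G} (hD : IsDefectGroup p M B D) [IsCyclic D] :
    Nat.card B ≤ Nat.card D := by
  obtain ⟨c, hc⟩ := exists_maximal_defect hM hB hD
  exact card_block_le_of_cyclic hM hc

/-- **Blocks with two-generated abelian defect groups.** -/
theorem card_block_le_of_two_gen (hM : IsPModular p M) {B : Set (IrrCharacter G)}
    (hB : IsPBlock M B) {D : Subgroup G} (hD : IsDefectGroup p M B D) {a b : G}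
    (hgen : D = Subgroup.closure {a, b}) (hab : ∀ x ∈ D, ∀ y ∈ D, x * y = y * x) :
    Nat.card B ≤ p ^ blockDefect p B := by
  classical
  haveI := Fact.mk hM.1
  rw [← card_isDefectGroup hM hB hD]
  rcases eq_or_ne a 1 with rfl | ha
  · have hc : D = Subgroup.zpowers b := by
      rw [hgen, Subgroup.closure_insert_one, Subgroup.zpowers_eq_closure]
    subst hc
    exact card_block_le_of_isCyclic_defect hM hB hD
  have haD : a ∈ D := hgen ▸ Subgroup.subset_closure (Set.mem_insert a {b})
  have hbD : b ∈ D := hgen ▸ Subgroup.subset_closure (Set.mem_insert_of_mem a rfl)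
  set C := Subgroup.centralizer (Subgroup.zpowers a : Set G) with hCdef
  haveI := Fintype.ofFinite C
  obtain ⟨e, K, hKn, eb, hind, hde, hKZ, hKp, hKcard, hxK, heb, hinfl, hDb, hcard⟩ :=
    exists_major_quotient hM hB hD hab haD
  haveI := Fintype.ofFinite (C ⧸ K)
  haveI : Fintype {η // η ∈ e} := Fintype.ofFinite _
  haveI : Fintype {η // η ∈ eb} := Fintype.ofFinite _
  have hDC : D ≤ C := fun g hg => mem_centralizer_zpowers_iff.2 (hab a haD g hg)
  set Db := (D.subgroupOf C).map (QuotientGroup.mk' K) with hDbdef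
  haveI : IsCyclic Db := by
    have hle : Db ≤ Subgroup.zpowers (QuotientGroup.mk' K ⟨b, hDC hbD⟩) := by
      refine map_le_closure_of_generators hgen _ ?_
      rintro w (rfl | hw)
      · refine ⟨hDC haD, ?_⟩
        rw [show QuotientGroup.mk' K ⟨w, hDC haD⟩ = 1 from
          (QuotientGroup.eq_one_iff _).2 (hxK _)]
        exact one_mem _
      · rw [Set.mem_singleton_iff] at hw
        subst hw
        exact ⟨hDC hbD, Subgroup.mem_zpowers _⟩
    exact isCyclic_of_injective (Subgroup.inclusion hle) (Subgroup.inclusion_injective hle)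
  obtain ⟨c, hc⟩ := exists_maximal_defect hM heb hDb
  obtain ⟨k, hk⟩ : ∃ k, orderOf a = p ^ (k + 1) := by
    obtain ⟨k, hk⟩ := IsPGroup.iff_orderOf.1 (IsDefectGroup.isPGroup hD) ⟨a, haD⟩
    rw [Subgroup.orderOf_mk] at hk
    rcases k with _ | k
    · exact absurd (orderOf_eq_one_iff.1 (hk.trans (pow_zero p))) ha
    · exact ⟨k, hk⟩
  have hl : (0 : ℝ) < blockRank p e := Nat.cast_pos.2 (blockRank_pos hM hind.1)
  have h := card_block_mul_le_of_form hM hk (fun g => mem_centralizer_zpowers_iff) hind hde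
    (L := (blockRank p e : ℝ)) hl.le fun f hne => by
      obtain ⟨f', hf', hnorm⟩ := exists_quotient_combination hM hKp hKZ hind.1 heb hinfl f hne
      have h2 := le_regForm_of_cyclic hM hc f' hf'
      rw [classInner_self_eq_normAvg, Complex.ofReal_re, ← hnorm] at h2
      refine le_trans (Nat.cast_le.2 (blockRank_le_quotient hM K hKp hKZ hind.1 heb hinfl))
        (h2.trans (le_of_eq ?_))
      rw [← Nat.cast_pow, ← hcard, hKcard]
      push_cast
      ring
  have h' := le_of_mul_le_mul_right h hl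
  rw [card_isDefectGroup hM hB hD]
  exact_mod_cast h'

/-- **Blocks with three-generated abelian defect groups.** -/
theorem card_block_cube_le_of_three_gen (hM : IsPModular p M) {B : Set (IrrCharacter G)}
    (hB : IsPBlock M B) {D : Subgroup G} (hD : IsDefectGroup p M B D) {a b c : G}
    (hgen : D = Subgroup.closure {a, b, c}) (hab : ∀ x ∈ D, ∀ y ∈ D, x * y = y * x)
    (hmax : Nat.card D ≤ orderOf a ^ 3) :
    Nat.card B ^ 3 ≤ p ^ (5 * blockDefect p B) := by
  classical
  haveI := Fact.mk hM.1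
  have haD : a ∈ D := hgen ▸ Subgroup.subset_closure (by simp)
  have hbD : b ∈ D := hgen ▸ Subgroup.subset_closure (by simp)
  have hcD : c ∈ D := hgen ▸ Subgroup.subset_closure (by simp)
  set d := blockDefect p B with hd
  rw [card_isDefectGroup hM hB hD, ← hd] at hmax
  rcases eq_or_ne a 1 with rfl | ha
  · rw [orderOf_one, one_pow] at hmax
    have hd0 : d = 0 := by
      by_contra h
      exact absurd hmax (Nat.one_lt_pow h hM.1.one_lt).not_ge
    rw [((blockRank_defect_zero hM hB).2.1.1 hd0).1, hd0]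
    simp
  set C := Subgroup.centralizer (Subgroup.zpowers a : Set G) with hCdef
  haveI := Fintype.ofFinite C
  obtain ⟨e, K, hKn, eb, hind, hde, hKZ, hKp, hKcard, hxK, heb, hinfl, hDb, hcard⟩ :=
    exists_major_quotient hM hB hD hab haD
  haveI := Fintype.ofFinite (C ⧸ K)
  haveI : Fintype {η // η ∈ e} := Fintype.ofFinite _
  have hDC : D ≤ C := fun g hg => mem_centralizer_zpowers_iff.2 (hab a haD g hg)
  set Db := (D.subgroupOf C).map (QuotientGroup.mk' K) with hDbdef
  set b' := QuotientGroup.mk' K ⟨b, hDC hbD⟩ with hb'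
  set c' := QuotientGroup.mk' K ⟨c, hDC hcD⟩ with hc'
  have hgenb : Db = Subgroup.closure {b', c'} := by
    refine le_antisymm (map_le_closure_of_generators hgen _ ?_) ((Subgroup.closure_le _).2 ?_)
    · rintro w (rfl | rfl | hw)
      · refine ⟨hDC haD, ?_⟩
        rw [show QuotientGroup.mk' K ⟨w, hDC haD⟩ = 1 from
          (QuotientGroup.eq_one_iff _).2 (hxK _)]
        exact one_mem _
      · exact ⟨hDC hbD, Subgroup.subset_closure (Set.mem_insert _ _)⟩
      · rw [Set.mem_singleton_iff] at hw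
        subst hw
        exact ⟨hDC hcD, Subgroup.subset_closure (Set.mem_insert_of_mem _ rfl)⟩
    · rintro w (rfl | rfl)
      · exact ⟨⟨b, hDC hbD⟩, Subgroup.mem_subgroupOf.2 hbD, rfl⟩
      · exact ⟨⟨c, hDC hcD⟩, Subgroup.mem_subgroupOf.2 hcD, rfl⟩
  have habb : ∀ x ∈ Db, ∀ y ∈ Db, x * y = y * x := by
    rintro _ ⟨x, hx, rfl⟩ _ ⟨y, hy, rfl⟩
    rw [← map_mul, ← map_mul]
    exact congrArg _ (Subtype.ext (hab _ (Subgroup.mem_subgroupOf.1 hx) _
      (Subgroup.mem_subgroupOf.1 hy)))
  have hkb := card_block_le_of_two_gen hM heb hDb hgenb habb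
  rw [← card_isDefectGroup hM heb hDb] at hkb
  have hle : blockRank p e ≤ Nat.card Db :=
    ((blockRank_le_quotient hM K hKp hKZ hind.1 heb hinfl).trans
      (blockRank_le_card hM heb)).trans hkb
  obtain ⟨k, hk⟩ : ∃ k, orderOf a = p ^ (k + 1) := by
    obtain ⟨k, hk⟩ := IsPGroup.iff_orderOf.1 (IsDefectGroup.isPGroup hD) ⟨a, haD⟩
    rw [Subgroup.orderOf_mk] at hk
    rcases k with _ | k
    · exact absurd (orderOf_eq_one_iff.1 (hk.trans (pow_zero p))) ha
    · exact ⟨k, hk⟩
  have h := card_block_mul_le_of_form hM hk (fun g => mem_centralizer_zpowers_iff) hind hde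
    (L := (1 : ℝ)) zero_le_one fun f hne => by
      have hp0 : (p : ℂ) ≠ 0 := Nat.cast_ne_zero.2 hM.1.ne_zero
      set w := ∑ η, (f η : ℂ) • pRegularPart p (η.1 : C → ℂ) with hw
      obtain ⟨n, hn⟩ : ∃ n : ℤ, (p : ℂ) ^ blockDefect p B * classInner w w = (n : ℂ) := by
        refine ⟨∑ η : {η // η ∈ e}, ∑ η' : {η // η ∈ e},
          f η * f η' * contribCoef p e η.1 η'.1, ?_⟩
        rw [hw, classInner_regular_combination, Finset.mul_sum, Int.cast_sum]
        refine Finset.sum_congr rfl fun η _ => ?_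
        rw [Finset.mul_sum, Int.cast_sum]
        refine Finset.sum_congr rfl fun η' _ => ?_
        rw [regInner, classInner_pRegularPart hM.1, contribCoef_mul hM η.2 η'.2,
          ← blockDefect_add_minExp (p := p) hind.1, hde]
        push_cast
        rw [pow_add]
        field_simp
      rw [classInner_self_eq_normAvg] at hn
      have h2 : (p : ℝ) ^ blockDefect p B * normAvg w = (n : ℝ) := by
        apply Complex.ofReal_injective
        push_cast
        exact hn
      have h3 : 0 < (n : ℝ) := by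
        rw [← h2]
        refine mul_pos (pow_pos (Nat.cast_pos.2 hM.1.pos) _) (lt_of_le_of_ne (normAvg_nonneg _) ?_)
        intro h4
        exact hne (eq_zero_of_classInner_self
          (by rw [classInner_self_eq_normAvg, ← h4, Complex.ofReal_zero]))
      rw [h2]
      exact_mod_cast (Int.cast_pos.1 h3 : 0 < n)
  rw [mul_one] at h
  have hnat : Nat.card B ≤ p ^ d * Nat.card Db :=
    le_trans (by exact_mod_cast h) (Nat.mul_le_mul le_rfl hle)
  have hcube : Nat.card Db ^ 3 ≤ p ^ (2 * d) := by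
    refine Nat.le_of_mul_le_mul_right ?_ (pow_pos hM.1.pos d)
    calc Nat.card Db ^ 3 * p ^ d ≤ Nat.card Db ^ 3 * orderOf a ^ 3 := Nat.mul_le_mul le_rfl hmax
      _ = (orderOf a * Nat.card Db) ^ 3 := by ring
      _ = p ^ (2 * d) * p ^ d := by rw [hcard, ← hd]; ring
  calc Nat.card B ^ 3 ≤ (p ^ d * Nat.card Db) ^ 3 := Nat.pow_le_pow_left hnat 3
    _ = p ^ (3 * d) * Nat.card Db ^ 3 := by rw [mul_pow, ← pow_mul, mul_comm d 3]
    _ ≤ p ^ (3 * d) * p ^ (2 * d) := Nat.mul_le_mul le_rfl hcube
    _ = p ^ (5 * d) := by rw [← pow_add]; ring_nf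

end Cfsg.Agent.Lib.Blocks
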